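import Cfsg.Agent.Lib.Helper1.CD3.Defs
import Cfsg.Agent.Lib.Helper76.CD2Basic
import Mathlib

/-! helper1's CD3B server (S4460), piece (P1) `comm_le`: `[R,Φ] ≤ [R,P]`. -/

set_option autoImplicit false

namespace Cfsg.Agent.Helper57.CD3B

open Cfsg Cfsg.Agent.Helper81 Cfsg.Agent.Helper1.CD3

universe u

section GT
open scoped commutatorElement
variable {Φ : Type u} [Group Φ]

theorem le_normalizer_of_conj (S V : Subgroup Φ) (h : ∀ g ∈ S, ∀ n ∈ V, g * n * g⁻¹ ∈ V) :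
    S ≤ Subgroup.normalizer (V : Set Φ) := by
  intro g hg
  rw [Subgroup.mem_normalizer_iff]
  intro n
  constructor
  · exact h g hg n
  · intro hn
    have := h g⁻¹ (S.inv_mem hg) _ hn
    simpa [mul_assoc] using this

theorem conj_mem_of_gens (A B V : Subgroup Φ) (g : Φ)
    (h : ∀ r ∈ A, ∀ x ∈ B, g * ⁅r, x⁆ * g⁻¹ ∈ V) : ∀ n ∈ ⁅A, B⁆, g * n * g⁻¹ ∈ V := by
  have h1 : ⁅A, B⁆ ≤ V.comap (MulAut.conj g).toMonoidHom := by
    rw [Subgroup.commutator_le]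
    intro r hr x hx
    rw [Subgroup.mem_comap]
    have h2 := h r hr x hx
    rw [conjugate_commutatorElement] at h2
    simpa using h2
  intro n hn
  have := h1 hn
  rw [Subgroup.mem_comap] at this
  simpa using this

theorem conj_comm_right (R P : Subgroup Φ) (hR : R.Normal) {y : Φ} (hy : y ∈ P) :
    ∀ n ∈ ⁅R, P⁆, y * n * y⁻¹ ∈ ⁅R, P⁆ := by
  apply conj_mem_of_gens
  intro r hr x hx
  rw [conjugate_commutatorElement]
  exact Subgroup.commutator_mem_commutator (hR.conj_mem r hr y)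
    (P.mul_mem (P.mul_mem hy hx) (P.inv_mem hy))

theorem conj_comm_left (R P : Subgroup Φ) {s : Φ} (hs : s ∈ R) :
    ∀ n ∈ ⁅R, P⁆, s * n * s⁻¹ ∈ ⁅R, P⁆ := by
  apply conj_mem_of_gens
  intro r hr x hx
  have e : s * ⁅r, x⁆ * s⁻¹ = ⁅s * r, x⁆ * ⁅s, x⁆⁻¹ := by
    simp only [commutatorElement_def]; group
  rw [e]
  exact Subgroup.mul_mem _ (Subgroup.commutator_mem_commutator (R.mul_mem hs hr) hx)
    (Subgroup.inv_mem _ (Subgroup.commutator_mem_commutator hs hx))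

theorem comm_normal (R P : Subgroup Φ) (hR : R.Normal) (htop : R ⊔ P = ⊤) : (⁅R, P⁆).Normal := by
  rw [← Subgroup.normalizer_eq_top_iff, eq_top_iff, ← htop]
  exact sup_le (le_normalizer_of_conj R _ (fun g hg => conj_comm_left R P hg))
    (le_normalizer_of_conj P _ (fun g hg => conj_comm_right R P hR hg))

theorem comm_sup_normal (R P : Subgroup Φ) (hR : R.Normal) (htop : R ⊔ P = ⊤) :
    (⁅R, P⁆ ⊔ P).Normal := by
  have key : ∀ g : Φ, (∀ n ∈ ⁅R, P⁆, g * n * g⁻¹ ∈ ⁅R, P⁆) → (∀ x ∈ P, g * x * g⁻¹ ∈ ⁅R, P⁆ ⊔ P) →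
      ∀ n ∈ ⁅R, P⁆ ⊔ P, g * n * g⁻¹ ∈ ⁅R, P⁆ ⊔ P := by
    intro g h1 h2
    have h3 : ⁅R, P⁆ ⊔ P ≤ (⁅R, P⁆ ⊔ P).comap (MulAut.conj g).toMonoidHom := by
      apply sup_le
      · intro n hn
        rw [Subgroup.mem_comap]
        have := h1 n hn
        exact Subgroup.mem_sup_left (by simpa using this)
      · intro x hx
        rw [Subgroup.mem_comap]
        simpa using h2 x hx
    intro n hn
    have := h3 hn
    rw [Subgroup.mem_comap] at this
    simpa using this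
  rw [← Subgroup.normalizer_eq_top_iff, eq_top_iff, ← htop]
  refine sup_le (le_normalizer_of_conj R _ ?_) (le_normalizer_of_conj P _ ?_)
  · intro g hg
    apply key g (conj_comm_left R P hg)
    intro x hx
    have e : g * x * g⁻¹ = ⁅g, x⁆ * x := by simp only [commutatorElement_def]; group
    rw [e]
    exact Subgroup.mul_mem _ (Subgroup.mem_sup_left (Subgroup.commutator_mem_commutator hg hx))
      (Subgroup.mem_sup_right hx)
  · intro g hg
    apply key g (conj_comm_right R P hR hg)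
    intro x hx
    exact Subgroup.mem_sup_right (P.mul_mem (P.mul_mem hg hx) (P.inv_mem hg))

end GT

section Main
open scoped commutatorElement
variable {Φ : Type u} [Group Φ] [Finite Φ]

theorem sup_eq_top_of_hall (p : ℕ) [Fact p.Prime] (R : Subgroup Φ)
    (hRi : ∃ k : ℕ, R.index = p ^ k) (P : Sylow p Φ) : R ⊔ (P : Subgroup Φ) = ⊤ := by
  rw [← Subgroup.index_eq_one]
  obtain ⟨k, hk⟩ := hRi
  have h1 : (R ⊔ (P : Subgroup Φ)).index ∣ p ^ k := hk ▸ Subgroup.index_dvd_of_le le_sup_left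
  have h2 : (R ⊔ (P : Subgroup Φ)).index ∣ (P : Subgroup Φ).index :=
    Subgroup.index_dvd_of_le le_sup_right
  obtain ⟨j, -, hj⟩ := (Nat.dvd_prime_pow (Fact.out)).1 h1
  rw [hj] at h2 ⊢
  rcases Nat.eq_zero_or_pos j with rfl | hpos
  · simp
  · exfalso
    exact P.not_dvd_index ((dvd_pow_self p hpos.ne').trans h2)

end Main

set_option linter.unusedVariables false in
/-- (P1) `[R,Φ] ≤ [R,P]`. -/
theorem comm_le {Φ : Type u} [Group Φ] [Finite Φ] (p a : ℕ) [Fact p.Prime] (ha : 0 < a)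
    (h2 : ∀ θ : Φ → ℂ, IsIrrCharacter Φ θ → θ 1 ≠ 1 → ∃ d : ℕ, θ 1 = (d : ℂ) ∧ d.factorization p = a)
    (R : Subgroup Φ) (hR : R.Normal) (hRc : (Nat.card R).Coprime p) (hRi : ∃ k : ℕ, R.index = p ^ k)
    (P : Sylow p Φ) :
    ⁅R, (⊤ : Subgroup Φ)⁆ ≤ ⁅R, (P : Subgroup Φ)⁆ := by
  open scoped commutatorElement Pointwise in
  have htop := sup_eq_top_of_hall p R hRi P
  have hVn : (⁅R, (P : Subgroup Φ)⁆).Normal := comm_normal R P hR htop
  have hMn : (⁅R, (P : Subgroup Φ)⁆ ⊔ P).Normal := comm_sup_normal R P hR htop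
  -- `Φ ⧸ M` is abelian
  have hab : ∀ x y : Φ ⧸ (⁅R, (P : Subgroup Φ)⁆ ⊔ P), x * y = y * x := by
    apply Cfsg.Agent.Helper76.CD2.comm_of_all_linear
    intro ψ
    have hdvd : charDegree ψ.1 ∣ Nat.card (Φ ⧸ (⁅R, (P : Subgroup Φ)⁆ ⊔ P)) :=
      Cfsg.Agent.Helper79.irr_degree_dvd_card ψ
    have hnp : ¬ p ∣ charDegree ψ.1 := by
      intro hp
      have h3 : p ∣ (⁅R, (P : Subgroup Φ)⁆ ⊔ P).index := by
        rw [Subgroup.index_eq_card]; exact hp.trans hdvd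
      exact P.not_dvd_index (h3.trans (Subgroup.index_dvd_of_le le_sup_right))
    by_contra hne
    have hχ1 : (Cfsg.Agent.Helper79.inflate (⁅R, (P : Subgroup Φ)⁆ ⊔ P) ψ : Φ → ℂ) 1 =
        (charDegree ψ.1 : ℂ) := by
      rw [Cfsg.Agent.Helper80.irr_one, Cfsg.Agent.Helper79.charDegree_inflate]
    have hne1 : (Cfsg.Agent.Helper79.inflate (⁅R, (P : Subgroup Φ)⁆ ⊔ P) ψ : Φ → ℂ) 1 ≠ 1 := by
      rw [hχ1]
      intro h
      apply hne
      exact_mod_cast h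
    obtain ⟨d, hd, hda⟩ := h2 _ (Cfsg.Agent.Helper79.inflate _ ψ).2 hne1
    have hdd : d = charDegree ψ.1 := by
      rw [hχ1] at hd
      exact_mod_cast hd.symm
    apply hnp
    rw [← hdd]
    exact Nat.dvd_of_factorization_pos (by rw [hda]; exact ha.ne')
  have hcommM : ∀ x y : Φ, ⁅x, y⁆ ∈ ⁅R, (P : Subgroup Φ)⁆ ⊔ P := by
    intro x y
    rw [← QuotientGroup.eq_one_iff, commutatorElement_def]
    simp only [QuotientGroup.mk_mul, QuotientGroup.mk_inv]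
    rw [hab (x : Φ ⧸ _) (y : Φ ⧸ _)]
    group
  -- `R ⊓ P = ⊥`
  have hRP : R ⊓ (P : Subgroup Φ) = ⊥ := by
    obtain ⟨n, hn⟩ := IsPGroup.iff_card.1 P.isPGroup'
    apply (Subgroup.disjoint_of_coprime_natCard _).eq_bot
    rw [hn]
    exact hRc.pow_right n
  have hVR : ⁅R, (P : Subgroup Φ)⁆ ≤ R := by
    have := hR
    exact Subgroup.commutator_le_left R P
  have hRR : ∀ r ∈ R, ∀ r' ∈ R, ⁅r, r'⁆ ∈ ⁅R, (P : Subgroup Φ)⁆ := by
    intro r hr r' hr'
    have h1 := hcommM r r'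
    have h3 : ⁅r, r'⁆ ∈ R := by
      rw [commutatorElement_def]
      exact R.mul_mem (R.mul_mem (R.mul_mem hr hr') (R.inv_mem hr)) (R.inv_mem hr')
    have h4 : ((⁅R, (P : Subgroup Φ)⁆ ⊔ P : Subgroup Φ) : Set Φ) =
        ((⁅R, (P : Subgroup Φ)⁆ : Subgroup Φ) : Set Φ) * ((P : Subgroup Φ) : Set Φ) := by
      have := hVn
      exact Subgroup.normal_mul _ _
    have h5 : ⁅r, r'⁆ ∈ ((⁅R, (P : Subgroup Φ)⁆ ⊔ P : Subgroup Φ) : Set Φ) := h1
    rw [h4, Set.mem_mul] at h5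
    obtain ⟨v, hv, x, hx, hvx⟩ := h5
    have hxR : x ∈ R := by
      have : x = v⁻¹ * ⁅r, r'⁆ := by rw [← hvx]; group
      rw [this]
      exact R.mul_mem (R.inv_mem (hVR hv)) h3
    have hx1 : x = 1 := by
      have : x ∈ R ⊓ (P : Subgroup Φ) := ⟨hxR, hx⟩
      rw [hRP, Subgroup.mem_bot] at this
      exact this
    rw [← hvx, hx1, mul_one]
    exact hv
  rw [Subgroup.commutator_le]
  intro r hr g _
  have h6 : g ∈ ((R ⊔ (P : Subgroup Φ) : Subgroup Φ) : Set Φ) := by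
    rw [htop]; trivial
  have h7 : ((R ⊔ (P : Subgroup Φ) : Subgroup Φ) : Set Φ) = (R : Set Φ) * ((P : Subgroup Φ) : Set Φ) := by
    have := hR
    exact Subgroup.normal_mul _ _
  rw [h7, Set.mem_mul] at h6
  obtain ⟨r', hr', x, hx, rfl⟩ := h6
  have e : ⁅r, r' * x⁆ = ⁅r, r'⁆ * (r' * ⁅r, x⁆ * r'⁻¹) := by
    simp only [commutatorElement_def]; group
  rw [e]
  exact Subgroup.mul_mem _ (hRR r hr r' hr')
    (hVn.conj_mem _ (Subgroup.commutator_mem_commutator hr hx) r')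

end Cfsg.Agent.Helper57.CD3B
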