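import Mathlib
import Cfsg.Prelude.Def_Local
import Cfsg.Agent.Lib.Helper63.PLen
import Cfsg.Agent.Lib.Helper20.BG106A
import Cfsg.Agent.Lib.Helper48.BG36Conf
import Cfsg.Agent.Lib.Helper52.Coprime

/-!
# BG Theorem 3.6, main induction: lemmas (A) `conf_quot` and (B) `plen_of_quot`
-/

set_option autoImplicit false

universe u

namespace Cfsg.Agent.Helper57.BG36

open Subgroup Cfsg Cfsg.Agent.Helper48.BG36 Cfsg.Agent.Helper63

/-- a `q`-subgroup of a quotient image lifts to a `q`-subgroup of the source subgroup -/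
theorem exists_pgroup_lift {G G' : Type*} [Group G] [Group G'] [Finite G] (f : G →* G')
    (C : Subgroup G) (q : ℕ) [Fact q.Prime] (T : Subgroup G') (hT : T ≤ C.map f)
    (hTq : IsPGroup q T) : ∃ Q : Subgroup G, Q ≤ C ∧ IsPGroup q Q ∧ Q.map f = T := by
  classical
  -- C' = C ⊓ comap f T, g : C' →* T
  set C' : Subgroup G := C ⊓ T.comap f with hC'
  let g : C' →* T :=
    { toFun := fun x => ⟨f x.1, x.2.2⟩
      map_one' := by ext; simp
      map_mul' := by intro x y; ext; simp }
  have hg : Function.Surjective g := by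
    rintro ⟨t, ht⟩
    obtain ⟨c, hc, rfl⟩ := hT ht
    exact ⟨⟨c, hc, ht⟩, rfl⟩
  -- Sylow q T = ⊤
  have htop : ∃ P : Sylow q T, (P : Subgroup T) = ⊤ := by
    obtain ⟨P, hP⟩ := IsPGroup.exists_le_sylow (show IsPGroup q (⊤ : Subgroup T) from
      hTq.of_equiv Subgroup.topEquiv.symm)
    exact ⟨P, top_le_iff.mp hP⟩
  obtain ⟨P, hP⟩ := htop
  obtain ⟨Q, hQ⟩ := Sylow.mapSurjective_surjective hg q P
  have hQ' : (Q : Subgroup C').map g = ⊤ := by
    rw [← Sylow.coe_mapSurjective hg, hQ, hP]
  refine ⟨(Q : Subgroup C').map C'.subtype, ?_, ?_, ?_⟩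
  · rintro x ⟨y, _, rfl⟩
    exact y.2.1
  · exact Q.isPGroup'.map _
  · ext t
    constructor
    · rintro ⟨x, ⟨y, _, rfl⟩, rfl⟩
      exact y.2.2
    · intro ht
      have : (⟨t, ht⟩ : T) ∈ (Q : Subgroup C').map g := by rw [hQ']; trivial
      obtain ⟨y, hy, hyt⟩ := this
      refine ⟨y.1, ⟨y, hy, rfl⟩, ?_⟩
      exact congrArg Subtype.val hyt

/-- (A) `Conf` passes to the quotient by a normal subgroup `N ≤ H` of `G`. -/
theorem conf_quot {G : Type*} [Group G] [Finite G] [Group.IsSolvable G] {H R : Subgroup G}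
    {a : G} {r : ℕ} (h : Conf H R a r) (N : Subgroup G) [N.Normal] (hNH : N ≤ H) :
    Conf (H.map (QuotientGroup.mk' N)) (R.map (QuotientGroup.mk' N)) (QuotientGroup.mk' N a) r := by
  classical
  set π := QuotientGroup.mk' N with hπ
  have hdisj : Disjoint H R := disjoint_of_coprime_natCard h.cop
  -- A = zpowers a
  set A : Subgroup G := Subgroup.zpowers a with hA
  have hAR : A ≤ R := (Subgroup.zpowers_le).mpr h.mem
  have hAH : A ≤ normalizer (H : Set G) := hAR.trans h.norm
  have hAN : A ≤ normalizer (N : Set G) := by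
    rw [Subgroup.normalizer_eq_top]; exact le_top
  have hcopA : (Nat.card A).Coprime (Nat.card H) :=
    (Nat.Coprime.coprime_dvd_right (Subgroup.card_dvd_of_le hAR) h.cop).symm
  refine ⟨?_, ?_, ?_, h.prime, ?_, ?_, ?_⟩
  · exact (Subgroup.map_mono h.norm).trans (Subgroup.le_normalizer_map π)
  · exact Nat.Coprime.coprime_dvd_left (Subgroup.card_map_dvd H π)
      (Nat.Coprime.coprime_dvd_right (Subgroup.card_map_dvd R π) h.cop)
  · exact Subgroup.mem_map_of_mem π h.mem
  · rw [← map_pow, h.pow, map_one]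
  · intro h1
    have haN : a ∈ N := by
      rw [hπ] at h1
      exact (QuotientGroup.eq_one_iff a).mp h1
    exact h.ne (Subgroup.disjoint_def.mp hdisj (hNH haN) h.mem)
  · intro q hq T hT hTq hcen
    have : Fact q.Prime := ⟨hq⟩
    -- T ≤ π (C_H(A))
    set C : Subgroup G := H ⊓ centralizer (A : Set G) with hC
    have hTC : T ≤ C.map π := by
      intro t ht
      obtain ⟨x, hx, rfl⟩ := hT ht
      have hcomm : ∀ b ∈ A, x * b * x⁻¹ * b⁻¹ ∈ N := by
        intro b hb
        obtain ⟨k, rfl⟩ := Subgroup.mem_zpowers_iff.mp hb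
        have h2 : π a ^ k * π x = π x * π a ^ k := by
          have h3 : Commute (π a) (π x) := hcen _ ht
          exact (h3.zpow_left k).eq
        have h5 : π (x * a ^ k * x⁻¹ * (a ^ k)⁻¹) = 1 := by
          simp only [map_mul, map_inv, map_zpow]
          have h6 : π x * π a ^ k * (π x)⁻¹ * (π a ^ k)⁻¹
              = (π x * π a ^ k) * (π x)⁻¹ * (π a ^ k)⁻¹ := by group
          rw [h6, ← h2]; group
        rw [hπ] at h5
        exact (QuotientGroup.eq_one_iff _).mp h5
      obtain ⟨n, hn, c, hc, hxnc⟩ :=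
        Cfsg.Agent.Helper52.exists_mul_centralizer_of_comm_mem H N A hNH hAH hAN hcopA
          (Or.inr inferInstance) x hx hcomm
      refine ⟨c, hc, ?_⟩
      rw [hxnc, map_mul]
      have : π n = 1 := by rw [hπ]; exact (QuotientGroup.eq_one_iff n).mpr hn
      rw [this, one_mul]
    obtain ⟨Q, hQC, hQq, hQT⟩ := exists_pgroup_lift π C q T hTC hTq
    have hQcyc : IsCyclic Q := by
      apply h.cyc q hq Q (hQC.trans inf_le_left) hQq
      intro u hu
      have h4 : u ∈ centralizer (A : Set G) := (hQC hu).2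
      rw [Subgroup.mem_centralizer_iff] at h4
      exact h4 a (Subgroup.mem_zpowers a)
    rw [← hQT]
    exact isCyclic_of_surjective (π.subgroupMap Q) (π.subgroupMap_surjective Q)

/-- (B) `p`-length one lifts through a normal `p'`-subgroup. -/
theorem plen_of_quot {G : Type*} [Group G] [Finite G] {p : ℕ} [Fact p.Prime] (K N : Subgroup G)
    [N.Normal] (hN : (Nat.card N).Coprime p)
    (h : PLengthLE p 1 ↥(K.map (QuotientGroup.mk' N))) : PLengthLE p 1 ↥K := by
  classical
  set π := QuotientGroup.mk' N with hπ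
  let f : K →* K.map π := π.subgroupMap K
  have h1 := Cfsg.Agent.Helper20.BG106.PL_comap f (PL_of_PLengthLE p h)
  rw [Subgroup.comap_top] at h1
  have hker : (⊥ : Subgroup (K.map π)).comap f = N.subgroupOf K := by
    ext x
    rw [Subgroup.mem_comap, Subgroup.mem_bot, Subgroup.mem_subgroupOf]
    constructor
    · intro hx
      have h2 : π x.1 = 1 := congrArg Subtype.val hx
      rw [hπ] at h2
      exact (QuotientGroup.eq_one_iff x.1).mp h2
    · intro hx
      apply Subtype.ext
      show π x.1 = 1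
      rw [hπ]; exact (QuotientGroup.eq_one_iff x.1).mpr hx
  rw [hker] at h1
  have h0 : PL p 0 (⊥ : Subgroup K) (N.subgroupOf K) := by
    refine PL.base _ _ bot_le inferInstance inferInstance ?_
    rw [Subgroup.relIndex_bot_left]
    have h3 : Nat.card (N.subgroupOf K) ∣ Nat.card N := by
      have h4 : Nat.card (N.subgroupOf K) = Nat.card ((N.subgroupOf K).map K.subtype) :=
        (Subgroup.card_map_of_injective K.subtype_injective).symm
      rw [h4]
      exact Subgroup.card_dvd_of_le (by
        rintro x ⟨y, hy, rfl⟩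
        exact Subgroup.mem_subgroupOf.mp hy)
    exact Nat.Coprime.coprime_dvd_left h3 hN
  have h2 := h0.trans h1
  rw [Nat.zero_add] at h2
  exact PLengthLE_of_PL p h2

end Cfsg.Agent.Helper57.BG36
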