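import Mathlib
import Cfsg.Agent.Lib.Helper97.FXDefs
import Cfsg.Agent.Lib.Helper97.FXDefs2

/-! FX server wave 2 (helper97, S3818): the fixed space of a normal subgroup (shared by LGRP, ISUM). -/

set_option autoImplicit false

namespace Cfsg.Agent.Helper57.FX

open Cfsg.Agent.Helper97.FX

variable {K : Type*} [Field K] {G : Type*} [Group G]
variable {V : Type*} [AddCommGroup V] [Module K V]

/-- the fixed space of the subgroup `L` -/
def fixSub (ρ : G →* Module.End K V) (L : Subgroup G) : Submodule K V :=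
  ⨅ n : L, LinearMap.ker (ρ (n : G) - 1)

theorem mem_fixSub (ρ : G →* Module.End K V) (L : Subgroup G) (v : V) :
    v ∈ fixSub ρ L ↔ ∀ n ∈ L, ρ n v = v := by
  unfold fixSub
  rw [Submodule.mem_iInf]
  constructor
  · intro h n hn
    have := h ⟨n, hn⟩
    rw [LinearMap.mem_ker, LinearMap.sub_apply, sub_eq_zero] at this
    exact this
  · intro h n
    rw [LinearMap.mem_ker, LinearMap.sub_apply, sub_eq_zero]
    exact h n n.2

theorem fixSub_inv (ρ : G →* Module.End K V) (L : Subgroup G) [hL : L.Normal] :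
    ∀ g, ∀ w ∈ fixSub ρ L, ρ g w ∈ fixSub ρ L := by
  intro g w hw
  rw [mem_fixSub] at hw ⊢
  intro n hn
  have h1 : g⁻¹ * n * g ∈ L := by simpa using hL.conj_mem n hn g⁻¹
  have h2 := hw _ h1
  have e : n * g = g * (g⁻¹ * n * g) := by group
  calc ρ n (ρ g w) = (ρ n * ρ g) w := rfl
    _ = ρ (n * g) w := by rw [map_mul]
    _ = ρ (g * (g⁻¹ * n * g)) w := by rw [← e]
    _ = (ρ g * ρ (g⁻¹ * n * g)) w := by rw [map_mul]
    _ = ρ g (ρ (g⁻¹ * n * g) w) := rfl
    _ = ρ g w := by rw [h2]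

/-- if the fixed space is everything then `ρ` is trivial on `L` -/
theorem eq_one_of_fixSub_eq_top (ρ : G →* Module.End K V) (L : Subgroup G)
    (h : fixSub ρ L = ⊤) : ∀ n ∈ L, ρ n = 1 := by
  intro n hn
  ext w
  have hw : w ∈ fixSub ρ L := by rw [h]; trivial
  exact (mem_fixSub ρ L w).1 hw n hn

end Cfsg.Agent.Helper57.FX
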