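import Mathlib
import Cfsg.Agent.Lib.Helper97.FXDefs
import Cfsg.Agent.Lib.Helper97.FXDefs2
import Cfsg.Agent.Lib.Helper48.SympRep

/-! FX server wave 2 (helper97, S3818), piece (NILP). -/

set_option autoImplicit false

namespace Cfsg.Agent.Helper57.FX

open Cfsg.Agent.Helper97.FX Cfsg.Agent.Helper48.SympRep
open scoped TensorProduct

universe u

section DS
variable {K : Type*} [Field K] {G : Type*} [Group G] [Finite G]
variable {V : Type u} [AddCommGroup V] [Module K V] [FiniteDimensional K V]

/-- **(NILP)** -/
theorem nilp_common_ker [Nontrivial V] {ι : Type*} [Finite ι] (f : ι → Module.End K V)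
    (hcomm : ∀ i j, f i * f j = f j * f i) (hnil : ∀ i, IsNilpotent (f i)) :
    ∃ v : V, v ≠ 0 ∧ ∀ i, f i v = 0 := by
  classical
  have key : ∀ S : Finset ι, ∃ v : V, v ≠ 0 ∧ ∀ i ∈ S, f i v = 0 := by
    intro S
    induction S using Finset.induction_on with
    | empty =>
      obtain ⟨v, hv⟩ := exists_ne (0 : V)
      exact ⟨v, hv, by simp⟩
    | insert j S _ ih =>
      obtain ⟨w, hw0, hw⟩ := ih
      obtain ⟨n, hn⟩ := hnil j
      have hex : ∃ k : ℕ, (f j ^ k) w = 0 := ⟨n, by rw [hn]; rfl⟩
      have hk0 : Nat.find hex ≠ 0 := by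
        intro h0
        have := Nat.find_spec hex
        rw [h0, pow_zero] at this
        exact hw0 this
      obtain ⟨k, hk⟩ := Nat.exists_eq_succ_of_ne_zero hk0
      have hkmin : (f j ^ k) w ≠ 0 := Nat.find_min hex (by omega)
      have hkspec : (f j ^ (k + 1)) w = 0 := by
        have := Nat.find_spec hex
        rwa [hk] at this
      refine ⟨(f j ^ k) w, hkmin, ?_⟩
      intro i hi
      rw [Finset.mem_insert] at hi
      rcases hi with rfl | hi
      · rw [pow_succ'] at hkspec
        exact hkspec
      · have hc : Commute (f i) (f j ^ k) := (show Commute (f i) (f j) from hcomm i j).pow_right k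
        have : (f i * f j ^ k) w = (f j ^ k * f i) w := by rw [hc.eq]
        rw [Module.End.mul_apply, Module.End.mul_apply, hw i hi, map_zero] at this
        exact this
  have : Fintype ι := Fintype.ofFinite ι
  obtain ⟨v, hv, h⟩ := key Finset.univ
  exact ⟨v, hv, fun i => h i (Finset.mem_univ i)⟩

end DS

end Cfsg.Agent.Helper57.FX
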