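import Mathlib
import Cfsg.Agent.Lib.Helper97.FXDefs
import Cfsg.Agent.Lib.Helper97.FXDefs2
import Cfsg.Agent.Lib.Helper48.SympRep
import Cfsg.Agent.Lib.Helper57.FXNILP
import Cfsg.Agent.Lib.Helper57.FXFixSub

/-! FX server wave 2 (helper97, S3818), piece (LGRP). -/

set_option autoImplicit false

namespace Cfsg.Agent.Helper57.FX

open Cfsg.Agent.Helper97.FX Cfsg.Agent.Helper48.SympRep
open scoped TensorProduct

universe u

section DS
variable {K : Type*} [Field K] {G : Type*} [Group G] [Finite G]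
variable {V : Type u} [AddCommGroup V] [Module K V] [FiniteDimensional K V]

/-- **(LGRP)** -/
theorem lgroup_trivial [Nontrivial V] (ρ : G →* Module.End K V) (hirr : Irr ρ) {ℓ : ℕ}
    [Fact ℓ.Prime] [CharP K ℓ] (L : Subgroup G) [L.Normal] (hL : IsPGroup ℓ L)
    (hab : ∀ a ∈ L, ∀ b ∈ L, a * b = b * a) : ∀ n ∈ L, ρ n = 1 := by
  have hchar : CharP (Module.End K V) ℓ :=
    charP_of_injective_algebraMap (algebraMap K (Module.End K V)).injective ℓ
  have hnil : ∀ n : L, IsNilpotent (ρ (n : G) - 1) := by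
    intro n
    obtain ⟨k, hk⟩ := hL n
    refine ⟨ℓ ^ k, ?_⟩
    rw [sub_pow_char_pow_of_commute ℓ k (Commute.one_right _), one_pow, ← map_pow]
    have h1 : ((n : G)) ^ ℓ ^ k = 1 := by simpa using congrArg Subtype.val hk
    rw [h1, map_one, sub_self]
  have hcomm : ∀ a b : L,
      (ρ (a : G) - 1) * (ρ (b : G) - 1) = (ρ (b : G) - 1) * (ρ (a : G) - 1) := by
    intro a b
    have h1 : Commute (ρ (a : G)) (ρ (b : G)) := by
      show ρ (a : G) * ρ (b : G) = ρ (b : G) * ρ (a : G)
      rw [← map_mul, ← map_mul, hab a a.2 b b.2]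
    exact ((h1.sub_right (Commute.one_right _)).sub_left (Commute.one_left _)).eq
  obtain ⟨v, hv0, hv⟩ := nilp_common_ker (fun n : L => ρ (n : G) - 1) hcomm hnil
  have hvW : v ∈ fixSub ρ L := by
    rw [mem_fixSub]
    intro n hn
    have := hv ⟨n, hn⟩
    rw [LinearMap.sub_apply, sub_eq_zero] at this
    exact this
  rcases hirr (fixSub ρ L) (fixSub_inv ρ L) with h0 | h1
  · rw [h0, Submodule.mem_bot] at hvW
    exact absurd hvW hv0
  · exact eq_one_of_fixSub_eq_top ρ L h1

end DS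

end Cfsg.Agent.Helper57.FX
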