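import Mathlib
import Cfsg.Agent.Lib.Helper97.FXDefs
import Cfsg.Agent.Lib.Helper97.FXDefs2
import Cfsg.Agent.Lib.Helper48.SympRep
import Cfsg.Agent.Lib.Helper57.FXLGRP

/-! FX server wave 2 (helper97, S3818), piece (ICARD). -/

set_option autoImplicit false

namespace Cfsg.Agent.Helper57.FX

open Cfsg.Agent.Helper97.FX Cfsg.Agent.Helper48.SympRep
open scoped TensorProduct

universe u

section Tor
variable {G : Type*} [Group G]

/-- the `n`-torsion of an abelian subgroup -/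
def torSub (A : Subgroup G) (hA : ∀ g ∈ A, ∀ h ∈ A, g * h = h * g) (n : ℕ) : Subgroup G where
  carrier := {g | g ∈ A ∧ g ^ n = 1}
  one_mem' := ⟨A.one_mem, one_pow _⟩
  mul_mem' := by
    rintro g h ⟨hg, hg1⟩ ⟨hh, hh1⟩
    have hc : Commute g h := hA g hg h hh
    exact ⟨A.mul_mem hg hh, by rw [hc.mul_pow, hg1, hh1, one_mul]⟩
  inv_mem' := by
    rintro g ⟨hg, hg1⟩
    exact ⟨A.inv_mem hg, by rw [inv_pow, hg1, inv_one]⟩

theorem mem_torSub (A : Subgroup G) (hA : ∀ g ∈ A, ∀ h ∈ A, g * h = h * g) (n : ℕ) (g : G) :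
    g ∈ torSub A hA n ↔ g ∈ A ∧ g ^ n = 1 := Iff.rfl

theorem torSub_normal (A : Subgroup G) (hAn : A.Normal) (hA : ∀ g ∈ A, ∀ h ∈ A, g * h = h * g)
    (n : ℕ) : (torSub A hA n).Normal := by
  constructor
  intro g hg c
  rw [mem_torSub] at hg ⊢
  exact ⟨hAn.conj_mem g hg.1 c, by rw [conj_pow, hg.2]; group⟩

end Tor

section DS
variable {K : Type*} [Field K] {G : Type*} [Group G] [Finite G]
variable {V : Type u} [AddCommGroup V] [Module K V] [FiniteDimensional K V]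

/-- **(ICARD)** -/
theorem irr_card_ne [Group.IsSolvable G] [Nontrivial V] (ρ : G →* Module.End K V) (hirr : Irr ρ)
    (hf : Function.Injective ρ) (N₀ : Subgroup G) (hN : N₀.Normal) (hne : N₀ ≠ ⊥)
    (hmin : ∀ M : Subgroup G, M.Normal → M ≤ N₀ → M = ⊥ ∨ M = N₀) : (Nat.card N₀ : K) ≠ 0 := by
  intro h0
  obtain ⟨ℓ, hℓ⟩ := CharP.exists K
  have hcard_pos : Nat.card N₀ ≠ 0 := Nat.card_pos.ne'
  have hdvd : ℓ ∣ Nat.card N₀ := (CharP.cast_eq_zero_iff K ℓ _).1 h0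
  have hℓ0 : ℓ ≠ 0 := by
    rintro rfl
    exact hcard_pos (Nat.eq_zero_of_zero_dvd hdvd)
  have hℓp : ℓ.Prime := (CharP.char_is_prime_or_zero K ℓ).resolve_right hℓ0
  have : Fact ℓ.Prime := ⟨hℓp⟩
  -- `N₀` is abelian
  have hcomm : ⁅N₀, N₀⁆ = ⊥ := by
    have hn : (⁅N₀, N₀⁆ : Subgroup G).Normal := by
      have := hN
      infer_instance
    have hle : ⁅N₀, N₀⁆ ≤ N₀ := by
      have := hN
      exact Subgroup.commutator_le_left N₀ N₀
    rcases hmin _ hn hle with h | h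
    · exact h
    · exact absurd h (Group.IsSolvable.commutator_lt_of_ne_bot hne).ne
  have hab : ∀ a ∈ N₀, ∀ b ∈ N₀, a * b = b * a := by
    intro a ha b hb
    have h1 := Subgroup.commutator_mem_commutator ha hb
    rw [hcomm, Subgroup.mem_bot] at h1
    exact commutatorElement_eq_one_iff_mul_comm.1 h1
  -- the `ℓ`-torsion `L`
  have hLn : (torSub N₀ hab ℓ).Normal := torSub_normal N₀ hN hab ℓ
  have hLp : IsPGroup ℓ (torSub N₀ hab ℓ) := by
    rintro ⟨g, hg⟩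
    refine ⟨1, Subtype.ext ?_⟩
    rw [mem_torSub] at hg
    simpa using hg.2
  have hLab : ∀ a ∈ torSub N₀ hab ℓ, ∀ b ∈ torSub N₀ hab ℓ, a * b = b * a :=
    fun a ha b hb => hab a ha.1 b hb.1
  obtain ⟨n, hn⟩ := exists_prime_orderOf_dvd_card' (G := N₀) ℓ hdvd
  have hn' : orderOf (n : G) = ℓ := by rw [Subgroup.orderOf_coe]; exact hn
  have hnL : (n : G) ∈ torSub N₀ hab ℓ := by
    rw [mem_torSub]
    exact ⟨n.2, by rw [← hn']; exact pow_orderOf_eq_one _⟩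
  have h1 := lgroup_trivial ρ hirr (torSub N₀ hab ℓ) hLp hLab (n : G) hnL
  have hn1 : (n : G) = 1 := hf (h1.trans (map_one ρ).symm)
  rw [hn1, orderOf_one] at hn'
  exact hℓp.one_lt.ne hn'

end DS

end Cfsg.Agent.Helper57.FX
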