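import Mathlib

set_option autoImplicit false

namespace Cfsg.Agent.Helper57

/-- `g * a^i = a^i * g * z^i` when `g * a = a * g * z` with `z` central for `a`, `g`. -/
theorem heis_comm_pow {G : Type*} [Group G] {a g z : G} (h : g * a = a * g * z)
    (hza : Commute z a) (i : ℕ) : g * a ^ i = a ^ i * g * z ^ i := by
  induction i with
  | zero => simp
  | succ i ih =>
    have hzai : Commute (z ^ i) a := hza.pow_left i
    calc g * a ^ (i + 1) = (g * a ^ i) * a := by rw [pow_succ, mul_assoc]
      _ = a ^ i * g * z ^ i * a := by rw [ih]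
      _ = a ^ i * (g * a) * z ^ i := by
          rw [mul_assoc (a ^ i * g), hzai.eq]; simp only [mul_assoc]
      _ = a ^ i * (a * g * z) * z ^ i := by rw [h]
      _ = a ^ (i + 1) * g * z ^ (i + 1) := by
          rw [pow_succ, pow_succ']; simp only [mul_assoc]

/-- The subgroup generated by `a`, `g` with `g * a = a * g * z`, `z` commuting with both,
`a^p = g^p = 1`, `z^m = 1`, has at most `p * p * m` elements. -/
theorem heis_card_le {G : Type*} [Group G] {a g z : G} {p m : ℕ} (hp : 0 < p) (hm : 0 < m)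
    (h : g * a = a * g * z)
    (hza : Commute z a) (hzg : Commute z g) (ha : a ^ p = 1) (hg : g ^ p = 1) (hz : z ^ m = 1) :
    Nat.card (Subgroup.closure ({a, g} : Set G)) ≤ p * p * m := by
  classical
  -- normal form
  have key : ∀ x ∈ Subgroup.closure ({a, g} : Set G), ∃ i j k : ℕ, x = a ^ i * g ^ j * z ^ k := by
    have hA : ∀ y : G, (∃ i j k : ℕ, y = a ^ i * g ^ j * z ^ k) →
        ∃ i j k : ℕ, a * y = a ^ i * g ^ j * z ^ k := by
      rintro y ⟨i, j, k, rfl⟩
      exact ⟨i + 1, j, k, by rw [pow_succ']; simp only [mul_assoc]⟩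
    have hGm : ∀ y : G, (∃ i j k : ℕ, y = a ^ i * g ^ j * z ^ k) →
        ∃ i j k : ℕ, g * y = a ^ i * g ^ j * z ^ k := by
      rintro y ⟨i, j, k, rfl⟩
      refine ⟨i, j + 1, i + k, ?_⟩
      have hzgj : Commute (z ^ i) (g ^ j) := (hzg.pow_left i).pow_right j
      calc g * (a ^ i * g ^ j * z ^ k) = (g * a ^ i) * g ^ j * z ^ k := by simp only [mul_assoc]
        _ = a ^ i * g * z ^ i * g ^ j * z ^ k := by rw [heis_comm_pow h hza]
        _ = a ^ i * g * (g ^ j * z ^ i) * z ^ k := by
            rw [← hzgj.eq]; simp only [mul_assoc]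
        _ = a ^ i * g ^ (j + 1) * z ^ (i + k) := by
            rw [pow_succ', pow_add]; simp only [mul_assoc]
    have hAn : ∀ n : ℕ, ∀ y : G, (∃ i j k : ℕ, y = a ^ i * g ^ j * z ^ k) →
        ∃ i j k : ℕ, a ^ n * y = a ^ i * g ^ j * z ^ k := by
      intro n
      induction n with
      | zero => intro y hy; simpa using hy
      | succ n ih =>
        intro y hy
        have := hA _ (ih y hy)
        rwa [← mul_assoc, ← pow_succ'] at this
    have hGn : ∀ n : ℕ, ∀ y : G, (∃ i j k : ℕ, y = a ^ i * g ^ j * z ^ k) →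
        ∃ i j k : ℕ, g ^ n * y = a ^ i * g ^ j * z ^ k := by
      intro n
      induction n with
      | zero => intro y hy; simpa using hy
      | succ n ih =>
        intro y hy
        have := hGm _ (ih y hy)
        rwa [← mul_assoc, ← pow_succ'] at this
    have hainv : a⁻¹ = a ^ (p - 1) := by
      rw [inv_eq_iff_mul_eq_one, ← pow_succ', Nat.sub_add_cancel hp, ha]
    have hginv : g⁻¹ = g ^ (p - 1) := by
      rw [inv_eq_iff_mul_eq_one, ← pow_succ', Nat.sub_add_cancel hp, hg]
    intro x hx
    induction hx using Subgroup.closure_induction_left with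
    | one => exact ⟨0, 0, 0, by simp⟩
    | mul_left x hx y _ ih =>
      rcases hx with rfl | rfl
      · exact hA y ih
      · exact hGm y ih
    | inv_mul_cancel x hx y _ ih =>
      rcases hx with rfl | rfl
      · rw [hainv]; exact hAn _ y ih
      · rw [hginv]; exact hGn _ y ih
  -- surjection from Fin p × Fin p × Fin m
  let f : Fin p × Fin p × Fin m → G := fun t => a ^ (t.1 : ℕ) * g ^ (t.2.1 : ℕ) * z ^ (t.2.2 : ℕ)
  have hsub : ((Subgroup.closure ({a, g} : Set G) : Subgroup G) : Set G) ⊆ Set.range f := by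
    intro x hx
    obtain ⟨i, j, k, rfl⟩ := key x hx
    refine ⟨(⟨i % p, Nat.mod_lt _ hp⟩, ⟨j % p, Nat.mod_lt _ hp⟩, ⟨k % m, Nat.mod_lt _ hm⟩), ?_⟩
    simp only [f]
    rw [← pow_eq_pow_mod i ha, ← pow_eq_pow_mod j hg, ← pow_eq_pow_mod k hz]
  calc Nat.card (Subgroup.closure ({a, g} : Set G))
      = ((Subgroup.closure ({a, g} : Set G) : Subgroup G) : Set G).ncard := by
        rw [← Nat.card_coe_set_eq]; rfl
    _ ≤ (Set.range f).ncard := Set.ncard_le_ncard hsub (Set.finite_range f)
    _ ≤ Nat.card (Fin p × Fin p × Fin m) := by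
        rw [← Set.image_univ]
        calc (f '' Set.univ).ncard ≤ (Set.univ : Set (Fin p × Fin p × Fin m)).ncard :=
              Set.ncard_image_le (Set.finite_univ)
          _ = Nat.card (Fin p × Fin p × Fin m) := Set.ncard_univ _
    _ = p * p * m := by simp [Nat.card_eq_fintype_card, mul_assoc]

end Cfsg.Agent.Helper57
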