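import Mathlib

set_option autoImplicit false

namespace Cfsg.Agent.Helper57

open QuaternionGroup in
/-- The hom `QuaternionGroup m → ZMod 2` killing `a`. -/
def quatF1 (m : ℕ) : QuaternionGroup m →* Multiplicative (ZMod 2) :=
  MonoidHom.mk' (fun x => match x with
    | a _ => Multiplicative.ofAdd 0
    | xa _ => Multiplicative.ofAdd 1) (by
      rintro (i | i) (j | j) <;> simp only [a_mul_a, a_mul_xa, xa_mul_a, xa_mul_xa] <;>
        rw [← ofAdd_add] <;> congr 1)

open QuaternionGroup in
/-- The hom `QuaternionGroup m → ZMod 2` reading the exponent of `a` mod 2 (`m` even). -/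
def quatF2 (m : ℕ) (hm : 2 ∣ m) : QuaternionGroup m →* Multiplicative (ZMod 2) :=
  MonoidHom.mk' (fun x => match x with
    | a i => Multiplicative.ofAdd (ZMod.castHom (dvd_mul_right 2 m) (ZMod 2) i)
    | xa i => Multiplicative.ofAdd (ZMod.castHom (dvd_mul_right 2 m) (ZMod 2) i)) (by
      have h2 : ∀ x : ZMod 2, -x = x := by decide
      have hmz : ((m : ℕ) : ZMod 2) = 0 := by
        rw [ZMod.natCast_eq_zero_iff]; exact hm
      rintro (i | i) (j | j) <;> simp only [a_mul_a, a_mul_xa, xa_mul_a, xa_mul_xa] <;>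
        rw [← ofAdd_add] <;> congr 1
      · simp
      · rw [map_sub, sub_eq_add_neg, h2, add_comm]
      · simp
      · rw [map_sub, map_add, map_natCast, hmz, zero_add, sub_eq_add_neg, h2, add_comm])

theorem quat_two_subgroups (m : ℕ) (hm : 2 ∣ m) (hm4 : 4 ≤ m) :
    ∃ A B : Subgroup (QuaternionGroup m), Nat.card A = Nat.card B ∧
      (∀ x y : A, x * y = y * x) ∧ ¬ (∀ x y : B, x * y = y * x) := by
  have hs1 : Function.Surjective (quatF1 m) := by
    intro y
    have : ∀ y : Multiplicative (ZMod 2), y = Multiplicative.ofAdd 0 ∨ y = Multiplicative.ofAdd 1 := by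
      decide
    rcases this y with rfl | rfl
    · exact ⟨QuaternionGroup.a 0, rfl⟩
    · exact ⟨QuaternionGroup.xa 0, rfl⟩
  have hs2 : Function.Surjective (quatF2 m hm) := by
    intro y
    have : ∀ y : Multiplicative (ZMod 2), y = Multiplicative.ofAdd 0 ∨ y = Multiplicative.ofAdd 1 := by
      decide
    rcases this y with rfl | rfl
    · refine ⟨QuaternionGroup.a 0, ?_⟩
      change Multiplicative.ofAdd (ZMod.castHom (dvd_mul_right 2 m) (ZMod 2) 0) = _
      rw [map_zero]
    · refine ⟨QuaternionGroup.a 1, ?_⟩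
      change Multiplicative.ofAdd (ZMod.castHom (dvd_mul_right 2 m) (ZMod 2) 1) = _
      rw [map_one]
  have hc : Nat.card (Multiplicative (ZMod 2)) = 2 := by
    simp [Nat.card_eq_fintype_card]
  have hi1 : (quatF1 m).ker.index = 2 := by
    rw [Subgroup.index_ker, MonoidHom.range_eq_top.mpr hs1]; simp
  have hi2 : (quatF2 m hm).ker.index = 2 := by
    rw [Subgroup.index_ker, MonoidHom.range_eq_top.mpr hs2]; simp
  refine ⟨(quatF1 m).ker, (quatF2 m hm).ker, ?_, ?_, ?_⟩
  · have h1 := Subgroup.card_mul_index (quatF1 m).ker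
    have h2 := Subgroup.card_mul_index (quatF2 m hm).ker
    rw [hi1] at h1; rw [hi2] at h2
    omega
  · rintro ⟨x, hx⟩ ⟨y, hy⟩
    apply Subtype.ext
    rcases x with i | i
    · rcases y with j | j
      · simp [add_comm]
      · exfalso
        rw [MonoidHom.mem_ker] at hy
        have : (Multiplicative.ofAdd (1 : ZMod 2)) = 1 := hy
        revert this; decide
    · exfalso
      rw [MonoidHom.mem_ker] at hx
      have : (Multiplicative.ofAdd (1 : ZMod 2)) = 1 := hx
      revert this; decide
  · intro hcomm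
    have ha : QuaternionGroup.a (2 : ZMod (2 * m)) ∈ (quatF2 m hm).ker := by
      rw [MonoidHom.mem_ker]
      change Multiplicative.ofAdd (ZMod.castHom (dvd_mul_right 2 m) (ZMod 2) 2) = 1
      rw [map_ofNat]; rfl
    have hx : QuaternionGroup.xa (0 : ZMod (2 * m)) ∈ (quatF2 m hm).ker := by
      rw [MonoidHom.mem_ker]
      change Multiplicative.ofAdd (ZMod.castHom (dvd_mul_right 2 m) (ZMod 2) 0) = 1
      rw [map_zero]; rfl
    have := congrArg Subtype.val (hcomm ⟨_, ha⟩ ⟨_, hx⟩)
    simp only [Subgroup.coe_mul, QuaternionGroup.a_mul_xa, QuaternionGroup.xa_mul_a] at this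
    have h3 : (0 : ZMod (2 * m)) - 2 = 0 + 2 := by
      injection this
    have h4 : ((4 : ℕ) : ZMod (2 * m)) = 0 := by
      have : (4 : ZMod (2 * m)) = 0 := by linear_combination -h3
      exact_mod_cast this
    rw [ZMod.natCast_eq_zero_iff] at h4
    have := Nat.le_of_dvd (by norm_num) h4
    omega

end Cfsg.Agent.Helper57
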