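import Mathlib
import Cfsg.Agent.S0016
import Cfsg.Agent.Lib.Helper57.HeisBound
import Cfsg.Agent.Lib.Helper57.QuatSub

set_option autoImplicit false

namespace Cfsg.Agent.Helper57

/-- Subgroups of equal order are isomorphic. -/
def EqOrdIso (Q : Type*) [Group Q] : Prop :=
  ∀ A B : Subgroup Q, Nat.card A = Nat.card B → Nonempty (A ≃* B)

theorem EqOrdIso.of_equiv {Q Q' : Type*} [Group Q] [Group Q'] (e : Q ≃* Q') (h : EqOrdIso Q) :
    EqOrdIso Q' := by
  intro A B hAB
  have eA : A ≃* A.map e.symm.toMonoidHom := e.symm.subgroupMap A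
  have eB : B ≃* B.map e.symm.toMonoidHom := e.symm.subgroupMap B
  obtain ⟨f⟩ := h (A.map e.symm.toMonoidHom) (B.map e.symm.toMonoidHom)
    (by rw [← Nat.card_congr eA.toEquiv, ← Nat.card_congr eB.toEquiv, hAB])
  exact ⟨eA.trans (f.trans eB.symm)⟩

section
variable {Q : Type*} [Group Q] [Finite Q] {p : ℕ} [Fact p.Prime]

theorem exists_central_mod (hQ : IsPGroup p Q) (Z : Subgroup Q) [Z.Normal] (hZ : Z ≠ ⊤) :
    ∃ a : Q, a ∉ Z ∧ ∀ g : Q, a * g * a⁻¹ * g⁻¹ ∈ Z := by
  have : Nontrivial (Q ⧸ Z) := by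
    rw [← not_subsingleton_iff_nontrivial]
    intro hs
    exact hZ (QuotientGroup.subgroup_eq_top_of_subsingleton Z hs)
  have hq : IsPGroup p (Q ⧸ Z) := hQ.to_quotient Z
  have := hq.center_nontrivial
  obtain ⟨⟨x, hx⟩, hx1⟩ := exists_ne (1 : Subgroup.center (Q ⧸ Z))
  obtain ⟨a, rfl⟩ := QuotientGroup.mk_surjective x
  refine ⟨a, ?_, ?_⟩
  · intro ha
    apply hx1
    apply Subtype.ext
    exact (QuotientGroup.eq_one_iff a).mpr ha
  · intro g
    rw [← QuotientGroup.eq_one_iff]
    rw [Subgroup.mem_center_iff] at hx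
    have := hx (g : Q ⧸ Z)
    simp only [QuotientGroup.mk_mul, QuotientGroup.mk_inv]
    rw [← this]
    group

theorem exists_central_order_p (hQ : IsPGroup p Q) [Nontrivial Q] :
    ∃ z : Q, z ∈ Subgroup.center Q ∧ orderOf z = p := by
  have := hQ.center_nontrivial
  have hc : IsPGroup p (Subgroup.center Q) := hQ.to_subgroup _
  obtain ⟨n, hn0, hn⟩ := hc.nontrivial_iff_card.mp inferInstance
  have hdvd : p ∣ Nat.card (Subgroup.center Q) := by rw [hn]; exact dvd_pow_self p hn0.ne'
  obtain ⟨z, hz⟩ := exists_prime_orderOf_dvd_card' p hdvd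
  exact ⟨z, z.2, by rw [← hz]; exact (Subgroup.orderOf_coe z)⟩

theorem comm_of_card_le_sq {X : Type*} [Group X] {k : ℕ} (hX : Nat.card X = p ^ k) (hk : k ≤ 2) :
    ∀ a b : X, a * b = b * a := by
  have hp := (Fact.out : p.Prime)
  interval_cases k
  · have : Subsingleton X := by
      rw [pow_zero] at hX
      exact (Nat.card_eq_one_iff_unique.mp hX).1
    intro a b; exact Subsingleton.elim _ _
  · rw [pow_one] at hX
    have := isCyclic_of_prime_card hX
    intro a b
    exact IsCyclic.commGroup.mul_comm a b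
  · exact IsPGroup.commutative_of_card_eq_prime_sq hX

theorem card_pow_ge_of_lt (hQ : IsPGroup p Q) {H K : Subgroup Q} (hle : H ≤ K) (hne : H ≠ K)
    {j : ℕ} (hH : p ^ j ≤ Nat.card H) : p ^ (j + 1) ∣ Nat.card K := by
  have hp := (Fact.out : p.Prime)
  obtain ⟨k, hk⟩ := (hQ.to_subgroup K).exists_card_eq
  rw [hk]
  apply pow_dvd_pow
  by_contra hlt
  push Not at hlt
  apply hne
  apply Subgroup.eq_of_le_of_card_ge hle
  rw [hk]
  calc p ^ k ≤ p ^ j := Nat.pow_le_pow_right hp.pos (by omega)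
    _ ≤ _ := hH

/-- All subgroups of order `p^2` cyclic ⇒ unique subgroup of order `p`. -/
theorem unique_order_p (hQ : IsPGroup p Q)
    (hcyc : ∀ A : Subgroup Q, Nat.card A = p ^ 2 → IsCyclic A) :
    ∀ H K : Subgroup Q, Nat.card H = p → Nat.card K = p → H = K := by
  have hp := (Fact.out : p.Prime)
  suffices h : ∀ H : Subgroup Q, Nat.card H = p →
      ∀ z : Q, z ∈ Subgroup.center Q → orderOf z = p → H = Subgroup.zpowers z by
    intro H K hH hK
    have : Nontrivial Q := by
      have : Nontrivial H := by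
        rw [← Finite.one_lt_card_iff_nontrivial, hH]; exact hp.one_lt
      exact (Subtype.coe_injective : Function.Injective (Subtype.val : H → Q)).nontrivial
    obtain ⟨z, hz, hzo⟩ := exists_central_order_p hQ
    rw [h H hH z hz hzo, h K hK z hz hzo]
  intro H hH z hz hzo
  by_contra hne
  set Z := Subgroup.zpowers z with hZdef
  have hZc : Nat.card Z = p := by rw [Nat.card_zpowers, hzo]
  have : Z.Normal := by
    refine ⟨fun n hn g => ?_⟩
    obtain ⟨k, rfl⟩ := hn
    have hc : z ^ k ∈ Subgroup.center Q := Subgroup.zpow_mem _ hz k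
    rw [Subgroup.mem_center_iff] at hc
    rw [hc g, mul_inv_cancel_right]
    exact ⟨k, rfl⟩
  have hexp : ∀ x ∈ Z ⊔ H, x ^ p = 1 := by
    intro x hx
    obtain ⟨y, hy, w, hw, rfl⟩ := Subgroup.mem_sup_of_normal_left.mp hx
    have hyc : y ∈ Subgroup.center Q := by
      obtain ⟨k, rfl⟩ := hy
      exact Subgroup.zpow_mem _ hz k
    have hcomm : Commute y w := by
      rw [Subgroup.mem_center_iff] at hyc
      exact (hyc w).symm
    rw [hcomm.mul_pow]
    have h1 : y ^ p = 1 := by
      have := pow_card_eq_one' (G := Z) (x := ⟨y, hy⟩)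
      rw [hZc] at this
      exact congrArg Subtype.val this
    have h2 : w ^ p = 1 := by
      have := pow_card_eq_one' (G := H) (x := ⟨w, hw⟩)
      rw [hH] at this
      exact congrArg Subtype.val this
    rw [h1, h2, one_mul]
  have hdvd : p ^ 2 ∣ Nat.card (Z ⊔ H : Subgroup Q) := by
    have hZH : Z ≠ Z ⊔ H := by
      intro h
      apply hne
      have hle : H ≤ Z := by rw [h]; exact le_sup_right
      exact Subgroup.eq_of_le_of_card_ge hle (by rw [hZc, hH])
    exact card_pow_ge_of_lt hQ le_sup_left hZH (j := 1) (by rw [hZc, pow_one])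
  obtain ⟨B', hB'⟩ := Sylow.exists_subgroup_card_pow_prime p hdvd
  set B := B'.map (Z ⊔ H).subtype with hBdef
  have hBc : Nat.card B = p ^ 2 := by
    rw [← hB']
    exact (Nat.card_congr (Subgroup.equivMapOfInjective B' _
      (Subgroup.subtype_injective _)).toEquiv).symm
  have := hcyc B hBc
  obtain ⟨b, hb⟩ := IsCyclic.exists_generator (α := B)
  have hbo : orderOf b = p ^ 2 := by
    rw [orderOf_eq_card_of_forall_mem_zpowers hb, hBc]
  have hbA : (b : Q) ∈ Z ⊔ H := by
    obtain ⟨c, _, hc⟩ := b.2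
    rw [← hc]
    exact c.2
  have hb1 : b ^ p = 1 := by
    apply Subtype.ext
    rw [Subgroup.coe_pow]
    exact hexp _ hbA
  have := orderOf_dvd_of_pow_eq_one hb1
  rw [hbo] at this
  have h2 := Nat.le_of_dvd hp.pos this
  have : p < p ^ 2 := by
    calc p = p ^ 1 := (pow_one p).symm
      _ < p ^ 2 := Nat.pow_lt_pow_right hp.one_lt (by norm_num)
  omega

end

end Cfsg.Agent.Helper57
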