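import Mathlib
import Cfsg.Agent.Lib.Helper17.S4017Defs
import Cfsg.Agent.Lib.Helper17.S4017FDefs
import Cfsg.Agent.Lib.Helper9.ConjFixed

/-!
# S4017F (ORB1) for helper17's S4017 front-end server.
-/

set_option autoImplicit false

namespace Cfsg.Agent.Helper57.S4017F

open Subgroup Cfsg.Agent.Helper17.S4017

universe u

variable {G : Type u} [Group G] [Finite G] {p q : ℕ}

/-! ### (ORB1) a p-element g normalising a subgroup U of order ≤ p + 1 centralises U, or |U| = p + 1 and C_U(g) = 1.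
`Cfsg.Agent.Helper9.card_modEq_card_inf_centralizer U g _ p j _` : |U| ≡ |U ⊓ C(g)| mod p, and |U ⊓ C(g)| ∣ |U|.  If U ⊓ C(g) ≠ U then
|U| - |U ⊓ C(g)| is a positive multiple of p, so |U| ≥ p + |U ⊓ C(g)| ≥ p + 1: |U| = p + 1 and |U ⊓ C(g)| = 1. -/
theorem centralizes_or_fpf (hp : p.Prime) (U : Subgroup G) (g : G)
    (hg : g ∈ normalizer (U : Set G)) (hgp : ∃ j, orderOf g = p ^ j) (hU : Nat.card U ≤ p + 1) :
    g ∈ centralizer (U : Set G) ∨ (Nat.card U = p + 1 ∧ ∀ u ∈ U, g * u = u * g → u = 1) := by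
  have : Fact p.Prime := ⟨hp⟩
  obtain ⟨j, hj⟩ := hgp
  have hgr : g ^ (p ^ j) = 1 := by rw [← hj]; exact pow_orderOf_eq_one g
  have hgN : ∀ x ∈ U, g * x * g⁻¹ ∈ U := fun x hx =>
    (Subgroup.mem_normalizer_iff.mp hg x).mp hx
  have hmod := Cfsg.Agent.Helper9.card_modEq_card_inf_centralizer U g hgN p j hgr
  have hdvd : Nat.card (U ⊓ centralizer {g} : Subgroup G) ∣ Nat.card U :=
    Subgroup.card_dvd_of_le inf_le_left
  have hcpos : 0 < Nat.card (U ⊓ centralizer {g} : Subgroup G) := Nat.card_pos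
  have hnpos : 0 < Nat.card U := Nat.card_pos
  have hle : Nat.card (U ⊓ centralizer {g} : Subgroup G) ≤ Nat.card U := Nat.le_of_dvd hnpos hdvd
  by_cases heq : Nat.card (U ⊓ centralizer {g} : Subgroup G) = Nat.card U
  · left
    have hUle : U ≤ U ⊓ centralizer {g} := by
      have h1 : (U ⊓ centralizer {g} : Subgroup G) = U :=
        Subgroup.eq_of_le_of_card_ge inf_le_left (le_of_eq heq.symm)
      rw [h1]
    rw [Subgroup.mem_centralizer_iff]
    intro u hu
    have hu' := (Subgroup.mem_inf.mp (hUle hu)).2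
    rw [Subgroup.mem_centralizer_iff] at hu'
    exact (hu' g (Set.mem_singleton g)).symm
  · right
    have hlt : Nat.card (U ⊓ centralizer {g} : Subgroup G) < Nat.card U := lt_of_le_of_ne hle heq
    -- `p ∣ n - c`
    have hpd : p ∣ Nat.card U - Nat.card (U ⊓ centralizer {g} : Subgroup G) :=
      (Nat.modEq_iff_dvd' hle).mp hmod.symm
    have hge : p ≤ Nat.card U - Nat.card (U ⊓ centralizer {g} : Subgroup G) :=
      Nat.le_of_dvd (by omega) hpd
    have hn : Nat.card U = p + 1 := by omega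
    have hc : Nat.card (U ⊓ centralizer {g} : Subgroup G) = 1 := by omega
    refine ⟨hn, ?_⟩
    intro u hu hcomm
    have hbot : (U ⊓ centralizer {g} : Subgroup G) = ⊥ := Subgroup.card_eq_one.mp hc
    have hmem : u ∈ (U ⊓ centralizer {g} : Subgroup G) := by
      refine Subgroup.mem_inf.mpr ⟨hu, ?_⟩
      rw [Subgroup.mem_centralizer_iff]
      intro y hy
      rw [Set.mem_singleton_iff] at hy
      rw [hy]; exact hcomm
    rw [hbot, Subgroup.mem_bot] at hmem
    exact hmem

end Cfsg.Agent.Helper57.S4017F
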