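import Mathlib
import Cfsg.Agent.Lib.Helper17.S4017Defs
import Cfsg.Agent.Lib.Helper17.S4017FDefs

/-!
# S4017F (ORB2) for helper17's S4017 front-end server.
-/

set_option autoImplicit false

namespace Cfsg.Agent.Helper57.S4017F

open Subgroup Cfsg.Agent.Helper17.S4017

universe u

variable {G : Type u} [Group G] [Finite G] {p q : ℕ}

omit [Finite G] in
theorem orb2_iterate (x t : G) (i : ℕ) :
    (fun u : G => x * u * x⁻¹)^[i] t = x ^ i * t * (x ^ i)⁻¹ := by
  induction i with
  | zero => simp
  | succ n ih =>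
    rw [Function.iterate_succ_apply', ih, pow_succ']
    group

/-! ### (ORB2) a p-element x normalising Q (|Q| = p + 1) with C_Q(x) = 1 permutes Q \ {1} transitively.  The group zpowers x (a p-group) acts
on Q by conjugation; the orbit of t ≠ 1 has p-power size (`IsPGroup.card_orbit`), is not a singleton (x does not fix t), lies in Q \ {1}
(p elements): so it has exactly p elements and is all of Q \ {1}.  Convert the integer exponent to a natural one (mod orderOf x).
(Alternative: `Function.minimalPeriod` of conjugation by x at t divides orderOf x, is ≠ 1, and `Function.iterate_injOn_Iio_minimalPeriod`.) -/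
theorem trans_of_fpf (hp : p.Prime) (Q : Subgroup G) (hQ : Nat.card Q = p + 1) (x : G)
    (hx : x ∈ normalizer (Q : Set G)) (hxp : ∃ j, orderOf x = p ^ j)
    (hfpf : ∀ u ∈ Q, x * u = u * x → u = 1) :
    ∀ t ∈ Q, t ≠ 1 → ∀ s ∈ Q, s ≠ 1 → ∃ i : ℕ, x ^ i * t * (x ^ i)⁻¹ = s := by
  classical
  intro t ht ht1 s hs hs1
  obtain ⟨j, hj⟩ := hxp
  set f : G → G := fun u => x * u * x⁻¹ with hf
  have hit : ∀ i : ℕ, f^[i] t = x ^ i * t * (x ^ i)⁻¹ := fun i => orb2_iterate x t i
  -- `t` is periodic with period `orderOf x`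
  have hper : Function.IsPeriodicPt f (orderOf x) t := by
    show f^[orderOf x] t = t
    rw [hit, pow_orderOf_eq_one]; group
  set m := Function.minimalPeriod f t with hm
  have hmd : m ∣ p ^ j := by rw [← hj]; exact hper.minimalPeriod_dvd
  have hm1 : m ≠ 1 := by
    intro h1
    have hfix : f t = t := by
      have := Function.isPeriodicPt_minimalPeriod f t
      rw [← hm, h1] at this
      exact this
    apply ht1
    apply hfpf t ht
    have h2 : x * t * x⁻¹ = t := hfix
    calc x * t = (x * t * x⁻¹) * x := by group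
      _ = t * x := by rw [h2]
  obtain ⟨k, hk, hmk⟩ := (Nat.dvd_prime_pow hp).mp hmd
  have hpm : p ≤ m := by
    rw [hmk]
    rcases Nat.eq_zero_or_pos k with h0 | hpos
    · rw [h0, pow_zero] at hmk; exact absurd hmk hm1
    · calc p = p ^ 1 := (pow_one p).symm
        _ ≤ p ^ k := Nat.pow_le_pow_right hp.pos hpos
  -- the orbit
  set A : Set G := (fun i => f^[i] t) '' ((Finset.range m : Finset ℕ) : Set ℕ) with hA
  set B : Set G := (Q : Set G) \ {1} with hB
  have hinj : Set.InjOn (fun i => f^[i] t) ((Finset.range m : Finset ℕ) : Set ℕ) := by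
    intro a ha b hb hab
    have ha' : a < m := by simpa using ha
    have hb' : b < m := by simpa using hb
    exact Function.iterate_injOn_Iio_minimalPeriod (f := f) (x := t) ha' hb' hab
  have hAcard : A.ncard = m := by
    rw [hA, Set.InjOn.ncard_image hinj, Set.ncard_coe_finset, Finset.card_range]
  have hBfin : B.Finite := Set.toFinite B
  have hBcard : B.ncard = p := by
    rw [hB, Set.ncard_sdiff_singleton_of_mem (Subgroup.one_mem Q), ← Nat.card_coe_set_eq]
    have : Nat.card ↥((Q : Subgroup G) : Set G) = Nat.card Q := rfl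
    rw [this, hQ]; rfl
  have hAB : A ⊆ B := by
    rintro y ⟨i, _, rfl⟩
    simp only [hit]
    refine ⟨?_, ?_⟩
    · have hxi : x ^ i ∈ normalizer (Q : Set G) := pow_mem hx i
      exact (Subgroup.mem_normalizer_iff.mp hxi t).mp ht
    · intro h1
      rw [Set.mem_singleton_iff] at h1
      apply ht1
      have : t = (x ^ i)⁻¹ * (x ^ i * t * (x ^ i)⁻¹) * x ^ i := by group
      rw [this, h1]; group
  have hEq : A = B := Set.eq_of_subset_of_ncard_le hAB (by rw [hAcard, hBcard]; exact hpm) hBfin
  have hsB : s ∈ B := ⟨hs, by simpa using hs1⟩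
  rw [← hEq] at hsB
  obtain ⟨i, _, hi⟩ := hsB
  exact ⟨i, by rw [← hit]; exact hi⟩

end Cfsg.Agent.Helper57.S4017F
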