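import Mathlib
import Cfsg.Agent.Lib.Helper17.S4017Defs
import Cfsg.Agent.Lib.Helper17.S4017FDefs

/-!
# S4017F (ORB3) for helper17's S4017 front-end server.
-/

set_option autoImplicit false

namespace Cfsg.Agent.Helper57.S4017F

open Subgroup Cfsg.Agent.Helper17.S4017

universe u

variable {G : Type u} [Group G] [Finite G] {p q : ℕ}

/-! ### (ORB3) if all nonidentity elements of the nontrivial 2-group Q are conjugate then Q has exponent 2: Cauchy gives u ∈ Q of order 2,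
every t ≠ 1 is a conjugate of u so t has order 2. -/
theorem sq_eq_one_of_trans (Q : Subgroup G) (a : ℕ) (ha : 1 ≤ a) (hQ : Nat.card Q = 2 ^ a) (x : G)
    (htr : ∀ t ∈ Q, t ≠ 1 → ∀ s ∈ Q, s ≠ 1 → ∃ i : ℕ, x ^ i * t * (x ^ i)⁻¹ = s) :
    ∀ g ∈ Q, g * g = 1 := by
  have : Fact (Nat.Prime 2) := ⟨Nat.prime_two⟩
  have h2 : 2 ∣ Nat.card Q := by
    rw [hQ]; exact dvd_pow_self 2 (by omega)
  obtain ⟨u, hu⟩ := exists_prime_orderOf_dvd_card' (G := Q) 2 h2
  have hu' : orderOf (u : G) = 2 := by rw [Subgroup.orderOf_coe]; exact hu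
  have hu1 : (u : G) ≠ 1 := by
    intro h
    rw [h, orderOf_one] at hu'
    omega
  have huu : (u : G) * (u : G) = 1 := by
    rw [← pow_two, ← hu', pow_orderOf_eq_one]
  intro g hg
  by_cases hg1 : g = 1
  · rw [hg1, one_mul]
  · obtain ⟨i, hi⟩ := htr (u : G) u.2 hu1 g hg hg1
    rw [← hi]
    calc x ^ i * (u : G) * (x ^ i)⁻¹ * (x ^ i * (u : G) * (x ^ i)⁻¹)
        = x ^ i * ((u : G) * (u : G)) * (x ^ i)⁻¹ := by group
      _ = 1 := by rw [huu]; group

end Cfsg.Agent.Helper57.S4017F
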