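import Mathlib

/-!
# (G2) of helper73's B–G Lemma 16.1 lemma server

Coprime action on an abelian subgroup: `[A, Y] ∩ C(Y) = 1`.  Mathlib only.
-/

set_option autoImplicit false

namespace Cfsg.Agent.Helper57.BG161

open Subgroup
open scoped commutatorElement

variable {G : Type*} [Group G] [Finite G]

/-- conjugation by `y ∈ Y ≤ N(A)` as an endomorphism of `A`. -/
def conjHom (A Y : Subgroup G) (hYA : Y ≤ normalizer (A : Set G)) (y : Y) : A →* A where
  toFun a := ⟨(y : G) * a * (y : G)⁻¹, (mem_normalizer_iff.mp (hYA y.2) a).mp a.2⟩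
  map_one' := by
    apply Subtype.ext
    simp
  map_mul' a b := by
    apply Subtype.ext
    simp [mul_assoc]

omit [Finite G] in
theorem conjHom_coe (A Y : Subgroup G) (hYA : Y ≤ normalizer (A : Set G)) (y : Y) (a : A) :
    ((conjHom A Y hYA y a : A) : G) = (y : G) * a * (y : G)⁻¹ := rfl

/-- (G2) coprime action on an abelian group: `[A, Y] ∩ C_A(Y) = 1`. -/
theorem comm_inf_centralizer_eq_bot (A Y : Subgroup G) (hYA : Y ≤ normalizer (A : Set G))
    (hAc : ∀ a ∈ A, ∀ b ∈ A, a * b = b * a) (hcop : (Nat.card A).Coprime (Nat.card Y)) :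
    ⁅A, Y⁆ ⊓ centralizer (Y : Set G) = ⊥ := by
  classical
  have : Fintype Y := Fintype.ofFinite Y
  let _ : CommGroup A :=
    { (inferInstance : Group A) with
      mul_comm := fun a b => Subtype.ext (hAc a a.2 b b.2) }
  -- the norm map
  let ν : A →* A := ∏ y : Y, conjHom A Y hYA y
  have hν : ∀ x : A, ν x = ∏ y : Y, conjHom A Y hYA y x := by
    intro x
    simp only [ν, MonoidHom.finsetProd_apply]
  have hνsmul : ∀ (b : Y) (x : A), ν (conjHom A Y hYA b x) = ν x := by
    intro b x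
    rw [hν, hν]
    apply Fintype.prod_equiv (Equiv.mulRight b)
    intro y
    apply Subtype.ext
    simp only [conjHom_coe, Equiv.coe_mulRight, Subgroup.coe_mul, mul_inv_rev]
    group
  have hle : ⁅A, Y⁆ ≤ A := by
    rw [Subgroup.commutator_le]
    intro a ha y hy
    have h1 : y * a⁻¹ * y⁻¹ ∈ A := (mem_normalizer_iff.mp (hYA hy) a⁻¹).mp (A.inv_mem ha)
    have h2 : ⁅a, y⁆ = a * (y * a⁻¹ * y⁻¹) := by
      rw [commutatorElement_def]; group
    rw [h2]
    exact A.mul_mem ha h1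
  -- the kernel of `ν` (as a subgroup of `G`) contains `[A, Y]`
  have hker : ⁅A, Y⁆ ≤ (ν.ker).map A.subtype := by
    rw [Subgroup.commutator_le]
    intro a ha y hy
    have hc : ⁅a, y⁆ ∈ A := hle (Subgroup.commutator_mem_commutator ha hy)
    refine ⟨⟨⁅a, y⁆, hc⟩, ?_, rfl⟩
    rw [SetLike.mem_coe, MonoidHom.mem_ker]
    have hainv : a⁻¹ ∈ A := A.inv_mem ha
    have e : (⟨⁅a, y⁆, hc⟩ : A) =
        (⟨a, ha⟩ : A) * conjHom A Y hYA ⟨y, hy⟩ (⟨a⁻¹, hainv⟩ : A) := by
      apply Subtype.ext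
      simp only [Subgroup.coe_mul, conjHom_coe, commutatorElement_def]
      group
    rw [e, map_mul, hνsmul, ← map_mul]
    have : (⟨a, ha⟩ : A) * ⟨a⁻¹, hainv⟩ = 1 := by
      apply Subtype.ext
      simp
    rw [this, map_one]
  rw [eq_bot_iff]
  intro x hx
  obtain ⟨hx1, hx2⟩ := Subgroup.mem_inf.mp hx
  obtain ⟨x', hx', hxx'⟩ := hker hx1
  have hxx : (x' : G) = x := hxx'
  have hfix : ∀ y : Y, conjHom A Y hYA y x' = x' := by
    intro y
    apply Subtype.ext
    rw [conjHom_coe, hxx]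
    have h := (Subgroup.mem_centralizer_iff.mp hx2) (y : G) y.2
    rw [h, mul_inv_cancel_right]
  have h1 : ν x' = 1 := MonoidHom.mem_ker.mp hx'
  have h2 : ν x' = x' ^ Nat.card Y := by
    rw [hν]
    simp only [hfix, Finset.prod_const, Finset.card_univ, Nat.card_eq_fintype_card]
  rw [h2] at h1
  have h3 : orderOf x' ∣ Nat.card Y := orderOf_dvd_of_pow_eq_one h1
  have h4 : orderOf x' ∣ Nat.card A := orderOf_dvd_natCard x'
  have h5 : orderOf x' = 1 := Nat.eq_one_of_dvd_coprimes hcop h4 h3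
  have h6 : x' = 1 := orderOf_eq_one_iff.mp h5
  rw [Subgroup.mem_bot, ← hxx, h6, Subgroup.coe_one]

end Cfsg.Agent.Helper57.BG161
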