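import Mathlib
import Cfsg.Prelude.Def_OddOrderLocal
import Cfsg.Agent.Lib.Helper52.CoprimeSylow
import Cfsg.Agent.Lib.Helper55.BGCyclic
import Cfsg.Agent.Lib.Helper15.BGV.Basic
import Cfsg.Agent.Lib.Helper57.BG161G

/-!
# Pure lemmas for (C6) STEP A of helper67's CRUX server (B-G 13.11(c))
-/

set_option autoImplicit false

namespace Cfsg.Agent.Helper57.BGCrux

open Subgroup
open scoped commutatorElement
open Cfsg.Agent.Helper52 (sylCard)

variable {G : Type*} [Group G]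

/-- `|M| = |A| |B|` for complements. -/
theorem card_eq_mul_of_isComplIn {A B M : Subgroup G} (h : Cfsg.IsComplIn A B M) :
    Nat.card M = Nat.card A * Nat.card B := by
  obtain ⟨hA, hB, hAB, hmul⟩ := h
  rw [← Nat.card_prod]
  symm
  apply Nat.card_congr
  refine Equiv.ofBijective
    (fun x : A × B => (⟨(x.1 : G) * (x.2 : G), M.mul_mem (hA x.1.2) (hB x.2.2)⟩ : M)) ⟨?_, ?_⟩
  · rintro ⟨a, b⟩ ⟨a', b'⟩ h
    have h1 : (a : G) * b = a' * b' := congrArg Subtype.val h
    have h2 : (a' : G)⁻¹ * a = b' * (b : G)⁻¹ := by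
      calc (a' : G)⁻¹ * a = (a' : G)⁻¹ * ((a : G) * b) * (b : G)⁻¹ := by group
        _ = (a' : G)⁻¹ * ((a' : G) * b') * (b : G)⁻¹ := by rw [h1]
        _ = b' * (b : G)⁻¹ := by group
    have h3 : (a' : G)⁻¹ * a ∈ A ⊓ B :=
      Subgroup.mem_inf.mpr ⟨A.mul_mem (A.inv_mem a'.2) a.2, by
        rw [h2]; exact B.mul_mem b'.2 (B.inv_mem b.2)⟩
    rw [hAB, Subgroup.mem_bot] at h3
    have ha : (a : G) = a' := (inv_mul_eq_one.mp h3).symm
    have hb : (b : G) = b' := by
      rw [ha] at h1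
      exact mul_left_cancel h1
    exact Prod.ext (Subtype.ext ha) (Subtype.ext hb)
  · rintro ⟨m, hm⟩
    obtain ⟨a, ha, b, hb, rfl⟩ := hmul m hm
    exact ⟨(⟨a, ha⟩, ⟨b, hb⟩), rfl⟩

theorem pow_factorization_of_mul {p a b : ℕ} (ha : a ≠ 0) (hb : b ≠ 0) (hpb : ¬ p ∣ b) :
    p ^ (a * b).factorization p = p ^ a.factorization p := by
  rw [Nat.factorization_mul ha hb, Finsupp.add_apply, Nat.factorization_eq_zero_of_not_dvd hpb,
    add_zero]

/-- `⁅A, Y⁆ ≤ A` when `Y` normalizes `A`. -/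
theorem commutator_le_of_le_normalizer' {A Y : Subgroup G} (hYA : Y ≤ normalizer (A : Set G)) :
    ⁅A, Y⁆ ≤ A := by
  rw [Subgroup.commutator_le]
  intro a ha y hy
  have h1 : y * a⁻¹ * y⁻¹ ∈ A := (mem_normalizer_iff.mp (hYA hy) a⁻¹).mp (A.inv_mem ha)
  have h2 : ⁅a, y⁆ = a * (y * a⁻¹ * y⁻¹) := by
    rw [commutatorElement_def]; group
  rw [h2]
  exact A.mul_mem ha h1

/-- the normalizer of `Y` normalizes its centralizer. -/
theorem normalizer_le_normalizer_centralizer' (Y : Subgroup G) :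
    normalizer (Y : Set G) ≤ normalizer ((centralizer (Y : Set G) : Subgroup G) : Set G) := by
  have key : ∀ e : G, e ∈ normalizer (Y : Set G) → ∀ x : G, x ∈ centralizer (Y : Set G) →
      e * x * e⁻¹ ∈ centralizer (Y : Set G) := by
    intro e he x hx
    rw [Subgroup.mem_centralizer_iff] at hx ⊢
    intro y hy
    have hy' : e⁻¹ * y * e⁻¹⁻¹ ∈ Y :=
      (mem_normalizer_iff.mp ((normalizer (Y : Set G)).inv_mem he) y).mp hy
    have h1 := hx _ hy'
    calc y * (e * x * e⁻¹) = e * ((e⁻¹ * y * e⁻¹⁻¹) * x) * e⁻¹ := by group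
      _ = e * (x * (e⁻¹ * y * e⁻¹⁻¹)) * e⁻¹ := by rw [h1]
      _ = e * x * e⁻¹ * y := by group
  intro e he
  rw [mem_normalizer_iff]
  intro x
  constructor
  · exact key e he x
  · intro hx
    have h := key e⁻¹ ((normalizer (Y : Set G)).inv_mem he) _ hx
    have h2 : e⁻¹ * (e * x * e⁻¹) * e⁻¹⁻¹ = x := by group
    rwa [h2] at h

/-- an element normalizing `A` and `B` normalizes `A ⊓ B`. -/
theorem mem_normalizer_inf' {A B : Subgroup G} {e : G} (hA : e ∈ normalizer (A : Set G))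
    (hB : e ∈ normalizer (B : Set G)) : e ∈ normalizer ((A ⊓ B : Subgroup G) : Set G) := by
  rw [mem_normalizer_iff]
  intro x
  rw [Subgroup.mem_inf, Subgroup.mem_inf, ← mem_normalizer_iff.mp hA x, ← mem_normalizer_iff.mp hB x]

/-- a subgroup of prime order meeting `K` nontrivially lies in `K`. -/
theorem le_of_inf_ne_bot_of_prime_card [Finite G] {Y K : Subgroup G} (hY : (Nat.card Y).Prime)
    (h : Y ⊓ K ≠ ⊥) : Y ≤ K := by
  have hdvd : Nat.card (Y ⊓ K : Subgroup G) ∣ Nat.card Y := Subgroup.card_dvd_of_le inf_le_left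
  rcases (Nat.dvd_prime hY).mp hdvd with h1 | h1
  · exact absurd (Subgroup.card_eq_one.mp h1) h
  · have h2 : (Y ⊓ K : Subgroup G) = Y := Subgroup.eq_of_le_of_card_ge inf_le_left h1.ge
    rw [← h2]
    exact inf_le_right

variable [Finite G]

/-- in a cyclic `q`-group any two nontrivial subgroups meet nontrivially. -/
theorem inf_ne_bot_of_le_cyclic_pgroup {q : ℕ} [Fact q.Prime] {W D1 D2 : Subgroup G}
    (hWc : IsCyclic W) (hWq : IsPGroup q W) (h1 : D1 ≤ W) (h2 : D2 ≤ W) (hD1 : D1 ≠ ⊥)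
    (hD2 : D2 ≠ ⊥) : D1 ⊓ D2 ≠ ⊥ := by
  have key : ∀ D : Subgroup G, D ≤ W → D ≠ ⊥ → ∃ X : Subgroup G, X ≤ D ∧ Nat.card X = q := by
    intro D hD hne
    have hDq : IsPGroup q D := hWq.to_le hD
    have hcard : q ∣ Nat.card D := by
      obtain ⟨k, hk⟩ := IsPGroup.iff_card.mp hDq
      have hk0 : k ≠ 0 := by
        rintro rfl
        rw [pow_zero] at hk
        exact hne (Subgroup.card_eq_one.mp hk)
      rw [hk]
      exact dvd_pow_self q hk0
    obtain ⟨x, hx⟩ := exists_prime_orderOf_dvd_card' q hcard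
    refine ⟨Subgroup.zpowers (x : G), ?_, ?_⟩
    · rw [Subgroup.zpowers_le]
      exact x.2
    · rw [Nat.card_zpowers, Subgroup.orderOf_coe, hx]
  obtain ⟨X1, hX1, c1⟩ := key D1 h1 hD1
  obtain ⟨X2, hX2, c2⟩ := key D2 h2 hD2
  haveI := hWc
  have he : X1 = X2 := Cfsg.Agent.Helper76.EqOrd.eq_of_card_eq_of_le_isCyclic W X1 X2
    (hX1.trans h1) (hX2.trans h2) (c1.trans c2.symm)
  intro hbot
  have hle : X1 ≤ D1 ⊓ D2 := le_inf hX1 (he ▸ hX2)
  rw [hbot, le_bot_iff] at hle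
  rw [hle, Subgroup.card_bot] at c1
  exact (Fact.out : q.Prime).one_lt.ne c1

/-- a coprime operator group `Z` moving the cyclic `q`-group `Cq` acts fixed-point-freely on it. -/
theorem fpf_of_cyclic {q : ℕ} [Fact q.Prime] {Cq Z : Subgroup G}
    (hc : IsCyclic Cq) (hq : IsPGroup q Cq) (hZN : Z ≤ normalizer (Cq : Set G))
    (hcop : (Nat.card Cq).Coprime (Nat.card Z)) (hmove : ¬ Z ≤ centralizer (Cq : Set G)) :
    ∀ x ∈ Cq, (∀ y ∈ Z, y * x = x * y) → x = 1 := by
  intro x hx hfix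
  by_contra hx1
  have hab : ∀ a ∈ Cq, ∀ b ∈ Cq, a * b = b * a :=
    fun a ha b hb => Cfsg.Agent.Helper55.BGB.commute_of_isCyclic hc ha hb
  have hG2 := Cfsg.Agent.Helper57.BG161.comm_inf_centralizer_eq_bot Cq Z hZN hab hcop
  have hD1le : ⁅Cq, Z⁆ ≤ Cq := commutator_le_of_le_normalizer' hZN
  have hD1 : ⁅Cq, Z⁆ ≠ ⊥ := by
    intro h
    rw [Subgroup.commutator_eq_bot_iff_le_centralizer] at h
    exact hmove (Subgroup.le_centralizer_iff.mp h)
  have hD2 : Cq ⊓ centralizer (Z : Set G) ≠ ⊥ := by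
    intro h
    have hmem : x ∈ Cq ⊓ centralizer (Z : Set G) :=
      Subgroup.mem_inf.mpr ⟨hx, Subgroup.mem_centralizer_iff.mpr (fun y hy => hfix y hy)⟩
    rw [h, Subgroup.mem_bot] at hmem
    exact hx1 hmem
  have h3 := inf_ne_bot_of_le_cyclic_pgroup hc hq hD1le inf_le_left hD1 hD2
  apply h3
  rw [eq_bot_iff, ← hG2]
  exact le_inf inf_le_left (inf_le_right.trans inf_le_right)

/-- a cyclic `s`-group `W` containing `Y` (of prime order) which is moved by `Z`:
`Z` is fixed-point-free on `W`. -/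
theorem fpf_of_cyclic_of_moved {s : ℕ} [Fact s.Prime] {W Y Z : Subgroup G}
    (hc : IsCyclic W) (hWs : IsPGroup s W) (hYW : Y ≤ W) (hY : Nat.card Y = s)
    (hmove : ¬ Z ≤ centralizer (Y : Set G)) :
    ∀ x ∈ W, (∀ y ∈ Z, y * x = x * y) → x = 1 := by
  intro x hx hfix
  by_contra hx1
  have hY1 : Y ≠ ⊥ := by
    intro h
    rw [h, Subgroup.card_bot] at hY
    exact (Fact.out : s.Prime).one_lt.ne hY
  have hD2 : W ⊓ centralizer (Z : Set G) ≠ ⊥ := by
    intro h
    have hmem : x ∈ W ⊓ centralizer (Z : Set G) :=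
      Subgroup.mem_inf.mpr ⟨hx, Subgroup.mem_centralizer_iff.mpr (fun y hy => hfix y hy)⟩
    rw [h, Subgroup.mem_bot] at hmem
    exact hx1 hmem
  have h3 := inf_ne_bot_of_le_cyclic_pgroup hc hWs hYW inf_le_left hY1 hD2
  have hYp : (Nat.card Y).Prime := by rw [hY]; exact Fact.out
  have h4 : Y ≤ W ⊓ centralizer (Z : Set G) := le_of_inf_ne_bot_of_prime_card hYp h3
  exact hmove (Subgroup.le_centralizer_iff.mp (h4.trans inf_le_right))

/-- subgroups of a cyclic subgroup are normalized by its normalizer. -/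
theorem normalizer_le_normalizer_of_le_cyclic' {Z X : Subgroup G} (hc : IsCyclic Z) (hX : X ≤ Z) :
    normalizer (Z : Set G) ≤ normalizer (X : Set G) := by
  intro g hg
  apply Cfsg.Agent.Helper55.BGB.mem_normalizer_of_map_conj_eq
  apply Cfsg.Agent.Helper55.BGB.map_conj_eq_of_le_cyclic hc hX g
  rintro _ ⟨x, hx, rfl⟩
  simp only [MulEquiv.coe_toMonoidHom, MulAut.conj_apply]
  exact (mem_normalizer_iff.mp hg x).mp (hX hx)

/-- a subgroup `K` lies in `H` as soon as, for every prime `r` dividing `|K|`, some subgroup of `K`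
of order the full `r`-part of `|K|` lies in `H` -/
theorem le_of_forall_sylow_le' {K H : Subgroup G}
    (h : ∀ r : ℕ, r.Prime → r ∣ Nat.card K → ∃ T : Subgroup G, T ≤ K ∧
      Nat.card T = r ^ (Nat.card K).factorization r ∧ T ≤ H) : K ≤ H := by
  have hdvd : Nat.card K ∣ Nat.card (K ⊓ H : Subgroup G) := by
    rw [← Nat.factorization_le_iff_dvd Nat.card_pos.ne' Nat.card_pos.ne', Finsupp.le_def]
    intro r
    by_cases hr : r.Prime
    · by_cases hrK : r ∣ Nat.card K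
      · obtain ⟨T, hTK, hTc, hTH⟩ := h r hr hrK
        have h1 : r ^ (Nat.card K).factorization r ∣ Nat.card (K ⊓ H : Subgroup G) := by
          rw [← hTc]; exact Subgroup.card_dvd_of_le (le_inf hTK hTH)
        exact (hr.pow_dvd_iff_le_factorization Nat.card_pos.ne').mp h1
      · rw [Nat.factorization_eq_zero_of_not_dvd hrK]; exact Nat.zero_le _
    · rw [Nat.factorization_eq_zero_of_not_prime _ hr]; exact Nat.zero_le _
  have hle : Nat.card K ≤ Nat.card (K ⊓ H : Subgroup G) := Nat.le_of_dvd Nat.card_pos hdvd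
  have h2 : (K ⊓ H : Subgroup G) = K := Subgroup.eq_of_le_of_card_ge inf_le_left hle
  rw [← h2]; exact inf_le_right

omit [Finite G] in
/-- `q ∈ κ(M)` gives `q`-rank at most one. -/
theorem prankLE_one_of_kappa' {M : Subgroup G} {p : ℕ} (hp : p ∈ Cfsg.kappa M) :
    Cfsg.PRankLE p 1 ↥M := by
  intro A _ hAe
  have := Fact.mk hp.1
  have hAp : IsPGroup p A := fun a => ⟨1, by
    rw [pow_one]; exact Subtype.ext (by simpa using hAe a.1 a.2)⟩
  obtain ⟨P, hAP⟩ := hAp.exists_le_sylow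
  haveI hPc : IsCyclic ↥(P : Subgroup M) := (hp.2.2.2 P).1
  have hAcyc : IsCyclic ↥A := Subgroup.isCyclic_of_le hAP
  obtain ⟨g, hg⟩ := hAcyc.exists_generator
  have h1 : orderOf g = Nat.card A := orderOf_eq_card_of_forall_mem_zpowers hg
  have h2 : g ^ p = 1 := Subtype.ext (by simpa using hAe g.1 g.2)
  rw [pow_one, ← h1]
  exact Nat.le_of_dvd hp.1.pos (orderOf_dvd_of_pow_eq_one h2)

/-- a coprime operator group that does not centralize `C` moves an invariant Sylow subgroup. -/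
theorem exists_moved_invariant_sylow {Z C : Subgroup G} (hZC : Z ≤ normalizer (C : Set G))
    (hcop : (Nat.card Z).Coprime (Nat.card C)) (hsolv : Group.IsSolvable Z ∨ Group.IsSolvable C)
    (hmove : ¬ Z ≤ centralizer (C : Set G)) :
    ∃ q : ℕ, q.Prime ∧ ∃ Cq : Subgroup G, Cq ≤ C ∧ Nat.card Cq = sylCard q C ∧
      Z ≤ normalizer (Cq : Set G) ∧ ¬ Z ≤ centralizer (Cq : Set G) := by
  by_contra hcon
  push Not at hcon
  apply hmove
  apply Cfsg.Agent.Helper15.BGV.le_centralizer_of_sylowwise hZC hcop hsolv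
  intro q hqF Q hQC hQ hZQ
  obtain ⟨Cq, hCqC, hCqcard, hQCq, hZCq⟩ :=
    Cfsg.Agent.Helper52.exists_invariant_sylow_ge Z C hZC hcop hsolv q Q hQC hQ hZQ
  have h1 := hcon q hqF.out Cq hCqC hCqcard hZCq
  exact h1.trans (Subgroup.centralizer_le hQCq)

end Cfsg.Agent.Helper57.BGCrux
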