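import Cfsg.Agent.Lib.Helper67.BGCruxDefs
import Cfsg.Agent.Lib.Helper57.BGCruxC6a
import Cfsg.Agent.Lib.Helper55.BGHall
import Cfsg.Agent.Lib.Helper97.BG144
import Cfsg.Agent.Lib.Helper54.BGTransitivity

/-!
# (C6) STEP A of helper67's CRUX server (B-G 13.11(c)): `E₁` centralizes `C = C_{M_σ}(Y)`
-/

set_option autoImplicit false

namespace Cfsg.Agent.Helper57.BGCrux

open Subgroup Cfsg
open scoped commutatorElement
open Cfsg.Agent.Helper52 (sylCard)
open Cfsg.Agent.Helper67.BGCrux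
open Cfsg.Agent.Helper55.BGB

variable {G : Type*} [Group G] [Finite G]

/-- (A6): `N_G(X) ≤ M` for `X ≤ M ∩ H` of order `q ∈ σ(M) ∩ κ(H)` centralizing `1 ≠ Y ≤ H_σ`. -/
theorem normalizer_le_of_kappa (hG : IsMinSimpleOddOrder G) (rows : Rows G) (inp : Inputs G)
    {M H X Y : Subgroup G} {q : ℕ} (hM : IsCoatom M) (hH : IsCoatom H) (hq : q.Prime)
    (hqκ : q ∈ kappa H) (hqM : q ∈ sigma M) (hXM : X ≤ M) (hXH : X ≤ H) (hX : Nat.card X = q)
    (hY1 : Y ≠ ⊥) (hYσ : Y ≤ sigmaCore H) (hYX : Y ≤ centralizer (X : Set G)) :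
    normalizer (X : Set G) ≤ M := by
  haveI : Fact q.Prime := ⟨hq⟩
  haveI : IsSimpleGroup G := hG.2.1
  have hX1 : X ≠ ⊥ := by
    intro h
    rw [h, Subgroup.card_bot] at hX
    exact hq.one_lt.ne hX
  have hXtop : X ≠ ⊤ := by
    intro h
    apply hM.1
    rw [eq_top_iff, ← h]
    exact hXM
  have hNtop := Cfsg.Agent.Helper54.normalizer_ne_top_of_isSimpleGroup X hX1 hXtop
  rcases eq_top_or_exists_le_coatom (normalizer (X : Set G)) with h | ⟨L, hL, hNL⟩
  · exact absurd h hNtop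
  have hne : sigmaCore H ⊓ centralizer (X : Set G) ≠ ⊥ := by
    intro h
    apply hY1
    rw [eq_bot_iff, ← h]
    exact le_inf hYσ hYX
  have hXL : X ≤ sigmaCore L :=
    inp.l6 H hH q hq hqκ.2.2.1 (prankLE_one_of_kappa' hqκ) X hXH hX hne L hL hNL
  have hqL : q ∈ sigma L :=
    isPi_sigmaCore L q hq (by rw [← hX]; exact Subgroup.card_dvd_of_le hXL)
  obtain ⟨g, hg⟩ := inp.sp M L hM hL ⟨q, hqM, hqL⟩
  have hXq : IsPGroup q X := IsPGroup.of_card (n := 1) (by rw [hX, pow_one])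
  have hconj : X.map (MulAut.conj g⁻¹).toMonoidHom ≤ M := by
    rintro _ ⟨x, hx, rfl⟩
    have hxL : x ∈ L := hNL (Subgroup.le_normalizer hx)
    rw [hg] at hxL
    obtain ⟨m, hm, rfl⟩ := hxL
    simp only [MulEquiv.coe_toMonoidHom, MulAut.conj_apply, inv_inv]
    have h1 : g⁻¹ * (g * m * g⁻¹) * g = m := by group
    rw [h1]
    exact hm
  obtain ⟨m, hm, c, hc, hgmc⟩ := (rows.r1404 M hM q hqM X hXq hX1 hXM).1 g⁻¹ hconj
  have hcL : c ∈ L := hNL (Subgroup.centralizer_le_normalizer _ hc)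
  have hgeq : g = c⁻¹ * m⁻¹ := by
    have h1 : g⁻¹⁻¹ = (m * c)⁻¹ := by rw [hgmc]
    rw [inv_inv, mul_inv_rev] at h1
    exact h1
  have hML : M ≤ L := by
    intro x hx
    have h1 : c⁻¹ * x * c ∈ L := by
      rw [hg]
      refine ⟨m * x * m⁻¹, M.mul_mem (M.mul_mem hm hx) (M.inv_mem hm), ?_⟩
      simp only [MulEquiv.coe_toMonoidHom, MulAut.conj_apply]
      rw [hgeq]
      group
    have h2 : x = c * (c⁻¹ * x * c) * c⁻¹ := by group
    rw [h2]
    exact L.mul_mem (L.mul_mem hcL h1) (L.inv_mem hcL)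
  have hLM : L = M := (hM.le_iff_eq hL.1).mp hML
  rw [← hLM]
  exact hNL

/-- (b2): if `Z ≤ T` of order `t ∈ τ₁(H)` centralizes `Y ≤ H_σ` of order `s ∈ σ(H)`, and the abelian
`t`-group `T` normalizes `Y`, then `T` centralizes `Y`. -/
theorem le_centralizer_of_centralizes (hG : IsMinSimpleOddOrder G) (rows : Rows G) (inp : Inputs G)
    {H Y Z T : Subgroup G} {s t : ℕ} (hH : IsCoatom H) (ht : t.Prime) (htH : t ∈ tau1 H)
    (hsH : s ∈ sigma H) (hsp : s.Prime) (hY : Nat.card Y = s) (hYσ : Y ≤ sigmaCore H)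
    (hZH : Z ≤ H) (hZ : Nat.card Z = t) (hZT : Z ≤ T) (hTt : IsPGroup t T)
    (hTab : ∀ a ∈ T, ∀ b ∈ T, a * b = b * a) (hTY : T ≤ normalizer (Y : Set G))
    (hZY : Z ≤ centralizer (Y : Set G)) : T ≤ centralizer (Y : Set G) := by
  haveI : Fact t.Prime := ⟨ht⟩
  haveI : IsSimpleGroup G := hG.2.1
  have hY1 : Y ≠ ⊥ := by
    intro h
    rw [h, Subgroup.card_bot] at hY
    exact hsp.one_lt.ne hY
  have hZ1 : Z ≠ ⊥ := by
    intro h
    rw [h, Subgroup.card_bot] at hZ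
    exact ht.one_lt.ne hZ
  have hZtop : Z ≠ ⊤ := by
    intro h
    apply hH.1
    rw [eq_top_iff, ← h]
    exact hZH
  have hNtop := Cfsg.Agent.Helper54.normalizer_ne_top_of_isSimpleGroup Z hZ1 hZtop
  rcases eq_top_or_exists_le_coatom (normalizer (Z : Set G)) with h | ⟨L, hL, hNL⟩
  · exact absurd h hNtop
  have hYZ : Y ≤ centralizer (Z : Set G) := Subgroup.le_centralizer_iff.mp hZY
  have hne : sigmaCore H ⊓ centralizer (Z : Set G) ≠ ⊥ := by
    intro h
    apply hY1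
    rw [eq_bot_iff, ← h]
    exact le_inf hYσ hYZ
  have hZL : Z ≤ sigmaCore L :=
    inp.l6 H hH t ht htH.2.1 htH.2.2.2.2 Z hZH hZ hne L hL hNL
  have htL : t ∈ sigma L :=
    isPi_sigmaCore L t ht (by rw [← hZ]; exact Subgroup.card_dvd_of_le hZL)
  have hCN : centralizer (Z : Set G) ≤ L :=
    (Subgroup.centralizer_le_normalizer _).trans hNL
  have hTL : T ≤ L := by
    intro x hx
    apply hCN
    rw [Subgroup.mem_centralizer_iff]
    intro z hz
    exact hTab z (hZT hz) x hx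
  have hTLσ : T ≤ sigmaCore L :=
    le_sigmaCore_of_isPGroup ht (rows.r1350 L hL).1 htL hTL hTt
  have hYL : Y ≤ L := hYZ.trans hCN
  by_contra hTY'
  have h1 : ⁅Y, T⁆ ≤ Y := commutator_le_of_le_normalizer' hTY
  have hLσN : L ≤ normalizer (sigmaCore L : Set G) := le_normalizer_sigmaCore L
  have h2 : ⁅Y, T⁆ ≤ sigmaCore L := by
    rw [Subgroup.commutator_le]
    intro y hy x hx
    rw [commutatorElement_def]
    have h3 : y * x * y⁻¹ ∈ sigmaCore L :=
      (mem_normalizer_iff.mp (hLσN (hYL hy)) x).mp (hTLσ hx)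
    exact (sigmaCore L).mul_mem h3 ((sigmaCore L).inv_mem (hTLσ hx))
  have h3 : ⁅Y, T⁆ ≠ ⊥ := by
    intro h
    rw [Subgroup.commutator_eq_bot_iff_le_centralizer] at h
    exact hTY' (Subgroup.le_centralizer_iff.mp h)
  have h4 : Y ⊓ sigmaCore L ≠ ⊥ := by
    intro h
    apply h3
    rw [eq_bot_iff, ← h]
    exact le_inf h1 h2
  have hYp : (Nat.card Y).Prime := by rw [hY]; exact hsp
  have hYLσ : Y ≤ sigmaCore L := le_of_inf_ne_bot_of_prime_card hYp h4
  have hsL : s ∈ sigma L :=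
    isPi_sigmaCore L s hsp (by rw [← hY]; exact Subgroup.card_dvd_of_le hYLσ)
  obtain ⟨g, hg⟩ := inp.sp H L hH hL ⟨s, hsH, hsL⟩
  rw [hg, Cfsg.Agent.Helper97.BG144.sigma_map_conj] at htL
  exact htH.2.1 htL

omit [Finite G] in
/-- `E` is also a complement of `M_σ ∩ H` in `M ∩ H` when `E ≤ H`. -/
theorem isComplIn_inf {M E H : Subgroup G} (hE : IsComplIn E (sigmaCore M) M) (hEH : E ≤ H) :
    IsComplIn E (sigmaCore M ⊓ H) (M ⊓ H) := by
  obtain ⟨hEM, hMsM, hdisj, hmul⟩ := hE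
  refine ⟨le_inf hEM hEH, inf_le_inf_right _ hMsM, ?_, ?_⟩
  · rw [eq_bot_iff, ← hdisj]
    exact le_inf inf_le_left (inf_le_right.trans inf_le_left)
  · intro x hx
    obtain ⟨hxM, hxH⟩ := Subgroup.mem_inf.mp hx
    obtain ⟨a, ha, b, hb, rfl⟩ := hmul x hxM
    refine ⟨a, ha, b, Subgroup.mem_inf.mpr ⟨hb, ?_⟩, rfl⟩
    have h1 : b = a⁻¹ * (a * b) := by group
    rw [h1]
    exact H.mul_mem (H.inv_mem (hEH ha)) hxH

/-- the core of STEP A: the Sylow `t`-subgroup of `E₁` centralizes `Y`. -/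
theorem stepA_core (hG : IsMinSimpleOddOrder G) (rows : Rows G) (inp : Inputs G)
    {M E Y H E1 E3 : Subgroup G} {s : ℕ} (cfg : Cfg M E Y s) (es : EStruct M E E1 E3)
    (hs : HSide M E Y H s) (hEY : E ≤ normalizer (Y : Set G)) (hYE3 : Y ≤ E3)
    (f2 : ∀ x ∈ E1, x ≠ 1 → sigmaCore M ⊓ centralizer ({x} : Set G) = sigmaCore M ⊓ centralizer (E1 : Set G))
    (f3 : ∀ q : ℕ, q.Prime → q ∣ Nat.card ↥(sigmaCore M ⊓ centralizer (Y : Set G)) →
      q ∈ kappa H ∧ ∀ Q : Subgroup G, Q ≤ sigmaCore M ⊓ centralizer (Y : Set G) → IsPGroup q Q → IsCyclic Q)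
    (f4 : ∀ (t : ℕ) [Fact t.Prime] (T : Subgroup G), IsPGroup t T → T ≤ E → t ∉ tau1 H →
      T ≤ centralizer ((sigmaCore M ⊓ centralizer (Y : Set G) : Subgroup G) : Set G))
    (hcon : ¬ E1 ≤ centralizer ((sigmaCore M ⊓ centralizer (Y : Set G) : Subgroup G) : Set G))
    {t : ℕ} (ht : t.Prime) (htE1 : t ∣ Nat.card E1) :
    ∃ T : Subgroup G, T ≤ E1 ∧ Nat.card T = t ^ (Nat.card E1).factorization t ∧
      T ≤ centralizer (Y : Set G) := by
  classical
  haveI : Fact t.Prime := ⟨ht⟩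
  have hM := cfg.hM
  have hE := cfg.hE
  have hEM : E ≤ M := hE.1
  have hMsM : sigmaCore M ≤ M := sigmaCore_le M
  have hMsN : M ≤ normalizer (sigmaCore M : Set G) := le_normalizer_sigmaCore M
  have hsp : s.Prime := cfg.hs.1
  haveI : Fact s.Prime := ⟨hsp⟩
  have hE1E : E1 ≤ E := es.hE1.1
  have hE3E : E3 ≤ E := es.hE3.1
  have hY1 : Y ≠ ⊥ := by
    intro h
    have h1 := cfg.hY
    rw [h, Subgroup.card_bot] at h1
    exact hsp.one_lt.ne h1
  -- notation
  set C : Subgroup G := sigmaCore M ⊓ centralizer (Y : Set G) with hCdef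
  have hCMs : C ≤ sigmaCore M := inf_le_left
  have hCY : C ≤ centralizer (Y : Set G) := inf_le_right
  have hCH : C ≤ H := by
    rw [hCdef, ← hs.hMsH]
    exact inf_le_right
  -- every nontrivial element of `E1` moves `C`
  have hmoveall : ∀ x ∈ E1, x ≠ 1 → x ∉ centralizer (C : Set G) := by
    intro x hx hx1 hxC
    apply hcon
    have h1 : C ≤ sigmaCore M ⊓ centralizer ({x} : Set G) := by
      refine le_inf hCMs ?_
      intro c hc
      rw [Subgroup.mem_centralizer_iff]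
      intro y hy
      rw [Set.mem_singleton_iff] at hy
      subst hy
      exact (Subgroup.mem_centralizer_iff.mp hxC c hc).symm
    rw [f2 x hx hx1] at h1
    exact Subgroup.le_centralizer_iff.mp (h1.trans inf_le_right)
  -- the Sylow `t`-subgroup of `E1`
  obtain ⟨P⟩ : Nonempty (Sylow t E1) := inferInstance
  set T : Subgroup G := (P : Subgroup E1).map E1.subtype with hTdef
  have hTE1 : T ≤ E1 := Subgroup.map_subtype_le _
  have hTcard : Nat.card T = t ^ (Nat.card E1).factorization t :=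
    Cfsg.Agent.Helper52.card_sylow_map t E1 P
  have hTt : IsPGroup t T := IsPGroup.of_card hTcard
  have hfac : (Nat.card E1).factorization t ≠ 0 := by
    have h1 : 0 < (Nat.card E1).factorization t :=
      ht.factorization_pos_of_dvd Nat.card_pos.ne' htE1
    exact h1.ne'
  have htT : t ∣ Nat.card T := by
    rw [hTcard]
    exact dvd_pow_self t hfac
  refine ⟨T, hTE1, hTcard, ?_⟩
  have hTE : T ≤ E := hTE1.trans hE1E
  have hTab : ∀ a ∈ T, ∀ b ∈ T, a * b = b * a :=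
    fun a ha b hb => commute_of_isCyclic es.cyc1 (hTE1 ha) (hTE1 hb)
  -- `Z`, the subgroup of order `t`
  obtain ⟨z, hz⟩ := exists_prime_orderOf_dvd_card' t htT
  have hzT : (z : G) ∈ T := z.2
  have hzo : orderOf (z : G) = t := by rw [Subgroup.orderOf_coe, hz]
  have hz1 : (z : G) ≠ 1 := by
    intro h
    rw [h, orderOf_one] at hzo
    exact ht.one_lt.ne hzo
  set Z : Subgroup G := Subgroup.zpowers (z : G) with hZdef
  have hZT : Z ≤ T := by
    rw [hZdef, Subgroup.zpowers_le]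
    exact hzT
  have hZcard : Nat.card Z = t := by rw [hZdef, Nat.card_zpowers, hzo]
  have hZE : Z ≤ E := hZT.trans hTE
  -- `t ∈ τ₁(M)` and `t ∈ τ₁(H)`
  have htM : t ∈ tau1 M := es.hE1.2.1 t ht htE1
  have htH : t ∈ tau1 H := by
    by_contra hnot
    have h1 := f4 t T hTt hTE hnot
    exact hmoveall (z : G) (hTE1 hzT) hz1 (h1 hzT)
  -- `Z` moves `C`
  have hZmove : ¬ Z ≤ centralizer (C : Set G) := by
    intro h
    exact hmoveall (z : G) (hTE1 hzT) hz1 (h (Subgroup.mem_zpowers _))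
  -- `E` normalizes `C`
  have hEC : E ≤ normalizer (C : Set G) := by
    intro e he
    exact mem_normalizer_inf' (hMsN (hEM he)) (normalizer_le_normalizer_centralizer' Y (hEY he))
  have hZC : Z ≤ normalizer (C : Set G) := hZE.trans hEC
  have htC : ¬ t ∣ Nat.card C := by
    intro h
    exact htM.2.1 (isPi_sigmaCore M t ht (h.trans (Subgroup.card_dvd_of_le hCMs)))
  have hcopZC : (Nat.card Z).Coprime (Nat.card C) := by
    rw [hZcard]
    exact (Nat.Prime.coprime_iff_not_dvd ht).mpr htC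
  have hCtop : C ≠ ⊤ := by
    intro h
    apply hM.1
    rw [eq_top_iff, ← h]
    exact hCMs.trans hMsM
  have hsolv : Group.IsSolvable Z ∨ Group.IsSolvable C := Or.inr (hG.2.2.2 C hCtop)
  obtain ⟨q, hq, Cq, hCqC, hCqcard, hZCq, hZCqmove⟩ :=
    exists_moved_invariant_sylow hZC hcopZC hsolv hZmove
  haveI : Fact q.Prime := ⟨hq⟩
  have hCqq : IsPGroup q Cq := IsPGroup.of_card hCqcard
  have hCq1 : Cq ≠ ⊥ := by
    intro h
    apply hZCqmove
    rw [h]
    intro x _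
    rw [Subgroup.mem_centralizer_iff]
    intro y hy
    rw [Subgroup.coe_bot, Set.mem_singleton_iff] at hy
    rw [hy, one_mul, mul_one]
  have hqCq : q ∣ Nat.card Cq := by
    obtain ⟨k, hk⟩ := IsPGroup.iff_card.mp hCqq
    have hk0 : k ≠ 0 := by
      rintro rfl
      rw [pow_zero] at hk
      exact hCq1 (Subgroup.card_eq_one.mp hk)
    rw [hk]
    exact dvd_pow_self q hk0
  have hqC : q ∣ Nat.card C := hqCq.trans (Subgroup.card_dvd_of_le hCqC)
  obtain ⟨hqκ, hcycall⟩ := f3 q hq hqC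
  have hCqc : IsCyclic Cq := hcycall Cq hCqC hCqq
  have hqM : q ∈ sigma M :=
    isPi_sigmaCore M q hq (hqC.trans (Subgroup.card_dvd_of_le hCMs))
  have hqt : q ≠ t := by
    intro h
    rw [h] at hqM
    exact htM.2.1 hqM
  have hst : s ≠ t := by
    intro h
    have h1 := cfg.hs.2.2.1
    rw [h] at h1
    exact htM.2.2.2.1 h1
  have hcopCqZ : (Nat.card Cq).Coprime (Nat.card Z) := by
    obtain ⟨k, hk⟩ := IsPGroup.iff_card.mp hCqq
    rw [hk, hZcard]
    exact Nat.Coprime.pow_left k ((Nat.coprime_primes hq ht).mpr hqt)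
  have hfpfCq : ∀ x ∈ Cq, (∀ y ∈ Z, y * x = x * y) → x = 1 :=
    fpf_of_cyclic hCqc hCqq hZCq hcopCqZ hZCqmove
  -- (A6)
  obtain ⟨xq, hxq⟩ := exists_prime_orderOf_dvd_card' q hqCq
  set Xq : Subgroup G := Subgroup.zpowers (xq : G) with hXqdef
  have hXqCq : Xq ≤ Cq := by
    rw [hXqdef, Subgroup.zpowers_le]
    exact xq.2
  have hXqcard : Nat.card Xq = q := by
    rw [hXqdef, Nat.card_zpowers, Subgroup.orderOf_coe, hxq]
  have hXqC : Xq ≤ C := hXqCq.trans hCqC
  have hNXq : normalizer (Xq : Set G) ≤ M :=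
    normalizer_le_of_kappa hG rows inp hM hs.hH hq hqκ hqM (hXqC.trans (hCMs.trans hMsM))
      (hXqC.trans hCH) hXqcard hY1 hs.hYσ
      (Subgroup.le_centralizer_iff.mp (hXqC.trans hCY))
  have hNCq : normalizer (Cq : Set G) ≤ M :=
    (normalizer_le_normalizer_of_le_cyclic' hCqc hXqCq).trans hNXq
  -- (A7)
  obtain ⟨PW, hPW⟩ := (IsPGroup.of_card (n := 1) (by rw [pow_one]; exact
      (Nat.card_congr (Subgroup.subgroupOfEquivOfLe hYE3).toEquiv).trans cfg.hY) :
      IsPGroup s (Y.subgroupOf E3)).exists_le_sylow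
  set W : Subgroup G := (PW : Subgroup E3).map E3.subtype with hWdef
  have hWE3 : W ≤ E3 := Subgroup.map_subtype_le _
  have hYW : Y ≤ W := by
    intro y hy
    exact ⟨⟨y, hYE3 hy⟩, hPW (Subgroup.mem_subgroupOf.mpr hy), rfl⟩
  have hWcard0 : Nat.card W = s ^ (Nat.card E3).factorization s :=
    Cfsg.Agent.Helper52.card_sylow_map s E3 PW
  have hWs : IsPGroup s W := IsPGroup.of_card hWcard0
  haveI := es.cyc3
  have hWc : IsCyclic W := Subgroup.isCyclic_of_le hWE3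
  have hEW : E ≤ normalizer (W : Set G) :=
    es.norm3.trans (normalizer_le_normalizer_of_le_cyclic' es.cyc3 hWE3)
  have hNW : normalizer (W : Set G) ≤ H :=
    (normalizer_le_normalizer_of_le_cyclic' hWc hYW).trans hs.hNH
  -- cardinalities
  have hcompl := isComplIn_inf hE hs.hEH
  rw [hs.hMsH] at hcompl
  have hcardMH : Nat.card (M ⊓ H : Subgroup G) = Nat.card E * Nat.card C :=
    card_eq_mul_of_isComplIn hcompl
  have hcardM : Nat.card M = Nat.card E * Nat.card (sigmaCore M) := card_eq_mul_of_isComplIn hE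
  have hE0 : Nat.card E ≠ 0 := Nat.card_pos.ne'
  have hC0 : Nat.card C ≠ 0 := Nat.card_pos.ne'
  have hsC : ¬ s ∣ Nat.card C := by
    intro h
    exact cfg.hs.2.1 (isPi_sigmaCore M s hsp (h.trans (Subgroup.card_dvd_of_le hCMs)))
  have hErel : Nat.card E = (sigmaCore M).relIndex M := by
    have h1 := Cfsg.Agent.Helper52.card_mul_relIndex_eq hMsM
    rw [hcardM, mul_comm (Nat.card E)] at h1
    exact (Nat.eq_of_mul_eq_mul_left Nat.card_pos h1).symm
  have hqE : ¬ q ∣ Nat.card E := by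
    rw [hErel]
    exact (rows.r1350 M hM).1.2.2 q hq hqM
  have hWcard : Nat.card W = sylCard s (M ⊓ H) := by
    unfold Cfsg.Agent.Helper52.sylCard
    rw [hWcard0, hcardMH, pow_factorization_of_mul hE0 hC0 hsC]
    have h1 := Cfsg.Agent.Helper52.card_mul_relIndex_eq hE3E
    have hE30 : Nat.card E3 ≠ 0 := Nat.card_pos.ne'
    have hrel0 : E3.relIndex E ≠ 0 := by
      intro h
      rw [h, mul_zero] at h1
      exact hE0 h1.symm
    rw [← h1, pow_factorization_of_mul hE30 hrel0 (es.hE3.2.2 s hsp cfg.hs)]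
  have hCqcard' : Nat.card Cq = sylCard q (M ⊓ H) := by
    rw [hCqcard]
    unfold Cfsg.Agent.Helper52.sylCard
    rw [hcardMH, mul_comm, pow_factorization_of_mul hC0 hE0 hqE]
  -- the two cases
  by_cases hZY : Z ≤ centralizer (Y : Set G)
  · -- (b2)
    exact le_centralizer_of_centralizes hG rows inp hs.hH ht htH hs.hsH hsp cfg.hY hs.hYσ
      (hZE.trans hs.hEH) hZcard hZT hTt hTab (hTE.trans hEY) hZY
  · -- (b1)
    exfalso
    have hfpfW : ∀ x ∈ W, (∀ y ∈ Z, y * x = x * y) → x = 1 :=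
      fpf_of_cyclic_of_moved hWc hWs hYW cfg.hY hZY
    have hZMH : Z ≤ M ⊓ H := le_inf (hZE.trans hEM) (hZE.trans hs.hEH)
    have hWMH : W ≤ M ⊓ H := le_inf ((hWE3.trans hE3E).trans hEM) ((hWE3.trans hE3E).trans hs.hEH)
    have hCqMH : Cq ≤ M ⊓ H := le_inf ((hCqC.trans hCMs).trans hMsM) (hCqC.trans hCH)
    exact inp.asym (M := M) (H := H) (Q := Z) (W := W) (W' := Cq) (q := t) (w := s) (w' := q)
      hM hs.hH hs.hnc htM htH hZcard hZMH hst hqt hWs hWMH hWcard (hZE.trans hEW) hfpfW hNW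
      hCqq hCqMH hCqcard' hZCq hfpfCq hNCq

/-- **(C6) STEP A**: `E₁` centralizes `C`. -/
theorem stepA (hG : IsMinSimpleOddOrder G) (rows : Rows G) (inp : Inputs G)
    {M E Y H E1 E3 : Subgroup G} {s : ℕ} (cfg : Cfg M E Y s) (es : EStruct M E E1 E3)
    (hs : HSide M E Y H s) (hEY : E ≤ normalizer (Y : Set G)) (hYE3 : Y ≤ E3)
    (f2 : ∀ x ∈ E1, x ≠ 1 → sigmaCore M ⊓ centralizer ({x} : Set G) = sigmaCore M ⊓ centralizer (E1 : Set G))
    (f3 : ∀ q : ℕ, q.Prime → q ∣ Nat.card ↥(sigmaCore M ⊓ centralizer (Y : Set G)) →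
      q ∈ kappa H ∧ ∀ Q : Subgroup G, Q ≤ sigmaCore M ⊓ centralizer (Y : Set G) → IsPGroup q Q → IsCyclic Q)
    (f4 : ∀ (t : ℕ) [Fact t.Prime] (T : Subgroup G), IsPGroup t T → T ≤ E → t ∉ tau1 H →
      T ≤ centralizer ((sigmaCore M ⊓ centralizer (Y : Set G) : Subgroup G) : Set G)) :
    E1 ≤ centralizer ((sigmaCore M ⊓ centralizer (Y : Set G) : Subgroup G) : Set G) := by
  by_contra hcon
  have hE1Y : E1 ≤ centralizer (Y : Set G) :=
    le_of_forall_sylow_le' (fun t ht htE1 =>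
      stepA_core hG rows inp cfg es hs hEY hYE3 f2 f3 f4 hcon ht htE1)
  have h1 : Y ≤ E3 ⊓ centralizer (E1 : Set G) :=
    le_inf hYE3 (Subgroup.le_centralizer_iff.mp hE1Y)
  rw [es.fpf, le_bot_iff] at h1
  have h2 := cfg.hY
  rw [h1, Subgroup.card_bot] at h2
  exact cfg.hs.1.one_lt.ne h2

end Cfsg.Agent.Helper57.BGCrux
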