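import Mathlib
import Cfsg.Agent.Lib.Helper62.SUO0
import Cfsg.Agent.Lib.Helper13.SUOEnd

/-!
# SUO (E5), (E6) in hypothesis form for helper62's server (S2282)

`h57_top_of_Q` is (E5) `top_of_Q` (it is helper13's `SUOEnd.top_of_Qe`), and `h57_core_top_of`
is (E6) `core_top` with the conclusion of (M9) `Q_le` as an explicit hypothesis.
-/

set_option autoImplicit false
set_option linter.unusedSectionVars false
set_option linter.unusedVariables false
set_option quotPrecheck false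

namespace Cfsg.Agent.Helper57.SUO

open Matrix Cfsg Cfsg.Agent.Helper13 Cfsg.Agent.Helper87.PsuA Cfsg.Agent.Helper62.SUO

section E
variable {F : Type*} [Field F] [Fintype F] {q n : ℕ} (hF : Fintype.card F = q ^ 2)
  {Hs : Subgroup ↥(Cfsg.SU n F q)}

local notation "V" => Fin n → F
local notation "G" => ↥(Cfsg.SU n F q)
local notation "H" => Cfsg.hermForm n F q

include hF

/-- (E5) in the shape of the server: helper13's general endgame -/
theorem h57_top_of_Q (hn : 3 ≤ n) (h32 : ¬(n = 3 ∧ q = 2)) {e0 : V} (h00 : H e0 e0 = 0)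
    (hQ : ∀ (w : V) (a : F), H e0 w = 0 → a + a ^ q + H w w = 0 → eich hF e0 w a ∈ Hs)
    {t : G} (ht : t ∈ Hs) (hte : H (actv t e0) e0 ≠ 0) : Hs = ⊤ :=
  Cfsg.Agent.Helper13.SUOEnd.top_of_Qe hF hn h32 Hs e0 h00 hQ t ht hte

/-- (E6) with the conclusion of (M9) as a hypothesis: `t = l * l` moves `e0` off `e0^⊥` -/
theorem h57_core_top_of (hn : 3 ≤ n) (h32 : ¬(n = 3 ∧ q = 2)) {u l : G} {e0 e1 p : V} {c γ : F}
    (hyp : Hyp hF Hs u l e0 e1 p c γ)
    (hQ : ∀ (w : V) (a : F), H e0 w = 0 → a + a ^ q + H w w = 0 → eich hF e0 w a ∈ Hs) :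
    Hs = ⊤ := by
  refine h57_top_of_Q hF hn h32 hyp.e0e0 hQ (Hs.mul_mem hyp.hl hyp.hl) ?_
  rw [actv_mul, hyp.le0]
  have h1 : H (actv l e1) (actv l p) = H e1 p := H_actv l e1 p
  rw [hyp.lp] at h1
  rw [h1, hyp.e1p]
  exact hyp.γ0

end E

end Cfsg.Agent.Helper57.SUO
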