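import Cfsg.Agent.Lib.Helper57.BG161B10

/-!
# (B11) of helper73's B–G Lemma 16.1 lemma server: `N_H(U) ⊄ M`
-/

set_option autoImplicit false

namespace Cfsg.Agent.Helper57.BG161

open Subgroup
open scoped commutatorElement Pointwise
open Cfsg.Agent.Helper73.BG161

variable {G : Type*} [Group G] [Finite G]

/-- `K ∩ H_σ = 1`. -/
theorem K_inf_sigmaCore_eq_bot {M K U Mstar H : Subgroup G} (b : Base M K U Mstar H) :
    K ⊓ Cfsg.sigmaCore H = ⊥ := by
  apply inf_eq_bot_of_primes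
  intro p hp h1 h2
  exact b.hKσH p hp h1 (Cfsg.Agent.Helper55.BGB.isPi_sigmaCore H p hp h2)

/-- `H_σ ∩ U K = U`. -/
theorem sigmaCore_inf_sup_le {M K U Mstar H : Subgroup G} (b : Base M K U Mstar H)
    (hU : U ≤ Cfsg.sigmaCore H) : Cfsg.sigmaCore H ⊓ (U ⊔ K) ≤ U := by
  intro x hx
  obtain ⟨hxs, hxUK⟩ := Subgroup.mem_inf.mp hx
  rw [sup_comm] at hxUK
  have hx' : x ∈ ((K ⊔ U : Subgroup G) : Set G) := hxUK
  rw [Subgroup.coe_mul_of_left_le_normalizer_right K U b.hKU.normal] at hx'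
  obtain ⟨k, hk, u, hu, rfl⟩ := Set.mem_mul.mp hx'
  have hk' : k ∈ K := hk
  have hu' : u ∈ U := hu
  have hkHs : k ∈ Cfsg.sigmaCore H := by
    have h1 : k = (k * u) * u⁻¹ := by group
    rw [h1]
    exact mul_mem hxs (inv_mem (hU hu'))
  have hk1 : k = 1 := by
    have h2 : k ∈ K ⊓ Cfsg.sigmaCore H := Subgroup.mem_inf.mpr ⟨hk', hkHs⟩
    rw [K_inf_sigmaCore_eq_bot b] at h2
    exact Subgroup.mem_bot.mp h2
  rw [hk1, one_mul]
  exact hu'

/-- (B11) `N_H(U) ⊄ M`. -/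
theorem not_normalizer_le (f : Facts G) {M K U Mstar H : Subgroup G} (b : Base M K U Mstar H)
    (hU : U ≤ Cfsg.sigmaCore H) (hMH : M ⊓ H = U ⊔ K) :
    ¬ H ⊓ normalizer (U : Set G) ≤ M := by
  intro hle
  have hHsH : Cfsg.sigmaCore H ≤ H := Cfsg.Agent.Helper55.BGB.sigmaCore_le H
  have hHsN : H ≤ normalizer (Cfsg.sigmaCore H : Set G) :=
    Cfsg.Agent.Helper55.BGB.le_normalizer_sigmaCore H
  -- `N_{H_σ}(U) ≤ U`
  have h1 : Cfsg.sigmaCore H ⊓ normalizer (U : Set G) ≤ U := by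
    intro x hx
    obtain ⟨hxs, hxn⟩ := Subgroup.mem_inf.mp hx
    have hxM : x ∈ M := hle (Subgroup.mem_inf.mpr ⟨hHsH hxs, hxn⟩)
    have hxUK : x ∈ U ⊔ K := by
      rw [← hMH]
      exact Subgroup.mem_inf.mpr ⟨hxM, hHsH hxs⟩
    exact sigmaCore_inf_sup_le b hU (Subgroup.mem_inf.mpr ⟨hxs, hxUK⟩)
  -- normalizer condition in the nilpotent group `H_σ`
  have hUeq : U = Cfsg.sigmaCore H := by
    by_contra hne
    have hnil : Group.IsNilpotent (Cfsg.sigmaCore H) := b.hHnil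
    have hnc : NormalizerCondition (Cfsg.sigmaCore H) := Group.normalizerCondition_of_isNilpotent
    have hlt : U.subgroupOf (Cfsg.sigmaCore H) < ⊤ := by
      rw [lt_top_iff_ne_top]
      intro h
      rw [Subgroup.subgroupOf_eq_top] at h
      exact hne (le_antisymm hU h)
    have h2 := hnc _ hlt
    rw [← Subgroup.subgroupOf_normalizer_eq hU] at h2
    have h3 : (normalizer (U : Set G)).subgroupOf (Cfsg.sigmaCore H) ≤
        U.subgroupOf (Cfsg.sigmaCore H) := by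
      intro x hx
      rw [Subgroup.mem_subgroupOf] at hx ⊢
      exact h1 (Subgroup.mem_inf.mpr ⟨x.2, hx⟩)
    exact absurd h2 (not_lt_of_ge h3)
  have hHN : H ≤ normalizer (U : Set G) := by
    rw [hUeq]
    exact hHsN
  have hHM : H ≤ M := fun x hx => hle (Subgroup.mem_inf.mpr ⟨hx, hHN hx⟩)
  have hEq : H = M := by
    rcases eq_or_lt_of_le hHM with h | h
    · exact h
    · exact absurd (b.hH.2 M h) b.hM.1
  apply b.hHM 1
  rw [hEq]
  ext x
  simp

end Cfsg.Agent.Helper57.BG161
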