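import Mathlib
import Cfsg.Agent.Lib.Helper62.SLN0
import Cfsg.Agent.Lib.Helper26.SLN_R
import Cfsg.Agent.Lib.Helper60.SLN_S1
import Cfsg.Agent.Lib.Helper66.SLN_G1
import Cfsg.Agent.Lib.Helper78.SLN_G11

/-!
# SLN (K1a) for helper62's lemma server (S2332): `Q` acts trivially on the weight lines `F e_j`

`h57_k1_core` : a commutator of two elements of the Levi factor `SL κ` fixing a weight `w ≠ 0`
acts trivially on the (one-dimensional) weight space of `w` (R4 + S1 + G2).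

`k1a`, name and statement verbatim from `tools/sln_sigs_helper62.lean.txt` (core + G11).
-/

set_option autoImplicit false

namespace Cfsg.Agent.Helper57.SLN

open Matrix Module Cfsg.Agent.Helper93.U2 Cfsg.Agent.Helper62.SLN

section SLN

variable {F : Type*} [Field F] [Fintype F] [DecidableEq F] {κ : Type} [Fintype κ] [DecidableEq κ]
  {V : Type*} [AddCommGroup V] [Module ℂ V] [FiniteDimensional ℂ V]
  (ψ : AddChar F ℂ) (pr : Pairing (κ → F)) (hpr : ∀ w u, pr.β w u = ψ (w ⬝ᵥ u))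
  (ρ : Representation ℂ (SpecialLinearGroup (Unit ⊕ κ) F) V)

omit [Fintype F] [DecidableEq F] [FiniteDimensional ℂ V] in
theorem h57_lEl_inv (A : SpecialLinearGroup κ F) :
    lEl (F := F) A⁻¹ = (lEl A)⁻¹ := by
  apply eq_inv_of_mul_eq_one_right
  rw [← Cfsg.Agent.Helper66.SLN.lEl_mul, mul_inv_cancel, Cfsg.Agent.Helper66.SLN.lEl_one]

include hpr

omit [Fintype F] [DecidableEq F] in
/-- the common core of K1a and K1b: a commutator of two elements of `SL κ` fixing the weight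
`w ≠ 0` acts trivially on the line `wt w` -/
theorem h57_k1_core (hd1 : ∀ w : κ → F, w ≠ 0 → finrank ℂ (wt pr ρ w) = 1)
    (w : κ → F) (hw : w ≠ 0) (X Y : SpecialLinearGroup κ F) (hX : X.1 *ᵥ w = w)
    (hY : Y.1 *ᵥ w = w) (v : V) (hv : v ∈ wt pr ρ w) :
    ρ (lEl (X * Y * X⁻¹ * Y⁻¹)) v = v := by
  rw [Cfsg.Agent.Helper66.SLN.lEl_mul, Cfsg.Agent.Helper66.SLN.lEl_mul,
    Cfsg.Agent.Helper66.SLN.lEl_mul, h57_lEl_inv, h57_lEl_inv]
  refine Cfsg.Agent.Helper26.SLN.comm_fix_line ρ (wt pr ρ w) (le_of_eq (hd1 w hw)) (lEl X) (lEl Y)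
    ?_ ?_ v hv
  · intro v' hv'
    have h := Cfsg.Agent.Helper60.SLN.map_wt_lEl ψ pr hpr ρ X w v' hv'
    rwa [hX] at h
  · intro v' hv'
    have h := Cfsg.Agent.Helper60.SLN.map_wt_lEl ψ pr hpr ρ Y w v' hv'
    rwa [hY] at h

omit [DecidableEq F] in
/-- piece K1a (R4 + S1 + G2 + G11), `n ≥ 4` -/
theorem k1a (hκ : 3 ≤ Fintype.card κ) (hd1 : ∀ w : κ → F, w ≠ 0 → finrank ℂ (wt pr ρ w) = 1)
    (j : κ) (a : F) (ha : a ≠ 0) (t : κ → F) (v : V) (hv : v ∈ wt pr ρ (a • Pi.single j 1)) :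
    ρ (qEl j t) v = v := by
  obtain ⟨X, Y, hX, hY, hXY⟩ := Cfsg.Agent.Helper78.SLN.tvEl_comm_fix_single (F := F) hκ j t
  have hw : a • (Pi.single j 1 : κ → F) ≠ 0 := by
    intro h
    have h1 := congrFun h j
    simp at h1
    exact ha h1
  have hX' : X.1 *ᵥ (a • (Pi.single j 1 : κ → F)) = a • Pi.single j 1 := by
    rw [Matrix.mulVec_smul, hX]
  have hY' : Y.1 *ᵥ (a • (Pi.single j 1 : κ → F)) = a • Pi.single j 1 := by
    rw [Matrix.mulVec_smul, hY]
  unfold qEl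
  rw [hXY]
  exact h57_k1_core ψ pr hpr ρ hd1 _ hw X Y hX' hY' v hv

end SLN

end Cfsg.Agent.Helper57.SLN
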