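import Mathlib
import Cfsg.Agent.Lib.Helper48.SympRep2

/-!
# (CRIT) of helper31's Shult–Gross server (S3793): the critical case for an element of
prime-power order acting on a group of symplectic type
-/

set_option autoImplicit false

namespace Cfsg.Agent.Helper57.SG

open Module
open Cfsg.Agent.Helper48.SympRep

/-- Burnside count for a permutation `σ` with `σ ^ P = 1` all of whose powers `σ ^ k`,
`0 < k < P`, fix only `x₀`. -/
lemma helper57_card_orbits {α : Type*} [Finite α] (σ : Equiv.Perm α) (P : ℕ) (hP : 0 < P)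
    (hσP : σ ^ P = 1) (x₀ : α) (h₀ : σ x₀ = x₀)
    (hfix : ∀ k, 0 < k → k < P → ∀ a, (σ ^ k) a = a → a = x₀) :
    Nat.card (MulAction.orbitRel.Quotient (Subgroup.zpowers σ) α) * P = Nat.card α + (P - 1) := by
  classical
  by_cases hsub : ∀ a : α, a = x₀
  · have h1 : Nat.card α = 1 := by
      rw [Nat.card_eq_one_iff_unique]
      exact ⟨⟨fun x y => (hsub x).trans (hsub y).symm⟩, ⟨x₀⟩⟩
    have h2 : Nat.card (MulAction.orbitRel.Quotient (Subgroup.zpowers σ) α) = 1 := by
      rw [Nat.card_eq_one_iff_unique]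
      refine ⟨⟨fun x y => ?_⟩, ⟨Quotient.mk'' x₀⟩⟩
      induction x using Quotient.inductionOn' with
      | h x =>
        induction y using Quotient.inductionOn' with
        | h y => rw [hsub x, hsub y]
    rw [h1, h2]
    omega
  push Not at hsub
  obtain ⟨a₁, ha₁⟩ := hsub
  have : Fintype α := Fintype.ofFinite α
  have : Fintype (Subgroup.zpowers σ) := Fintype.ofFinite _
  have : Fintype (MulAction.orbitRel.Quotient (Subgroup.zpowers σ) α) := Fintype.ofFinite _
  have hord : orderOf σ = P := by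
    have h1 : orderOf σ ∣ P := orderOf_dvd_of_pow_eq_one hσP
    have h2 : orderOf σ ≤ P := Nat.le_of_dvd hP h1
    have h3 : 0 < orderOf σ := orderOf_pos σ
    by_contra hne
    have h4 : orderOf σ < P := lt_of_le_of_ne h2 hne
    have h5 : (σ ^ orderOf σ) a₁ = a₁ := by rw [pow_orderOf_eq_one]; rfl
    exact ha₁ (hfix _ h3 h4 a₁ h5)
  have hcard : Fintype.card (Subgroup.zpowers σ) = P := by
    rw [← Nat.card_eq_fintype_card, Nat.card_zpowers, hord]
  have hB := MulAction.sum_card_fixedBy_eq_card_orbits_mul_card_group (Subgroup.zpowers σ) α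
  rw [hcard] at hB
  rw [Nat.card_eq_fintype_card, Nat.card_eq_fintype_card, ← hB]
  have hx₀ : ∀ τ' : Subgroup.zpowers σ, τ' • x₀ = x₀ := by
    intro τ'
    have hle : Subgroup.zpowers σ ≤ MulAction.stabilizer (Equiv.Perm α) x₀ := by
      rw [Subgroup.zpowers_le]
      exact h₀
    exact hle τ'.2
  have hterm : ∀ τ : Subgroup.zpowers σ, Fintype.card (MulAction.fixedBy α τ) =
      if τ = 1 then Fintype.card α else 1 := by
    intro τ
    split_ifs with hτ
    · subst hτ
      have : MulAction.fixedBy α (1 : Subgroup.zpowers σ) = Set.univ :=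
        MulAction.fixedBy_one_eq_univ _ _
      rw [Fintype.card_congr (Equiv.setCongr this)]
      exact Fintype.card_congr (Equiv.Set.univ α)
    · rw [Fintype.card_eq_one_iff]
      refine ⟨⟨x₀, hx₀ τ⟩, ?_⟩
      rintro ⟨x, hx⟩
      apply Subtype.ext
      show x = x₀
      obtain ⟨k, hk⟩ := Subgroup.mem_zpowers_iff.mp τ.2
      have hPz : (0 : ℤ) < (P : ℤ) := by exact_mod_cast hP
      have hk1 : 0 ≤ k % (P : ℤ) := Int.emod_nonneg _ hPz.ne'
      have hk2 : k % (P : ℤ) < (P : ℤ) := Int.emod_lt_of_pos _ hPz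
      have hk3 : σ ^ (k % (P : ℤ)).toNat = (τ : Equiv.Perm α) := by
        rw [← zpow_natCast, Int.toNat_of_nonneg hk1, ← hord, zpow_mod_orderOf, hk]
      have hk4 : 0 < (k % (P : ℤ)).toNat := by
        rcases Nat.eq_zero_or_pos (k % (P : ℤ)).toNat with h0 | h0
        · exfalso
          apply hτ
          apply Subtype.ext
          rw [← hk3, h0, pow_zero]
          rfl
        · exact h0
      have hk5 : (k % (P : ℤ)).toNat < P := by
        have : ((k % (P : ℤ)).toNat : ℤ) < (P : ℤ) := by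
          rw [Int.toNat_of_nonneg hk1]; exact hk2
        exact_mod_cast this
      apply hfix _ hk4 hk5 x
      rw [hk3]
      exact hx
  simp only [hterm]
  rw [Finset.sum_ite, Finset.sum_const, Finset.sum_const]
  have h1 : (Finset.univ.filter (fun τ : Subgroup.zpowers σ => τ = 1)).card = 1 := by
    rw [Finset.card_eq_one]
    exact ⟨1, by ext τ; simp⟩
  have h2 : (Finset.univ.filter (fun τ : Subgroup.zpowers σ => ¬ τ = 1)).card = P - 1 := by
    have := Finset.card_filter_add_card_filter_not (s := (Finset.univ : Finset (Subgroup.zpowers σ)))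
      (fun τ : Subgroup.zpowers σ => τ = 1)
    rw [h1, Finset.card_univ, hcard] at this
    omega
  rw [h1, h2]
  simp

/-- the arithmetic at the end of `sg_crit`. -/
lemma helper57_arith {d N P e c : ℕ} (hd : 1 < d) (hP : 0 < P) (hN : N * P = d * d + (P - 1))
    (h3 : d * d ≤ e * c) (he : e ≤ P - 1) (h2 : c ≤ N) (h4 : d ≤ c) : d + 1 = P := by
  obtain ⟨P', rfl⟩ : ∃ P', P = P' + 1 := ⟨P - 1, by omega⟩
  simp only [Nat.add_sub_cancel] at hN he
  have h5 : d * d ≤ P' * N := h3.trans (Nat.mul_le_mul he h2)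
  have h6 : d ≤ N := h4.trans h2
  -- `N ≤ P'`
  have h7 : N ≤ P' := by nlinarith
  have h8 : d ≤ P' := by nlinarith
  have h9 : P' ≤ d := by
    by_contra hlt
    push Not at hlt
    have h10 : d * (P' + 1) ≤ N * (P' + 1) := Nat.mul_le_mul_right _ h6
    nlinarith
  omega

/-- (CRIT) the critical case for an element of prime-power order: generalise
`Helper48.SympRep.card_quot_le` / `core2_K` from prime `r` to `P = p ^ n'` (semiregular action of
`⟨y⟩` on `Qs / S`, so `#orbits * P = |Qs/S| + (P - 1)`), and add the LOWER bound: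
`d ≤ dim centr (ψ y) ≤ #orbits * 1` (eigenbasis, `unitEnd b i i`; commutant = scalars by Schur) gives
`d P ≤ d² + P - 1`, i.e. `P ≤ d + 1`; the upper bound `|Qs/S| ≤ (P-1)²` and `|Qs/S| = d²`
(`card_eq_card_mul_sq` pattern) give `d ≤ P - 1`. Eigenvalue `1` does not occur by `hfix`, so the
eigenvalues lie in `(nthRootsFinset P 1).erase 1`. -/
theorem sg_crit {K : Type*} [Field K] [IsAlgClosed K] {M : Type*} [AddCommGroup M] [Module K M]
    [FiniteDimensional K M] {Γ : Type*} [Group Γ] (ψ : Γ →* Module.End K M) (Qs : Subgroup Γ)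
    [Finite Qs] (y : Γ) {p n' : ℕ} (hp : p.Prime) (hQK : (Nat.card Qs : K) ≠ 0)
    (hpK : (p : K) ≠ 0) (hy : y ^ p ^ n' = 1) (hyQ : ∀ u ∈ Qs, y * u * y⁻¹ ∈ Qs)
    (hirr : ∀ N : Submodule K M, (∀ u ∈ Qs, ∀ v ∈ N, ψ u v ∈ N) → N = ⊥ ∨ N = ⊤)
    (hcs : ∀ u ∈ Qs, ∀ w ∈ Qs, ∃ l : K, ψ (u * w * u⁻¹ * w⁻¹) = l • 1)
    (hsemi : ∀ k, 0 < k → k < p ^ n' → ∀ u ∈ Qs,
      (∃ l : K, ψ (y ^ k * u * (y ^ k)⁻¹ * u⁻¹) = l • 1) → ∃ l : K, ψ u = l • 1)
    (hfix : ∀ m : M, ψ y m = m → m = 0) (hd : 1 < finrank K M)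
    (S : Subgroup Γ) (hSQ : S ≤ Qs) (hS : ∀ u ∈ Qs, u ∈ S ↔ ∃ l : K, ψ u = l • 1) :
    finrank K M + 1 = p ^ n' ∧ Nat.card Qs = Nat.card S * (finrank K M) ^ 2 := by
  classical
  have : Fintype Qs := Fintype.ofFinite _
  have hMnt : Nontrivial M := Module.nontrivial_of_finrank_pos (R := K) (by omega)
  have hQ : (Fintype.card Qs : K) ≠ 0 := by
    rw [← Nat.card_eq_fintype_card]; exact hQK
  set P : ℕ := p ^ n' with hPdef
  have hPpos : 0 < P := pow_pos hp.pos _
  have hPK : ((P : ℕ) : K) ≠ 0 := by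
    rw [hPdef, Nat.cast_pow]
    exact pow_ne_zero _ hpK
  -- the representation of `Qs`
  let ρ : ↥Qs →* Module.End K M := ψ.comp Qs.subtype
  have hρ : ∀ u : Qs, ρ u = ψ u.1 := fun _ => rfl
  have hirr' : Irr ρ := by
    intro N hN
    exact hirr N (fun u hu v hv => hN ⟨u, hu⟩ v hv)
  have hcs' : ∀ u w : Qs, ∃ l : K, ρ u * ρ w = l • (ρ w * ρ u) := by
    intro u w
    obtain ⟨l, hl⟩ := hcs u.1 u.2 w.1 w.2
    refine ⟨l, ?_⟩
    rw [hρ, hρ, ← map_mul, ← map_mul]
    have e1 : u.1 * w.1 = (u.1 * w.1 * u.1⁻¹ * w.1⁻¹) * (w.1 * u.1) := by group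
    rw [e1, map_mul, hl, smul_mul_assoc, one_mul]
  have hsymp : Symp ρ :=
    { comm_scalar := hcs'
      nondeg := fun u hu => schur hirr' (ρ u) (fun γ => hu γ) }
  have hcomm : ∀ C ∈ commutant ρ, IsScalar C := fun C hC => schur hirr' C hC
  have hSs : scalarSubgroup ρ = S.subgroupOf Qs := by
    ext u
    rw [Subgroup.mem_subgroupOf, mem_scalarSubgroup]
    exact (hS u.1 u.2).symm
  -- the automorphism induced by `y`
  let g : Module.End K M := ψ y
  let g' : Module.End K M := ψ y⁻¹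
  let aHom : ↥Qs →* ↥Qs :=
    { toFun := fun u => ⟨y * u.1 * y⁻¹, hyQ u.1 u.2⟩
      map_one' := by apply Subtype.ext; simp
      map_mul' := by intro u w; apply Subtype.ext; simp [mul_assoc] }
  have haInj : Function.Injective aHom := by
    intro u w huw
    have h1 : y * u.1 * y⁻¹ = y * w.1 * y⁻¹ := congrArg Subtype.val huw
    apply Subtype.ext
    simpa using h1
  let a : ↥Qs ≃* ↥Qs := MulEquiv.ofBijective aHom (Finite.injective_iff_bijective.mp haInj)
  have ha : ∀ u : Qs, ((a u : ↥Qs) : Γ) = y * u.1 * y⁻¹ := fun u => rfl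
  have haiter : ∀ (k : ℕ) (u : Qs), ((a^[k] u : ↥Qs) : Γ) = y ^ k * u.1 * (y ^ k)⁻¹ := by
    intro k u
    induction k with
    | zero => simp
    | succ k ih =>
      rw [Function.iterate_succ_apply', ha, ih, pow_succ', mul_inv_rev]
      simp only [mul_assoc]
  have hnorm : Normalises ρ a g g' :=
    { mul_inv := by
        show ψ y * ψ y⁻¹ = 1
        rw [← map_mul, mul_inv_cancel, map_one]
      inv_mul := by
        show ψ y⁻¹ * ψ y = 1
        rw [← map_mul, inv_mul_cancel, map_one]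
      conj := by
        intro u
        show ψ y * ψ u.1 = ψ (a u).1 * ψ y
        rw [← map_mul, ← map_mul, ha]
        congr 1
        group }
  have hgP : g ^ P = 1 := by
    show ψ y ^ P = 1
    rw [← map_pow, hPdef, hy, map_one]
  -- eigenbasis of `g`
  obtain ⟨ι, _, b, η, hb⟩ := exists_eigenbasis g P hPK hgP
  have hη : ∀ i, η i ≠ 1 := by
    intro i h1
    have h2 : g (b i) = b i := by rw [(hb i).1, h1, one_smul]
    exact b.ne_zero i (hfix _ h2)
  let E : Finset K := (Polynomial.nthRootsFinset P (1 : K)).erase 1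
  have hE : ∀ i, η i ∈ E := by
    intro i
    rw [Finset.mem_erase]
    exact ⟨hη i, (Polynomial.mem_nthRootsFinset hPpos 1).mpr (hb i).2⟩
  have hEcard : E.card ≤ P - 1 := by
    have h1 : (1 : K) ∈ Polynomial.nthRootsFinset P (1 : K) :=
      (Polynomial.mem_nthRootsFinset hPpos 1).mpr (one_pow P)
    rw [Finset.card_erase_of_mem h1]
    have h2 : (Polynomial.nthRootsFinset P (1 : K)).card ≤ P := by
      unfold Polynomial.nthRootsFinset
      exact (Multiset.toFinset_card_le _).trans (Polynomial.card_nthRoots P 1)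
    omega
  -- the permutation of `Qs / S`
  have hσP : sigma hnorm ^ P = 1 := sigma_pow_eq_one hnorm hgP
  have hσ1 : sigma hnorm (1 : ↥Qs ⧸ scalarSubgroup ρ) = 1 := by
    have h1 := sigma_mk hnorm (1 : ↥Qs)
    rw [map_one] at h1
    exact h1
  have hσfix : ∀ k, 0 < k → k < P → ∀ w : ↥Qs ⧸ scalarSubgroup ρ,
      (sigma hnorm ^ k) w = w → w = 1 := by
    intro k hk0 hkP w hw
    obtain ⟨w, rfl⟩ := QuotientGroup.mk_surjective w
    rw [sigma_pow_mk] at hw
    have h1 : w⁻¹ * a^[k] w ∈ scalarSubgroup ρ := QuotientGroup.eq.mp hw.symm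
    have h2 : w * (w⁻¹ * a^[k] w) * w⁻¹ ∈ scalarSubgroup ρ :=
      (scalarSubgroup_normal ρ).conj_mem _ h1 w
    have h3 : w * (w⁻¹ * a^[k] w) * w⁻¹ = a^[k] w * w⁻¹ := by group
    rw [h3, mem_scalarSubgroup] at h2
    obtain ⟨l, hl⟩ := h2
    have h4 : ψ (y ^ k * w.1 * (y ^ k)⁻¹ * w.1⁻¹) = l • 1 := by
      rw [← hl, hρ]
      congr 1
      rw [Subgroup.coe_mul, haiter, Subgroup.coe_inv]
    have h5 := hsemi k hk0 hkP w.1 w.2 ⟨l, h4⟩
    apply (QuotientGroup.eq_one_iff w).mpr
    rw [mem_scalarSubgroup]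
    exact h5
  have hN := helper57_card_orbits (sigma hnorm) P hPpos hσP 1 hσ1 hσfix
  -- the inequalities
  have h1 := card_mul_finrank_le hsymp hQ
  have h1' := finrank_sq_le hsymp hQ hcomm
  have h2 := finrank_centr_le hsymp hQ hnorm
  have h3 := sq_le_card_mul_finrank_centr b (fun i => (hb i).1) E hE
  have hDpos : 0 < finrank K (commutant ρ) := finrank_commutant_pos ρ
  have hDle : finrank K (commutant ρ) ≤ 1 := by
    apply finrank_le_one (⟨1, one_mem_commutant ρ⟩ : commutant ρ)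
    rintro ⟨C, hC⟩
    obtain ⟨l, hl⟩ := hcomm C hC
    exact ⟨l, Subtype.ext hl.symm⟩
  have hD : finrank K (commutant ρ) = 1 := le_antisymm hDle hDpos
  rw [hD, mul_one] at h1 h2
  have hn : Nat.card (↥Qs ⧸ scalarSubgroup ρ) = finrank K M * finrank K M := le_antisymm h1 h1'
  -- lower bound for the centraliser of `g`
  have h4 : finrank K M ≤ finrank K (centr g) := by
    let f : ι → centr g := fun i =>
      ⟨unitEnd b i i, unitEnd_mem_centr b (fun i => (hb i).1) rfl⟩
    have hf : LinearIndependent K f := by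
      apply LinearIndependent.of_comp (centr g).subtype
      exact (unitEnd_linearIndependent b).comp (fun i : ι => (i, i))
        (fun i j hij => (Prod.ext_iff.mp hij).1)
    have h5 := hf.fintype_card_le_finrank
    rw [Module.finrank_eq_card_basis b]
    exact h5
  rw [hn] at hN
  refine ⟨helper57_arith hd hPpos hN h3 hEcard h2 h4, ?_⟩
  have h6 := Subgroup.card_eq_card_quotient_mul_card_subgroup (scalarSubgroup ρ)
  have h7 : Nat.card (scalarSubgroup ρ) = Nat.card S := by
    rw [hSs]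
    exact Nat.card_congr (Subgroup.subgroupOfEquivOfLe hSQ).toEquiv
  rw [h6, hn, h7, mul_comm, sq]

end Cfsg.Agent.Helper57.SG
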