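import Mathlib
import Cfsg.Agent.Lib.Helper31.SGDefs
import Cfsg.Agent.Lib.Helper52.FixedPointFree

set_option autoImplicit false

/-!
# Shult–Gross (S3793), piece (MAIN) of helper31's second batch

`sg_main`: the key statement `KeyStmt p` gives the Fitting-height chain of S3793, by induction on
`n` (generalised to `σ ^ p ^ n = 1`, so that no padding of the chain is needed).
-/

namespace Cfsg.Agent.Helper57.SG

open Subgroup Cfsg.Agent.Helper31.SG

universe u

/-- The generalised form: only `σ ^ p ^ n = 1` is assumed. -/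
theorem helper57_sg_main_aux {p : ℕ} (KEY : KeyStmt.{u} p) :
    ∀ (n : ℕ) (G : Type u) [Group G] [Finite G], Group.IsSolvable G → ∀ (σ : MulAut G),
      σ ^ p ^ n = 1 → (∀ g : G, σ g = g → g = 1) →
      ∃ F : Fin (n + 1) → Subgroup G, F 0 = ⊥ ∧ F (Fin.last n) = ⊤ ∧ Monotone F ∧
        (∀ i, (F i).Normal) ∧
        ∀ i : Fin n, ∃ k : ℕ, (F i.succ).lowerCentralSeries k ≤ F i.castSucc := by
  intro n
  induction n with
  | zero =>
    intro G _ _ hsol σ hσ hfpf
    have hσ1 : σ = 1 := by simpa using hσ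
    have htriv : ∀ g : G, g = 1 := fun g => hfpf g (by rw [hσ1]; rfl)
    refine ⟨fun _ => ⊥, rfl, ?_, fun _ _ _ => le_rfl, fun _ => inferInstance, fun i => i.elim0⟩
    ext g
    simp [htriv g]
  | succ n ih =>
    intro G _ _ hsol σ hσ hfpf
    obtain ⟨N, hNn, hNinv, hNnil, hN⟩ := KEY G hsol σ n hσ hfpf
    haveI := hNn
    have hτfpf : ∀ y : G ⧸ N, (Cfsg.Agent.Helper52.quotEquiv σ N hNinv) y = y → y = 1 :=
      Cfsg.Agent.Helper52.quotEquiv_fpf σ hfpf N hNinv
    have hτpow : (Cfsg.Agent.Helper52.quotEquiv σ N hNinv : MulAut (G ⧸ N)) ^ p ^ n = 1 := by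
      ext y
      obtain ⟨x, rfl⟩ := QuotientGroup.mk_surjective y
      rw [Cfsg.Agent.Helper52.mulAut_pow_apply, Cfsg.Agent.Helper52.quotEquiv_iterate,
        ← Cfsg.Agent.Helper52.mulAut_pow_apply]
      show (((σ ^ p ^ n) x : G) : G ⧸ N) = (x : G ⧸ N)
      rw [eq_comm, QuotientGroup.eq]
      exact hN x
    haveI : Group.IsSolvable G := hsol
    obtain ⟨F', h0, hlast, hmono, hnorm, hnil⟩ :=
      ih (G ⧸ N) inferInstance (Cfsg.Agent.Helper52.quotEquiv σ N hNinv) hτpow hτfpf
    obtain ⟨k₀, hk₀⟩ := (Subgroup.isNilpotent_iff_lowerCentralSeries N).mp hNnil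
    have hcomap0 : (F' 0).comap (QuotientGroup.mk' N) = N := by
      rw [h0]
      show (QuotientGroup.mk' N).ker = N
      exact QuotientGroup.ker_mk' N
    refine ⟨Fin.cons ⊥ (fun i => (F' i).comap (QuotientGroup.mk' N)), ?_, ?_, ?_, ?_, ?_⟩
    · exact Fin.cons_zero _ _
    · rw [← Fin.succ_last, Fin.cons_succ, hlast, Subgroup.comap_top]
    · intro i j hij
      induction i using Fin.cases with
      | zero => rw [Fin.cons_zero]; exact bot_le
      | succ i =>
        induction j using Fin.cases with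
        | zero => exact absurd hij (by simp [Fin.le_def])
        | succ j =>
          rw [Fin.cons_succ, Fin.cons_succ]
          exact Subgroup.comap_mono (hmono (Fin.succ_le_succ_iff.mp hij))
    · intro i
      induction i using Fin.cases with
      | zero => rw [Fin.cons_zero]; infer_instance
      | succ i => rw [Fin.cons_succ]; exact (hnorm i).comap _
    · intro i
      induction i using Fin.cases with
      | zero =>
        refine ⟨k₀, ?_⟩
        rw [Fin.castSucc_zero, Fin.cons_zero, Fin.cons_succ, hcomap0, hk₀]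
      | succ j =>
        obtain ⟨k, hk⟩ := hnil j
        refine ⟨k, ?_⟩
        rw [← Fin.succ_castSucc, Fin.cons_succ, Fin.cons_succ, ← Subgroup.map_le_iff_le_comap,
          Subgroup.map_lowerCentralSeries]
        refine le_trans ?_ hk
        exact Subgroup.lowerCentralSeries_mono k (Subgroup.map_comap_le _ _)

/-- (MAIN) the Fitting-height chain from the key statement. -/
theorem sg_main {p : ℕ} (hp : p.Prime) (KEY : KeyStmt.{u} p) :
    ∀ (n : ℕ) (G : Type u) [Group G] [Finite G], Group.IsSolvable G → ∀ (σ : MulAut G),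
      orderOf σ = p ^ n → (∀ g : G, σ g = g → g = 1) →
      ∃ F : Fin (n + 1) → Subgroup G, F 0 = ⊥ ∧ F (Fin.last n) = ⊤ ∧ Monotone F ∧
        (∀ i, (F i).Normal) ∧
        ∀ i : Fin n, ∃ k : ℕ, (F i.succ).lowerCentralSeries k ≤ F i.castSucc := by
  intro n G _ _ hsol σ hσ hfpf
  exact helper57_sg_main_aux KEY n G hsol σ (by rw [← hσ]; exact pow_orderOf_eq_one σ) hfpf

end Cfsg.Agent.Helper57.SG
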