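import Mathlib
import Cfsg.Agent.Lib.Helper32.C3Defs
import Cfsg.Agent.Lib.Helper48.SympRep

/-!
# C3 (S3b) for helper32's lemma server (S4415): the centraliser algebra of a cubic element

`finrank_centr_ge`, name and statement verbatim from `tools/c3_sigs_helper32.lean.txt`.
-/

set_option autoImplicit false

namespace Cfsg.Agent.Helper57.C3

open Cfsg.Agent.Helper32.C3

universe u v

theorem finrank_centr_ge {G : Type u} [Group G] {V : Type v} [AddCommGroup V]
    [Module (ZMod 3) V] [Finite V] (ρ : Representation (ZMod 3) G V) (b : G) (hc : Cubic ρ b)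
    (hb3 : b ^ 3 = 1) :
    (Module.finrank (ZMod 3) V - 2) ^ 2 + 2 ≤
      Module.finrank (ZMod 3) ↥(Cfsg.Agent.Helper48.SympRep.centr (ρ b)) := by
  classical
  have : Fact (Nat.Prime 3) := ⟨Nat.prime_three⟩
  set d : Module.End (ZMod 3) V := dl ρ b with hd
  have hρb : ρ b = 1 + d := by rw [hd, dl]; abel
  have hr1 : Module.finrank (ZMod 3) (LinearMap.range d) = 2 := hc.1
  have hr2 : Module.finrank (ZMod 3) (LinearMap.range (d * d)) = 1 := hc.2
  have h3y : ∀ y : Module.End (ZMod 3) V, (3 : ℕ) • y = 0 := by
    intro y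
    rw [← Nat.cast_smul_eq_nsmul (ZMod 3)]
    have : ((3 : ℕ) : ZMod 3) = 0 := CharP.cast_eq_zero (ZMod 3) 3
    rw [this, zero_smul]
  have hx3 : ρ b * ρ b * ρ b = 1 := by
    rw [← map_mul, ← map_mul, ← pow_two, ← pow_succ, hb3, map_one]
  have hd3 : d * d * d = 0 := by
    have key : d * d * d = (ρ b * ρ b * ρ b - 1) - (3 : ℕ) • (ρ b * ρ b - ρ b) := by
      rw [hd, dl]; noncomm_ring
    rw [key, hx3, h3y]; simp
  -- a vector with `d² v ≠ 0`
  obtain ⟨v₀, hv₀⟩ : ∃ v₀ : V, (d * d) v₀ ≠ 0 := by
    by_contra hcon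
    push Not at hcon
    have : LinearMap.range (d * d) = ⊥ := by
      rw [LinearMap.range_eq_bot]
      ext v; simpa using hcon v
    rw [this] at hr2
    simp at hr2
  -- the embedding of `Hom(V / range d, ker d)`
  let ι : ((V ⧸ LinearMap.range d) →ₗ[ZMod 3] LinearMap.ker d) →ₗ[ZMod 3]
      Module.End (ZMod 3) V :=
    { toFun := fun g => (LinearMap.ker d).subtype ∘ₗ g ∘ₗ (LinearMap.range d).mkQ
      map_add' := by intro g g'; ext v; simp
      map_smul' := by intro c g; ext v; simp }
  have hι_apply : ∀ g v, ι g v = (g ((LinearMap.range d).mkQ v) : V) := fun g v => rfl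
  have hdι : ∀ g, d * ι g = 0 := by
    intro g; ext v
    rw [Module.End.mul_apply, hι_apply]
    exact LinearMap.mem_ker.1 (g _).2
  have hιd : ∀ g, ι g * d = 0 := by
    intro g; ext v
    rw [Module.End.mul_apply, hι_apply]
    have : (LinearMap.range d).mkQ (d v) = 0 := by
      rw [Submodule.mkQ_apply, Submodule.Quotient.mk_eq_zero]
      exact LinearMap.mem_range_self d v
    rw [this, map_zero]; rfl
  let Φ₀ : (((V ⧸ LinearMap.range d) →ₗ[ZMod 3] LinearMap.ker d) × ZMod 3 × ZMod 3) →ₗ[ZMod 3]
      Module.End (ZMod 3) V :=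
    { toFun := fun p => ι p.1 + p.2.1 • (1 : Module.End (ZMod 3) V) + p.2.2 • d
      map_add' := by
        intro p q
        simp only [Prod.fst_add, Prod.snd_add, map_add, add_smul]
        abel
      map_smul' := by
        intro c p
        simp only [Prod.smul_fst, Prod.smul_snd, map_smul, smul_add, RingHom.id_apply, smul_eq_mul,
          mul_smul] }
  have hΦ₀ : ∀ p, Φ₀ p = ι p.1 + p.2.1 • (1 : Module.End (ZMod 3) V) + p.2.2 • d := fun p => rfl
  have hmem : ∀ p, Φ₀ p ∈ Cfsg.Agent.Helper48.SympRep.centr (ρ b) := by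
    intro p
    rw [Cfsg.Agent.Helper48.SympRep.mem_centr, hΦ₀, hρb]
    have h1 := hdι p.1
    have h2 := hιd p.1
    simp only [add_mul, mul_add, mul_one, one_mul, smul_mul_assoc, mul_smul_comm, h1, h2, smul_add]
    abel
  let Φ : (((V ⧸ LinearMap.range d) →ₗ[ZMod 3] LinearMap.ker d) × ZMod 3 × ZMod 3) →ₗ[ZMod 3]
      ↥(Cfsg.Agent.Helper48.SympRep.centr (ρ b)) := LinearMap.codRestrict _ Φ₀ hmem
  have hinj : Function.Injective Φ := by
    rw [← LinearMap.ker_eq_bot, LinearMap.ker_eq_bot']
    rintro ⟨g, α, β⟩ hp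
    have hp0 : ι g + α • (1 : Module.End (ZMod 3) V) + β • d = 0 := by
      have := congrArg Subtype.val hp
      simpa [Φ, hΦ₀] using this
    -- multiply by `d` on the left
    have e1 : α • d + β • (d * d) = 0 := by
      have := congrArg (fun T => d * T) hp0
      simp only [mul_add, mul_smul_comm, mul_one, mul_zero, hdι g, zero_add] at this
      exact this
    -- multiply again
    have e2 : α • (d * d) = 0 := by
      have := congrArg (fun T => d * T) e1
      simp only [mul_add, mul_smul_comm, mul_zero] at this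
      rw [← mul_assoc, hd3, smul_zero, add_zero] at this
      exact this
    have hα : α = 0 := by
      by_contra hα
      apply hv₀
      have := congrArg (fun T : Module.End (ZMod 3) V => T v₀) e2
      simp only [LinearMap.smul_apply, LinearMap.zero_apply] at this
      exact (smul_eq_zero.1 this).resolve_left hα
    have hβ : β = 0 := by
      rw [hα, zero_smul, zero_add] at e1
      by_contra hβ
      apply hv₀
      have := congrArg (fun T : Module.End (ZMod 3) V => T v₀) e1
      simp only [LinearMap.smul_apply, LinearMap.zero_apply] at this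
      exact (smul_eq_zero.1 this).resolve_left hβ
    have hg : g = 0 := by
      rw [hα, hβ, zero_smul, zero_smul, add_zero, add_zero] at hp0
      apply LinearMap.ext
      intro a
      obtain ⟨v, rfl⟩ := Submodule.mkQ_surjective _ a
      have := congrArg (fun T : Module.End (ZMod 3) V => T v) hp0
      simp only [LinearMap.zero_apply] at this
      rw [hι_apply] at this
      simpa using this
    rw [hg, hα, hβ]; rfl
  have hle := LinearMap.finrank_le_finrank_of_injective hinj
  have hdim : Module.finrank (ZMod 3)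
      (((V ⧸ LinearMap.range d) →ₗ[ZMod 3] LinearMap.ker d) × ZMod 3 × ZMod 3) =
      (Module.finrank (ZMod 3) V - 2) ^ 2 + 2 := by
    rw [Module.finrank_prod, Module.finrank_prod, Module.finrank_self, Module.finrank_linearMap,
      Submodule.finrank_quotient, hr1]
    have hk : Module.finrank (ZMod 3) (LinearMap.ker d) = Module.finrank (ZMod 3) V - 2 := by
      have := LinearMap.finrank_range_add_finrank_ker d
      omega
    rw [hk, pow_two]
  rw [hdim] at hle
  exact hle

end Cfsg.Agent.Helper57.C3
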