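import Mathlib
import Cfsg.Agent.Lib.Helper32.C3Defs
import Cfsg.Agent.Lib.Helper54.Solv

/-!
# C3 (T1) for helper32's lemma server (S4415): `T = O_2(G)` exists

`exists_O2`, name and statement verbatim from `tools/c3_sigs_helper32.lean.txt`.
-/

set_option autoImplicit false

namespace Cfsg.Agent.Helper57.C3

open Cfsg.Agent.Helper32.C3
open scoped Pointwise commutatorElement

universe u v

/-- Powers of an element of order dividing three. -/
theorem t1_pow_cases {G : Type u} [Group G] (t : G) (ht3 : t ^ 3 = 1) (i : ℕ) :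
    t ^ i = 1 ∨ t ^ i = t ∨ t ^ i = t⁻¹ := by
  have h : t ^ i = t ^ (i % 3) := by
    conv_lhs => rw [← Nat.div_add_mod i 3, pow_add, pow_mul, ht3, one_pow, one_mul]
  have h3 : i % 3 < 3 := Nat.mod_lt _ (by norm_num)
  rw [h]
  interval_cases (i % 3)
  · left; simp
  · right; left; simp
  · right; right
    apply eq_inv_of_mul_eq_one_left
    rw [← pow_succ, ht3]

/-- Two normal subgroups meeting trivially centralise each other. -/
theorem t1_commute_of_inf_bot {G : Type u} [Group G] (Y R : Subgroup G) [hY : Y.Normal]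
    [hR : R.Normal] (hYR : Y ⊓ R = ⊥) : ∀ y ∈ Y, ∀ x ∈ R, y * x = x * y := by
  intro y hy x hx
  have h1 : y * x * y⁻¹ * x⁻¹ ∈ Y := by
    have h4 : x * y⁻¹ * x⁻¹ ∈ Y := hY.conj_mem _ (Y.inv_mem hy) x
    have h5 : y * x * y⁻¹ * x⁻¹ = y * (x * y⁻¹ * x⁻¹) := by group
    rw [h5]; exact Y.mul_mem hy h4
  have h2 : y * x * y⁻¹ * x⁻¹ ∈ R := R.mul_mem (hR.conj_mem _ hx y) (R.inv_mem hx)
  have h3 : y * x * y⁻¹ * x⁻¹ ∈ Y ⊓ R := ⟨h1, h2⟩
  rw [hYR, Subgroup.mem_bot] at h3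
  calc y * x = (y * x * y⁻¹ * x⁻¹) * (x * y) := by group
    _ = x * y := by rw [h3, one_mul]

/-- In the configuration `Cfg`, a normal subgroup of odd order is trivial as soon as the normal
subgroups of odd order inside `R` are. -/
theorem t1_odd_normal_bot {G : Type u} [Group G] [Finite G] {V : Type v} [AddCommGroup V]
    [Module (ZMod 3) V] [Finite V] (ρ : Representation (ZMod 3) G V) (R Q : Subgroup G) (b : G)
    (h : Cfg ρ R Q b)
    (hO : ∀ Y : Subgroup G, Y.Normal → Y ≤ R → (Nat.card ↥Y).Coprime 2 → Y = ⊥)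
    (Y : Subgroup G) (hYn : Y.Normal) (hYc : (Nat.card ↥Y).Coprime 2) : Y = ⊥ := by
  have hRn : R.Normal := h.Rn
  have hsolv : Group.IsSolvable G := h.solv
  have hYR : Y ⊓ R = ⊥ := by
    apply hO (Y ⊓ R) inferInstance inf_le_right
    exact Nat.Coprime.coprime_dvd_left (Subgroup.card_dvd_of_le inf_le_left) hYc
  by_contra hne
  obtain ⟨⟨y, hyY⟩, hy1'⟩ := (Subgroup.ne_bot_iff_exists_ne_one.1 hne)
  have hy1 : y ≠ 1 := fun hh => hy1' (Subtype.ext hh)
  obtain ⟨r, hrR, i, hyi⟩ := h.RB y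
  -- `b ∈ R ⊔ Y`
  have hRS : R ≤ R ⊔ Y := le_sup_left
  have hYS : Y ≤ R ⊔ Y := le_sup_right
  have hbi : b ^ i = r⁻¹ * y := by rw [hyi]; group
  have hbiS : b ^ i ∈ R ⊔ Y := by
    rw [hbi]; exact (R ⊔ Y).mul_mem (hRS (R.inv_mem hrR)) (hYS hyY)
  have hbS : b ∈ R ⊔ Y := by
    rcases t1_pow_cases b h.b3 i with h1 | h1 | h1
    · exfalso
      apply hy1
      have : y = r := by rw [hyi, h1, mul_one]
      have hmem : y ∈ Y ⊓ R := ⟨hyY, this ▸ hrR⟩
      rw [hYR, Subgroup.mem_bot] at hmem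
      exact hmem
    · rwa [h1] at hbiS
    · rw [h1] at hbiS
      simpa using (R ⊔ Y).inv_mem hbiS
  have hzb : Subgroup.zpowers b ≤ R ⊔ Y := (Subgroup.zpowers_le).2 hbS
  have hcomm := t1_commute_of_inf_bot Y R hYR
  -- `⁅R, zpowers b⁆ ≤ ⁅R, R⁆`
  have hle : ⁅R, Subgroup.zpowers b⁆ ≤ ⁅R, R⁆ := by
    rw [Subgroup.commutator_le]
    intro x hx g hg
    have hg' : g ∈ ((R ⊔ Y : Subgroup G) : Set G) := hzb hg
    rw [Subgroup.normal_mul] at hg'
    obtain ⟨r', hr', y', hy', rfl⟩ := Set.mem_mul.1 hg'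
    have hc1 : y' * x⁻¹ = x⁻¹ * y' := hcomm y' hy' x⁻¹ (R.inv_mem hx)
    have : ⁅x, r' * y'⁆ = ⁅x, r'⁆ := by
      rw [commutatorElement_def, commutatorElement_def]
      calc x * (r' * y') * x⁻¹ * (r' * y')⁻¹
          = x * r' * (y' * x⁻¹) * y'⁻¹ * r'⁻¹ := by group
        _ = x * r' * (x⁻¹ * y') * y'⁻¹ * r'⁻¹ := by rw [hc1]
        _ = x * r' * x⁻¹ * r'⁻¹ := by group
    rw [this]
    exact Subgroup.commutator_mem_commutator hx hr'
  rw [h.comm] at hle
  have hRbot : R = ⊥ := by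
    by_contra hR
    exact absurd hle (not_le_of_gt (Group.IsSolvable.commutator_lt_of_ne_bot hR))
  have hQbot : Q = ⊥ := by
    have := h.QR
    rw [hRbot] at this
    exact le_bot_iff.1 this
  have hQ4 := h.four.1
  rw [hQbot] at hQ4
  simp at hQ4

/-- every element of `G` has its cube in `R` -/
theorem t1_cube_mem {G : Type u} [Group G] [Finite G] {V : Type v} [AddCommGroup V]
    [Module (ZMod 3) V] [Finite V] (ρ : Representation (ZMod 3) G V) (R Q : Subgroup G) (b : G)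
    (h : Cfg ρ R Q b) (g : G) : g ^ 3 ∈ R := by
  have hRn : R.Normal := h.Rn
  obtain ⟨r, hrR, i, hgi⟩ := h.RB g
  have h1 : (QuotientGroup.mk g : G ⧸ R) = (QuotientGroup.mk b : G ⧸ R) ^ i := by
    rw [hgi, QuotientGroup.mk_mul, (QuotientGroup.eq_one_iff r).2 hrR, one_mul,
      QuotientGroup.mk_pow]
  have h2 : (QuotientGroup.mk (g ^ 3) : G ⧸ R) = 1 := by
    rw [QuotientGroup.mk_pow, h1, ← pow_mul, mul_comm, pow_mul, ← QuotientGroup.mk_pow, h.b3,
      QuotientGroup.mk_one, one_pow]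
  exact (QuotientGroup.eq_one_iff _).1 h2

theorem exists_O2 {G : Type u} [Group G] [Finite G] {V : Type v} [AddCommGroup V]
    [Module (ZMod 3) V] [Finite V] (ρ : Representation (ZMod 3) G V) (R Q : Subgroup G) (b : G)
    (h : Cfg ρ R Q b)
    (hO : ∀ Y : Subgroup G, Y.Normal → Y ≤ R → (Nat.card ↥Y).Coprime 2 → Y = ⊥) :
    ∃ T : Subgroup G, IsO2 R T := by
  have hsolv : Group.IsSolvable G := h.solv
  have hfact : Fact (Nat.Prime 2) := ⟨Nat.prime_two⟩
  have hpp : Cfsg.pPrimeCore 2 G = ⊥ := by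
    unfold Cfsg.pPrimeCore
    rw [sSup_eq_bot]
    rintro Y ⟨hYn, hYc⟩
    exact t1_odd_normal_bot ρ R Q b h hO Y hYn hYc
  have hpg : IsPGroup 2 (Cfsg.pCore 2 G) := Cfsg.Agent.Helper54.isPGroup_pCore
  refine ⟨Cfsg.pCore 2 G, ?_, ?_, hpg, ?_, ?_⟩
  · exact Subgroup.sSup_normal _ (fun _ hh => hh.1)
  · intro t ht
    obtain ⟨k, hk⟩ := hpg ⟨t, ht⟩
    have hk' : t ^ 2 ^ k = 1 := by
      have := congrArg Subtype.val hk
      simpa using this
    have h3 : t ^ 3 ∈ R := t1_cube_mem ρ R Q b h t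
    have hcop : Nat.Coprime 3 (2 ^ k) := Nat.Coprime.pow_right k (by norm_num)
    -- `t = t ^ (3 a) * t ^ (2^k b)`-style argument via the order
    have hord : orderOf t ∣ 2 ^ k := orderOf_dvd_of_pow_eq_one hk'
    have hcop' : Nat.Coprime 3 (orderOf t) := Nat.Coprime.coprime_dvd_right hord hcop
    obtain ⟨m, hm⟩ := exists_pow_eq_self_of_coprime hcop'
    rw [← hm]
    exact R.pow_mem h3 m
  · intro r hr hcr
    apply Cfsg.Agent.Helper54.centralizer_pCore_le 2 hpp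
    rw [Subgroup.mem_centralizer_iff]
    intro t ht
    exact (hcr t ht).symm
  · intro X hXn hXp
    exact Cfsg.Agent.Helper54.le_pCore hXn hXp

end Cfsg.Agent.Helper57.C3
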