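import Mathlib
import Cfsg.Agent.Lib.Helper93.RU0
import Cfsg.Agent.Lib.Helper44.RUD2

/-!
# RU: private copies of the (A2), (A3), (A6) facts, so that my pieces do not wait for the A-block
-/

set_option autoImplicit false

namespace Cfsg.Agent.Helper57.RU

open Matrix Cfsg.Agent.Helper93.RU

variable {F : Type*} [Field F] {m : ℕ}

theorem h57_tvS_mul (v φ ψ : Fin (m + 3) → F) (hφ : φ ⬝ᵥ v = 0) (hψ : ψ ⬝ᵥ v = 0) :
    tvS v φ * tvS v ψ = tvS v (φ + ψ) := by
  have hs : (φ + ψ) ⬝ᵥ v = 0 := by rw [add_dotProduct, hφ, hψ, add_zero]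
  apply Subtype.ext
  rw [Matrix.SpecialLinearGroup.coe_mul, Cfsg.Agent.Helper44.RU.h44_tvS_val v φ hφ,
    Cfsg.Agent.Helper44.RU.h44_tvS_val v ψ hψ, Cfsg.Agent.Helper44.RU.h44_tvS_val v _ hs]
  unfold tvM
  rw [Matrix.mul_add, Matrix.add_mul, Matrix.add_mul, Matrix.mul_one, Matrix.one_mul, Matrix.mul_one,
    Matrix.vecMulVec_mul_vecMulVec, hφ, zero_smul, Matrix.vecMulVec_zero, add_zero,
    Matrix.vecMulVec_add, add_assoc]

theorem h57_tvS_zero (v : Fin (m + 3) → F) : tvS v 0 = 1 := by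
  have h := h57_tvS_mul v 0 0 (by simp) (by simp)
  rw [add_zero] at h
  exact mul_eq_left.1 h

theorem h57_tvS_inv (v φ : Fin (m + 3) → F) (hφ : φ ⬝ᵥ v = 0) : (tvS v φ)⁻¹ = tvS v (-φ) := by
  apply inv_eq_of_mul_eq_one_right
  rw [h57_tvS_mul v φ (-φ) hφ (by rw [neg_dotProduct, hφ, neg_zero]), add_neg_cancel, h57_tvS_zero]

theorem h57_transvection_eq (i j : Fin (m + 3)) (hij : i ≠ j) (c : F) :
    (Matrix.SpecialLinearGroup.transvection hij c : SLm m F) = tvS (eV i) (c • eV j) := by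
  have h0 : (c • (eV j : Fin (m + 3) → F)) ⬝ᵥ eV i = 0 := by
    have : j ≠ i := fun h => hij h.symm
    simp [eV, this]
  apply Subtype.ext
  rw [Cfsg.Agent.Helper44.RU.h44_tvS_val _ _ h0]
  show Matrix.transvection i j c = _
  unfold tvM Matrix.transvection eV
  congr 1
  ext a b
  simp only [Matrix.vecMulVec_apply, Matrix.single_apply, Pi.single_apply, Pi.smul_apply,
    smul_eq_mul]
  rcases eq_or_ne a i with rfl | ha
  · rcases eq_or_ne b j with rfl | hb
    · simp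
    · simp [hb, hb.symm]
  · rcases eq_or_ne b j with rfl | hb
    · simp [ha, ha.symm]
    · simp [ha, ha.symm, hb, hb.symm]

end Cfsg.Agent.Helper57.RU
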