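import Mathlib
import Cfsg.Agent.Lib.Helper93.RU0
import Cfsg.Agent.Lib.Helper79.RUB1
import Cfsg.Agent.Lib.Helper57.RUBase

/-!
# RU (C1) for helper93's lemma server (S2280): the shift of a functional stays in `A`

`shift_mem`, name and statement verbatim from `tools/ru_sigs_helper93.lean.txt`.
-/

set_option autoImplicit false

namespace Cfsg.Agent.Helper57.RU

open Matrix Cfsg.Agent.Helper93.RU

variable {F : Type*} [Field F] {m : ℕ}

theorem shift_mem (H : Subgroup (SLm m F)) (hu : uEl m F ∈ H) (φ : Fin (m + 3) → F) (h0 : φ 0 = 0)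
    (hφ : tvS (eV 0) φ ∈ H) : tvS (eV 0) (shR φ) ∈ H := by
  have hφ0 : φ ⬝ᵥ eV 0 = 0 := by simp [eV, h0]
  obtain ⟨hB6a, hB6b⟩ := Cfsg.Agent.Helper79.RU.uEl_act (m := m) φ
  have hc := Cfsg.Agent.Helper44.RU.h44_tvS_conj ((uEl m F)⁻¹) (eV 0) φ hφ0
  rw [inv_inv] at hc
  have hue : ((uEl m F)⁻¹).1 *ᵥ eV 0 = eV 0 := by
    have : ((uEl m F)⁻¹).1 *ᵥ ((uEl m F).1 *ᵥ eV 0) = eV 0 := by
      rw [Matrix.mulVec_mulVec, ← Matrix.SpecialLinearGroup.coe_mul, inv_mul_cancel,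
        Matrix.SpecialLinearGroup.coe_one, Matrix.one_mulVec]
    rwa [hB6a] at this
  rw [hue, hB6b] at hc
  have hmem : tvS (eV 0) (φ + shR φ) ∈ H := by
    rw [← hc.2]
    exact H.mul_mem (H.mul_mem (H.inv_mem hu) hφ) hu
  have hsh0 : shR φ ⬝ᵥ eV 0 = 0 := by simp [eV, shR]
  have hmul := h57_tvS_mul (eV 0) (-φ) (φ + shR φ) (by rw [neg_dotProduct, hφ0, neg_zero])
    (by rw [add_dotProduct, hφ0, hsh0, add_zero])
  rw [neg_add_cancel_left] at hmul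
  rw [← hmul, ← h57_tvS_inv _ _ hφ0]
  exact H.mul_mem (H.inv_mem hφ) hmem

end Cfsg.Agent.Helper57.RU
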