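import Mathlib
import Cfsg.Agent.Lib.Helper53.CD3ADefs
import Cfsg.Agent.Lib.Helper81.CharClifford
import Cfsg.Agent.Lib.Helper76.CD2Basic
import Cfsg.Agent.Lib.Helper74.LinChar

/-! helper53's CD3A server (S4460), piece (CARD). -/

set_option autoImplicit false

namespace Cfsg.Agent.Helper57.CD3A

open Cfsg Cfsg.Agent.Helper53.CD3A Cfsg.Agent.Helper81
open scoped ComplexConjugate commutatorElement

universe u

/-- the trivial character has degree `1` -/
theorem exists_deg_one {G : Type u} [Group G] [Finite G] :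
    ∃ χ : IrrCharacter G, charDegree (χ : G → ℂ) = 1 := by
  refine ⟨Cfsg.Agent.Helper74.Lin.ofHom 1, ?_⟩
  unfold charDegree
  rw [Cfsg.Agent.Helper74.Lin.ofHom_one_eq]
  simp

/-- (CARD) three degrees: `1 < m < n`, all attained. -/
theorem three_degrees {G : Type u} [Group G] [Finite G]
    (hcd : Nat.card {n : ℕ // ∃ χ : IrrCharacter G, charDegree (χ : G → ℂ) = n} = 3) :
    ∃ m n : ℕ, 1 < m ∧ m < n ∧ DegIn G m n ∧
      (∃ χ : IrrCharacter G, charDegree (χ : G → ℂ) = m) ∧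
      (∃ χ : IrrCharacter G, charDegree (χ : G → ℂ) = n) := by
  have h3 : {d : ℕ | ∃ χ : IrrCharacter G, charDegree (χ : G → ℂ) = d}.ncard = 3 := by
    rw [← Nat.card_coe_set_eq]
    exact hcd
  obtain ⟨x, y, z, hxy, hxz, hyz, hS⟩ := Set.ncard_eq_three.1 h3
  have hmem : ∀ d : ℕ, (∃ χ : IrrCharacter G, charDegree (χ : G → ℂ) = d) ↔ d = x ∨ d = y ∨ d = z := by
    intro d
    have : d ∈ {d : ℕ | ∃ χ : IrrCharacter G, charDegree (χ : G → ℂ) = d} ↔ d ∈ ({x, y, z} : Set ℕ) := by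
      rw [hS]
    simpa using this
  have hpos : ∀ d : ℕ, (∃ χ : IrrCharacter G, charDegree (χ : G → ℂ) = d) → 0 < d := by
    rintro d ⟨χ, rfl⟩
    exact Cfsg.Agent.Helper80.charDegree_pos χ
  have h1 := (hmem 1).1 exists_deg_one
  have hx := hpos x ((hmem x).2 (Or.inl rfl))
  have hy := hpos y ((hmem y).2 (Or.inr (Or.inl rfl)))
  have hz := hpos z ((hmem z).2 (Or.inr (Or.inr rfl)))
  -- a generic finisher
  have fin : ∀ a b : ℕ, 1 < a → 1 < b → a ≠ b →
      (∀ d : ℕ, (∃ χ : IrrCharacter G, charDegree (χ : G → ℂ) = d) ↔ d = 1 ∨ d = a ∨ d = b) →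
      ∃ m n : ℕ, 1 < m ∧ m < n ∧ DegIn G m n ∧
      (∃ χ : IrrCharacter G, charDegree (χ : G → ℂ) = m) ∧
      (∃ χ : IrrCharacter G, charDegree (χ : G → ℂ) = n) := by
    intro a b ha hb hab hm
    rcases lt_or_gt_of_ne hab with hlt | hlt
    · refine ⟨a, b, ha, hlt, fun χ => (hm _).1 ⟨χ, rfl⟩, (hm a).2 (Or.inr (Or.inl rfl)),
        (hm b).2 (Or.inr (Or.inr rfl))⟩
    · refine ⟨b, a, hb, hlt, fun χ => ?_, (hm b).2 (Or.inr (Or.inr rfl)),
        (hm a).2 (Or.inr (Or.inl rfl))⟩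
      rcases (hm _).1 ⟨χ, rfl⟩ with h | h | h
      · exact Or.inl h
      · exact Or.inr (Or.inr h)
      · exact Or.inr (Or.inl h)
  rcases h1 with h1 | h1 | h1
  · -- x = 1
    subst h1
    exact fin y z (by omega) (by omega) hyz (fun d => hmem d)
  · subst h1
    refine fin x z (by omega) (by omega) hxz (fun d => ?_)
    rw [hmem d]
    tauto
  · subst h1
    refine fin x y (by omega) (by omega) hxy (fun d => ?_)
    rw [hmem d]
    tauto

end Cfsg.Agent.Helper57.CD3A
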