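import Mathlib
import Cfsg.Agent.Lib.Helper53.CD3ADefs
import Cfsg.Agent.Lib.Helper81.CharClifford
import Cfsg.Agent.Lib.Helper76.CD2Basic
import Cfsg.Agent.Lib.Helper74.LinChar

/-! helper53's CD3A server (S4460), piece (FEW). -/

set_option autoImplicit false

namespace Cfsg.Agent.Helper57.CD3A

open Cfsg Cfsg.Agent.Helper53.CD3A Cfsg.Agent.Helper81
open scoped ComplexConjugate commutatorElement

universe u

/-- (FEW) a nonsolvable `G` with `DegIn G a b` has `DegIn G m n` with `1 < m < n` both attained. -/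
theorem normalize_degrees {G : Type u} [Group G] [Finite G] {a b : ℕ} (h : DegIn G a b)
    (hns : ¬ Group.IsSolvable G) :
    ∃ m n : ℕ, 1 < m ∧ m < n ∧ DegIn G m n ∧
      (∃ χ : IrrCharacter G, charDegree (χ : G → ℂ) = m) ∧
      (∃ χ : IrrCharacter G, charDegree (χ : G → ℂ) = n) := by
  have hA : ∃ χ : IrrCharacter G, charDegree (χ : G → ℂ) = a := by
    by_contra hA
    apply hns
    apply Cfsg.Agent.Helper76.CD2.isSolvable b
    intro χ
    rcases h χ with h1 | h1 | h1
    · exact Or.inl h1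
    · exact absurd ⟨χ, h1⟩ hA
    · exact Or.inr h1
  have hB : ∃ χ : IrrCharacter G, charDegree (χ : G → ℂ) = b := by
    by_contra hB
    apply hns
    apply Cfsg.Agent.Helper76.CD2.isSolvable a
    intro χ
    rcases h χ with h1 | h1 | h1
    · exact Or.inl h1
    · exact Or.inr h1
    · exact absurd ⟨χ, h1⟩ hB
  have ha0 : 0 < a := by
    obtain ⟨χ, rfl⟩ := hA
    exact Cfsg.Agent.Helper80.charDegree_pos χ
  have hb0 : 0 < b := by
    obtain ⟨χ, rfl⟩ := hB
    exact Cfsg.Agent.Helper80.charDegree_pos χ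
  have ha1 : a ≠ 1 := by
    rintro rfl
    apply hns
    apply Cfsg.Agent.Helper76.CD2.isSolvable b
    intro χ
    rcases h χ with h1 | h1 | h1
    · exact Or.inl h1
    · exact Or.inl h1
    · exact Or.inr h1
  have hb1 : b ≠ 1 := by
    rintro rfl
    apply hns
    apply Cfsg.Agent.Helper76.CD2.isSolvable a
    intro χ
    rcases h χ with h1 | h1 | h1
    · exact Or.inl h1
    · exact Or.inr h1
    · exact Or.inl h1
  have hab : a ≠ b := by
    rintro rfl
    apply hns
    apply Cfsg.Agent.Helper76.CD2.isSolvable a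
    intro χ
    rcases h χ with h1 | h1 | h1
    · exact Or.inl h1
    · exact Or.inr h1
    · exact Or.inr h1
  rcases lt_or_gt_of_ne hab with hlt | hlt
  · exact ⟨a, b, by omega, hlt, h, hA, hB⟩
  · refine ⟨b, a, by omega, hlt, fun χ => ?_, hB, hA⟩
    rcases h χ with h1 | h1 | h1
    · exact Or.inl h1
    · exact Or.inr (Or.inr h1)
    · exact Or.inr (Or.inl h1)

end Cfsg.Agent.Helper57.CD3A
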