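import Mathlib
import Cfsg.Agent.Lib.Helper53.CD3ADefs
import Cfsg.Agent.Lib.Helper81.CharClifford
import Cfsg.Agent.Lib.Helper76.CD2Basic
import Cfsg.Agent.Lib.Helper74.LinChar

/-! helper53's CD3A server (S4460), piece (QUOT). -/

set_option autoImplicit false

namespace Cfsg.Agent.Helper57.CD3A

open Cfsg Cfsg.Agent.Helper53.CD3A Cfsg.Agent.Helper81
open scoped ComplexConjugate commutatorElement

universe u

/-- (QUOT) proper quotients are solvable. -/
theorem quot_solvable {G : Type u} [Group G] [Finite G] {m n : ℕ} (hcd : DegIn G m n)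
    (hmin : SmallerSolv G) : QuotSolv G := by
  intro L hL hne
  have := hL
  apply hmin (G ⧸ L)
  · have h1 := Subgroup.card_eq_card_quotient_mul_card_subgroup L
    have h2 : 1 < Nat.card L := by
      rw [Finite.one_lt_card_iff_nontrivial]
      exact (Subgroup.nontrivial_iff_ne_bot L).2 hne
    have h3 : 0 < Nat.card (G ⧸ L) := Nat.card_pos
    nlinarith
  · refine ⟨m, n, fun β => ?_⟩
    have := hcd (Cfsg.Agent.Helper79.inflate L β)
    rwa [Cfsg.Agent.Helper79.charDegree_inflate] at this

end Cfsg.Agent.Helper57.CD3A
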