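import Mathlib
import Cfsg.Agent.Lib.Helper17.SylowSubgroup

/-!
# O459648 (B3q) for helper53's lemma server (S1022): a group of order 228 with a central subgroup
of order 19 has a unique subgroup of order 3 or a unique subgroup of order 4

`order228`, name and statement verbatim from `tools/o459648_sigs_helper53.lean.txt`.
-/

set_option autoImplicit false

namespace Cfsg.Agent.Helper57.O459648

/-- a subgroup of the centre is normal -/
theorem h57_normal_of_le_center {H : Type*} [Group H] (Z : Subgroup H)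
    (hZc : Z ≤ Subgroup.center H) : Z.Normal := by
  constructor
  intro z hz g
  have h := hZc hz
  rw [Subgroup.mem_center_iff] at h
  rw [h g, mul_inv_cancel_right]
  exact hz

/-- if the quotient by a central subgroup has only one Sylow `p`-subgroup, so has the group -/
theorem h57_subsingleton_sylow_of_quot {H : Type*} [Group H] [Finite H] (p : ℕ) [Fact p.Prime]
    (Z : Subgroup H) [Z.Normal] (hZc : Z ≤ Subgroup.center H)
    (hsub : Subsingleton (Sylow p (H ⧸ Z))) : Subsingleton (Sylow p H) := by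
  constructor
  intro R R'
  have hπ : Function.Surjective (QuotientGroup.mk' Z) := QuotientGroup.mk'_surjective Z
  have h1 : R.mapSurjective hπ = R'.mapSurjective hπ := Subsingleton.elim _ _
  have h2 : (R : Subgroup H).map (QuotientGroup.mk' Z) =
      (R' : Subgroup H).map (QuotientGroup.mk' Z) := by
    have h := congrArg (fun S : Sylow p (H ⧸ Z) => (S : Subgroup (H ⧸ Z))) h1
    simpa using h
  have h3 : (R : Subgroup H) ⊔ Z = (R' : Subgroup H) ⊔ Z := by
    have h := congrArg (Subgroup.comap (QuotientGroup.mk' Z)) h2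
    rwa [Subgroup.comap_map_eq, Subgroup.comap_map_eq, QuotientGroup.ker_mk'] at h
  have h4 : (R' : Subgroup H) ≤ Subgroup.normalizer ((R : Subgroup H) : Set H) := by
    calc (R' : Subgroup H) ≤ (R' : Subgroup H) ⊔ Z := le_sup_left
      _ = (R : Subgroup H) ⊔ Z := h3.symm
      _ ≤ Subgroup.normalizer ((R : Subgroup H) : Set H) :=
        sup_le Subgroup.le_normalizer (hZc.trans (Subgroup.center_le_normalizer _))
  have h5 : (R' : Subgroup H) ≤ R := by
    have h : (R' : Subgroup H) ⊓ Subgroup.normalizer ((R : Subgroup H) : Set H) =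
        (R' : Subgroup H) ⊓ (R : Subgroup H) := R'.isPGroup'.inf_normalizer_sylow R
    rw [inf_eq_left.mpr h4] at h
    exact inf_eq_left.mp h.symm
  exact Sylow.ext (R'.is_maximal' R.isPGroup' h5)

/-- with only one Sylow `p`-subgroup, of order `n`, there is only one subgroup of order `n` -/
theorem h57_unique_of_subsingleton_sylow {H : Type*} [Group H] [Finite H] (p k : ℕ)
    [Fact p.Prime] (hsub : Subsingleton (Sylow p H))
    (hcard : ∀ R : Sylow p H, Nat.card (R : Subgroup H) = p ^ k) :
    ∃ W : Subgroup H, Nat.card W = p ^ k ∧ ∀ W' : Subgroup H, Nat.card W' = p ^ k → W' = W := by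
  obtain ⟨R⟩ : Nonempty (Sylow p H) := inferInstance
  refine ⟨R, hcard R, ?_⟩
  intro W' hW'
  have hp : IsPGroup p W' := IsPGroup.of_card hW'
  obtain ⟨R', hR'⟩ := hp.exists_le_sylow
  have hRR : R' = R := Subsingleton.elim _ _
  rw [hRR] at hR'
  exact Subgroup.eq_of_le_of_card_ge hR' (by rw [hcard R, hW'])

/-- (B3q) `Z` central of order 19 in `H` of order 228 = 4 * 3 * 19: `H ⧸ Z` has order 12, so a
normal Sylow 3 or a normal Sylow 2; pull back (the preimage has `Z` central, so its Sylow subgroup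
is normal in it, hence characteristic in it) -/
theorem order228 {H : Type*} [Group H] [Finite H] (hH : Nat.card H = 228)
    (Z : Subgroup H) (hZ : Nat.card Z = 19) (hZc : Z ≤ Subgroup.center H) :
    (∃ W : Subgroup H, Nat.card W = 3 ∧ ∀ W' : Subgroup H, Nat.card W' = 3 → W' = W) ∨
    (∃ W : Subgroup H, Nat.card W = 4 ∧ ∀ W' : Subgroup H, Nat.card W' = 4 → W' = W) := by
  have hp3 : Fact (Nat.Prime 3) := ⟨by norm_num⟩
  have hp2 : Fact (Nat.Prime 2) := ⟨by norm_num⟩
  have hZn : Z.Normal := h57_normal_of_le_center Z hZc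
  have hQ : Nat.card (H ⧸ Z) = 12 := by
    have h := Subgroup.card_eq_card_quotient_mul_card_subgroup Z
    rw [hH, hZ] at h
    omega
  have hc3 : ∀ R : Sylow 3 H, Nat.card (R : Subgroup H) = 3 ^ 1 := by
    intro R
    exact Cfsg.Agent.Helper17.sylow_card_eq R (k := 1) (m := 76) (by rw [hH]; norm_num) (by norm_num)
  have hc2 : ∀ R : Sylow 2 H, Nat.card (R : Subgroup H) = 2 ^ 2 := by
    intro R
    exact Cfsg.Agent.Helper17.sylow_card_eq R (k := 2) (m := 57) (by rw [hH]; norm_num) (by norm_num)
  by_cases h3 : Nat.card (Sylow 3 (H ⧸ Z)) = 1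
  · left
    have hsubQ : Subsingleton (Sylow 3 (H ⧸ Z)) := (Nat.card_eq_one_iff_unique.1 h3).1
    have hsub : Subsingleton (Sylow 3 H) := h57_subsingleton_sylow_of_quot 3 Z hZc hsubQ
    simpa using h57_unique_of_subsingleton_sylow 3 1 hsub hc3
  · right
    obtain ⟨Q, hQn, hQ4⟩ := Cfsg.Agent.Helper17.exists_normal_card_four_of_card_twelve hQ h3
    -- `Q` is a Sylow 2-subgroup of `H ⧸ Z`
    have hpQ : IsPGroup 2 Q := IsPGroup.of_card (n := 2) (by rw [hQ4]; norm_num)
    obtain ⟨S, hS⟩ := hpQ.exists_le_sylow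
    have hS4 : Nat.card (S : Subgroup (H ⧸ Z)) = 2 ^ 2 :=
      Cfsg.Agent.Helper17.sylow_card_eq S (k := 2) (m := 3) (by rw [hQ]; norm_num) (by norm_num)
    have hQS : Q = (S : Subgroup (H ⧸ Z)) :=
      Subgroup.eq_of_le_of_card_ge hS (by rw [hS4, hQ4]; norm_num)
    have hSn : (S : Subgroup (H ⧸ Z)).Normal := hQS ▸ hQn
    have hsubQ : Subsingleton (Sylow 2 (H ⧸ Z)) := by
      have hu := Sylow.unique_of_normal S hSn
      infer_instance
    have hsub : Subsingleton (Sylow 2 H) := h57_subsingleton_sylow_of_quot 2 Z hZc hsubQ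
    simpa using h57_unique_of_subsingleton_sylow 2 2 hsub hc2

end Cfsg.Agent.Helper57.O459648
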