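import Mathlib
import Cfsg.Agent.Lib.Helper55.O2520Defs

/-!
# O2520 (SUMN) for helper55's lemma server (S0984): sums of a class function over
`N = P ⋊ ⟨u⟩` and `D = P ⋊ ⟨u²⟩`

`sum_N`, name and statement verbatim from `tools/o2520_sigs_helper55.lean.txt`.
The general tool is `h57_sum_sd`: for `v` of order `m` prime to `|P|`, normalising `P`, all of whose
nontrivial powers act without fixed points on `P`, every element `y * v ^ k` (`0 < k < m`) is
conjugate to `v ^ k`, so `∑_{P ⊔ ⟨v⟩} χ = ∑_P χ + |P| ∑_{0<k<m} χ (v ^ k)`.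
-/

set_option autoImplicit false

namespace Cfsg.Agent.Helper57.O2520

open Cfsg Cfsg.Agent.Helper55.O2520
open scoped Classical Pointwise

universe u

/-- every element of the coset `P v^k` is conjugate to `v ^ k` by an element of `P` -/
theorem h57_conj_coset {G : Type u} [Group G] [Finite G] (P : Subgroup G) (c : G)
    (hc : c ∈ Subgroup.normalizer (P : Set G))
    (hfpf : ∀ t ∈ P, c * t = t * c → t = 1) (y : G) (hy : y ∈ P) :
    ∃ z ∈ P, y * c = z⁻¹ * c * z := by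
  have hnorm : ∀ x ∈ P, c * x * c⁻¹ ∈ P := fun x hx => (Subgroup.mem_normalizer_iff.1 hc x).1 hx
  let φ : P → P := fun z => ⟨(z : G)⁻¹ * (c * z * c⁻¹), P.mul_mem (P.inv_mem z.2) (hnorm z z.2)⟩
  have hinj : Function.Injective φ := by
    intro z1 z2 h
    have h1 : (z1 : G)⁻¹ * (c * z1 * c⁻¹) = (z2 : G)⁻¹ * (c * z2 * c⁻¹) := congrArg Subtype.val h
    have h2 : c * ((z2 : G) * (z1 : G)⁻¹) = ((z2 : G) * (z1 : G)⁻¹) * c := by
      have h3 : (z1 : G)⁻¹ * c * z1 = (z2 : G)⁻¹ * c * z2 := by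
        have := congrArg (fun g => g * c) h1
        simpa [mul_assoc] using this
      calc c * ((z2 : G) * (z1 : G)⁻¹) = z2 * ((z2 : G)⁻¹ * c * z2) * (z1 : G)⁻¹ := by group
        _ = z2 * ((z1 : G)⁻¹ * c * z1) * (z1 : G)⁻¹ := by rw [h3]
        _ = ((z2 : G) * (z1 : G)⁻¹) * c := by group
    have h4 := hfpf _ (P.mul_mem z2.2 (P.inv_mem z1.2)) h2
    apply Subtype.ext
    have h5 : (z2 : G) = z1 := by
      have := mul_inv_eq_one.1 h4
      exact this
    exact h5.symm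
  have hsurj : Function.Surjective φ := Finite.injective_iff_surjective.1 hinj
  obtain ⟨z, hz⟩ := hsurj ⟨y, hy⟩
  refine ⟨z, z.2, ?_⟩
  have h1 : (z : G)⁻¹ * (c * z * c⁻¹) = y := congrArg Subtype.val hz
  rw [← h1]
  group

/-- the general sum formula over `P ⋊ ⟨v⟩` -/
theorem h57_sum_sd {G : Type u} [Group G] [Fintype G] (P : Subgroup G) (v : G) (m : ℕ)
    (hm : orderOf v = m) (hcop : Nat.Coprime (Nat.card P) m)
    (hnorm : ∀ x ∈ P, v * x * v⁻¹ ∈ P)
    (hfpf : ∀ k, 0 < k → k < m → ∀ t ∈ P, v ^ k * t = t * v ^ k → t = 1)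
    (χ : G → ℂ) (hcl : ∀ g x : G, χ (g * x * g⁻¹) = χ x) :
    ∑ g : G, (if g ∈ P ⊔ Subgroup.zpowers v then χ g else 0) =
      ∑ g : G, (if g ∈ P then χ g else 0) +
        (Nat.card P : ℂ) * ∑ k ∈ Finset.Ico 1 m, χ (v ^ k) := by
  have hmpos : 0 < m := hm ▸ orderOf_pos v
  have hvN : Subgroup.zpowers v ≤ Subgroup.normalizer (P : Set G) :=
    Subgroup.zpowers_le.2 (Subgroup.mem_normalizer_fintype hnorm)
  have hcoe : ((P ⊔ Subgroup.zpowers v : Subgroup G) : Set G) =
      (P : Set G) * (Subgroup.zpowers v : Set G) :=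
    Subgroup.coe_mul_of_right_le_normalizer_left P _ hvN
  have hbot : P ⊓ Subgroup.zpowers v = ⊥ := by
    apply disjoint_iff.1
    apply Subgroup.disjoint_of_coprime_natCard
    rw [Nat.card_zpowers, hm]
    exact hcop
  -- the sum over the product
  have hbij : ∑ yk ∈ (Finset.univ.filter (· ∈ P)) ×ˢ Finset.range m, χ (yk.1 * v ^ yk.2) =
      ∑ g ∈ Finset.univ.filter (· ∈ P ⊔ Subgroup.zpowers v), χ g := by
    apply Finset.sum_nbij (fun yk => yk.1 * v ^ yk.2)
    · intro yk hyk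
      rw [Finset.mem_product, Finset.mem_filter] at hyk
      rw [Finset.mem_filter]
      refine ⟨Finset.mem_univ _, ?_⟩
      exact Subgroup.mul_mem _ (Subgroup.mem_sup_left hyk.1.2)
        (Subgroup.mem_sup_right (Subgroup.pow_mem _ (Subgroup.mem_zpowers v) _))
    · intro a ha b hb hab
      rw [Finset.mem_coe, Finset.mem_product, Finset.mem_filter, Finset.mem_range] at ha hb
      have hab' : a.1 * v ^ a.2 = b.1 * v ^ b.2 := hab
      have h1 : b.1⁻¹ * a.1 = v ^ b.2 * (v ^ a.2)⁻¹ := by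
        have : b.1⁻¹ * (a.1 * v ^ a.2) * (v ^ a.2)⁻¹ = b.1⁻¹ * (b.1 * v ^ b.2) * (v ^ a.2)⁻¹ := by
          rw [hab']
        simpa [mul_assoc] using this
      have h2 : b.1⁻¹ * a.1 ∈ P ⊓ Subgroup.zpowers v := by
        refine ⟨P.mul_mem (P.inv_mem hb.1.2) ha.1.2, ?_⟩
        rw [h1]
        exact Subgroup.mul_mem _ (Subgroup.pow_mem _ (Subgroup.mem_zpowers v) _)
          (Subgroup.inv_mem _ (Subgroup.pow_mem _ (Subgroup.mem_zpowers v) _))
      rw [hbot, Subgroup.mem_bot] at h2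
      have h3 : a.1 = b.1 := by
        have := inv_mul_eq_one.1 h2
        exact this.symm
      have h4 : v ^ a.2 = v ^ b.2 := by
        rw [h3] at hab'
        exact mul_left_cancel hab'
      have h5 : a.2 = b.2 := by
        apply pow_injOn_Iio_orderOf (x := v)
        · rw [Set.mem_Iio, hm]; exact ha.2
        · rw [Set.mem_Iio, hm]; exact hb.2
        · exact h4
      exact Prod.ext h3 h5
    · intro g hg
      rw [Finset.mem_coe, Finset.mem_filter] at hg
      have hg' : g ∈ ((P ⊔ Subgroup.zpowers v : Subgroup G) : Set G) := hg.2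
      rw [hcoe, Set.mem_mul] at hg'
      obtain ⟨y, hy, z, hz, rfl⟩ := hg'
      have hz' : z ∈ Subgroup.zpowers v := hz
      rw [mem_zpowers_iff_mem_range_orderOf, Finset.mem_image] at hz'
      obtain ⟨k, hk, rfl⟩ := hz'
      rw [hm] at hk
      refine ⟨(y, k), ?_, rfl⟩
      rw [Finset.mem_coe, Finset.mem_product, Finset.mem_filter]
      exact ⟨⟨Finset.mem_univ _, hy⟩, hk⟩
    · intro yk _
      rfl
  rw [← Finset.sum_filter, ← hbij, Finset.sum_product_right, Finset.range_eq_Ico,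
    Finset.sum_eq_sum_Ico_succ_bot hmpos]
  congr 1
  · rw [← Finset.sum_filter]
    apply Finset.sum_congr rfl
    intro y _
    rw [pow_zero, mul_one]
  · rw [Finset.mul_sum]
    apply Finset.sum_congr rfl
    intro k hk
    rw [Finset.mem_Ico] at hk
    have hk1 : 0 < k := by omega
    have hall : ∀ y ∈ Finset.univ.filter (· ∈ P), χ (y * v ^ k) = χ (v ^ k) := by
      intro y hy
      rw [Finset.mem_filter] at hy
      obtain ⟨z, _, hz⟩ := h57_conj_coset P (v ^ k)
        (hvN (Subgroup.pow_mem _ (Subgroup.mem_zpowers v) _)) (hfpf k hk1 hk.2) y hy.2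
      rw [hz]
      have := hcl z⁻¹ (v ^ k)
      rwa [inv_inv] at this
    rw [Finset.sum_congr rfl hall, Finset.sum_const, nsmul_eq_mul]
    congr 2
    rw [Nat.card_eq_fintype_card, Fintype.card_subtype]

/-- the order of `P ⋊ ⟨v⟩` -/
theorem h57_card_sd {G : Type u} [Group G] [Fintype G] (P : Subgroup G) (v : G) (m : ℕ)
    (hm : orderOf v = m) (hcop : Nat.Coprime (Nat.card P) m)
    (hnorm : ∀ x ∈ P, v * x * v⁻¹ ∈ P)
    (hfpf : ∀ k, 0 < k → k < m → ∀ t ∈ P, v ^ k * t = t * v ^ k → t = 1) :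
    Nat.card (P ⊔ Subgroup.zpowers v : Subgroup G) = Nat.card P * m := by
  have hmpos : 0 < m := hm ▸ orderOf_pos v
  have h := h57_sum_sd P v m hm hcop hnorm hfpf (fun _ => 1) (fun _ _ => rfl)
  have h1 : ∀ X : Subgroup G, ∑ g : G, (if g ∈ X then (1 : ℂ) else 0) = (Nat.card X : ℂ) := by
    intro X
    rw [← Finset.sum_filter, Finset.sum_const, nsmul_eq_mul, mul_one, Nat.card_eq_fintype_card,
      Fintype.card_subtype]
  rw [h1, h1, Finset.sum_const, Nat.card_Ico, nsmul_eq_mul, mul_one] at h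
  have h2 : (Nat.card (P ⊔ Subgroup.zpowers v : Subgroup G) : ℂ) =
      ((Nat.card P * m : ℕ) : ℂ) := by
    rw [h]
    have : ((m - 1 : ℕ) : ℂ) = (m : ℂ) - 1 := by
      rw [Nat.cast_sub hmpos, Nat.cast_one]
    rw [this]
    push_cast
    ring
  exact_mod_cast h2

section sums
variable {G : Type u} [Group G] [Fintype G] (P : Subgroup G) (u w : G) (hc : Config P u w)
  (χ : G → ℂ) (hcl : ∀ g x : G, χ (g * x * g⁻¹) = χ x)
include hc

omit [Fintype G] in
/-- an element of `P` commuting with `u ^ 2` is trivial -/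
theorem h57_fpf_sq (t : G) (ht : t ∈ P) (hcomm : u ^ 2 * t = t * u ^ 2) : t = 1 := by
  have h1 : u ^ 2 * t * (u ^ 2)⁻¹ = t := by rw [hcomm, mul_inv_cancel_right]
  have h2 : t = t⁻¹ := by rw [← hc.inv t ht, h1]
  have h3 : t * t = 1 := by
    nth_rewrite 2 [h2]
    exact mul_inv_cancel t
  have h4 : t ^ 3 = 1 := hc.expP t ht
  rw [pow_succ, pow_two, h3, one_mul] at h4
  exact h4

include hcl

/-- (SUMN) -/
theorem sum_N :
    Nat.card (P ⊔ Subgroup.zpowers u : Subgroup G) = 36 ∧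
    Nat.card (P ⊔ Subgroup.zpowers (u ^ 2) : Subgroup G) = 18 ∧
    ∑ g : G, (if g ∈ P ⊔ Subgroup.zpowers u then χ g else 0) =
      ∑ g : G, (if g ∈ P then χ g else 0) + 9 * (χ u + χ (u ^ 2) + χ (u ^ 3)) ∧
    ∑ g : G, (if g ∈ P ⊔ Subgroup.zpowers (u ^ 2) then χ g else 0) =
      ∑ g : G, (if g ∈ P then χ g else 0) + 9 * χ (u ^ 2) := by
  have hu4 : u ^ 4 = 1 := by
    have := pow_orderOf_eq_one u
    rwa [hc.ordu] at this
  have hfpf1 : ∀ k, 0 < k → k < 4 → ∀ t ∈ P, u ^ k * t = t * u ^ k → t = 1 := by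
    intro k hk0 hk4 t ht hcomm
    apply h57_fpf_sq P u w hc t ht
    interval_cases k
    · have hC : Commute (u ^ 1) t := hcomm
      have h2 := hC.pow_left 2
      rw [← pow_mul] at h2
      exact h2
    · exact hcomm
    · have hC : Commute (u ^ 3) t := hcomm
      have h6 := hC.pow_left 2
      rw [← pow_mul] at h6
      have h7 : u ^ (3 * 2) = u ^ 2 := by
        rw [show (3 * 2 : ℕ) = 4 + 2 from rfl, pow_add, hu4, one_mul]
      rw [h7] at h6
      exact h6
  have hfpf2 : ∀ k, 0 < k → k < 2 → ∀ t ∈ P, (u ^ 2) ^ k * t = t * (u ^ 2) ^ k → t = 1 := by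
    intro k hk0 hk2 t ht hcomm
    apply h57_fpf_sq P u w hc t ht
    interval_cases k
    rw [pow_one] at hcomm
    exact hcomm
  have hord2 : orderOf (u ^ 2) = 2 := by
    rw [orderOf_pow_of_dvd (by norm_num) (by rw [hc.ordu]; norm_num), hc.ordu]
  have hnorm2 : ∀ x ∈ P, u ^ 2 * x * (u ^ 2)⁻¹ ∈ P := by
    intro x hx
    rw [hc.inv x hx]
    exact P.inv_mem hx
  have hcop1 : Nat.Coprime (Nat.card P) 4 := by rw [hc.cardP]; decide
  have hcop2 : Nat.Coprime (Nat.card P) 2 := by rw [hc.cardP]; decide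
  have hP9 : (Nat.card P : ℂ) = 9 := by rw [hc.cardP]; norm_num
  refine ⟨?_, ?_, ?_, ?_⟩
  · rw [h57_card_sd P u 4 hc.ordu hcop1 hc.norm hfpf1, hc.cardP]
  · rw [h57_card_sd P (u ^ 2) 2 hord2 hcop2 hnorm2 hfpf2, hc.cardP]
  · rw [h57_sum_sd P u 4 hc.ordu hcop1 hc.norm hfpf1 χ hcl, hP9]
    congr 2
    rw [show Finset.Ico 1 4 = {1, 2, 3} from rfl]
    rw [Finset.sum_insert (by decide), Finset.sum_insert (by decide), Finset.sum_singleton,
      pow_one, add_assoc]
  · rw [h57_sum_sd P (u ^ 2) 2 hord2 hcop2 hnorm2 hfpf2 χ hcl, hP9]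
    congr 2
    rw [show Finset.Ico 1 2 = {1} from rfl, Finset.sum_singleton, pow_one]

end sums

end Cfsg.Agent.Helper57.O2520
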