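import Mathlib
import Cfsg.Agent.Lib.Helper62.SLN0

/-!
# SLN (K1b3) for helper62's lemma server (S2332): for `n = 3` the stabiliser in `Q` of a weight
`w ∉ F e_j` is trivial

`k1b_three`, name and statement verbatim from `tools/sln_sigs_helper62.lean.txt`.
-/

set_option autoImplicit false

namespace Cfsg.Agent.Helper57.SLN

open Matrix Module Cfsg.Agent.Helper93.U2 Cfsg.Agent.Helper62.SLN

section SLN

variable {F : Type*} [Field F] [Fintype F] [DecidableEq F] {κ : Type} [Fintype κ] [DecidableEq κ]
  {V : Type*} [AddCommGroup V] [Module ℂ V] [FiniteDimensional ℂ V]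
  (ψ : AddChar F ℂ) (pr : Pairing (κ → F)) (hpr : ∀ w u, pr.β w u = ψ (w ⬝ᵥ u))
  (ρ : Representation ℂ (SpecialLinearGroup (Unit ⊕ κ) F) V)

include hpr

omit [DecidableEq F] in
/-- piece K1b3 : for `n = 3` the stabiliser in `Q` of a weight `w ∉ F e_j` is trivial -/
theorem k1b_three (hκ : Fintype.card κ = 2) (j : κ) (w : κ → F) (hwj : w j = 0) (hw : w ≠ 0)
    (t : κ → F) (ht : t ⬝ᵥ w = 0) : qEl (F := F) j t = 1 := by
  -- every index other than `j` carries a zero entry of `t`
  have hall : ∀ i : κ, i ≠ j → t i = 0 := by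
    intro i hij
    -- `κ = {j, i}`
    have huniv : (Finset.univ : Finset κ) = {j, i} := by
      symm
      apply Finset.eq_univ_of_card
      rw [Finset.card_pair (Ne.symm hij), hκ]
    have hwi : w i ≠ 0 := by
      intro hwi
      apply hw
      funext k
      have hk : k ∈ (Finset.univ : Finset κ) := Finset.mem_univ k
      rw [huniv, Finset.mem_insert, Finset.mem_singleton] at hk
      rcases hk with rfl | rfl
      · exact hwj
      · exact hwi
    have hdot : t ⬝ᵥ w = t j * w j + t i * w i := by
      unfold dotProduct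
      rw [huniv, Finset.sum_pair (Ne.symm hij)]
    rw [hdot, hwj, mul_zero, zero_add] at ht
    exact (mul_eq_zero.1 ht).resolve_right hwi
  have hupd : Function.update t j 0 = 0 := by
    funext i
    by_cases hij : i = j
    · subst hij; simp
    · rw [Function.update_of_ne hij]; exact hall i hij
  have htv : tvEl j t = 1 := by
    apply Subtype.ext
    rw [tvEl_val, hupd, Matrix.vecMulVec_zero, add_zero]
    rfl
  unfold qEl
  rw [htv]
  apply Subtype.ext
  rw [lEl_val]
  simp

end SLN

end Cfsg.Agent.Helper57.SLN
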