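import Mathlib

set_option autoImplicit false

namespace Cfsg.Agent.Helper57

open Equiv

theorem two_mul_card_alt (n : ℕ) (hn : 2 ≤ n) :
    2 * Nat.card (alternatingGroup (Fin n)) = n.factorial := by
  haveI : Nontrivial (Fin n) := Fin.nontrivial_iff_two_le.mpr hn
  rw [two_mul_nat_card_alternatingGroup, Nat.card_perm, Nat.card_eq_fintype_card, Fintype.card_fin]

theorem card_alt_factorization (n q : ℕ) (hq : q.Prime) (hq2 : q ≠ 2) (hn2 : 2 ≤ n)
    (hn : n < q ^ 2) :
    (Nat.card (alternatingGroup (Fin n))).factorization q = n / q := by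
  haveI : Fact q.Prime := ⟨hq⟩
  have h1 := two_mul_card_alt n hn2
  have hpos : Nat.card (alternatingGroup (Fin n)) ≠ 0 := Nat.card_pos.ne'
  have h2 : (2 * Nat.card (alternatingGroup (Fin n))).factorization q =
      (Nat.card (alternatingGroup (Fin n))).factorization q := by
    rw [Nat.factorization_mul two_ne_zero hpos]
    have : (Nat.factorization 2) q = 0 := by
      rw [Nat.Prime.factorization Nat.prime_two]
      simp [Finsupp.single_apply, Ne.symm hq2]
    simp [this]
  rw [← h2, h1, Nat.factorization_def _ hq]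
  have hlog : Nat.log q n < 2 := Nat.log_lt_of_lt_pow (by omega) hn
  rw [padicValNat_factorial hlog]
  simp

theorem dvd_prime_mul_prime {a p q : ℕ} (hp : p.Prime) (hq : q.Prime) (h : a ∣ p * q) :
    a = 1 ∨ a = p ∨ a = q ∨ a = p * q := by
  rcases (Nat.dvd_prime hp).mp (Nat.gcd_dvd_right a p) with h1 | h1
  · have hco : Nat.Coprime a p := h1
    have : a ∣ q := hco.dvd_of_dvd_mul_left h
    rcases (Nat.dvd_prime hq).mp this with h2 | h2
    · exact Or.inl h2
    · exact Or.inr (Or.inr (Or.inl h2))
  · have hpa : p ∣ a := by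
      rw [← h1]; exact Nat.gcd_dvd_left a p
    obtain ⟨b, rfl⟩ := hpa
    have : b ∣ q := Nat.dvd_of_mul_dvd_mul_left hp.pos h
    rcases (Nat.dvd_prime hq).mp this with h2 | h2
    · subst h2
      exact Or.inr (Or.inl (mul_one p))
    · subst h2
      exact Or.inr (Or.inr (Or.inr rfl))

/-- A permutation of `n` points has no element of order `p * q` for distinct primes
with `p + q > n`. -/
theorem perm_orderOf_ne_mul (n p q : ℕ) (hp : p.Prime) (hq : q.Prime) (hpq : p ≠ q)
    (h : n < p + q) (σ : Perm (Fin n)) : orderOf σ ≠ p * q := by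
  intro ho
  have hsum : σ.cycleType.sum ≤ n := by
    have := σ.sum_cycleType_le
    rwa [Fintype.card_fin] at this
  have hmem : ∀ a ∈ σ.cycleType, a = p ∨ a = q := by
    intro a ha
    have h2 : 2 ≤ a := Perm.two_le_of_mem_cycleType ha
    have hd : a ∣ p * q := by
      rw [← ho]; exact Perm.dvd_of_mem_cycleType ha
    have hle : a ≤ n := (Multiset.single_le_sum (fun _ _ => Nat.zero_le _) a ha).trans hsum
    rcases dvd_prime_mul_prime hp hq hd with h1 | h1 | h1 | h1
    · omega
    · exact Or.inl h1
    · exact Or.inr h1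
    · exfalso
      have hp2 := hp.two_le
      have hq2 := hq.two_le
      have : p + q ≤ p * q := by nlinarith
      omega
  have hpm : p ∈ σ.cycleType := by
    by_contra hnp
    have hall : ∀ a ∈ σ.cycleType, a ∣ q := by
      intro a ha
      rcases hmem a ha with h1 | h1
      · exact absurd (h1 ▸ ha) hnp
      · rw [h1]
    have : σ.cycleType.lcm ∣ q := Multiset.lcm_dvd.mpr hall
    rw [Perm.lcm_cycleType, ho] at this
    have hpq' : p ∣ q := (dvd_mul_right p q).trans this
    exact hpq ((Nat.prime_dvd_prime_iff_eq hp hq).mp hpq')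
  have hqm : q ∈ σ.cycleType := by
    by_contra hnq
    have hall : ∀ a ∈ σ.cycleType, a ∣ p := by
      intro a ha
      rcases hmem a ha with h1 | h1
      · rw [h1]
      · exact absurd (h1 ▸ ha) hnq
    have : σ.cycleType.lcm ∣ p := Multiset.lcm_dvd.mpr hall
    rw [Perm.lcm_cycleType, ho] at this
    have hqp' : q ∣ p := (dvd_mul_left q p).trans this
    exact hpq ((Nat.prime_dvd_prime_iff_eq hq hp).mp hqp').symm
  have hqm' : q ∈ σ.cycleType.erase p := (Multiset.mem_erase_of_ne (Ne.symm hpq)).mpr hqm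
  have h1 : σ.cycleType.sum = p + (σ.cycleType.erase p).sum := by
    rw [← Multiset.sum_cons, Multiset.cons_erase hpm]
  have h2 : q ≤ (σ.cycleType.erase p).sum :=
    Multiset.single_le_sum (fun _ _ => Nat.zero_le _) q hqm'
  omega

theorem alt_orderOf_ne_mul (n p q : ℕ) (hp : p.Prime) (hq : q.Prime) (hpq : p ≠ q)
    (h : n < p + q) (σ : alternatingGroup (Fin n)) : orderOf σ ≠ p * q := by
  rw [← Subgroup.orderOf_coe]
  exact perm_orderOf_ne_mul n p q hp hq hpq h σ

end Cfsg.Agent.Helper57
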