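import Mathlib

set_option autoImplicit false

namespace Cfsg.Agent.Helper57

open Equiv

theorem units_eq_one_of_odd_pow (u : ℤˣ) {m : ℕ} (hm : Odd m) (h : u ^ m = 1) : u = 1 := by
  rcases Int.units_eq_one_or u with h1 | h1
  · exact h1
  · rw [h1, hm.neg_one_pow] at h
    exact absurd h (by decide)

theorem sign_eq_one_of_odd_order {α : Type*} [Fintype α] [DecidableEq α] (σ : Perm α)
    (h : Odd (orderOf σ)) : Perm.sign σ = 1 := by
  apply units_eq_one_of_odd_pow _ h
  rw [← map_pow, pow_orderOf_eq_one, map_one]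

/-- A permutation with two distinct fixed points is conjugate to its inverse by an even
permutation. -/
theorem exists_even_conj_inv {α : Type*} [Fintype α] [DecidableEq α] (y : Perm α) (a b : α)
    (hab : a ≠ b) (ha : y a = a) (hb : y b = b) :
    ∃ g : Perm α, Perm.sign g = 1 ∧ g * y * g⁻¹ = y⁻¹ := by
  have hconj : IsConj y y⁻¹ := by
    rw [Perm.isConj_iff_cycleType_eq, Perm.cycleType_inv]
  obtain ⟨g, hg⟩ := isConj_iff.mp hconj
  rcases Int.units_eq_one_or (Perm.sign g) with h1 | h1
  · exact ⟨g, h1, hg⟩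
  · refine ⟨g * swap a b, ?_, ?_⟩
    · rw [map_mul, h1, Perm.sign_swap hab]; decide
    · have hcomm : y * swap a b = swap a b * y := by
        have := Equiv.mul_swap_eq_swap_mul y a b
        rwa [ha, hb] at this
      have : swap a b * y * (swap a b)⁻¹ = y := by
        rw [← hcomm, mul_inv_cancel_right]
      rw [mul_inv_rev, ← hg]
      calc g * swap a b * y * ((swap a b)⁻¹ * g⁻¹)
          = g * (swap a b * y * (swap a b)⁻¹) * g⁻¹ := by group
        _ = g * y * g⁻¹ := by rw [this]

/-- For `p + 2 ≤ n`, `2 ≤ p`, an element of order `p` of `Perm (Fin n)` with two fixed points. -/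
theorem exists_order_p_two_fixed (n p : ℕ) (hp : 2 ≤ p) (hn : p + 2 ≤ n) :
    ∃ y : Perm (Fin n), orderOf y = p ∧ ∃ a b : Fin n, a ≠ b ∧ y a = a ∧ y b = b := by
  have hle : p ≤ n := by omega
  let ι : Fin p ↪ Fin n := Fin.castLEEmb hle
  refine ⟨Perm.viaEmbeddingHom ι (finRotate p), ?_, ⟨p, by omega⟩, ⟨p + 1, by omega⟩, ?_, ?_, ?_⟩
  · rw [orderOf_injective _ (Perm.viaEmbeddingHom_injective ι), ← Perm.lcm_cycleType,
      cycleType_finRotate_of_le hp]
    simp
  · intro h
    have := congrArg Fin.val h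
    simp at this
  · rw [Perm.viaEmbeddingHom_apply]
    apply Perm.viaEmbedding_apply_of_notMem
    rintro ⟨x, hx⟩
    have := congrArg Fin.val hx
    simp [ι] at this
    omega
  · rw [Perm.viaEmbeddingHom_apply]
    apply Perm.viaEmbedding_apply_of_notMem
    rintro ⟨x, hx⟩
    have := congrArg Fin.val hx
    simp [ι] at this
    omega

/-- For an odd prime `p` with `p + 2 ≤ n`, `A_n` has an element of order `p` conjugate (in `A_n`)
to its inverse. -/
theorem exists_real_order_p (n p : ℕ) (hp : p.Prime) (hp2 : p ≠ 2) (hn : p + 2 ≤ n) :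
    ∃ y g : alternatingGroup (Fin n), orderOf y = p ∧ g * y * g⁻¹ = y⁻¹ := by
  obtain ⟨y, hy, a, b, hab, ha, hb⟩ := exists_order_p_two_fixed n p hp.two_le hn
  have hodd : Odd p := hp.odd_of_ne_two hp2
  have hys : Perm.sign y = 1 := sign_eq_one_of_odd_order y (by rw [hy]; exact hodd)
  obtain ⟨g, hg1, hg⟩ := exists_even_conj_inv y a b hab ha hb
  refine ⟨⟨y, Perm.mem_alternatingGroup.mpr hys⟩, ⟨g, Perm.mem_alternatingGroup.mpr hg1⟩, ?_, ?_⟩
  · rw [← hy]; exact (Subgroup.orderOf_mk y _)
  · apply Subtype.ext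
    exact hg

end Cfsg.Agent.Helper57
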