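import Mathlib
import Cfsg.Agent.Lib.Helper57.AltReal
import Cfsg.Agent.Lib.Helper57.AltFacts

set_option autoImplicit false

namespace Cfsg.Agent.Helper57

open Subgroup

/-- Abelian Sylow `P`, `x ∈ P` of odd order, `x ≠ 1`, conjugate in `G` to its inverse:
then `|N(P) : C(P)|` is even. -/
theorem even_index_of_real {G : Type*} [Group G] [Finite G] {p : ℕ} [Fact p.Prime] (P : Sylow p G)
    (hP : IsMulCommutative P) (x r : G) (hx : x ∈ P) (hxo : Odd (orderOf x)) (hx1 : x ≠ 1)
    (hr : r * x * r⁻¹ = x⁻¹) :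
    2 ∣ ((centralizer ((P : Subgroup G) : Set G)).subgroupOf
      (normalizer ((P : Subgroup G) : Set G))).index := by
  have hy : r⁻¹⁻¹ * x * r⁻¹ ∈ P := by
    rw [inv_inv, hr]; exact inv_mem hx
  obtain ⟨m, hm, hmx⟩ := P.conj_eq_normalizer_conj_of_mem x r⁻¹ hx hy
  rw [inv_inv, hr] at hmx
  -- hmx : x⁻¹ = m⁻¹ * x * m
  by_contra h2
  obtain ⟨i, hi⟩ : ∃ i, i = ((centralizer ((P : Subgroup G) : Set G)).subgroupOf
      (normalizer ((P : Subgroup G) : Set G))).index := ⟨_, rfl⟩
  rw [← hi] at h2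
  have hodd : Odd i := by
    rcases Nat.even_or_odd i with he | ho
    · exact absurd (even_iff_two_dvd.mp he) h2
    · exact ho
  have hmi : m ^ i ∈ centralizer ((P : Subgroup G) : Set G) := by
    have := Subgroup.pow_index_mem ((centralizer ((P : Subgroup G) : Set G)).subgroupOf
      (normalizer ((P : Subgroup G) : Set G))) (⟨m, hm⟩ : normalizer ((P : Subgroup G) : Set G))
    rw [Subgroup.mem_subgroupOf, ← hi] at this
    simpa using this
  have hmiC : m ^ i ∈ centralizer ({x} : Set G) := by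
    rw [Subgroup.mem_centralizer_iff] at hmi ⊢
    intro h hh
    rw [Set.mem_singleton_iff] at hh
    subst hh
    exact hmi _ hx
  have h1 : x * m = m * x⁻¹ := by
    rw [hmx]; group
  have h2' : x⁻¹ * m = m * x := by
    have : x = m⁻¹ * (x⁻¹ * m) := by
      have := congrArg (·⁻¹) hmx
      simpa [mul_assoc] using this
    calc x⁻¹ * m = m * (m⁻¹ * (x⁻¹ * m)) := by group
      _ = m * x := by rw [← this]
  have hm2 : m ^ 2 ∈ centralizer ({x} : Set G) := by
    rw [Subgroup.mem_centralizer_iff]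
    intro h hh
    rw [Set.mem_singleton_iff] at hh
    subst hh
    rw [pow_two, ← mul_assoc, h1, mul_assoc, h2', ← mul_assoc]
  obtain ⟨t, ht⟩ := hodd
  have hmC : m ∈ centralizer ({x} : Set G) := by
    have : m = m ^ i * ((m ^ 2) ^ t)⁻¹ := by
      rw [ht, ← pow_mul, pow_succ', mul_inv_cancel_right]
    rw [this]
    exact mul_mem hmiC (inv_mem (pow_mem hm2 t))
  have hxm : x * m = m * x := by
    rw [Subgroup.mem_centralizer_iff] at hmC
    exact hmC x rfl
  have hxx : x⁻¹ = x := by
    rw [hmx, mul_assoc, hxm, inv_mul_cancel_left]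
  have hx2 : x ^ 2 = 1 := by
    rw [pow_two]
    nth_rewrite 1 [← hxx]
    exact inv_mul_cancel x
  have hd : orderOf x ∣ 2 := orderOf_dvd_of_pow_eq_one hx2
  have : orderOf x = 1 := by
    rcases (Nat.dvd_prime Nat.prime_two).mp hd with h | h
    · exact h
    · rw [h] at hxo; exact absurd hxo (by decide)
  exact hx1 (orderOf_eq_one_iff.mp this)

open Pointwise in
theorem conj_mem_smul_sylow {G : Type*} [Group G] {p : ℕ} (c y : G) (Q : Sylow p G)
    (hy : y ∈ Q) : c * y * c⁻¹ ∈ (c • Q : Sylow p G) := by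
  have h1 : c * y * c⁻¹ ∈ MulAut.conj c • (Q : Subgroup G) :=
    Subgroup.smul_mem_pointwise_smul y (MulAut.conj c) Q.1 hy
  exact h1

/-- In a finite simple group, a proper subgroup of index `k` forces `|G| ∣ k!`. -/
theorem card_dvd_factorial_index {G : Type*} [Group G] [Finite G] [IsSimpleGroup G]
    (H : Subgroup G) (hH : H ≠ ⊤) : Nat.card G ∣ (H.index).factorial := by
  let φ := MulAction.toPermHom G (G ⧸ H)
  rcases φ.normal_ker.eq_bot_or_eq_top with h | h
  · have hinj : Function.Injective φ := (MonoidHom.ker_eq_bot_iff φ).mp h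
    have := Subgroup.card_dvd_of_injective φ hinj
    rwa [Nat.card_perm] at this
  · exfalso
    apply hH
    rw [eq_top_iff]
    intro g _
    have hg : g ∈ φ.ker := h ▸ Subgroup.mem_top g
    rw [MonoidHom.mem_ker] at hg
    have := congrArg (fun σ : Equiv.Perm (G ⧸ H) => σ ((1 : G) : G ⧸ H)) hg
    simp only [φ, MulAction.toPermHom_apply, MulAction.toPerm_apply, Equiv.Perm.coe_one, id_eq] at this
    have h3 : ((g * 1 : G) : G ⧸ H) = ((1 : G) : G ⧸ H) := this
    rw [mul_one] at h3
    have h4 := QuotientGroup.eq.mp h3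
    rw [mul_one] at h4
    exact inv_mem_iff.mp h4

end Cfsg.Agent.Helper57
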