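import Mathlib
import Cfsg.Agent.Lib.Helper57.AltNC

set_option autoImplicit false

namespace Cfsg.Agent.Helper57

open Subgroup

theorem card_alt5 : Nat.card (alternatingGroup (Fin 5)) = 60 := by
  have := two_mul_card_alt 5 (by norm_num)
  have h5 : Nat.factorial 5 = 120 := by decide
  omega

theorem alt5_sylow2 (P : Sylow 2 (alternatingGroup (Fin 5))) :
    ((centralizer ((P : Subgroup (alternatingGroup (Fin 5))) : Set (alternatingGroup (Fin 5)))).subgroupOf
      (normalizer ((P : Subgroup (alternatingGroup (Fin 5))) : Set (alternatingGroup (Fin 5))))).index = 3 ∧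
    IsKleinFour (P : Subgroup (alternatingGroup (Fin 5))) := by
  have hG := card_alt5
  have : IsSimpleGroup (alternatingGroup (Fin 5)) := alternatingGroup.isSimpleGroup (by simp)
  -- |P| = 4, index 15
  have hmul := (P : Subgroup (alternatingGroup (Fin 5))).card_mul_index
  rw [hG] at hmul
  have hnd := P.not_dvd_index
  obtain ⟨k, hk⟩ := P.2.exists_card_eq
  have hP4 : Nat.card (P : Subgroup (alternatingGroup (Fin 5))) = 4 ∧
      (P : Subgroup (alternatingGroup (Fin 5))).index = 15 := by
    have hk' : Nat.card (P : Subgroup (alternatingGroup (Fin 5))) = 2 ^ k := hk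
    rw [hk'] at hmul ⊢
    have hk6 : k < 6 := by
      by_contra h
      push Not at h
      have : 2 ^ 6 ≤ 2 ^ k := Nat.pow_le_pow_right (by norm_num) h
      have hpos : 0 < (P : Subgroup (alternatingGroup (Fin 5))).index := by
        rcases Nat.eq_zero_or_pos (P : Subgroup (alternatingGroup (Fin 5))).index with h0 | h0
        · rw [h0] at hmul; omega
        · exact h0
      nlinarith
    have hk2 : k = 2 := by
      interval_cases k <;> simp only [Nat.reducePow] at hmul <;> omega
    subst hk2
    simp only [Nat.reducePow] at hmul ⊢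
    exact ⟨trivial, by omega⟩
  obtain ⟨hP4, hPi⟩ := hP4
  have hPc : IsMulCommutative (P : Subgroup (alternatingGroup (Fin 5))) :=
    IsPGroup.isMulCommutative_of_card_eq_prime_sq (p := 2) (by rw [hP4]; norm_num)
  set C := centralizer ((P : Subgroup (alternatingGroup (Fin 5))) : Set (alternatingGroup (Fin 5)))
    with hC
  set N := normalizer ((P : Subgroup (alternatingGroup (Fin 5))) : Set (alternatingGroup (Fin 5)))
    with hN
  have hPC : (P : Subgroup (alternatingGroup (Fin 5))) ≤ C := P.le_centralizer
  have hCN : C ≤ N := centralizer_le_normalizer _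
  have hPN : (P : Subgroup (alternatingGroup (Fin 5))) ≤ N := hPC.trans hCN
  -- Burnside
  have hNC : ¬ N ≤ C := by
    intro h
    have hcomp := MonoidHom.ker_transferSylow_isComplement' P h
    have h1 := hcomp.index_eq_card
    have h2 := (MonoidHom.transferSylow P h).ker.card_mul_index
    rcases (MonoidHom.transferSylow P h).normal_ker.eq_bot_or_eq_top with h3 | h3
    · rw [h3] at h1 h2
      rw [Subgroup.card_bot] at h1
      omega
    · rw [h3] at h1
      rw [Subgroup.card_top, hG] at h1
      omega
  have hi1 : C.relIndex N ≠ 1 := fun h => hNC (relIndex_eq_one.mp h)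
  have ha := relIndex_mul_index hPN
  rw [hPi] at ha
  have hb := relIndex_mul_relIndex _ _ _ hPC hCN
  have h5 : ¬ 5 ∣ (P : Subgroup (alternatingGroup (Fin 5))).relIndex N := by
    intro h5
    obtain ⟨c, hc⟩ := h5
    rw [hc] at ha
    have hcN : c * N.index = 3 := by nlinarith
    have hNi : N.index = 1 ∨ N.index = 3 := by
      have : N.index ∣ 3 := ⟨c, by rw [← hcN, mul_comm]⟩
      exact (Nat.dvd_prime Nat.prime_three).mp this
    rcases hNi with h1 | h3
    · have hNt : N = ⊤ := index_eq_one.mp h1
      have hnorm : (P : Subgroup (alternatingGroup (Fin 5))).Normal :=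
        normalizer_eq_top_iff.mp hNt
      rcases hnorm.eq_bot_or_eq_top with hb' | ht
      · rw [hb', Subgroup.card_bot] at hP4; omega
      · rw [ht, Subgroup.card_top, hG] at hP4; omega
    · have hNt : N ≠ ⊤ := by
        intro h; rw [h, index_top] at h3; omega
      have := card_dvd_factorial_index N hNt
      rw [h3, hG] at this
      have h6 : Nat.factorial 3 = 6 := by decide
      rw [h6] at this
      omega
  have hidx : C.relIndex N = 3 := by
    have ha15 : (P : Subgroup (alternatingGroup (Fin 5))).relIndex N ∣ 15 := ⟨_, ha.symm⟩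
    have hia : C.relIndex N ∣ (P : Subgroup (alternatingGroup (Fin 5))).relIndex N :=
      ⟨_, by rw [← hb, mul_comm]⟩
    have hle : (P : Subgroup (alternatingGroup (Fin 5))).relIndex N ≤ 15 :=
      Nat.le_of_dvd (by norm_num) ha15
    have hle' : C.relIndex N ≤ (P : Subgroup (alternatingGroup (Fin 5))).relIndex N :=
      Nat.le_of_dvd (Nat.pos_of_dvd_of_pos ha15 (by norm_num)) hia
    generalize (P : Subgroup (alternatingGroup (Fin 5))).relIndex N = a at *
    generalize C.relIndex N = i at *
    interval_cases a <;> first | omega | (interval_cases i <;> omega)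
  refine ⟨hidx, ⟨hP4, ?_⟩⟩
  -- exponent 2
  have hncyc : ¬ IsCyclic (P : Subgroup (alternatingGroup (Fin 5))) := by
    intro hcyc
    apply hNC
    have hmf : (Nat.card (alternatingGroup (Fin 5))).minFac = 2 := by rw [hG]; norm_num
    exact IsCyclic.normalizer_le_centralizer hmf hcyc
  have : Nontrivial (P : Subgroup (alternatingGroup (Fin 5))) := by
    rw [← Finite.one_lt_card_iff_nontrivial, hP4]; norm_num
  rw [Monoid.exponent_eq_prime_iff Nat.prime_two]
  intro g hg
  have hd : orderOf g ∣ 4 := hP4 ▸ orderOf_dvd_natCard g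
  have hle : orderOf g ≤ 4 := Nat.le_of_dvd (by norm_num) hd
  have h1 : orderOf g ≠ 1 := fun h => hg (orderOf_eq_one_iff.mp h)
  have h4 : orderOf g ≠ 4 := by
    intro h
    apply hncyc
    exact isCyclic_of_orderOf_eq_card g (by rw [h, hP4])
  have h0 : 0 < orderOf g := orderOf_pos g
  interval_cases (orderOf g) <;> omega

end Cfsg.Agent.Helper57
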