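import Cfsg.Agent.Lib.Helper57.B2TwoMain

set_option autoImplicit false

namespace Cfsg.Agent.Helper57
namespace B2Two

open Cfsg.Lie BitMat Matrix

/-- The group `B2(2)` inside `GL₁₀(𝔽₂)`. -/
abbrev G2 : Subgroup (GL I10 (ZMod 2)) := chevB2.group (ZMod 2)

/-- The generating set, with all types spelled out on the index type `I10`. -/
def S10 : Set (GL I10 (ZMod 2)) :=
  {g | ∃ (r : Fin 8) (t : ZMod 2), (g : Matrix I10 I10 (ZMod 2)) = chevB2.xMat (ZMod 2) r t}

theorem G2_eq : G2 = Subgroup.closure S10 := rfl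

theorem zmod2_cases : ∀ t : ZMod 2, t = 0 ∨ t = 1 := by decide

theorem gen_cases (g : GL I10 (ZMod 2)) (hg : g ∈ S10) :
    (g : Matrix I10 I10 (ZMod 2)) = 1 ∨
      ∃ r : Fin 8, (g : Matrix I10 I10 (ZMod 2)) = matOf (EI r.val) := by
  obtain ⟨r, t, h⟩ := hg
  rcases zmod2_cases t with rfl | rfl
  · left
    rw [h]
    exact xMat_zero r
  · right
    exact ⟨r, by rw [h]; exact xMat_one r⟩

theorem card_G2_le : Nat.card G2 ≤ 720 :=
  card_closure_le 10 pos pos_inj pos_lt 720 T (fun r : Fin 8 => EI r.val)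
    (fun (r : Fin 8) k => wN r.val k) (by norm_num) h0 hw hinv S10 gen_cases

theorem xMat_sq (r : Fin 8) :
    (chevB2.xMat (ZMod 2) r 1 : Matrix I10 I10 (ZMod 2)) * chevB2.xMat (ZMod 2) r 1 = 1 := by
  rw [xMat_one]
  exact matOf_sq 10 pos pos_inj pos_lt 720 T (fun r : Fin 8 => EI r.val)
    (fun (r : Fin 8) k => wN r.val k) (by norm_num) h0 hw hinv r

/-- The root elements `x_r(1)` as elements of the general linear group. -/
def gU (r : Fin 8) : GL I10 (ZMod 2) :=
  ⟨chevB2.xMat (ZMod 2) r 1, chevB2.xMat (ZMod 2) r 1, xMat_sq r, xMat_sq r⟩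

theorem gU_mem (r : Fin 8) : gU r ∈ G2 :=
  Subgroup.subset_closure ⟨r, 1, rfl⟩

theorem gU_inv_val (r : Fin 8) :
    ((gU r)⁻¹ : GL I10 (ZMod 2)).val = chevB2.xMat (ZMod 2) r 1 := rfl

/-- The matrices which, together with their inverses, permute the six covectors. -/
def stab : Subgroup (GL I10 (ZMod 2)) where
  carrier := {g | (∀ i, ∃ j, Matrix.vecMul (cov i) (g : Matrix I10 I10 (ZMod 2)) = cov j) ∧
    (∀ i, ∃ j, Matrix.vecMul (cov i) ((g⁻¹ : GL I10 (ZMod 2)) : Matrix I10 I10 (ZMod 2)) =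
      cov j)}
  one_mem' := by
    simp only [Set.mem_ofPred_eq, inv_one, Units.val_one, Matrix.vecMul_one]
    exact ⟨fun i => ⟨i, rfl⟩, fun i => ⟨i, rfl⟩⟩
  mul_mem' := by
    intro x y hx hy
    refine ⟨fun i => ?_, fun i => ?_⟩
    · obtain ⟨j, hj⟩ := hx.1 i
      obtain ⟨k, hk⟩ := hy.1 j
      exact ⟨k, by rw [Units.val_mul, ← Matrix.vecMul_vecMul, hj, hk]⟩
    · obtain ⟨j, hj⟩ := hy.2 i
      obtain ⟨k, hk⟩ := hx.2 j
      exact ⟨k, by rw [_root_.mul_inv_rev, Units.val_mul, ← Matrix.vecMul_vecMul, hj, hk]⟩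
  inv_mem' := by
    intro x hx
    refine ⟨hx.2, ?_⟩
    rw [inv_inv]
    exact hx.1

theorem gU_mem_stab (r : Fin 8) : gU r ∈ stab := by
  refine ⟨fun i => ⟨sigF r.val i, ?_⟩, fun i => ⟨sigF r.val i, ?_⟩⟩
  · exact cov_act r i
  · rw [gU_inv_val]
    exact cov_act r i

theorem G2_le_stab : G2 ≤ stab := by
  rw [G2_eq, Subgroup.closure_le]
  rintro g ⟨r, t, h⟩
  rcases zmod2_cases t with rfl | rfl
  · have hg1 : g = (1 : GL I10 (ZMod 2)) := Units.ext (by rw [h]; exact xMat_zero r)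
    rw [hg1]
    exact stab.one_mem
  · have hg1 : g = gU r := Units.ext h
    rw [hg1]
    exact gU_mem_stab r

/-- Every element of the group, and its inverse, permutes the six covectors. -/
theorem perm_cov (g : GL I10 (ZMod 2)) (hg : g ∈ G2) :
    (∀ i, ∃ j, Matrix.vecMul (cov i) (g : Matrix I10 I10 (ZMod 2)) = cov j) ∧
    (∀ i, ∃ j, Matrix.vecMul (cov i) ((g⁻¹ : GL I10 (ZMod 2)) : Matrix I10 I10 (ZMod 2)) =
      cov j) := G2_le_stab hg

/-- The action on the indices of the six covectors. -/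
noncomputable def actF (g : G2) (i : Fin 6) : Fin 6 :=
  Classical.choose ((perm_cov g.1 g.2).2 i)

theorem actF_spec (g : G2) (i : Fin 6) :
    Matrix.vecMul (cov i) (((g : GL I10 (ZMod 2))⁻¹ : GL I10 (ZMod 2)) : Matrix I10 I10 (ZMod 2)) =
      cov (actF g i) :=
  Classical.choose_spec ((perm_cov g.1 g.2).2 i)

theorem actF_one (i : Fin 6) : actF 1 i = i := by
  apply cov_inj
  rw [← actF_spec]
  simp

theorem actF_mul (g h : G2) (i : Fin 6) : actF (g * h) i = actF g (actF h i) := by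
  apply cov_inj
  rw [← actF_spec, ← actF_spec, ← actF_spec]
  simp only [Subgroup.coe_mul, _root_.mul_inv_rev, Units.val_mul, Matrix.vecMul_vecMul]

noncomputable instance : MulAction G2 (Fin 6) where
  smul := actF
  one_smul := actF_one
  mul_smul := actF_mul

/-- The permutation representation on the six covectors. -/
noncomputable def phi : G2 →* Equiv.Perm (Fin 6) := MulAction.toPermHom G2 (Fin 6)

theorem phi_apply (g : G2) (i : Fin 6) : phi g i = actF g i := rfl

theorem phi_gU (r : Fin 8) (i : Fin 6) : phi ⟨gU r, gU_mem r⟩ i = sigF r.val i := by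
  rw [phi_apply]
  apply cov_inj
  rw [← actF_spec]
  exact cov_act r i

theorem sig_rot : ∀ i : Fin 6, sigF 0 (sigF 1 (sigF 6 i)) = finRotate 6 i := by decide

theorem sig_swap : ∀ i : Fin 6, sigF 7 i = Equiv.swap (0 : Fin 6) (finRotate 6 0) i := by decide

theorem phi_surj : Function.Surjective phi := by
  rw [← MonoidHom.range_eq_top, eq_top_iff]
  have hcyc : (finRotate 6).IsCycle := isCycle_finRotate
  have hsupp : (finRotate 6).support = ⊤ := by
    rw [support_finRotate]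
    rfl
  rw [← Equiv.Perm.closure_cycle_adjacent_swap hcyc hsupp (0 : Fin 6)]
  rw [Subgroup.closure_le]
  rintro σ (rfl | rfl)
  · refine ⟨⟨gU 0, gU_mem 0⟩ * ⟨gU 1, gU_mem 1⟩ * ⟨gU 6, gU_mem 6⟩, ?_⟩
    ext i
    rw [map_mul, map_mul, Equiv.Perm.mul_apply, Equiv.Perm.mul_apply, phi_gU, phi_gU, phi_gU]
    exact congrArg Fin.val (sig_rot i)
  · refine ⟨⟨gU 7, gU_mem 7⟩, ?_⟩
    ext i
    rw [phi_gU]
    exact congrArg Fin.val (sig_swap i)

theorem phi_bij : Function.Bijective phi := by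
  have : Finite G2 := inferInstance
  apply Function.Surjective.bijective_of_nat_card_le phi_surj
  have h1 : Nat.card (Equiv.Perm (Fin 6)) = 720 := by
    rw [Nat.card_eq_fintype_card, Fintype.card_perm, Fintype.card_fin]
    rfl
  rw [h1]
  exact card_G2_le

/-- `B2(2) ≅ S₆` over the prime field. -/
noncomputable def isoZMod : G2 ≃* Equiv.Perm (Fin 6) := MulEquiv.ofBijective phi phi_bij

theorem iso_of_card_two {F : Type*} [Field F] [Fintype F] (hF : Fintype.card F = 2) :
    Nonempty (↥(chevB2.group F) ≃* Equiv.Perm (Fin 6)) := by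
  have e : ZMod 2 ≃+* F := ZMod.ringEquivOfPrime F Nat.prime_two hF
  exact ⟨(ChevBase.groupEquiv chevB2 e).symm.trans isoZMod⟩

end B2Two
end Cfsg.Agent.Helper57
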