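import Cfsg.Agent.Lib.Helper57.B2TwoData

set_option autoImplicit false

namespace Cfsg.Agent.Helper57
namespace B2Two

open Cfsg.Lie BitMat Matrix

theorem pos_inj : Function.Injective pos := by decide

theorem pos_lt : ∀ b, pos b < 10 := by decide

/-- The table check, as a Boolean computation on natural numbers. -/
def check : Bool :=
  (List.range 8).all fun r => (List.range 720).all fun k =>
    decide (wN r k < 720) && (mulCodeN 10 (EN r) (T k) == T (wN r k))

theorem check_true : check = true := by decide +kernel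

theorem posList_EI (r : Fin 8) : posList pos (EI r.val) = EN r.val := by
  fin_cases r <;> rfl

theorem hw (r : Fin 8) (k : ℕ) (hk : k < 720) :
    wN r.val k < 720 ∧ mulCodeN 10 (posList pos (EI r.val)) (T k) = T (wN r.val k) := by
  have h := check_true
  unfold check at h
  rw [List.all_eq_true] at h
  have h1 := h r.val (List.mem_range.mpr r.isLt)
  rw [List.all_eq_true] at h1
  have h2 := h1 k (List.mem_range.mpr hk)
  rw [Bool.and_eq_true, decide_eq_true_eq, beq_iff_eq] at h2
  rw [posList_EI]
  exact h2

theorem hinv (r : Fin 8) : wN r.val (wN r.val 0) = 0 := by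
  revert r
  decide +kernel

theorem h0 : dec 10 pos (T 0) = (1 : Matrix I10 I10 (ZMod 2)) := by decide +kernel

/-- Entries of the root elements. -/
def entX (t : ZMod 2) (p : Fin 8 × I10 × I10) : ZMod 2 :=
  chevB2.xMat (ZMod 2) p.1 t p.2.1 p.2.2

/-- Entries of the matrices described by the position lists. -/
def entE (p : Fin 8 × I10 × I10) : ZMod 2 :=
  (matOf (EI p.1.val) : Matrix I10 I10 (ZMod 2)) p.2.1 p.2.2

/-- Entries of the identity matrix. -/
def entI (p : Fin 8 × I10 × I10) : ZMod 2 :=
  (1 : Matrix I10 I10 (ZMod 2)) p.2.1 p.2.2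

theorem entX_one : ∀ p, entX 1 p = entE p := by decide +kernel

theorem entX_zero : ∀ p, entX 0 p = entI p := by decide +kernel

theorem xMat_one (r : Fin 8) :
    (chevB2.xMat (ZMod 2) r 1 : Matrix I10 I10 (ZMod 2)) = matOf (EI r.val) := by
  ext a b
  exact entX_one (r, a, b)

theorem xMat_zero (r : Fin 8) :
    (chevB2.xMat (ZMod 2) r 0 : Matrix I10 I10 (ZMod 2)) = 1 := by
  ext a b
  exact entX_zero (r, a, b)

theorem cov_inj : Function.Injective cov := by decide +kernel

/-- Entries of the images of the six covectors under the root elements. -/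
def entC (p : Fin 8 × Fin 6 × I10) : ZMod 2 :=
  Matrix.vecMul (cov p.2.1) (chevB2.xMat (ZMod 2) p.1 1 : Matrix I10 I10 (ZMod 2)) p.2.2

/-- Entries of the permuted covectors. -/
def entS (p : Fin 8 × Fin 6 × I10) : ZMod 2 :=
  cov (sigF p.1.val p.2.1) p.2.2

theorem entC_eq : ∀ p, entC p = entS p := by decide +kernel

theorem cov_act (r : Fin 8) (i : Fin 6) :
    Matrix.vecMul (cov i) (chevB2.xMat (ZMod 2) r 1 : Matrix I10 I10 (ZMod 2)) =
      cov (sigF r.val i) := by
  funext b
  exact entC_eq (r, i, b)

end B2Two
end Cfsg.Agent.Helper57
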