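import Cfsg.Agent.Lib.Helper73.BG161Ctx
import Cfsg.Agent.Lib.Helper55.BGFit

/-!
# (B10) of helper73's B–G Lemma 16.1 lemma server: `M ∩ H = U K`
-/

set_option autoImplicit false

namespace Cfsg.Agent.Helper57.BG161

open Subgroup
open scoped commutatorElement Pointwise
open Cfsg.Agent.Helper73.BG161

variable {G : Type*} [Group G] [Finite G]

omit [Finite G] in
/-- two subgroups with no common prime divisor meet trivially -/
theorem inf_eq_bot_of_primes {A B : Subgroup G}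
    (h : ∀ p : ℕ, p.Prime → p ∣ Nat.card A → p ∣ Nat.card B → False) : A ⊓ B = ⊥ := by
  by_contra hne
  have hcard : Nat.card (A ⊓ B : Subgroup G) ≠ 1 := fun h1 => hne (Subgroup.card_eq_one.mp h1)
  obtain ⟨p, hp, hpd⟩ := Nat.exists_prime_and_dvd hcard
  exact h p hp (hpd.trans (Subgroup.card_dvd_of_le inf_le_left))
    (hpd.trans (Subgroup.card_dvd_of_le inf_le_right))

/-- `σ(M) ∩ σ(H) = ∅` as `H` is not conjugate to `M`. -/
theorem sigma_disjoint (f : Facts G) {M K U Mstar H : Subgroup G} (b : Base M K U Mstar H)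
    (p : ℕ) (h1 : p ∈ Cfsg.sigma M) (h2 : p ∈ Cfsg.sigma H) : False := by
  obtain ⟨g, hg⟩ := f.t1378.2 M H b.hM b.hH ⟨p, h1, h2⟩
  exact b.hHM g hg

/-- `M_σ ∩ H = 1`. -/
theorem sigmaCore_inf_eq_bot (f : Facts G) {M K U Mstar H : Subgroup G} (b : Base M K U Mstar H)
    (hU : U ≤ Cfsg.sigmaCore H) : Cfsg.sigmaCore M ⊓ H = ⊥ := by
  have hUM : U ≤ M := b.hKU.compl.1
  have hMsN : M ≤ normalizer (Cfsg.sigmaCore M : Set G) :=
    Cfsg.Agent.Helper55.BGB.le_normalizer_sigmaCore M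
  have hHsN : H ≤ normalizer (Cfsg.sigmaCore H : Set G) :=
    Cfsg.Agent.Helper55.BGB.le_normalizer_sigmaCore H
  have hDHs : (Cfsg.sigmaCore M ⊓ H) ⊓ Cfsg.sigmaCore H = ⊥ := by
    apply inf_eq_bot_of_primes
    intro p hp h1 h2
    exact sigma_disjoint f b p
      (Cfsg.Agent.Helper55.BGB.isPi_sigmaCore M p hp
        (h1.trans (Subgroup.card_dvd_of_le inf_le_left)))
      (Cfsg.Agent.Helper55.BGB.isPi_sigmaCore H p hp h2)
  have hDC : Cfsg.sigmaCore M ⊓ H ≤ centralizer (U : Set G) := by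
    intro d hd
    obtain ⟨hdM, hdH⟩ := Subgroup.mem_inf.mp hd
    rw [Subgroup.mem_centralizer_iff]
    intro u hu
    have hc : ⁅d, u⁆ ∈ (Cfsg.sigmaCore M ⊓ H) ⊓ Cfsg.sigmaCore H := by
      refine Subgroup.mem_inf.mpr ⟨Subgroup.mem_inf.mpr ⟨?_, ?_⟩, ?_⟩
      · have h1 : u * d⁻¹ * u⁻¹ ∈ Cfsg.sigmaCore M :=
          (mem_normalizer_iff.mp (hMsN (hUM hu)) d⁻¹).mp (inv_mem hdM)
        have h2 : ⁅d, u⁆ = d * (u * d⁻¹ * u⁻¹) := by
          rw [commutatorElement_def]; group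
        rw [h2]
        exact mul_mem hdM h1
      · rw [commutatorElement_def]
        exact mul_mem (mul_mem (mul_mem hdH (b.hUH hu)) (inv_mem hdH)) (inv_mem (b.hUH hu))
      · have h1 : d * u * d⁻¹ ∈ Cfsg.sigmaCore H :=
          (mem_normalizer_iff.mp (hHsN hdH) u).mp (hU hu)
        rw [commutatorElement_def]
        exact mul_mem h1 (inv_mem (hU hu))
    rw [hDHs, Subgroup.mem_bot, commutatorElement_eq_one_iff_mul_comm] at hc
    exact hc.symm
  rw [eq_bot_iff, ← b.hCU]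
  exact le_inf inf_le_left hDC

/-- (B10) `M ∩ H = U K`. -/
theorem inf_eq_sup (f : Facts G) {M K U Mstar H : Subgroup G} (b : Base M K U Mstar H)
    (hU : U ≤ Cfsg.sigmaCore H) : M ⊓ H = U ⊔ K := by
  have hUM : U ≤ M := b.hKU.compl.1
  have hKM : K ≤ M := b.hKU.hall.1
  have hMsN : M ≤ normalizer (Cfsg.sigmaCore M : Set G) :=
    Cfsg.Agent.Helper55.BGB.le_normalizer_sigmaCore M
  have hD1 : Cfsg.sigmaCore M ⊓ H = ⊥ := sigmaCore_inf_eq_bot f b hU
  apply le_antisymm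
  · intro m hm
    obtain ⟨hmM, hmH⟩ := Subgroup.mem_inf.mp hm
    obtain ⟨u, hu, c, hc, rfl⟩ := b.hKU.compl.2.2.2 m hmM
    have hKN : K ≤ normalizer (Cfsg.sigmaCore M : Set G) := hKM.trans hMsN
    have hc' : c ∈ ((K ⊔ Cfsg.sigmaCore M : Subgroup G) : Set G) := hc
    rw [Subgroup.coe_mul_of_left_le_normalizer_right K _ hKN] at hc'
    obtain ⟨k, hk, n, hn, rfl⟩ := Set.mem_mul.mp hc'
    have hk' : k ∈ K := hk
    have hn' : n ∈ Cfsg.sigmaCore M := hn
    have hnH : n ∈ H := by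
      have h1 : n = k⁻¹ * (u⁻¹ * (u * (k * n))) := by group
      rw [h1]
      exact H.mul_mem (H.inv_mem (b.hKH hk')) (H.mul_mem (H.inv_mem (b.hUH hu)) hmH)
    have hn1 : n = 1 := by
      have h2 : n ∈ Cfsg.sigmaCore M ⊓ H := Subgroup.mem_inf.mpr ⟨hn', hnH⟩
      rw [hD1] at h2
      exact Subgroup.mem_bot.mp h2
    rw [hn1, mul_one]
    exact mul_mem (Subgroup.mem_sup_left hu) (Subgroup.mem_sup_right hk')
  · exact sup_le (le_inf hUM b.hUH) (le_inf hKM b.hKH)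

end Cfsg.Agent.Helper57.BG161
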