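import Cfsg.Agent.Lib.Helper57.Frobenius

set_option autoImplicit false

namespace Cfsg.Agent.Helper57

open Quaternion

/-- The field with `169` elements as `𝔽₁₃[√2]` (only its ring structure is used). -/
abbrev R13 := QuadraticAlgebra (ZMod 13) 2 0

/-- Quaternions over `𝔽₁₃[√2]`. -/
abbrev A13 := ℍ[R13]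

instance : DecidableEq A13 := fun a b =>
  decidable_of_iff (a.re = b.re ∧ a.imI = b.imI ∧ a.imJ = b.imJ ∧ a.imK = b.imK)
    (by constructor
        · rintro ⟨h1, h2, h3, h4⟩; exact QuaternionAlgebra.ext h1 h2 h3 h4
        · rintro rfl; exact ⟨rfl, rfl, rfl, rfl⟩)

instance : Finite R13 := Finite.of_equiv _ (QuadraticAlgebra.equivProd (2 : ZMod 13) 0).symm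

instance : Finite A13 :=
  Finite.of_equiv _ (QuaternionAlgebra.equivProd (-1 : R13) 0 (-1)).symm

/-- `(1 + i) / √2`, of order `8`. -/
def rho : A13 := ⟨⟨0, 7⟩, ⟨0, 7⟩, 0, 0⟩

/-- `(1 + i + j + k) / 2`, of order `6`. -/
def om : A13 := ⟨⟨7, 0⟩, ⟨7, 0⟩, ⟨7, 0⟩, ⟨7, 0⟩⟩

def elts : List A13 := [
  ⟨⟨1, 0⟩, ⟨0, 0⟩, ⟨0, 0⟩, ⟨0, 0⟩⟩, ⟨⟨12, 0⟩, ⟨0, 0⟩, ⟨0, 0⟩, ⟨0, 0⟩⟩,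
  ⟨⟨0, 0⟩, ⟨1, 0⟩, ⟨0, 0⟩, ⟨0, 0⟩⟩, ⟨⟨0, 0⟩, ⟨12, 0⟩, ⟨0, 0⟩, ⟨0, 0⟩⟩,
  ⟨⟨0, 0⟩, ⟨0, 0⟩, ⟨1, 0⟩, ⟨0, 0⟩⟩, ⟨⟨0, 0⟩, ⟨0, 0⟩, ⟨12, 0⟩, ⟨0, 0⟩⟩,
  ⟨⟨0, 0⟩, ⟨0, 0⟩, ⟨0, 0⟩, ⟨1, 0⟩⟩, ⟨⟨0, 0⟩, ⟨0, 0⟩, ⟨0, 0⟩, ⟨12, 0⟩⟩,
  ⟨⟨7, 0⟩, ⟨7, 0⟩, ⟨7, 0⟩, ⟨7, 0⟩⟩, ⟨⟨7, 0⟩, ⟨7, 0⟩, ⟨7, 0⟩, ⟨6, 0⟩⟩,
  ⟨⟨7, 0⟩, ⟨7, 0⟩, ⟨6, 0⟩, ⟨7, 0⟩⟩, ⟨⟨7, 0⟩, ⟨7, 0⟩, ⟨6, 0⟩, ⟨6, 0⟩⟩,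
  ⟨⟨7, 0⟩, ⟨6, 0⟩, ⟨7, 0⟩, ⟨7, 0⟩⟩, ⟨⟨7, 0⟩, ⟨6, 0⟩, ⟨7, 0⟩, ⟨6, 0⟩⟩,
  ⟨⟨7, 0⟩, ⟨6, 0⟩, ⟨6, 0⟩, ⟨7, 0⟩⟩, ⟨⟨7, 0⟩, ⟨6, 0⟩, ⟨6, 0⟩, ⟨6, 0⟩⟩,
  ⟨⟨6, 0⟩, ⟨7, 0⟩, ⟨7, 0⟩, ⟨7, 0⟩⟩, ⟨⟨6, 0⟩, ⟨7, 0⟩, ⟨7, 0⟩, ⟨6, 0⟩⟩,
  ⟨⟨6, 0⟩, ⟨7, 0⟩, ⟨6, 0⟩, ⟨7, 0⟩⟩, ⟨⟨6, 0⟩, ⟨7, 0⟩, ⟨6, 0⟩, ⟨6, 0⟩⟩,
  ⟨⟨6, 0⟩, ⟨6, 0⟩, ⟨7, 0⟩, ⟨7, 0⟩⟩, ⟨⟨6, 0⟩, ⟨6, 0⟩, ⟨7, 0⟩, ⟨6, 0⟩⟩,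
  ⟨⟨6, 0⟩, ⟨6, 0⟩, ⟨6, 0⟩, ⟨7, 0⟩⟩, ⟨⟨6, 0⟩, ⟨6, 0⟩, ⟨6, 0⟩, ⟨6, 0⟩⟩,
  ⟨⟨0, 7⟩, ⟨0, 7⟩, ⟨0, 0⟩, ⟨0, 0⟩⟩, ⟨⟨0, 7⟩, ⟨0, 6⟩, ⟨0, 0⟩, ⟨0, 0⟩⟩,
  ⟨⟨0, 6⟩, ⟨0, 7⟩, ⟨0, 0⟩, ⟨0, 0⟩⟩, ⟨⟨0, 6⟩, ⟨0, 6⟩, ⟨0, 0⟩, ⟨0, 0⟩⟩,
  ⟨⟨0, 7⟩, ⟨0, 0⟩, ⟨0, 7⟩, ⟨0, 0⟩⟩, ⟨⟨0, 7⟩, ⟨0, 0⟩, ⟨0, 6⟩, ⟨0, 0⟩⟩,
  ⟨⟨0, 6⟩, ⟨0, 0⟩, ⟨0, 7⟩, ⟨0, 0⟩⟩, ⟨⟨0, 6⟩, ⟨0, 0⟩, ⟨0, 6⟩, ⟨0, 0⟩⟩,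
  ⟨⟨0, 7⟩, ⟨0, 0⟩, ⟨0, 0⟩, ⟨0, 7⟩⟩, ⟨⟨0, 7⟩, ⟨0, 0⟩, ⟨0, 0⟩, ⟨0, 6⟩⟩,
  ⟨⟨0, 6⟩, ⟨0, 0⟩, ⟨0, 0⟩, ⟨0, 7⟩⟩, ⟨⟨0, 6⟩, ⟨0, 0⟩, ⟨0, 0⟩, ⟨0, 6⟩⟩,
  ⟨⟨0, 0⟩, ⟨0, 7⟩, ⟨0, 7⟩, ⟨0, 0⟩⟩, ⟨⟨0, 0⟩, ⟨0, 7⟩, ⟨0, 6⟩, ⟨0, 0⟩⟩,
  ⟨⟨0, 0⟩, ⟨0, 6⟩, ⟨0, 7⟩, ⟨0, 0⟩⟩, ⟨⟨0, 0⟩, ⟨0, 6⟩, ⟨0, 6⟩, ⟨0, 0⟩⟩,
  ⟨⟨0, 0⟩, ⟨0, 7⟩, ⟨0, 0⟩, ⟨0, 7⟩⟩, ⟨⟨0, 0⟩, ⟨0, 7⟩, ⟨0, 0⟩, ⟨0, 6⟩⟩,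
  ⟨⟨0, 0⟩, ⟨0, 6⟩, ⟨0, 0⟩, ⟨0, 7⟩⟩, ⟨⟨0, 0⟩, ⟨0, 6⟩, ⟨0, 0⟩, ⟨0, 6⟩⟩,
  ⟨⟨0, 0⟩, ⟨0, 0⟩, ⟨0, 7⟩, ⟨0, 7⟩⟩, ⟨⟨0, 0⟩, ⟨0, 0⟩, ⟨0, 7⟩, ⟨0, 6⟩⟩,
  ⟨⟨0, 0⟩, ⟨0, 0⟩, ⟨0, 6⟩, ⟨0, 7⟩⟩, ⟨⟨0, 0⟩, ⟨0, 0⟩, ⟨0, 6⟩, ⟨0, 6⟩⟩]

/-- Inverse in `𝔽₁₃[√2]` by the norm formula (`z⁻¹ = z ^ 11` in `𝔽₁₃`). -/
def invR (n : R13) : R13 :=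
  let d : ZMod 13 := (n.re * n.re - 2 * n.im * n.im) ^ 11
  ⟨n.re * d, -(n.im * d)⟩

/-- A left inverse of `s - 1`, when the reduced norm of `s - 1` is invertible. -/
def witness (s : A13) : A13 :=
  let d : A13 := s - 1
  invR (star d * d).re • star d

set_option maxRecDepth 100000 in
theorem elts_closed : ∀ s ∈ elts,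
    rho * s ∈ elts ∧ star rho * s ∈ elts ∧ om * s ∈ elts ∧ star om * s ∈ elts := by
  decide

set_option maxRecDepth 100000 in
theorem elts_pow : ∀ s ∈ elts, s ^ 8 = 1 ∨ s ^ 6 = 1 := by
  decide

set_option maxRecDepth 100000 in
theorem elts_fpf : ∀ s ∈ elts, s = 1 ∨ witness s * (s - 1) = 1 := by
  decide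

theorem elts_length : elts.length = 48 := by decide

/-- `rho` as a unit. -/
def rhoU : A13ˣ := ⟨rho, star rho, by decide, by decide⟩

/-- `om` as a unit. -/
def omU : A13ˣ := ⟨om, star om, by decide, by decide⟩

/-- The binary octahedral group inside the units of `A13`. -/
def H2O : Subgroup A13ˣ := Subgroup.closure {rhoU, omU}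

theorem coe_mem_elts : ∀ h : A13ˣ, h ∈ H2O → (h : A13) ∈ elts := by
  intro h hh
  induction hh using Subgroup.closure_induction_left with
  | one => decide
  | mul_left x hx y _ ih =>
    rcases hx with rfl | rfl
    · exact (elts_closed _ ih).1
    · exact (elts_closed _ ih).2.2.1
  | inv_mul_cancel x hx y _ ih =>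
    rcases hx with rfl | rfl
    · exact (elts_closed _ ih).2.1
    · exact (elts_closed _ ih).2.2.2

theorem rhoU_mem : rhoU ∈ H2O := Subgroup.subset_closure (by simp)
theorem omU_mem : omU ∈ H2O := Subgroup.subset_closure (by simp)

end Cfsg.Agent.Helper57
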