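import Cfsg.Agent.Lib.Helper57.BinOct

set_option autoImplicit false

namespace Cfsg.Agent.Helper57

open Quaternion

theorem orderOf_rho : orderOf rho = 8 := by
  rw [orderOf_eq_iff (by norm_num)]
  decide

theorem orderOf_om : orderOf om = 6 := by
  rw [orderOf_eq_iff (by norm_num)]
  decide

/-- `rho` as an element of `H2O`. -/
def rhoH : H2O := ⟨rhoU, rhoU_mem⟩

/-- `om` as an element of `H2O`. -/
def omH : H2O := ⟨omU, omU_mem⟩

theorem orderOf_rhoH : orderOf rhoH = 8 := by
  have h1 : orderOf rhoH = orderOf rhoU := Subgroup.orderOf_mk rhoU rhoU_mem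
  have h2 : orderOf (rhoU : A13) = orderOf rhoU := orderOf_units
  rw [h1, ← h2]
  exact orderOf_rho

theorem orderOf_omH : orderOf omH = 6 := by
  have h1 : orderOf omH = orderOf omU := Subgroup.orderOf_mk omU omU_mem
  have h2 : orderOf (omU : A13) = orderOf omU := orderOf_units
  rw [h1, ← h2]
  exact orderOf_om

theorem pow_H2O (h : H2O) : h ^ 8 = 1 ∨ h ^ 6 = 1 := by
  have hm := coe_mem_elts h.1 h.2
  have key : ∀ n : ℕ, ((h.1 : A13ˣ) : A13) ^ n = 1 → h ^ n = 1 := by
    intro n hn
    apply Subtype.ext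
    apply Units.ext
    rw [Subgroup.coe_pow, Units.val_pow_eq_pow_val, hn]
    rfl
  rcases elts_pow _ hm with h8 | h6
  · exact Or.inl (key 8 h8)
  · exact Or.inr (key 6 h6)

theorem spec_H2O : Set.range (orderOf : H2O → ℕ) = {1, 2, 3, 4, 6, 8} := by
  apply Set.Subset.antisymm
  · rintro _ ⟨h, rfl⟩
    rcases pow_H2O h with h8 | h6
    · have h2 := Nat.mem_divisors.mpr ⟨orderOf_dvd_of_pow_eq_one h8, by norm_num⟩
      have h3 : Nat.divisors 8 = {1, 2, 4, 8} := by decide
      rw [h3] at h2
      simp only [Finset.mem_insert, Finset.mem_singleton] at h2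
      rcases h2 with h2 | h2 | h2 | h2 <;> simp [h2]
    · have h2 := Nat.mem_divisors.mpr ⟨orderOf_dvd_of_pow_eq_one h6, by norm_num⟩
      have h3 : Nat.divisors 6 = {1, 2, 3, 6} := by decide
      rw [h3] at h2
      simp only [Finset.mem_insert, Finset.mem_singleton] at h2
      rcases h2 with h2 | h2 | h2 | h2 <;> simp [h2]
  · intro n hn
    simp only [Set.mem_insert_iff, Set.mem_singleton_iff] at hn
    rcases hn with rfl | rfl | rfl | rfl | rfl | rfl
    · exact ⟨1, orderOf_one⟩
    · exact ⟨rhoH ^ 4, by rw [orderOf_pow, orderOf_rhoH]; rfl⟩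
    · exact ⟨omH ^ 2, by rw [orderOf_pow, orderOf_omH]; rfl⟩
    · exact ⟨rhoH ^ 2, by rw [orderOf_pow, orderOf_rhoH]; rfl⟩
    · exact ⟨omH, orderOf_omH⟩
    · exact ⟨rhoH, orderOf_rhoH⟩

instance : Finite A13ˣ := Finite.of_injective _ Units.val_injective

theorem card_H2O_le : Nat.card H2O ≤ 48 := by
  classical
  let f : H2O → {s : A13 // s ∈ elts.toFinset} :=
    fun h => ⟨((h.1 : A13ˣ) : A13), List.mem_toFinset.mpr (coe_mem_elts h.1 h.2)⟩
  have hf : Function.Injective f := by
    intro a b hab
    have : ((a.1 : A13ˣ) : A13) = ((b.1 : A13ˣ) : A13) := congrArg Subtype.val hab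
    exact Subtype.ext (Units.ext this)
  have h1 := Nat.card_le_card_of_injective f hf
  have h2 : Nat.card {s : A13 // s ∈ elts.toFinset} = elts.toFinset.card := by
    rw [Nat.card_eq_fintype_card, Fintype.card_coe]
  have h3 : elts.toFinset.card ≤ elts.length := List.toFinset_card_le elts
  rw [elts_length] at h3
  omega

theorem card_H2O : Nat.card H2O = 24 ∨ Nat.card H2O = 48 := by
  have h8 : 8 ∣ Nat.card H2O := by
    rw [← orderOf_rhoH]; exact orderOf_dvd_natCard rhoH
  have h6 : 6 ∣ Nat.card H2O := by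
    rw [← orderOf_omH]; exact orderOf_dvd_natCard omH
  have hle := card_H2O_le
  have hpos : 0 < Nat.card H2O := Nat.card_pos
  omega

theorem isSolvable_H2O : Group.IsSolvable H2O := by
  haveI : Fact (Nat.Prime 2) := ⟨Nat.prime_two⟩
  obtain P : Sylow 2 H2O := default
  have hP : IsPGroup 2 (P : Subgroup H2O) := P.isPGroup'
  obtain ⟨k, hk⟩ := hP.exists_card_eq
  have hidx : ¬ 2 ∣ (P : Subgroup H2O).index := P.not_dvd_index
  have hmul : Nat.card (P : Subgroup H2O) * (P : Subgroup H2O).index = Nat.card H2O :=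
    Subgroup.card_mul_index _
  have hdvd : (P : Subgroup H2O).index ∣ 48 := by
    have hd : (P : Subgroup H2O).index ∣ Nat.card H2O := ⟨Nat.card (P : Subgroup H2O), by
      rw [mul_comm]; exact hmul.symm⟩
    rcases card_H2O with h | h
    · rw [h] at hd
      exact hd.trans (by norm_num)
    · rw [h] at hd
      exact hd
  have hmem := Nat.mem_divisors.mpr ⟨hdvd, by norm_num⟩
  have hdiv : Nat.divisors 48 = {1, 2, 3, 4, 6, 8, 12, 16, 24, 48} := by decide
  rw [hdiv] at hmem
  simp only [Finset.mem_insert, Finset.mem_singleton] at hmem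
  have h3 : (P : Subgroup H2O).index ≤ 3 := by
    rcases hmem with h | h | h | h | h | h | h | h | h | h <;> rw [h] at hidx ⊢ <;>
      first | omega | (exfalso; exact hidx (by norm_num))
  exact isSolvable_of_pgroup_index_le_three 2 (P : Subgroup H2O) hP h3

/-- The action of `H2O` on the additive group of `A13` by left multiplication. -/
def phi : H2O →* MulAut (Multiplicative A13) := (leftMulAut A13).comp H2O.subtype

theorem phi_fpf : ∀ h : H2O, h ≠ 1 → ∀ v : Multiplicative A13, phi h v = v → v = 1 := by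
  intro h hh v hv
  have hm := coe_mem_elts h.1 h.2
  rcases elts_fpf _ hm with h1 | hw
  · exfalso
    apply hh
    apply Subtype.ext
    apply Units.ext
    rw [h1]
    rfl
  · have hv' : ((h.1 : A13ˣ) : A13) * v.toAdd = v.toAdd := by
      have := congrArg Multiplicative.toAdd hv
      simpa [phi, leftMulAut_apply] using this
    have h0 : (((h.1 : A13ˣ) : A13) - 1) * v.toAdd = 0 := by
      rw [sub_mul, one_mul, hv', sub_self]
    have : v.toAdd = 0 := by
      calc v.toAdd = (witness ((h.1 : A13ˣ) : A13) * (((h.1 : A13ˣ) : A13) - 1)) * v.toAdd := by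
            rw [hw, one_mul]
        _ = 0 := by rw [mul_assoc, h0, mul_zero]
    exact Multiplicative.toAdd.injective this

theorem A13_exp : ∀ v : Multiplicative A13, v ^ 13 = 1 := by
  intro v
  apply Multiplicative.toAdd.injective
  rw [toAdd_pow, toAdd_one, nsmul_eq_mul]
  have : ((13 : ℕ) : A13) = 0 := by decide
  rw [this, zero_mul]

/-- The Frobenius group `13⁸ : 2O`. -/
abbrev Frob13 : Type := Multiplicative A13 ⋊[phi] H2O

instance : Finite Frob13 := Finite.of_equiv _ SemidirectProduct.equivProd.symm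

theorem spec_Frob13 : Set.range (orderOf : Frob13 → ℕ) = {1, 2, 3, 4, 6, 8, 13} := by
  have h := spec_semidirect_of_fpf phi 13 (by norm_num) A13_exp
    ⟨Multiplicative.ofAdd 1, by decide⟩ phi_fpf
  rw [h, spec_H2O]
  ext n
  simp only [Set.mem_union, Set.mem_insert_iff, Set.mem_singleton_iff]
  tauto

theorem isSolvable_Frob13 : Group.IsSolvable Frob13 := by
  haveI := isSolvable_H2O
  exact isSolvable_semidirect phi

end Cfsg.Agent.Helper57
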