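import Mathlib

set_option autoImplicit false

namespace Cfsg.Agent.Helper57
namespace BitMat

open Matrix

variable {ι : Type*} [DecidableEq ι] [Fintype ι] (W : ℕ) (pos : ι → ℕ)

/-- Decode a natural number into a square matrix over the field with two elements:
the entry `(a, b)` is bit number `W * pos a + pos b`. -/
def dec (n : ℕ) : Matrix ι ι (ZMod 2) :=
  Matrix.of fun a b => if n.testBit (W * pos a + pos b) then 1 else 0

omit [DecidableEq ι] [Fintype ι] in
theorem dec_zero : dec W pos 0 = 0 := by
  ext a b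
  simp [dec]

omit [DecidableEq ι] [Fintype ι] in
theorem dec_xor (x y : ℕ) : dec W pos (x ^^^ y) = dec W pos x + dec W pos y := by
  ext a b
  simp only [dec, Matrix.of_apply, Matrix.add_apply, Nat.testBit_xor]
  cases x.testBit (W * pos a + pos b) <;> cases y.testBit (W * pos a + pos b) <;> decide

/-- Row `k` of the coded matrix `n`, moved to row `i` (all other rows zero). -/
def rowMove (i k : ℕ) (n : ℕ) : ℕ := ((n >>> (W * k)) &&& (2 ^ W - 1)) <<< (W * i)

theorem dec_rowMove (hinj : Function.Injective pos) (hlt : ∀ b, pos b < W) (i k : ι) (n : ℕ) :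
    dec W pos (rowMove W (pos i) (pos k) n) = Matrix.single i k (1 : ZMod 2) * dec W pos n := by
  ext a b
  by_cases hai : a = i
  · subst hai
    rw [Matrix.single_mul_apply_same, one_mul]
    simp only [dec, Matrix.of_apply, rowMove, Nat.testBit_shiftLeft, Nat.testBit_and,
      Nat.testBit_shiftRight, Nat.testBit_two_pow_sub_one]
    have h1 : W * pos a + pos b ≥ W * pos a := Nat.le_add_right _ _
    have h2 : W * pos a + pos b - W * pos a = pos b := Nat.add_sub_cancel_left _ _
    have h3 : pos b < W := hlt b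
    simp [h1, h2, h3]
  · rw [Matrix.single_mul_apply_of_ne (1 : ZMod 2) i k a b hai]
    have hne : pos a ≠ pos i := fun h => hai (hinj h)
    simp only [dec, Matrix.of_apply, rowMove, Nat.testBit_shiftLeft, Nat.testBit_and,
      Nat.testBit_shiftRight, Nat.testBit_two_pow_sub_one]
    have h3 : pos b < W := hlt b
    rcases Nat.lt_or_gt_of_ne hne with hlt' | hgt
    · have : ¬ (W * pos a + pos b ≥ W * pos i) := by
        have : W * pos a + pos b < W * (pos a + 1) := by rw [Nat.mul_succ]; omega
        have h4 : W * (pos a + 1) ≤ W * pos i := Nat.mul_le_mul_left _ hlt'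
        omega
      simp [this]
    · have : ¬ (W * pos a + pos b - W * pos i < W) := by
        have h4 : W * (pos i + 1) ≤ W * pos a := Nat.mul_le_mul_left _ hgt
        rw [Nat.mul_succ] at h4
        omega
      simp [this]

/-- The code of `A * M` where `A` is the 0/1 matrix with ones exactly at the listed positions
(given by their `pos` values) and `M` is coded by `n`. -/
def mulCodeN (E : List (ℕ × ℕ)) (n : ℕ) : ℕ :=
  (E.map fun p => rowMove W p.1 p.2 n).foldr (· ^^^ ·) 0

/-- The 0/1 matrix with ones at the listed positions (entries add up modulo 2). -/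
def matOf (E : List (ι × ι)) : Matrix ι ι (ZMod 2) :=
  (E.map fun p => Matrix.single p.1 p.2 (1 : ZMod 2)).sum

/-- Positions of a list of index pairs. -/
def posList (E : List (ι × ι)) : List (ℕ × ℕ) := E.map fun p => (pos p.1, pos p.2)

theorem dec_mulCodeN (hinj : Function.Injective pos) (hlt : ∀ b, pos b < W)
    (E : List (ι × ι)) (n : ℕ) :
    dec W pos (mulCodeN W (posList pos E) n) = matOf E * dec W pos n := by
  induction E with
  | nil => simp [mulCodeN, matOf, posList, dec_zero]
  | cons p E ih =>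
    have h1 : mulCodeN W (posList pos (p :: E)) n =
        rowMove W (pos p.1) (pos p.2) n ^^^ mulCodeN W (posList pos E) n := by
      simp [mulCodeN, posList]
    have h2 : matOf (p :: E) = Matrix.single p.1 p.2 (1 : ZMod 2) + matOf E := by
      simp [matOf]
    rw [h1, h2, dec_xor, ih, dec_rowMove W pos hinj hlt, add_mul]

section Closure

variable (hinj : Function.Injective pos) (hlt : ∀ b, pos b < W)
  {m : ℕ} (N : ℕ) (T : ℕ → ℕ) (E : Fin m → List (ι × ι)) (w : Fin m → ℕ → ℕ)
  (hN : 0 < N) (h0 : dec W pos (T 0) = 1)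
  (hw : ∀ r k, k < N → w r k < N ∧ mulCodeN W (posList pos (E r)) (T k) = T (w r k))
  (hinv : ∀ r, w r (w r 0) = 0)
  (S : Set (GL ι (ZMod 2)))
  (hS : ∀ g ∈ S, (g : Matrix ι ι (ZMod 2)) = 1 ∨ ∃ r, (g : Matrix ι ι (ZMod 2)) = matOf (E r))

include hinj hlt hw in
theorem matOf_mul_dec (r : Fin m) (k : ℕ) (hk : k < N) :
    matOf (E r) * dec W pos (T k) = dec W pos (T (w r k)) := by
  rw [← dec_mulCodeN W pos hinj hlt, (hw r k hk).2]

include hinj hlt hN h0 hw in
theorem matOf_eq_dec (r : Fin m) : matOf (E r) = dec W pos (T (w r 0)) := by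
  rw [← matOf_mul_dec W pos hinj hlt N T E w hw r 0 hN, h0, mul_one]

include hinj hlt hN h0 hw hinv in
theorem matOf_sq (r : Fin m) : matOf (E r) * matOf (E r) = 1 := by
  have h1 := matOf_eq_dec W pos hinj hlt N T E w hN h0 hw r
  calc matOf (E r) * matOf (E r) = matOf (E r) * dec W pos (T (w r 0)) := by rw [← h1]
    _ = dec W pos (T (w r (w r 0))) := matOf_mul_dec W pos hinj hlt N T E w hw r _ (hw r 0 hN).1
    _ = 1 := by rw [hinv r, h0]

include hinj hlt hN h0 hw hinv hS in
theorem closure_subset_table :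
    ∀ x ∈ Subgroup.closure S, ∃ k, k < N ∧ (x : Matrix ι ι (ZMod 2)) = dec W pos (T k) := by
  have step := matOf_mul_dec W pos hinj hlt N T E w hw
  have hsq := matOf_sq W pos hinj hlt N T E w hN h0 hw hinv
  have stepG : ∀ g ∈ S, ∀ y : GL ι (ZMod 2),
      (∃ k, k < N ∧ (y : Matrix ι ι (ZMod 2)) = dec W pos (T k)) →
      (∃ k, k < N ∧ ((g * y : GL ι (ZMod 2)) : Matrix ι ι (ZMod 2)) = dec W pos (T k)) ∧
      (∃ k, k < N ∧ ((g⁻¹ * y : GL ι (ZMod 2)) : Matrix ι ι (ZMod 2)) = dec W pos (T k)) := by
    rintro g hg y ⟨k, hk, hy⟩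
    rcases hS g hg with h1 | ⟨r, hr⟩
    · have hg1 : g = 1 := Units.ext h1
      subst hg1
      simp only [one_mul, inv_one]
      exact ⟨⟨k, hk, hy⟩, ⟨k, hk, hy⟩⟩
    · have hginv : ((g⁻¹ : GL ι (ZMod 2)) : Matrix ι ι (ZMod 2)) = matOf (E r) := by
        have h2 : g * g = 1 := by
          apply Units.ext
          rw [Units.val_mul, hr, hsq r]
          rfl
        have h3 : g⁻¹ = g := inv_eq_of_mul_eq_one_right h2
        rw [h3, hr]
      refine ⟨⟨w r k, (hw r k hk).1, ?_⟩, ⟨w r k, (hw r k hk).1, ?_⟩⟩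
      · rw [Units.val_mul, hr, hy, step r k hk]
      · rw [Units.val_mul, hginv, hy, step r k hk]
  intro x hx
  induction hx using Subgroup.closure_induction_left with
  | one => exact ⟨0, hN, h0.symm ▸ rfl⟩
  | mul_left g hg y hy ih => exact (stepG g hg y ih).1
  | inv_mul_cancel g hg y hy ih => exact (stepG g hg y ih).2

include hinj hlt hN h0 hw hinv hS in
theorem card_closure_le : Nat.card (Subgroup.closure S) ≤ N := by
  classical
  have h := closure_subset_table W pos hinj hlt N T E w hN h0 hw hinv S hS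
  choose f hf using (fun x : Subgroup.closure S => h x.1 x.2)
  have hfinj : Function.Injective (fun x : Subgroup.closure S => (⟨f x, (hf x).1⟩ : Fin N)) := by
    intro x y hxy
    have hxy' : f x = f y := congrArg Fin.val hxy
    apply Subtype.ext
    apply Units.ext
    rw [(hf x).2, (hf y).2, hxy']
  have := Nat.card_le_card_of_injective _ hfinj
  simpa using this

end Closure

end BitMat
end Cfsg.Agent.Helper57
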