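import Mathlib
import Cfsg.Agent.Lib.Helper98.BrownDefs

set_option autoImplicit false

/-!
# Brown's theorem (S4291), piece (E4a) of helper98's server

The centraliser of a normal `SL(2,5)` in a group with the `FpfLike` properties has cyclic Sylow
subgroups.
-/

namespace Cfsg.Agent.Helper57.Brown

open Cfsg.Agent.Helper98.Brown

variable {G : Type*} [Group G]

/-- the matrix `!![0,4;1,0]` of order 4 in `SL(2,5)` -/
def helper57_I : Matrix.SpecialLinearGroup (Fin 2) (ZMod 5) :=
  ⟨!![0, 4; 1, 0], by rw [Matrix.det_fin_two_of]; decide⟩

/-- the matrix `!![2,0;0,3]` of order 4 in `SL(2,5)` -/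
def helper57_J : Matrix.SpecialLinearGroup (Fin 2) (ZMod 5) :=
  ⟨!![2, 0; 0, 3], by rw [Matrix.det_fin_two_of]; decide⟩

theorem helper57_I4 : (helper57_I * helper57_I) * (helper57_I * helper57_I) = 1 := by
  decide

theorem helper57_I2_ne : helper57_I * helper57_I ≠ 1 := by
  decide

theorem helper57_IJ_ne : helper57_I * helper57_J ≠ helper57_J * helper57_I := by
  decide

/-- In an `FpfLike` group, an element `u` with `u² = 1` commuting with an involution `z` is `1` or
`z`. -/
theorem helper57_invol_unique (h : FpfLike G) {u z : G} (hu : u * u = 1) (hz : z * z = 1)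
    (hz1 : z ≠ 1) (huz : u * z = z * u) : u = 1 ∨ u = z := by
  classical
  set A : Subgroup G := Subgroup.closure {u, z} with hA
  have huA : u ∈ A := Subgroup.subset_closure (by simp)
  have hzA : z ∈ A := Subgroup.subset_closure (by simp)
  -- `A` is commutative
  have hgen : ∀ x ∈ ({u, z} : Set G), ∀ y ∈ ({u, z} : Set G), x * y = y * x := by
    intro x hx y hy
    rcases hx with rfl | hx <;> rcases hy with rfl | hy
    · rfl
    · rw [Set.mem_singleton_iff] at hy; subst hy; exact huz
    · rw [Set.mem_singleton_iff] at hx; subst hx; exact huz.symm
    · rw [Set.mem_singleton_iff] at hx hy; subst hx; subst hy; rfl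
  have hcomm : ∀ a ∈ A, ∀ b ∈ A, a * b = b * a := by
    intro a ha b hb
    have := (Subgroup.isMulCommutative_closure hgen).is_comm.comm
      (⟨a, ha⟩ : Subgroup.closure ({u, z} : Set G)) ⟨b, hb⟩
    exact congrArg Subtype.val this
  -- every element of `A` squares to `1`
  have hsq : ∀ a ∈ A, a * a = 1 := by
    intro a ha
    induction ha using Subgroup.closure_induction with
    | mem x hx =>
      rcases hx with rfl | hx
      · exact hu
      · rw [Set.mem_singleton_iff] at hx; subst hx; exact hz
    | one => simp
    | mul x y hx hy ihx ihy =>
      calc x * y * (x * y) = x * (y * x) * y := by group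
        _ = x * (x * y) * y := by rw [hcomm y hy x hx]
        _ = (x * x) * (y * y) := by group
        _ = 1 := by rw [ihx, ihy, one_mul]
    | inv x hx ihx =>
      have : x⁻¹ * x⁻¹ = (x * x)⁻¹ := by group
      rw [this, ihx, inv_one]
  have hP : IsPGroup 2 A := by
    intro a
    refine ⟨1, ?_⟩
    apply Subtype.ext
    rw [pow_one, pow_two]
    exact hsq a a.2
  have hcyc : IsCyclic A := h.comm A hP hcomm
  obtain ⟨g, hg⟩ := hcyc.exists_generator
  have hg2 : g * g = 1 := Subtype.ext (hsq g g.2)
  have key : ∀ a : A, a = 1 ∨ a = g := by
    intro a
    obtain ⟨n, hn⟩ := Subgroup.mem_zpowers_iff.mp (hg a)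
    rcases Int.even_or_odd' n with ⟨k, rfl | rfl⟩
    · left
      rw [← hn, zpow_mul, zpow_ofNat, pow_two, hg2, one_zpow]
    · right
      rw [← hn, zpow_add, zpow_mul, zpow_ofNat, pow_two, hg2, one_zpow, one_mul, zpow_one]
  rcases key ⟨u, huA⟩ with h1 | h1
  · left
    exact congrArg Subtype.val h1
  · rcases key ⟨z, hzA⟩ with h2 | h2
    · exact absurd (congrArg Subtype.val h2) hz1
    · right
      have := h1.trans h2.symm
      exact congrArg Subtype.val this

/-- (E4a) the centraliser of a normal `SL(2,5)` has cyclic Sylow subgroups. -/
theorem zgroup_centralizer_sl25 [Finite G] (h : FpfLike G) (D : Subgroup G) [D.Normal]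
    (e : D ≃* Matrix.SpecialLinearGroup (Fin 2) (ZMod 5)) :
    ZGroup (Subgroup.centralizer (D : Set G)) := by
  intro p _ P
  by_cases hp2 : p = 2
  · subst hp2
    -- the elements `i`, `j`, `z`
    set i : D := e.symm helper57_I with hi
    set j : D := e.symm helper57_J with hj
    have hi4 : (i * i) * (i * i) = 1 := by
      rw [hi, ← map_mul, ← map_mul, helper57_I4, map_one]
    have hi2 : i * i ≠ 1 := by
      rw [hi, ← map_mul]
      intro hh
      exact helper57_I2_ne ((MulEquiv.map_eq_one_iff e.symm).mp hh)
    have hij : i * j ≠ j * i := by
      rw [hi, hj, ← map_mul, ← map_mul]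
      intro hh
      exact helper57_IJ_ne (e.symm.injective hh)
    set z : G := (i : G) * (i : G) with hz
    have hz2 : z * z = 1 := by
      have := congrArg Subtype.val hi4
      simpa using this
    have hz1 : z ≠ 1 := by
      intro hh
      apply hi2
      apply Subtype.ext
      simpa using hh
    have hijG : (i : G) * (j : G) ≠ (j : G) * (i : G) := by
      intro hh
      apply hij
      apply Subtype.ext
      simpa using hh
    -- elements of the centraliser commute with `i`, `j`, `z`
    have hcen : ∀ c ∈ Subgroup.centralizer (D : Set G), ∀ d : D, (d : G) * c = c * (d : G) :=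
      fun c hc d => Subgroup.mem_centralizer_iff.mp hc d d.2
    -- step (a)/(b)
    have step : ∀ c ∈ Subgroup.centralizer (D : Set G), (c * c = 1 ∨ c * c = z) →
        c = 1 ∨ c = z := by
      intro c hc hcc
      have hci : (i : G) * c = c * (i : G) := hcen c hc i
      have hcj : (j : G) * c = c * (j : G) := hcen c hc j
      have hcz : c * z = z * c := by
        calc c * z = (c * (i : G)) * (i : G) := by rw [hz, mul_assoc]
          _ = ((i : G) * c) * (i : G) := by rw [hci]
          _ = (i : G) * (c * (i : G)) := by rw [mul_assoc]
          _ = (i : G) * ((i : G) * c) := by rw [hci]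
          _ = z * c := by rw [hz, mul_assoc]
      have hiz : (i : G) * z = z * (i : G) := by
        rw [hz, mul_assoc]
      rcases hcc with hcc | hcc
      · exact helper57_invol_unique h hcc hz2 hz1 hcz
      · exfalso
        -- `u = c * i` is an involution commuting with `z`
        have hu2 : (c * (i : G)) * (c * (i : G)) = 1 := by
          calc (c * (i : G)) * (c * (i : G)) = c * ((i : G) * c) * (i : G) := by group
            _ = c * (c * (i : G)) * (i : G) := by rw [hci]
            _ = (c * c) * ((i : G) * (i : G)) := by group
            _ = 1 := by rw [hcc, ← hz, hz2]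
        have huz : (c * (i : G)) * z = z * (c * (i : G)) := by
          calc (c * (i : G)) * z = c * ((i : G) * z) := by group
            _ = c * (z * (i : G)) := by rw [hiz]
            _ = (c * z) * (i : G) := by group
            _ = (z * c) * (i : G) := by rw [hcz]
            _ = z * (c * (i : G)) := by group
        rcases helper57_invol_unique h hu2 hz2 hz1 huz with h1 | h1
        · -- `c = i⁻¹`
          have hc' : c = (i : G)⁻¹ := eq_inv_of_mul_eq_one_left h1
          apply hijG
          have h3 : (j : G) * (i : G)⁻¹ = (i : G)⁻¹ * (j : G) := by rw [← hc']; exact hcj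
          calc (i : G) * (j : G) = (i : G) * ((j : G) * (i : G)⁻¹) * (i : G) := by group
            _ = (i : G) * ((i : G)⁻¹ * (j : G)) * (i : G) := by rw [h3]
            _ = (j : G) * (i : G) := by group
        · -- `c = i`
          have hc' : c = (i : G) := by
            have : c * (i : G) = (i : G) * (i : G) := h1
            exact mul_right_cancel this
          apply hijG
          rw [← hc']
          exact hcj.symm
    have main : ∀ (m : ℕ), ∀ c ∈ Subgroup.centralizer (D : Set G), c ^ (2 ^ m) = 1 →
        c = 1 ∨ c = z := by
      intro m
      induction m with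
      | zero =>
        intro c _ hc1
        left
        simpa using hc1
      | succ m ih =>
        intro c hc hc1
        have h2 : (c * c) ^ (2 ^ m) = 1 := by
          rw [← pow_two, ← pow_mul, ← pow_succ']
          exact hc1
        have := ih (c * c) (Subgroup.mul_mem _ hc hc) h2
        exact step c hc this
    -- every element of `P` is `1` or `z`
    have hP : ∀ x : P, ((x : Subgroup.centralizer (D : Set G)) : G) = 1 ∨
        ((x : Subgroup.centralizer (D : Set G)) : G) = z := by
      intro x
      obtain ⟨m, hm⟩ := P.isPGroup' x
      apply main m _ (x : Subgroup.centralizer (D : Set G)).2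
      have := congrArg (fun y : P => ((y : Subgroup.centralizer (D : Set G)) : G)) hm
      simpa using this
    by_cases hex : ∃ x : P, ((x : Subgroup.centralizer (D : Set G)) : G) = z
    · obtain ⟨x, hx⟩ := hex
      refine ⟨⟨x, fun y => ?_⟩⟩
      rcases hP y with hy | hy
      · have : y = 1 := by
          apply Subtype.ext
          apply Subtype.ext
          simpa using hy
        rw [this]
        exact (Subgroup.zpowers _).one_mem
      · have : y = x := by
          apply Subtype.ext
          apply Subtype.ext
          rw [hy, hx]
        rw [this]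
        exact Subgroup.mem_zpowers x
    · refine ⟨⟨1, fun y => ?_⟩⟩
      rcases hP y with hy | hy
      · have : y = 1 := by
          apply Subtype.ext
          apply Subtype.ext
          simpa using hy
        rw [this]
        exact (Subgroup.zpowers _).one_mem
      · exact absurd ⟨y, hy⟩ hex
  · -- odd `p`
    have hAp : IsPGroup p ((P : Subgroup (Subgroup.centralizer (D : Set G))).map
        (Subgroup.centralizer (D : Set G)).subtype) := P.isPGroup'.map _
    have hAc : IsCyclic ((P : Subgroup (Subgroup.centralizer (D : Set G))).map
        (Subgroup.centralizer (D : Set G)).subtype) := h.odd p hp2 _ hAp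
    have hinj : Function.Injective (Subgroup.centralizer (D : Set G)).subtype :=
      Subgroup.subtype_injective _
    exact isCyclic_of_surjective
      ((P : Subgroup (Subgroup.centralizer (D : Set G))).equivMapOfInjective
        (Subgroup.centralizer (D : Set G)).subtype hinj).symm
      ((P : Subgroup (Subgroup.centralizer (D : Set G))).equivMapOfInjective
        (Subgroup.centralizer (D : Set G)).subtype hinj).symm.surjective

end Cfsg.Agent.Helper57.Brown
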