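import Mathlib
import Cfsg.Agent.Lib.Helper53.CD3ADefs
import Cfsg.Agent.Lib.Helper81.CharClifford
import Cfsg.Agent.Lib.Helper30.CD3ACount
import Cfsg.Agent.Lib.Helper79.LinearDeg
import Cfsg.Agent.Lib.Helper79.Inflation
import Cfsg.Agent.Lib.Helper74.LinChar

/-! helper53's CD3A server (S4460), piece (PERF) `false_of_simple`. -/

set_option autoImplicit false

namespace Cfsg.Agent.Helper57.CD3A

open Cfsg Cfsg.Agent.Helper53.CD3A Cfsg.Agent.Helper81
open scoped ComplexConjugate commutatorElement

universe u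

section Aux
variable {G : Type u} [Group G] [Fintype G]

/-- the trivial character -/
noncomputable def trivIrr : IrrCharacter G := Cfsg.Agent.Helper74.Lin.ofHom 1

omit [Fintype G] in
theorem trivIrr_apply (g : G) : (trivIrr : IrrCharacter G).1 g = 1 := by
  unfold trivIrr
  simp

/-- `[α, 1_G]` is the average of `α` -/
theorem classInner_triv (α : G → ℂ) :
    classInner α (trivIrr : IrrCharacter G).1 = (Nat.card G : ℂ)⁻¹ * ∑ g : G, α g := by
  unfold classInner
  congr 1
  apply Finset.sum_congr rfl
  intro g _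
  rw [trivIrr_apply]
  simp

/-- in a perfect group the only linear character is the trivial one -/
theorem eq_triv_of_linear (hperf : commutator G = ⊤) (σ : IrrCharacter G)
    (hσ : charDegree (σ : G → ℂ) = 1) : σ = trivIrr := by
  apply Subtype.ext
  funext g
  have h1 : g ∈ Cfsg.Agent.Helper79.irrKer σ :=
    (Cfsg.Agent.Helper79.degree_one_iff σ).1 hσ (by rw [hperf]; trivial)
  rw [Cfsg.Agent.Helper79.mem_irrKer] at h1
  rw [trivIrr_apply]
  show (σ : G → ℂ) g = 1
  rw [h1, Cfsg.Agent.Helper30.CD3A.h30_irr_one σ.2, hσ]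
  simp

omit [Fintype G] in
theorem charDegree_trivIrr : charDegree (trivIrr : IrrCharacter G).1 = 1 := by
  unfold charDegree
  rw [trivIrr_apply]
  simp

end Aux

/-- (PERF) a simple perfect group with `cd ⊆ {1, m, n}` and the vanishing property does not exist. -/
theorem false_of_simple {G : Type u} [Group G] [Fintype G] [IsSimpleGroup G] {m n : ℕ} (hm : 1 < m)
    (hmn : m < n) (hcd : DegIn G m n) (hχm : ∃ χ : IrrCharacter G, charDegree (χ : G → ℂ) = m)
    (hperf : commutator G = ⊤) (hvan : Vanish G m n) : False := by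
  classical
  obtain ⟨χ, hχ⟩ := hχm
  have : Fintype (IrrCharacter G) := @Fintype.ofFinite _ irr_finite
  have hcard0 : (Nat.card G : ℂ) ≠ 0 := by
    have : 0 < Nat.card G := Nat.card_pos
    exact_mod_cast this.ne'
  have hχtriv : χ ≠ trivIrr := by
    intro h
    rw [h, charDegree_trivIrr] at hχ
    omega
  obtain ⟨α, hα⟩ : ∃ α : G → ℂ, α = fun g => (χ : G → ℂ) g * conj ((χ : G → ℂ) g) := ⟨_, rfl⟩
  have hαc : IsCharacter G α := by
    have hc : IsIrrCharacter G (fun g => conj ((χ : G → ℂ) g)) :=
      Cfsg.Agent.Helper80.isIrrCharacter_cconj χ.2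
    have h1 := isCharacter_mul (IsIrrCharacter.isCharacter χ.2) (IsIrrCharacter.isCharacter hc)
    rw [hα]
    exact h1
  obtain ⟨a, ha⟩ := exists_nat_decomp hαc
  have hin : ∀ σ : IrrCharacter G, classInner α (σ : G → ℂ) = (a σ : ℂ) := by
    intro σ
    rw [ha]
    exact classInner_nat_decomp (fun χ' => (a χ' : ℂ)) σ
  have hatriv : a trivIrr = 1 := by
    have h1 := hin trivIrr
    rw [classInner_triv] at h1
    have h2 : classInner (χ : G → ℂ) (χ : G → ℂ) = 1 := by
      rw [irr_orthonormal χ.2 χ.2, if_pos rfl]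
    unfold classInner at h2
    have h3 : (Nat.card G : ℂ)⁻¹ * ∑ g : G, α g = 1 := by
      rw [← h2, hα]
    rw [h3] at h1
    exact_mod_cast h1.symm
  by_cases hB : ∃ ψ : IrrCharacter G, charDegree (ψ : G → ℂ) = n ∧ classInner α (ψ : G → ℂ) ≠ 0
  · obtain ⟨ψ, hψn, hψ⟩ := hB
    have hker : Cfsg.Agent.Helper79.irrKer ψ = ⊥ := by
      rcases (Cfsg.Agent.Helper79.irrKer_normal ψ).eq_bot_or_eq_top with h | h
      · exact h
      · exfalso
        have h1 : charDegree (ψ : G → ℂ) = 1 :=
          (Cfsg.Agent.Helper79.degree_one_iff ψ).2 (by rw [h]; exact le_top)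
        omega
    have hvan' : ∀ g : G, g ≠ 1 → (χ : G → ℂ) g = 0 := by
      intro g hg
      apply hvan χ ψ hχ hψn (by rw [hα] at hψ; exact hψ) g (by rw [hperf]; trivial)
      intro h
      have : g ∈ Cfsg.Agent.Helper79.irrKer ψ := (Cfsg.Agent.Helper79.mem_irrKer ψ g).2 h
      rw [hker, Subgroup.mem_bot] at this
      exact hg this
    have h1 : classInner (χ : G → ℂ) (trivIrr : IrrCharacter G).1 = 0 := by
      rw [irr_orthonormal χ.2 trivIrr.2, if_neg]
      intro h
      exact hχtriv (Subtype.ext h)
    rw [classInner_triv] at h1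
    have h2 : ∑ g : G, (χ : G → ℂ) g = (χ : G → ℂ) 1 := by
      rw [Finset.sum_eq_single (1 : G)]
      · intro g _ hg
        exact hvan' g hg
      · intro h
        exact absurd (Finset.mem_univ _) h
    rw [h2, Cfsg.Agent.Helper30.CD3A.h30_irr_one χ.2, hχ] at h1
    rcases mul_eq_zero.1 h1 with h3 | h3
    · exact hcard0 (inv_eq_zero.1 h3)
    · have : m = 0 := by exact_mod_cast h3
      omega
  · push Not at hB
    have han : ∀ σ : IrrCharacter G, charDegree (σ : G → ℂ) = n → a σ = 0 := by
      intro σ hσ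
      have := hB σ hσ
      rw [hin σ] at this
      exact_mod_cast this
    have h1 : α 1 = ((∑ σ : IrrCharacter G, a σ * charDegree (σ : G → ℂ) : ℕ) : ℂ) := by
      rw [ha]
      simp only [Finset.sum_apply, Pi.smul_apply, smul_eq_mul]
      push_cast
      apply Finset.sum_congr rfl
      intro σ _
      rw [Cfsg.Agent.Helper30.CD3A.h30_irr_one σ.2]
    have h2 : α 1 = ((m * m : ℕ) : ℂ) := by
      rw [hα]
      simp only
      rw [Cfsg.Agent.Helper30.CD3A.h30_irr_one χ.2, hχ]
      simp
    have h3 : m * m = ∑ σ : IrrCharacter G, a σ * charDegree (σ : G → ℂ) := by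
      rw [h1] at h2
      exact_mod_cast h2.symm
    have h4 : ∀ σ : IrrCharacter G, a σ * charDegree (σ : G → ℂ) =
        (if σ = trivIrr then 1 else 0) +
          m * (if charDegree (σ : G → ℂ) = m then a σ else 0) := by
      intro σ
      rcases hcd σ with h | h | h
      · have e := eq_triv_of_linear hperf σ h
        rw [h, e, hatriv, if_pos rfl, if_neg (by omega)]
        simp
      · have hne : σ ≠ trivIrr := by
          intro e
          rw [e, charDegree_trivIrr] at h
          omega
        rw [h, if_neg hne, if_pos rfl]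
        ring
      · have hne : σ ≠ trivIrr := by
          intro e
          rw [e, charDegree_trivIrr] at h
          omega
        rw [han σ h, h, if_neg hne, if_neg (by omega)]
        simp
    rw [Finset.sum_congr rfl (fun σ _ => h4 σ), Finset.sum_add_distrib, ← Finset.mul_sum] at h3
    simp only [Finset.sum_ite_eq', Finset.mem_univ, if_true] at h3
    have h5 : m ∣ 1 := by
      have h6 : m ∣ m * m := Dvd.intro _ rfl
      rw [h3] at h6
      exact (Nat.dvd_add_left (Dvd.intro _ rfl)).1 h6
    have := Nat.le_of_dvd Nat.one_pos h5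
    omega

end Cfsg.Agent.Helper57.CD3A
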