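import Mathlib
import Cfsg.Prelude.Def_Chevalley

set_option autoImplicit false

namespace Cfsg.Agent.Helper57
namespace ChevBase

open Cfsg.Lie

variable (D : ChevalleyDatum)

/-- Root elements are compatible with base change along a ring homomorphism. -/
theorem xMat_map {K F : Type*} [Field K] [Field F] (f : K →+* F) (r : Fin D.nroots) (t : K) :
    (D.xMat K r t).map f = D.xMat F r (f t) := by
  ext row col
  simp only [Matrix.map_apply, ChevalleyDatum.xMat, Matrix.of_apply]
  rcases col with i | s
  · rcases row with i' | u
    · simp only [apply_ite f, map_one, map_zero]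
    · simp only [apply_ite f, map_zero, map_mul, map_neg, map_intCast]
  · simp only
    by_cases h1 : s = r
    · simp only [h1, if_true]
      rcases row with i' | u
      · simp
      · simp only [apply_ite f, map_one, map_zero]
    · simp only [h1, if_false]
      by_cases h2 : s.val = D.negIdx.getD r.val 0
      · simp only [h2, if_true]
        rcases row with i' | u
        · simp only [map_mul, map_intCast]
        · simp only [apply_ite f, map_one, map_zero, map_neg, map_pow]
      · simp only [h2, if_false]
        rcases row with i' | u
        · simp
        · simp only [map_add, apply_ite f, map_one, map_zero, map_list_sum, List.map_map]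
          congr 2
          apply List.map_congr_left
          intro km _
          simp only [Function.comp, map_mul, map_intCast, map_pow]

/-- The isomorphism of general linear groups induced by a ring isomorphism. -/
noncomputable def glEquiv {K F : Type*} [Field K] [Field F] (e : K ≃+* F) :
    GL D.Idx K ≃* GL D.Idx F :=
  Units.mapEquiv (RingEquiv.mapMatrix e).toMulEquiv

theorem glEquiv_val {K F : Type*} [Field K] [Field F] (e : K ≃+* F) (g : GL D.Idx K) :
    ((glEquiv D e g : GL D.Idx F) : Matrix D.Idx D.Idx F) =
      (g : Matrix D.Idx D.Idx K).map e := rfl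

theorem map_group {K F : Type*} [Field K] [Field F] (e : K ≃+* F) :
    (D.group K).map (glEquiv D e).toMonoidHom = D.group F := by
  unfold ChevalleyDatum.group
  rw [MonoidHom.map_closure]
  congr 1
  ext g
  constructor
  · rintro ⟨g0, ⟨r, t, h⟩, rfl⟩
    refine ⟨r, e t, ?_⟩
    show ((glEquiv D e g0 : GL D.Idx F) : Matrix D.Idx D.Idx F) = _
    rw [glEquiv_val, h]
    exact xMat_map D e.toRingHom r t
  · rintro ⟨r, t, h⟩
    refine ⟨(glEquiv D e).symm g, ⟨r, e.symm t, ?_⟩, ?_⟩
    · have h1 : (((glEquiv D e).symm g : GL D.Idx K) : Matrix D.Idx D.Idx K) =
          (g : Matrix D.Idx D.Idx F).map e.symm := rfl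
      rw [h1, h]
      exact xMat_map D e.symm.toRingHom r t
    · show (glEquiv D e) ((glEquiv D e).symm g) = g
      exact (glEquiv D e).apply_symm_apply g

/-- Chevalley groups over isomorphic fields are isomorphic. -/
noncomputable def groupEquiv {K F : Type*} [Field K] [Field F] (e : K ≃+* F) :
    D.group K ≃* D.group F :=
  ((D.group K).equivMapOfInjective (glEquiv D e).toMonoidHom (glEquiv D e).injective).trans
    (MulEquiv.subgroupCongr (map_group D e))

end ChevBase
end Cfsg.Agent.Helper57
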