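import Cfsg.Agent.Lib.Helper57.SimpleMin

set_option autoImplicit false

namespace Cfsg.Agent.Helper57

universe u

theorem map_conjNormal_subgroupOf {G : Type u} [Group G] (N H : Subgroup G) [hN : N.Normal]
    [hH : H.Normal] (g : G) :
    (N.subgroupOf H).map ((MulAut.conjNormal g : MulAut H) : ↥H →* ↥H) = N.subgroupOf H := by
  ext x
  simp only [Subgroup.mem_map, Subgroup.mem_subgroupOf]
  constructor
  · rintro ⟨y, hy, rfl⟩
    change ((MulAut.conjNormal g : MulAut H) y : G) ∈ N
    rw [MulAut.conjNormal_apply]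
    exact hN.conj_mem _ hy g
  · intro hx
    refine ⟨(MulAut.conjNormal g : MulAut H).symm x, ?_, ?_⟩
    · rw [MulAut.conjNormal_symm_apply]
      have := hN.conj_mem _ hx g⁻¹
      rwa [inv_inv] at this
    · exact (MulAut.conjNormal g : MulAut H).apply_symm_apply x

/-- The action of `G` on a normal section `H / N` by conjugation. -/
noncomputable def sectionAut {G : Type u} [Group G] (N H : Subgroup G) [N.Normal] [H.Normal] :
    G →* MulAut (↥H ⧸ N.subgroupOf H) where
  toFun g := QuotientGroup.congr (N.subgroupOf H) (N.subgroupOf H) (MulAut.conjNormal g)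
    (map_conjNormal_subgroupOf N H g)
  map_one' := by
    ext x
    induction x using QuotientGroup.induction_on with
    | H h =>
      rw [QuotientGroup.congr_mk, map_one]
      rfl
  map_mul' a b := by
    ext x
    induction x using QuotientGroup.induction_on with
    | H h =>
      rw [MulAut.mul_apply, QuotientGroup.congr_mk, QuotientGroup.congr_mk, QuotientGroup.congr_mk,
        map_mul]
      rfl

theorem sectionAut_mk {G : Type u} [Group G] (N H : Subgroup G) [N.Normal] [H.Normal] (g : G)
    (h : H) : sectionAut N H g (QuotientGroup.mk h) =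
      QuotientGroup.mk ((MulAut.conjNormal g : MulAut H) h) := rfl

/-- A chief factor `H / N` whose order is divisible by some prime exactly once is simple. -/
theorem simple_section {G : Type u} [Group G] [Finite G] (N H : Subgroup G) [hN : N.Normal]
    [hH : H.Normal] (hNH : N ≤ H)
    (hchief : ∀ K : Subgroup G, K.Normal → N ≤ K → K ≤ H → K = N ∨ K = H)
    (p : ℕ) (hp : p.Prime) (hvp : (Nat.card (↥H ⧸ N.subgroupOf H)).factorization p = 1) :
    IsSimpleGroup (↥H ⧸ N.subgroupOf H) := by
  apply simple_of_minimal (sectionAut N H) _ p hp hvp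
  intro R hRn hRinv
  set R' : Subgroup G := (R.comap (QuotientGroup.mk' (N.subgroupOf H))).map H.subtype with hR'
  have hmem : ∀ x : G, x ∈ R' ↔ ∃ hx : x ∈ H, (QuotientGroup.mk (⟨x, hx⟩ : H) :
      ↥H ⧸ N.subgroupOf H) ∈ R := by
    intro x
    rw [hR', Subgroup.mem_map]
    constructor
    · rintro ⟨h, hh, rfl⟩
      exact ⟨h.2, hh⟩
    · rintro ⟨hx, hh⟩
      exact ⟨⟨x, hx⟩, hh, rfl⟩
  have hR'n : R'.Normal := by
    constructor
    intro x hx g
    rw [hmem] at hx ⊢
    obtain ⟨hxH, hxR⟩ := hx
    refine ⟨hH.conj_mem x hxH g, ?_⟩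
    have : (QuotientGroup.mk (⟨g * x * g⁻¹, hH.conj_mem x hxH g⟩ : H) : ↥H ⧸ N.subgroupOf H) =
        sectionAut N H g (QuotientGroup.mk (⟨x, hxH⟩ : H)) := by
      rw [sectionAut_mk]
      rfl
    rw [this, ← hRinv g]
    exact Subgroup.mem_map_of_mem _ hxR
  have hNR' : N ≤ R' := by
    intro x hx
    rw [hmem]
    refine ⟨hNH hx, ?_⟩
    have : (QuotientGroup.mk (⟨x, hNH hx⟩ : H) : ↥H ⧸ N.subgroupOf H) = 1 := by
      rw [QuotientGroup.eq_one_iff, Subgroup.mem_subgroupOf]
      exact hx
    rw [this]
    exact R.one_mem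
  have hR'H : R' ≤ H := by
    intro x hx
    rw [hmem] at hx
    exact hx.1
  rcases hchief R' hR'n hNR' hR'H with h | h
  · left
    rw [eq_bot_iff]
    intro y hy
    induction y using QuotientGroup.induction_on with
    | H z =>
      have hz : (z : G) ∈ R' := (hmem _).mpr ⟨z.2, hy⟩
      rw [h] at hz
      rw [Subgroup.mem_bot, QuotientGroup.eq_one_iff, Subgroup.mem_subgroupOf]
      exact hz
  · right
    rw [eq_top_iff]
    intro y _
    induction y using QuotientGroup.induction_on with
    | H z =>
      have hz : (z : G) ∈ R' := by rw [h]; exact z.2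
      obtain ⟨_, hzR⟩ := (hmem _).mp hz
      exact hzR

end Cfsg.Agent.Helper57
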