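import Mathlib

set_option autoImplicit false

namespace Cfsg.Agent.Helper57

variable {R : Type*} [CommRing R]

/-- Multiplication by `x` on coefficient triples `(t₀, t₁, t₂) ↦ t₀ + t₁ x + t₂ x²`
in `R[x]/(x³ - a x² - b x - c)`. -/
def mulX (a b c : R) (t : R × R × R) : R × R × R :=
  (c * t.2.2, t.1 + b * t.2.2, t.2.1 + a * t.2.2)

/-- Coefficient triple of `x ^ n` in `R[x]/(x³ - a x² - b x - c)`. -/
def powX (a b c : R) (n : ℕ) : R × R × R := (mulX a b c)^[n] (1, 0, 0)

theorem powX_zero (a b c : R) : powX a b c 0 = (1, 0, 0) := rfl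

theorem powX_succ (a b c : R) (n : ℕ) : powX a b c (n + 1) = mulX a b c (powX a b c n) := by
  unfold powX
  rw [Function.iterate_succ_apply']

theorem pow_eq_powX {A : Type*} [Ring A] [Algebra R A] (g : A) (a b c : R)
    (h : g ^ 3 = a • g ^ 2 + b • g + c • (1 : A)) (n : ℕ) :
    g ^ n = (powX a b c n).1 • (1 : A) + (powX a b c n).2.1 • g + (powX a b c n).2.2 • g ^ 2 := by
  induction n with
  | zero => simp [powX_zero]
  | succ n ih =>
    rw [pow_succ, ih, powX_succ]
    simp only [mulX, add_mul, smul_mul_assoc, one_mul, ← pow_succ, add_smul, mul_smul]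
    have h2 : g * g = g ^ 2 := (sq g).symm
    have h3 : g ^ (2 + 1) = g ^ 3 := rfl
    rw [h2, h3, h]
    simp only [smul_add, smul_smul]
    have e1 : (powX a b c n).2.2 * a = a * (powX a b c n).2.2 := mul_comm _ _
    have e2 : (powX a b c n).2.2 * b = b * (powX a b c n).2.2 := mul_comm _ _
    have e3 : (powX a b c n).2.2 * c = c * (powX a b c n).2.2 := mul_comm _ _
    rw [e1, e2, e3]
    abel

theorem pow_eq_one_of_powX {A : Type*} [Ring A] [Algebra R A] (g : A) (a b c : R)
    (h : g ^ 3 = a • g ^ 2 + b • g + c • (1 : A)) (n : ℕ) (hn : powX a b c n = (1, 0, 0)) :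
    g ^ n = 1 := by
  rw [pow_eq_powX g a b c h n, hn]
  simp

theorem powX_map {S : Type*} [CommRing S] (f : R →+* S) (a b c : R) (n : ℕ) :
    powX (f a) (f b) (f c) n =
      (f (powX a b c n).1, f (powX a b c n).2.1, f (powX a b c n).2.2) := by
  induction n with
  | zero => simp [powX_zero]
  | succ n ih =>
    rw [powX_succ, powX_succ, ih]
    simp [mulX]

theorem powX_map_eq_one {S : Type*} [CommRing S] (f : R →+* S) (a b c : R) (n : ℕ)
    (h : powX a b c n = (1, 0, 0)) : powX (f a) (f b) (f c) n = (1, 0, 0) := by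
  rw [powX_map, h]
  simp

/-- Cayley–Hamilton for `3 × 3` matrices of determinant one, in the form used here. -/
theorem cayley3 [Nontrivial R] (g : Matrix (Fin 3) (Fin 3) R) (hdet : g.det = 1) :
    ∃ a b : R, g ^ 3 = a • g ^ 2 + b • g + (1 : R) • (1 : Matrix (Fin 3) (Fin 3) R) := by
  have hCH := Matrix.aeval_self_charpoly g
  have hdeg : g.charpoly.natDegree = 3 := by
    rw [Matrix.charpoly_natDegree_eq_dim]; rfl
  have hmon : g.charpoly.coeff 3 = 1 := by
    have := (Matrix.charpoly_monic g).coeff_natDegree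
    rwa [hdeg] at this
  have hc0 : g.charpoly.coeff 0 = -1 := by
    have := Matrix.det_eq_sign_charpoly_coeff g
    rw [hdet] at this
    simp only [Fintype.card_fin] at this
    have h3 : ((-1 : R)) ^ 3 = -1 := by ring
    rw [h3] at this
    have : g.charpoly.coeff 0 = -(-1 * g.charpoly.coeff 0) := by ring
    rw [this]
    rw [← ‹(1 : R) = -1 * g.charpoly.coeff 0›]
  rw [Polynomial.aeval_eq_sum_range, hdeg] at hCH
  simp only [Finset.sum_range_succ, Finset.sum_range_zero, zero_add, hmon, hc0, pow_zero,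
    pow_one, one_smul] at hCH
  refine ⟨-g.charpoly.coeff 2, -g.charpoly.coeff 1, ?_⟩
  have : g ^ 3 = -(-(1 : R) • (1 : Matrix (Fin 3) (Fin 3) R) + g.charpoly.coeff 1 • g +
      g.charpoly.coeff 2 • g ^ 2) := by
    rw [eq_neg_iff_add_eq_zero, add_comm]
    exact hCH
  rw [this]
  simp only [neg_smul, one_smul, neg_add_rev, neg_neg]
  abel

end Cfsg.Agent.Helper57
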