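import Cfsg.Agent.Lib.Helper41.Zsigmondy

set_option autoImplicit false

namespace Cfsg.Agent.Helper57

open Cfsg.Agent.Helper41

theorem three_pow_add_le_A (p : ℕ) (hp : 2 ≤ p) : 3 ^ p + 2 ^ p ≤ 2 ^ p * 2 ^ p := by
  induction p, hp using Nat.le_induction with
  | base => norm_num
  | succ m hm ih =>
    rw [pow_succ 3, pow_succ 2]
    have h0 := Nat.zero_le (2 ^ m * 2 ^ m)
    have h1 := Nat.zero_le (2 ^ m)
    nlinarith

theorem three_pow_le_A (p : ℕ) (hp : 2 ≤ p) : 3 ^ p ≤ 2 ^ p * (2 ^ p - 1) := by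
  have h := three_pow_add_le_A p hp
  rw [Nat.mul_sub, mul_one]
  omega

theorem three_pow_add_le_B (m : ℕ) : 3 ^ (m + 3) + 2 ^ (m + 2) ≤ 2 ^ (m + 2) * 2 ^ (m + 3) := by
  induction m with
  | zero => norm_num
  | succ m ih =>
    have e1 : 3 ^ (m + 1 + 3) = 3 * 3 ^ (m + 3) := by ring
    have e2 : 2 ^ (m + 1 + 2) = 2 * 2 ^ (m + 2) := by ring
    have e3 : 2 ^ (m + 1 + 3) = 2 * 2 ^ (m + 3) := by ring
    rw [e1, e2, e3]
    have h0 := Nat.zero_le (2 ^ (m + 2) * 2 ^ (m + 3))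
    have h1 := Nat.zero_le (2 ^ (m + 2))
    nlinarith

theorem three_pow_le_B (p : ℕ) (hp : 3 ≤ p) : 3 ^ p ≤ 2 ^ (p - 1) * (2 ^ p - 1) := by
  obtain ⟨m, rfl⟩ : ∃ m, p = m + 3 := ⟨p - 3, by omega⟩
  have h := three_pow_add_le_B m
  have e : m + 3 - 1 = m + 2 := by omega
  rw [e, Nat.mul_sub, mul_one]
  omega

theorem cyc_lower_A (p k : ℕ) (hp : p.Prime) (hpk : p ∣ k) (hk : 0 < k) :
    3 ^ (k * p).totient ≤ 2 ^ (k * p).totient * cycVal (k * p) 2 := by
  have hp2 := hp.two_le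
  have hk1 : 1 < k := by
    have := Nat.le_of_dvd hk hpk
    omega
  have htot : (k * p).totient = p * k.totient := by
    rw [mul_comm]; exact Nat.totient_mul_of_prime_of_dvd hp hpk
  have h2p : 1 < 2 ^ p := Nat.one_lt_two_pow (by omega)
  have hP : cycVal (k * p) 2 = cycVal k (2 ^ p) := cycVal_expand_dvd p k 2 hp hpk
  have hgt := cycVal_gt k (2 ^ p) h2p hk1
  rw [htot, hP, pow_mul, pow_mul]
  calc (3 ^ p) ^ k.totient ≤ (2 ^ p * (2 ^ p - 1)) ^ k.totient :=
        Nat.pow_le_pow_left (three_pow_le_A p hp2) _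
    _ = (2 ^ p) ^ k.totient * (2 ^ p - 1) ^ k.totient := mul_pow _ _ _
    _ ≤ (2 ^ p) ^ k.totient * cycVal k (2 ^ p) := Nat.mul_le_mul_left _ hgt.le

theorem cyc_lower_B (p k : ℕ) (hp : p.Prime) (hp3 : 3 ≤ p) (hpk : ¬ p ∣ k) (_hk : 0 < k) :
    3 ^ (k * p).totient ≤ 2 ^ (k * p).totient * cycVal (k * p) 2 := by
  have htot : (k * p).totient = (p - 1) * k.totient := by
    rw [mul_comm]; exact Nat.totient_mul_of_prime_of_not_dvd hp hpk
  have h2p : 1 < 2 ^ p := Nat.one_lt_two_pow (by omega)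
  have hP : cycVal k (2 ^ p) = cycVal (k * p) 2 * cycVal k 2 := cycVal_expand_not_dvd p k 2 hp hpk
  have hge := cycVal_ge k (2 ^ p) h2p
  have hle : cycVal k 2 ≤ 3 ^ k.totient := cycVal_le k 2 (by norm_num)
  rw [htot]
  have key : 3 ^ ((p - 1) * k.totient) * 3 ^ k.totient ≤
      2 ^ ((p - 1) * k.totient) * cycVal (k * p) 2 * 3 ^ k.totient := by
    have e1 : 3 ^ ((p - 1) * k.totient) * 3 ^ k.totient = (3 ^ p) ^ k.totient := by
      rw [← pow_add, ← pow_mul]
      congr 1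
      have : p = (p - 1) + 1 := by omega
      conv_rhs => rw [this]
      ring
    rw [e1]
    calc (3 ^ p) ^ k.totient ≤ (2 ^ (p - 1) * (2 ^ p - 1)) ^ k.totient :=
          Nat.pow_le_pow_left (three_pow_le_B p hp3) _
      _ = (2 ^ (p - 1)) ^ k.totient * (2 ^ p - 1) ^ k.totient := mul_pow _ _ _
      _ ≤ (2 ^ (p - 1)) ^ k.totient * cycVal k (2 ^ p) := Nat.mul_le_mul_left _ hge
      _ = 2 ^ ((p - 1) * k.totient) * (cycVal (k * p) 2 * cycVal k 2) := by rw [hP, pow_mul]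
      _ ≤ 2 ^ ((p - 1) * k.totient) * (cycVal (k * p) 2 * 3 ^ k.totient) :=
          Nat.mul_le_mul_left _ (Nat.mul_le_mul_left _ hle)
      _ = 2 ^ ((p - 1) * k.totient) * cycVal (k * p) 2 * 3 ^ k.totient := by ring
  exact Nat.le_of_mul_le_mul_right key (by positivity)

theorem cyc_lower_two (n : ℕ) (hn : 3 ≤ n) : 3 ^ n.totient ≤ 2 ^ n.totient * cycVal n 2 := by
  rcases Nat.eq_two_pow_or_exists_odd_prime_and_dvd n with ⟨e, he⟩ | ⟨p, hp, hpn, hodd⟩
  · obtain ⟨f, rfl⟩ : ∃ f, e = f + 2 := by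
      refine ⟨e - 2, ?_⟩
      rcases e with _ | _ | e
      · simp at he; omega
      · simp at he; omega
      · omega
    have hn' : n = 2 ^ (f + 1) * 2 := by rw [he]; ring
    rw [hn']
    exact cyc_lower_A 2 (2 ^ (f + 1)) Nat.prime_two (dvd_pow_self 2 (by omega)) (by positivity)
  · obtain ⟨k, hk⟩ := hpn
    have hk0 : 0 < k := by
      rcases Nat.eq_zero_or_pos k with h | h
      · subst h; omega
      · exact h
    have hp3 : 3 ≤ p := by
      have := hp.two_le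
      rcases Nat.lt_or_ge p 3 with h | h
      · have : p = 2 := by omega
        subst this
        exact absurd hodd (by decide)
      · exact h
    rw [hk, mul_comm p k]
    by_cases hpk : p ∣ k
    · exact cyc_lower_A p k hp hpk hk0
    · exact cyc_lower_B p k hp hp3 hpk hk0

theorem cyc_lower (q n : ℕ) (hq : 2 ≤ q) (hn : 3 ≤ n) :
    3 ^ n.totient ≤ 2 ^ n.totient * cycVal n q := by
  rcases Nat.eq_or_lt_of_le hq with h | h
  · subst h; exact cyc_lower_two n hn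
  · have hgt := cycVal_gt n q (by omega) (by omega)
    calc 3 ^ n.totient ≤ 4 ^ n.totient := Nat.pow_le_pow_left (by norm_num) _
      _ = 2 ^ n.totient * 2 ^ n.totient := by rw [← mul_pow]; norm_num
      _ ≤ 2 ^ n.totient * (q - 1) ^ n.totient :=
          Nat.mul_le_mul_left _ (Nat.pow_le_pow_left (by omega) _)
      _ ≤ 2 ^ n.totient * cycVal n q := Nat.mul_le_mul_left _ hgt.le

end Cfsg.Agent.Helper57
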