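import Mathlib

set_option autoImplicit false

namespace Cfsg.Agent.Helper57

/-- The closure of a set of pairwise commuting elements is commutative. -/
theorem closure_comm_of_gens {G : Type*} [Group G] (S : Set G)
    (hS : ∀ s ∈ S, ∀ t ∈ S, s * t = t * s) :
    ∀ g ∈ Subgroup.closure S, ∀ h ∈ Subgroup.closure S, g * h = h * g := by
  have step1 : ∀ t ∈ S, ∀ g ∈ Subgroup.closure S, Commute g t := by
    intro t ht g hg
    induction hg using Subgroup.closure_induction with
    | mem x hx => exact hS x hx t ht
    | one => exact Commute.one_left _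
    | mul x y _ _ ihx ihy => exact ihx.mul_left ihy
    | inv x _ ih => exact ih.inv_left
  intro g hg h hh
  show Commute g h
  induction hh using Subgroup.closure_induction with
  | mem x hx => exact step1 x hx g hg
  | one => exact Commute.one_right _
  | mul x y _ _ ihx ihy => exact ihx.mul_right ihy
  | inv x _ ih => exact ih.inv_right

/-- The closure of a set of pairwise commuting involutions has exponent two. -/
theorem closure_exp_two {G : Type*} [Group G] (S : Set G)
    (hS : ∀ s ∈ S, ∀ t ∈ S, s * t = t * s) (h2 : ∀ s ∈ S, s ^ 2 = 1) :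
    ∀ g ∈ Subgroup.closure S, g ^ 2 = 1 := by
  intro g hg
  induction hg using Subgroup.closure_induction with
  | mem x hx => exact h2 x hx
  | one => exact one_pow 2
  | mul x y hx hy ihx ihy =>
    have hc : Commute x y := closure_comm_of_gens S hS x hx y hy
    rw [hc.mul_pow, ihx, ihy, one_mul]
  | inv x hx ih => rw [inv_pow, ih, inv_one]

/-- A subgroup of exponent two inside a subgroup of order `504` has order at most `8`. -/
theorem card_le_eight_of_exp_two {G : Type*} [Group G] (K E : Subgroup G) [Finite K]
    (hK : Nat.card K = 504) (hEK : E ≤ K) (h2 : ∀ g ∈ E, g ^ 2 = 1) : Nat.card E ≤ 8 := by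
  have hp2 : Fact (Nat.Prime 2) := ⟨Nat.prime_two⟩
  have hfin : Finite E := Finite.of_injective (Subgroup.inclusion hEK)
    (Subgroup.inclusion_injective hEK)
  have hp : IsPGroup 2 E := by
    intro g
    refine ⟨1, ?_⟩
    apply Subtype.ext
    rw [pow_one, Subgroup.coe_pow, h2 g g.2]
    rfl
  obtain ⟨n, hn⟩ := hp.exists_card_eq
  have hdvd : Nat.card E ∣ 504 := by
    rw [← hK]
    exact Subgroup.card_dvd_of_le hEK
  rw [hn] at hdvd ⊢
  by_contra hlt
  have hn4 : 4 ≤ n := by
    by_contra h
    have : 2 ^ n ≤ 2 ^ 3 := Nat.pow_le_pow_right (by norm_num) (by omega)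
    omega
  have h16 : 2 ^ 4 ∣ 2 ^ n := pow_dvd_pow 2 hn4
  have := h16.trans hdvd
  omega

/-- The derived subgroup of a subgroup `H`, as an abstract group, is isomorphic to `⁅H, H⁆`. -/
noncomputable def derivedEquivOfEq {G : Type*} [Group G] (H K : Subgroup G) (hK : ⁅H, H⁆ = K) :
    commutator H ≃* K :=
  ((commutator H).equivMapOfInjective H.subtype (Subgroup.subtype_injective H)).trans
    (MulEquiv.subgroupCongr ((Subgroup.map_subtype_commutator H).trans hK))

theorem derived_card_of_eq {G : Type*} [Group G] (H K : Subgroup G) (hK : ⁅H, H⁆ = K) :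
    Nat.card (commutator H) = Nat.card K :=
  Nat.card_congr (derivedEquivOfEq H K hK).toEquiv

theorem derived_simple_of_eq {G : Type*} [Group G] (H K : Subgroup G) (hK : ⁅H, H⁆ = K)
    (hs : IsSimpleGroup K) : IsSimpleGroup (commutator H) :=
  (derivedEquivOfEq H K hK).isSimpleGroup

end Cfsg.Agent.Helper57
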