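import Mathlib
import Cfsg.Agent.Lib.Helper57.EqOrdIso

set_option autoImplicit false

namespace Cfsg.Agent.Helper57

section
variable {Q : Type*} [Group Q] [Finite Q] {p : ℕ} [Fact p.Prime]

theorem case_big_exp (hQ : IsPGroup p Q) (hI : EqOrdIso Q) (x : Q) (hx : x ^ p ≠ 1) :
    IsCyclic Q ∨ (p = 2 ∧ Nonempty (Q ≃* QuaternionGroup 2)) := by
  have hp := (Fact.out : p.Prime)
  obtain ⟨k, hk⟩ := (IsPGroup.iff_orderOf.mp hQ) x
  have hk2 : 2 ≤ k := by
    by_contra hlt
    push Not at hlt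
    apply hx
    apply orderOf_dvd_iff_pow_eq_one.mp
    rw [hk]
    calc p ^ k ∣ p ^ 1 := pow_dvd_pow p (by omega)
      _ = p := pow_one p
  set y := x ^ (p ^ (k - 2)) with hy
  have hyo : orderOf y = p ^ 2 := by
    rw [hy, orderOf_pow_of_dvd (pow_ne_zero _ hp.ne_zero)
      (by rw [hk]; exact pow_dvd_pow p (by omega)), hk, Nat.pow_div (by omega) hp.pos]
    congr 1; omega
  have hcyc : ∀ A : Subgroup Q, Nat.card A = p ^ 2 → IsCyclic A := by
    intro A hA
    obtain ⟨e⟩ := hI (Subgroup.zpowers y) A (by rw [Nat.card_zpowers, hyo, hA])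
    exact isCyclic_of_surjective e e.surjective
  have huniq := unique_order_p hQ hcyc
  rcases Cfsg.Agent.S0016.result p hQ huniq with h | ⟨h2, n, ⟨e⟩⟩
  · left; exact h
  · rcases n with _ | _ | n
    · left
      have := QuaternionGroup.quaternionGroup_one_isCyclic
      have e' : Q ≃* QuaternionGroup 1 := e
      exact isCyclic_of_surjective e'.symm e'.symm.surjective
    · right
      have e' : Q ≃* QuaternionGroup 2 := e
      exact ⟨h2, ⟨e'⟩⟩
    · exfalso
      have hI' := hI.of_equiv e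
      obtain ⟨A, B, hAB, hA, hB⟩ := quat_two_subgroups (2 ^ (n + 1 + 1))
        (by rw [pow_succ]; exact dvd_mul_left 2 _)
        (by
          have : 1 ≤ 2 ^ n := Nat.one_le_two_pow
          rw [pow_succ, pow_succ]; omega)
      obtain ⟨f⟩ := hI' A B hAB
      apply hB
      intro x y
      apply f.symm.injective
      rw [map_mul, map_mul]
      exact hA _ _

theorem zpowers_central_normal {z : Q} (hz : z ∈ Subgroup.center Q) :
    (Subgroup.zpowers z).Normal := by
  refine ⟨fun n hn g => ?_⟩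
  obtain ⟨k, rfl⟩ := hn
  have hc : z ^ k ∈ Subgroup.center Q := Subgroup.zpow_mem _ hz k
  rw [Subgroup.mem_center_iff] at hc
  rw [hc g, mul_inv_cancel_right]
  exact ⟨k, rfl⟩

/-- Nonabelian exponent `p`: a nonabelian subgroup of order `p^3`. -/
theorem exists_heis_sub (hQ : IsPGroup p Q) (hexp : ∀ x : Q, x ^ p = 1)
    (hnc : ¬ ∀ a b : Q, a * b = b * a) :
    ∃ M : Subgroup Q, Nat.card M = p ^ 3 ∧ ¬ ∀ x y : M, x * y = y * x := by
  have hp := (Fact.out : p.Prime)
  have hcen : Subgroup.center Q ≠ ⊤ := by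
    intro h
    apply hnc
    intro a b
    have : b ∈ Subgroup.center Q := h ▸ Subgroup.mem_top b
    exact Subgroup.mem_center_iff.mp this a
  obtain ⟨a, haZ, hac⟩ := exists_central_mod hQ (Subgroup.center Q) hcen
  obtain ⟨g, hg⟩ : ∃ g, g * a ≠ a * g := by
    by_contra h
    push Not at h
    exact haZ (Subgroup.mem_center_iff.mpr h)
  set z := (a * g)⁻¹ * (g * a) with hz
  have hrel : g * a = a * g * z := (mul_inv_cancel_left _ _).symm
  have hzc : z ∈ Subgroup.center Q := by
    have h1 := hac g⁻¹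
    have hz' : z = a⁻¹ * (a * g⁻¹ * a⁻¹ * g⁻¹⁻¹) * a := by rw [hz]; group
    rw [hz', Subgroup.mem_center_iff.mp h1 a⁻¹, inv_mul_cancel_right]
    exact h1
  have hzall : ∀ w : Q, Commute z w := fun w => (Subgroup.mem_center_iff.mp hzc w).symm
  set M := Subgroup.closure ({a, g} : Set Q) with hM
  have hMle : Nat.card M ≤ p * p * p :=
    heis_card_le hp.pos hp.pos hrel (hzall a) (hzall g) (hexp a) (hexp g) (hexp z)
  have haM : a ∈ M := Subgroup.subset_closure (by simp)
  have hgM : g ∈ M := Subgroup.subset_closure (by simp)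
  have hMnc : ¬ ∀ x y : M, x * y = y * x := by
    intro h
    apply hg
    exact congrArg Subtype.val (h ⟨g, hgM⟩ ⟨a, haM⟩)
  obtain ⟨k, hk⟩ := (hQ.to_subgroup M).exists_card_eq
  have hk3 : 3 ≤ k := by
    by_contra hlt
    push Not at hlt
    exact hMnc (comm_of_card_le_sq hk (by omega))
  have hk3' : k ≤ 3 := by
    rw [hk] at hMle
    have : p ^ k ≤ p ^ 3 := by rw [pow_succ, pow_two]; exact hMle
    exact (Nat.pow_le_pow_iff_right hp.one_lt).mp this
  refine ⟨M, ?_, hMnc⟩
  rw [hk]; congr 1; omega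

/-- Order `≥ p^4`: an abelian subgroup of order `p^3`. -/
theorem exists_ab_sub (hQ : IsPGroup p Q) (hexp : ∀ x : Q, x ^ p = 1) {n : ℕ}
    (hn : Nat.card Q = p ^ n) (hn4 : 4 ≤ n) :
    ∃ K : Subgroup Q, Nat.card K = p ^ 3 ∧ ∀ x y : K, x * y = y * x := by
  have hp := (Fact.out : p.Prime)
  have : Nontrivial Q := by
    rw [← Finite.one_lt_card_iff_nontrivial, hn]
    exact Nat.one_lt_pow (by omega) hp.one_lt
  obtain ⟨z₀, hz₀c, hz₀o⟩ := exists_central_order_p hQ
  have hz₀all : ∀ w : Q, w * z₀ = z₀ * w := Subgroup.mem_center_iff.mp hz₀c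
  set Z₀ := Subgroup.zpowers z₀ with hZ₀
  have hZc : Nat.card Z₀ = p := by rw [Nat.card_zpowers, hz₀o]
  have hZ₀center : Z₀ ≤ Subgroup.center Q := by
    rw [hZ₀, Subgroup.zpowers_le]; exact hz₀c
  have : Z₀.Normal := zpowers_central_normal hz₀c
  have hZtop : Z₀ ≠ ⊤ := by
    intro h
    have : Nat.card Z₀ = Nat.card Q := by rw [h, Subgroup.card_top]
    rw [hZc, hn] at this
    have h2 : p ^ 1 < p ^ n := Nat.pow_lt_pow_right hp.one_lt (by omega)
    rw [pow_one] at h2
    omega
  obtain ⟨a, haZ, hac⟩ := exists_central_mod hQ Z₀ hZtop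
  have hmem : ∀ g : Q, g * a * g⁻¹ * a⁻¹ ∈ Z₀ := by
    intro g
    have := Z₀.inv_mem (hac g)
    convert this using 1
    group
  let φ : Q →* Z₀ := MonoidHom.mk' (fun g => ⟨g * a * g⁻¹ * a⁻¹, hmem g⟩) (by
    intro g h
    apply Subtype.ext
    have hc : ∀ w : Q, w * (h * a * h⁻¹ * a⁻¹) = (h * a * h⁻¹ * a⁻¹) * w :=
      Subgroup.mem_center_iff.mp (hZ₀center (hmem h))
    change g * h * a * (g * h)⁻¹ * a⁻¹ = (g * a * g⁻¹ * a⁻¹) * (h * a * h⁻¹ * a⁻¹)
    calc g * h * a * (g * h)⁻¹ * a⁻¹ = g * (h * a * h⁻¹ * a⁻¹) * (a * g⁻¹ * a⁻¹) := by group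
      _ = (h * a * h⁻¹ * a⁻¹) * g * (a * g⁻¹ * a⁻¹) := by rw [hc g]
      _ = (h * a * h⁻¹ * a⁻¹) * (g * a * g⁻¹ * a⁻¹) := by group
      _ = _ := (hc _).symm)
  have hker : ∀ g : Q, g ∈ φ.ker ↔ g * a = a * g := by
    intro g
    rw [MonoidHom.mem_ker]
    constructor
    · intro h
      have h1 : g * a * g⁻¹ * a⁻¹ = 1 := congrArg Subtype.val h
      have : g * a = (g * a * g⁻¹ * a⁻¹) * (a * g) := by group
      rw [this, h1, one_mul]
    · intro h
      apply Subtype.ext
      change g * a * g⁻¹ * a⁻¹ = 1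
      rw [h]; group
  obtain ⟨j, hj⟩ := (hQ.to_subgroup φ.ker).exists_card_eq
  have hj3 : 3 ≤ j := by
    have h1 : φ.ker.index ∣ p := by
      rw [Subgroup.index_ker, ← hZc]
      exact Subgroup.card_subgroup_dvd_card φ.range
    have h2 := Subgroup.card_mul_index φ.ker
    rw [hj, hn] at h2
    rcases (Nat.dvd_prime hp).mp h1 with h3 | h3
    · rw [h3, mul_one] at h2
      have := Nat.pow_right_injective hp.two_le h2
      omega
    · rw [h3, ← pow_succ] at h2
      have := Nat.pow_right_injective hp.two_le h2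
      omega
  set N := Subgroup.closure ({z₀, a} : Set Q) with hN
  have hNle : Nat.card N ≤ p * p * 1 := by
    have h1 : (1 : Q) ^ 1 = 1 := one_pow 1
    exact heis_card_le (a := z₀) (g := a) (z := 1) hp.pos Nat.one_pos
      (by rw [mul_one]; exact hz₀all a) (Commute.one_left _) (Commute.one_left _)
      (by rw [← hz₀o]; exact pow_orderOf_eq_one z₀) (hexp a) h1
  have hz₀N : z₀ ∈ N := Subgroup.subset_closure (by simp)
  have haN : a ∈ N := Subgroup.subset_closure (by simp)
  obtain ⟨b, hbker, hbN⟩ : ∃ b, b ∈ φ.ker ∧ b ∉ N := by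
    by_contra h
    push Not at h
    have hle : φ.ker ≤ N := h
    have := Subgroup.card_le_of_le hle
    rw [hj] at this
    have h3 : p ^ 3 ≤ p ^ j := Nat.pow_le_pow_right hp.pos hj3
    have h4 : p * p * 1 < p ^ 3 := by
      rw [mul_one, ← pow_two]; exact Nat.pow_lt_pow_right hp.one_lt (by norm_num)
    omega
  have hba : b * a = a * b := (hker b).mp hbker
  set A := Subgroup.closure ({z₀, a, b} : Set Q) with hA
  have hAcomm : IsMulCommutative A := by
    apply Subgroup.isMulCommutative_closure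
    intro x hx y hy
    simp only [Set.mem_insert_iff, Set.mem_singleton_iff] at hx hy
    rcases hx with rfl | rfl | rfl <;> rcases hy with rfl | rfl | rfl <;>
      first | rfl | exact (hz₀all _).symm | exact hz₀all _ | exact hba | exact hba.symm
  have hNA : N ≤ A := by
    rw [hN, Subgroup.closure_le]
    intro x hx
    simp only [Set.mem_insert_iff, Set.mem_singleton_iff] at hx
    rcases hx with rfl | rfl
    · exact Subgroup.subset_closure (by simp)
    · exact Subgroup.subset_closure (by simp)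
  have hbA : b ∈ A := Subgroup.subset_closure (by simp)
  have hZN : Z₀ ≤ N := by rw [hZ₀, Subgroup.zpowers_le]; exact hz₀N
  have hN2 : p ^ 2 ∣ Nat.card N :=
    card_pow_ge_of_lt hQ hZN (fun h => haZ (h ▸ haN)) (j := 1) (by rw [hZc, pow_one])
  have hA3 : p ^ 3 ∣ Nat.card A :=
    card_pow_ge_of_lt hQ hNA (fun h => hbN (h ▸ hbA)) (j := 2)
      (Nat.le_of_dvd Nat.card_pos hN2)
  obtain ⟨K', hK'⟩ := Sylow.exists_subgroup_card_pow_prime p hA3
  refine ⟨K'.map A.subtype, ?_, ?_⟩
  · rw [← hK']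
    exact (Nat.card_congr (Subgroup.equivMapOfInjective K' _
      (Subgroup.subtype_injective _)).toEquiv).symm
  · rintro ⟨x, hx⟩ ⟨y, hy⟩
    apply Subtype.ext
    obtain ⟨x', _, rfl⟩ := hx
    obtain ⟨y', _, rfl⟩ := hy
    have := hAcomm.is_comm.comm x' y'
    have h2 : (x' : Q) * (y' : Q) = (y' : Q) * (x' : Q) := congrArg Subtype.val this
    exact h2

theorem case_exp_p (hQ : IsPGroup p Q) (hI : EqOrdIso Q) (hexp : ∀ x : Q, x ^ p = 1)
    (hnc : ¬ ∀ a b : Q, a * b = b * a) : p ≠ 2 ∧ Nat.card Q = p ^ 3 := by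
  have hp := (Fact.out : p.Prime)
  constructor
  · intro h2
    apply hnc
    intro a b
    have hinv : ∀ x : Q, x⁻¹ = x := fun x => by
      rw [inv_eq_iff_mul_eq_one, ← sq]
      have := hexp x
      rwa [h2] at this
    rw [← hinv (a * b), mul_inv_rev, hinv, hinv]
  · obtain ⟨n, hn⟩ := hQ.exists_card_eq
    have hn3 : 3 ≤ n := by
      by_contra hlt
      push Not at hlt
      exact hnc (comm_of_card_le_sq hn (by omega))
    have hn3' : n ≤ 3 := by
      by_contra hlt
      push Not at hlt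
      obtain ⟨M, hMc, hMnc⟩ := exists_heis_sub hQ hexp hnc
      obtain ⟨K, hKc, hK⟩ := exists_ab_sub hQ hexp hn (by omega)
      obtain ⟨f⟩ := hI M K (by rw [hMc, hKc])
      apply hMnc
      intro x y
      apply f.injective
      rw [map_mul, map_mul]
      exact hK _ _
    rw [hn]; congr 1; omega

/-- Main abstract statement. -/
theorem eqOrdIso_types (hQ : IsPGroup p Q) (hI : EqOrdIso Q) :
    IsCyclic Q ∨ ((∀ a b : Q, a * b = b * a) ∧ ∀ a : Q, a ^ p = 1) ∨
      (p = 2 ∧ Nonempty (Q ≃* QuaternionGroup 2)) ∨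
      (p ≠ 2 ∧ (¬ ∀ a b : Q, a * b = b * a) ∧ Nat.card Q = p ^ 3 ∧ Monoid.exponent Q = p) := by
  have hp := (Fact.out : p.Prime)
  by_cases hexp : ∀ x : Q, x ^ p = 1
  · by_cases hc : ∀ a b : Q, a * b = b * a
    · right; left; exact ⟨hc, hexp⟩
    · right; right; right
      obtain ⟨h2, hcard⟩ := case_exp_p hQ hI hexp hc
      refine ⟨h2, hc, hcard, ?_⟩
      have hdvd : Monoid.exponent Q ∣ p := Monoid.exponent_dvd_of_forall_pow_eq_one hexp
      rcases (Nat.dvd_prime hp).mp hdvd with h1 | h1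
      · exfalso
        apply hc
        have : Subsingleton Q := Monoid.exp_eq_one_iff.mp h1
        intro a b; exact Subsingleton.elim _ _
      · exact h1
  · push Not at hexp
    obtain ⟨x, hx⟩ := hexp
    rcases case_big_exp hQ hI x hx with h | h
    · left; exact h
    · right; right; left; exact h

end

end Cfsg.Agent.Helper57
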