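import Mathlib
import Cfsg.Agent.Lib.Helper97.FXDefs
import Cfsg.Agent.Lib.Helper97.FXDefs2
import Cfsg.Agent.Lib.Helper48.SympRep
import Cfsg.Agent.Lib.Helper57.FXFixSub

/-! FX server wave 2 (helper97, S3818), piece (ISUM). -/

set_option autoImplicit false

namespace Cfsg.Agent.Helper57.FX

open Cfsg.Agent.Helper97.FX Cfsg.Agent.Helper48.SympRep
open scoped TensorProduct

universe u

section DS
variable {K : Type*} [Field K] {G : Type*} [Group G] [Finite G]
variable {V : Type u} [AddCommGroup V] [Module K V] [FiniteDimensional K V]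

/-- **(ISUM)** -/
theorem irr_sum_zero (ρ : G →* Module.End K V) (hirr : Irr ρ) (hf : Function.Injective ρ)
    (N₀ : Subgroup G) (hN : N₀.Normal) (hne : N₀ ≠ ⊥) (v : V) :
    ∑ᶠ n : N₀, ρ (n : G) v = 0 := by
  have := hN
  have hW : fixSub ρ N₀ = ⊥ := by
    rcases hirr (fixSub ρ N₀) (fixSub_inv ρ N₀) with h | h
    · exact h
    · exfalso
      apply hne
      rw [Subgroup.eq_bot_iff_forall]
      intro n hn
      have h1 := eq_one_of_fixSub_eq_top ρ N₀ h n hn
      exact hf (h1.trans (map_one ρ).symm)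
  have hs : (∑ᶠ n : N₀, ρ (n : G) v) ∈ fixSub ρ N₀ := by
    rw [mem_fixSub]
    intro m hm
    have : Fintype N₀ := Fintype.ofFinite _
    rw [finsum_eq_sum_of_fintype, map_sum]
    have h1 : ∀ n : N₀, ρ m (ρ (n : G) v) = ρ (((⟨m, hm⟩ : N₀) * n : N₀) : G) v := by
      intro n
      rw [Subgroup.coe_mul, map_mul]
      rfl
    simp_rw [h1]
    exact Fintype.sum_equiv (Equiv.mulLeft (⟨m, hm⟩ : N₀)) _ _ (fun n => rfl)
  rw [hW, Submodule.mem_bot] at hs
  exact hs

end DS

end Cfsg.Agent.Helper57.FX
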