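import Mathlib
import Cfsg.Agent.Lib.Helper97.FXDefs
import Cfsg.Agent.Lib.Helper97.FXDefs2
import Cfsg.Agent.Lib.Helper48.SympRep

/-! FX server wave 2 (helper97, S3818), piece (MINSUB). -/

set_option autoImplicit false

namespace Cfsg.Agent.Helper57.FX

open Cfsg.Agent.Helper97.FX Cfsg.Agent.Helper48.SympRep
open scoped TensorProduct

universe u

section DS
variable {K : Type*} [Field K] {G : Type*} [Group G] [Finite G]
variable {V : Type u} [AddCommGroup V] [Module K V] [FiniteDimensional K V]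

/-- **(MINSUB)** -/
theorem exists_minimal_normal_le (N : Subgroup G) (hN : N.Normal) (hne : N ≠ ⊥) :
    ∃ N₀ : Subgroup G, N₀.Normal ∧ N₀ ≠ ⊥ ∧ N₀ ≤ N ∧
      ∀ M : Subgroup G, M.Normal → M ≤ N₀ → M = ⊥ ∨ M = N₀ := by
  have hwf : WellFounded ((· < ·) : Subgroup G → Subgroup G → Prop) := wellFounded_lt
  obtain ⟨N₀, ⟨hN₀n, hN₀1, hN₀le⟩, hmin⟩ :=
    hwf.has_min {M : Subgroup G | M.Normal ∧ M ≠ ⊥ ∧ M ≤ N} ⟨N, hN, hne, le_rfl⟩
  refine ⟨N₀, hN₀n, hN₀1, hN₀le, fun M hMn hMle => ?_⟩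
  by_cases hM : M = ⊥
  · exact Or.inl hM
  · right
    have h1 : ¬ M < N₀ := hmin M ⟨hMn, hM, hMle.trans hN₀le⟩
    exact eq_of_le_of_not_lt hMle h1

end DS

end Cfsg.Agent.Helper57.FX
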