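import Mathlib

set_option autoImplicit false

namespace Cfsg.Agent.Helper57

theorem pred_pow_four_ge (p : ℕ) (hp : 5 ≤ p) : p ^ 3 ≤ (p - 1) ^ 4 := by
  obtain ⟨s, rfl⟩ : ∃ s, p = s + 5 := ⟨p - 5, by omega⟩
  have : s + 5 - 1 = s + 4 := by omega
  rw [this]
  nlinarith [sq_nonneg s, sq_nonneg (s * s), Nat.zero_le s, Nat.zero_le (s * s * s)]

theorem totient_quartic_aux : ∀ n : ℕ, 0 < n →
    (¬ 2 ∣ n → ¬ 3 ∣ n → n ^ 3 ≤ n.totient ^ 4) ∧
    (¬ 2 ∣ n → 16 * n ^ 3 ≤ 27 * n.totient ^ 4) ∧
    (2 * n ^ 3 ≤ 27 * n.totient ^ 4) := by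
  intro n
  induction n using Nat.strong_induction_on with
  | _ n ih =>
    intro hn
    rcases Nat.eq_or_lt_of_le (Nat.one_le_iff_ne_zero.mpr hn.ne') with h1 | h1
    · subst h1; simp
    · have hp : (n.minFac).Prime := Nat.minFac_prime (by omega)
      obtain ⟨k, hk⟩ := Nat.minFac_dvd n
      obtain ⟨p, hpdef⟩ : ∃ p, p = n.minFac := ⟨_, rfl⟩
      rw [← hpdef] at hp hk
      have hp2 := hp.two_le
      have hk0 : 0 < k := by
        rcases Nat.eq_zero_or_pos k with h | h
        · subst h; omega
        · exact h
      have hkn : k < n := by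
        rw [hk]; nlinarith
      obtain ⟨ihA, ihB, ihC⟩ := ih k hkn hk0
      have hmin : ∀ r : ℕ, 2 ≤ r → r ∣ k → p ≤ r := by
        intro r hr hrk
        rw [hpdef]
        exact Nat.minFac_le_of_dvd hr (hk ▸ Dvd.dvd.mul_left hrk p)
      have htot : n.totient = if p ∣ k then p * k.totient else (p - 1) * k.totient := by
        rw [hk]
        split_ifs with h
        · exact Nat.totient_mul_of_prime_of_dvd hp h
        · exact Nat.totient_mul_of_prime_of_not_dvd hp h
      have hn3 : n ^ 3 = p ^ 3 * k ^ 3 := by rw [hk]; ring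
      -- claim (a)
      have hA : ¬ 2 ∣ n → ¬ 3 ∣ n → n ^ 3 ≤ n.totient ^ 4 := by
        intro h2 h3
        have hp5 : 5 ≤ p := by
          have hpn : p ∣ n := hk ▸ dvd_mul_right p k
          have h2' : p ≠ 2 := fun h => h2 (h ▸ hpn)
          have h3' : p ≠ 3 := fun h => h3 (h ▸ hpn)
          have h4' : p ≠ 4 := fun h => by rw [h] at hp; exact absurd hp (by norm_num)
          omega
        have hk2 : ¬ 2 ∣ k := fun h => by have := hmin 2 (by norm_num) h; omega
        have hk3 : ¬ 3 ∣ k := fun h => by have := hmin 3 (by norm_num) h; omega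
        have hkA := ihA hk2 hk3
        rw [htot, hn3]
        split_ifs with h
        · rw [mul_pow]
          have : p ^ 3 ≤ p ^ 4 := Nat.pow_le_pow_right (by omega) (by norm_num)
          exact Nat.mul_le_mul this hkA
        · rw [mul_pow]
          exact Nat.mul_le_mul (pred_pow_four_ge p hp5) hkA
      -- claim (b)
      have hB : ¬ 2 ∣ n → 16 * n ^ 3 ≤ 27 * n.totient ^ 4 := by
        intro h2
        by_cases h3 : 3 ∣ n
        · have hp3 : p = 3 := by
            have hpn : p ∣ n := hk ▸ dvd_mul_right p k
            have h2' : p ≠ 2 := fun h => h2 (h ▸ hpn)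
            have : p ≤ 3 := by rw [hpdef]; exact Nat.minFac_le_of_dvd (by norm_num) h3
            omega
          have hk2 : ¬ 2 ∣ k := fun h => by have := hmin 2 (by norm_num) h; omega
          rw [htot, hn3, hp3]
          split_ifs with h
          · have := ihB hk2
            rw [mul_pow]
            nlinarith
          · have := ihA hk2 (hp3 ▸ h)
            rw [mul_pow]
            norm_num
            nlinarith
        · have := hA h2 h3
          have h0 := Nat.zero_le (n.totient ^ 4)
          linarith
      refine ⟨hA, hB, ?_⟩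
      by_cases h2 : 2 ∣ n
      · have hp2' : p = 2 := by
          have : p ≤ 2 := by rw [hpdef]; exact Nat.minFac_le_of_dvd (by norm_num) h2
          omega
        rw [htot, hn3, hp2']
        split_ifs with h
        · rw [mul_pow]
          have h0 := Nat.zero_le (k.totient ^ 4)
          norm_num
          linarith
        · have := ihB (hp2' ▸ h)
          norm_num
          linarith
      · have := hB h2
        have h0 := Nat.zero_le (n.totient ^ 4)
        have h1' := Nat.zero_le (n ^ 3)
        linarith

theorem totient_quartic (n : ℕ) (hn : 0 < n) : 2 * n ^ 3 ≤ 27 * n.totient ^ 4 :=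
  (totient_quartic_aux n hn).2.2

end Cfsg.Agent.Helper57
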