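import Cfsg.Agent.Lib.Helper57.FeitWitness
import Cfsg.Agent.Lib.Helper57.TotientBound
import Cfsg.Agent.Lib.Helper57.CycLower

set_option autoImplicit false

namespace Cfsg.Agent.Helper57

open Cfsg.Agent.Helper41

/-- If `(q, n)` has no large Zsigmondy prime (`n ≥ 3`), then `Φ_n(q)` divides `n (n + 1)`. -/
theorem cycVal_dvd_of_no_large (q n : ℕ) (hq : 2 ≤ q) (hn : 3 ≤ n)
    (hno : ¬ ∃ p, IsLargeZsig q n p) : cycVal n q ∣ n * (n + 1) := by
  have hP0 : cycVal n q ≠ 0 := (cycVal_pos n q (by omega)).ne'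
  have hN0 : n * (n + 1) ≠ 0 := by positivity
  rw [← Nat.factorization_prime_le_iff_dvd hP0 hN0]
  intro r hr
  by_cases hrP : r ∣ cycVal n q
  · have : Fact r.Prime := ⟨hr⟩
    have hsq : ¬ r ^ 2 ∣ cycVal n q ∧ r ∣ n * (n + 1) := by
      by_cases hrn : r ∣ n
      · obtain ⟨e, m, he, hm0, hm, hnm, hmr, hord⟩ :=
          structure_of_dvd q n r (by omega) (by omega) hrn hrP
        refine ⟨?_, dvd_mul_of_dvd_left hrn _⟩
        have := not_sq_dvd_cycVal q r e m (by omega) hm he hm0 (hnm ▸ hn) (hnm ▸ hrP)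
        rwa [← hnm] at this
      · have hord := orderOf_of_dvd_cycVal' q r n (by omega) hrn hrP
        obtain ⟨h1, h2⟩ := ppd_of_orderOf_eq q r n (by omega) hord
        have hdiv : n ∣ r - 1 := by
          rw [← hord]
          apply ZMod.orderOf_dvd_card_sub_one
          intro h0
          have h3 := pow_orderOf_eq_one (q : ZMod r)
          rw [hord, h0, zero_pow (by omega)] at h3
          exact zero_ne_one h3
        have hr2 := hr.two_le
        have hle : n ≤ r - 1 := Nat.le_of_dvd (by omega) hdiv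
        have hnl : ¬ (n + 1 < r ∨ r ^ 2 ∣ q ^ n - 1) := by
          intro h
          exact hno ⟨r, hr, h1, fun i hi hin => h2 i hi hin, h⟩
        push Not at hnl
        have hreq : r = n + 1 := by omega
        refine ⟨fun h => hnl.2 (h.trans (cycVal_dvd n q (by omega))), ?_⟩
        rw [hreq]; exact dvd_mul_left _ _
    have h1 : (cycVal n q).factorization r ≤ 1 := by
      by_contra h
      push Not at h
      exact hsq.1 ((hr.pow_dvd_iff_le_factorization hP0).mpr h)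
    have h2 : 1 ≤ (n * (n + 1)).factorization r := hr.factorization_pos_of_dvd hN0 hsq.2
    omega
  · rw [Nat.factorization_eq_zero_of_not_dvd hrP]; exact Nat.zero_le _

theorem exp_bound (t : ℕ) (ht : 31 ≤ t) : 2 ^ t * (4 * t ^ 3) < 3 ^ t := by
  induction t, ht using Nat.le_induction with
  | base => norm_num
  | succ t ht ih =>
    rw [pow_succ 2, pow_succ 3]
    have h1 : 2 * (t + 1) ^ 3 ≤ 3 * t ^ 3 := by nlinarith [sq_nonneg t]
    calc 2 ^ t * 2 * (4 * (t + 1) ^ 3) = 2 ^ t * 4 * (2 * (t + 1) ^ 3) := by ring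
      _ ≤ 2 ^ t * 4 * (3 * t ^ 3) := Nat.mul_le_mul_left _ h1
      _ = (2 ^ t * (4 * t ^ 3)) * 3 := by ring
      _ < 3 ^ t * 3 := Nat.mul_lt_mul_of_pos_right ih (by norm_num)

theorem sq_le_of_quartic (n t : ℕ) (h2 : 2 * n ^ 3 ≤ 27 * t ^ 4) (ht : 23 ≤ t) :
    n ^ 2 ≤ 2 * t ^ 3 := by
  by_contra h
  push Not at h
  have h3 : (2 * t ^ 3) ^ 3 < (n ^ 2) ^ 3 := Nat.pow_lt_pow_left h (by norm_num)
  have h4 : (2 * n ^ 3) ^ 2 ≤ (27 * t ^ 4) ^ 2 := Nat.pow_le_pow_left h2 2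
  have h5 : 32 * t ^ 9 < 729 * t ^ 8 := by
    have e1 : 4 * (2 * t ^ 3) ^ 3 = 32 * t ^ 9 := by ring
    have e2 : 4 * (n ^ 2) ^ 3 = (2 * n ^ 3) ^ 2 := by ring
    have e3 : (27 * t ^ 4) ^ 2 = 729 * t ^ 8 := by ring
    omega
  have h6 : 32 * t ^ 9 = (32 * t) * t ^ 8 := by ring
  rw [h6] at h5
  have h7 : 32 * t < 729 := lt_of_mul_lt_mul_right h5 (Nat.zero_le _)
  omega

theorem n_le_of_bounds (n t : ℕ) (h1 : 3 ^ t ≤ 2 ^ t * (n * (n + 1)))
    (h2 : 2 * n ^ 3 ≤ 27 * t ^ 4) : n ≤ 230 := by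
  by_contra hn
  push Not at hn
  have ht : 31 ≤ t := by
    by_contra h
    push Not at h
    have h3 : t ^ 4 ≤ 30 ^ 4 := Nat.pow_le_pow_left (by omega) 4
    have h4 : 231 ^ 3 ≤ n ^ 3 := Nat.pow_le_pow_left (by omega) 3
    norm_num at h3 h4
    omega
  have h3 := sq_le_of_quartic n t h2 (by omega)
  have h4 := exp_bound t ht
  have h5 : n * (n + 1) ≤ 4 * t ^ 3 := by nlinarith
  have h6 : 2 ^ t * (n * (n + 1)) ≤ 2 ^ t * (4 * t ^ 3) := Nat.mul_le_mul_left _ h5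
  omega

theorem small_list : ∀ n < 231, 3 ≤ n →
    3 ^ Nat.totient n ≤ 2 ^ Nat.totient n * (n * (n + 1)) →
    n ∈ [3, 4, 5, 6, 7, 8, 9, 10, 11, 12, 13, 14, 15, 16, 18, 20, 21, 22, 24, 26, 28, 30, 32, 34,
      36, 38, 40, 42, 48, 54, 60, 66] := by
  decide +kernel

end Cfsg.Agent.Helper57
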