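import Mathlib

set_option autoImplicit false

namespace Cfsg.Agent.Helper57

/-- `p` is a large Zsigmondy prime for `(q, n)`. -/
def IsLargeZsig (q n p : ℕ) : Prop :=
  p.Prime ∧ p ∣ q ^ n - 1 ∧ (∀ i : ℕ, 1 ≤ i → i < n → ¬ p ∣ q ^ i - 1) ∧
    (n + 1 < p ∨ p ^ 2 ∣ q ^ n - 1)

theorem lz_2_3 : IsLargeZsig 2 3 7 :=
  ⟨by norm_num, by decide, by decide, Or.inl (by norm_num)⟩

theorem lz_3_3 : IsLargeZsig 3 3 13 :=
  ⟨by norm_num, by decide, by decide, Or.inl (by norm_num)⟩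

theorem lz_4_3 : IsLargeZsig 4 3 7 :=
  ⟨by norm_num, by decide, by decide, Or.inl (by norm_num)⟩

theorem lz_4_4 : IsLargeZsig 4 4 17 :=
  ⟨by norm_num, by decide, by decide, Or.inl (by norm_num)⟩

theorem lz_5_4 : IsLargeZsig 5 4 13 :=
  ⟨by norm_num, by decide, by decide, Or.inl (by norm_num)⟩

theorem lz_2_5 : IsLargeZsig 2 5 31 :=
  ⟨by norm_num, by decide, by decide, Or.inl (by norm_num)⟩

theorem lz_3_5 : IsLargeZsig 3 5 11 :=
  ⟨by norm_num, by decide, by decide, Or.inl (by norm_num)⟩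

theorem lz_4_6 : IsLargeZsig 4 6 13 :=
  ⟨by norm_num, by decide, by decide, Or.inl (by norm_num)⟩

theorem lz_6_6 : IsLargeZsig 6 6 31 :=
  ⟨by norm_num, by decide, by decide, Or.inl (by norm_num)⟩

theorem lz_7_6 : IsLargeZsig 7 6 43 :=
  ⟨by norm_num, by decide, by decide, Or.inl (by norm_num)⟩

theorem lz_2_7 : IsLargeZsig 2 7 127 :=
  ⟨by norm_num, by decide, by decide, Or.inl (by norm_num)⟩

theorem lz_2_8 : IsLargeZsig 2 8 17 :=
  ⟨by norm_num, by decide, by decide, Or.inl (by norm_num)⟩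

theorem lz_3_8 : IsLargeZsig 3 8 41 :=
  ⟨by norm_num, by decide, by decide, Or.inl (by norm_num)⟩

theorem lz_2_9 : IsLargeZsig 2 9 73 :=
  ⟨by norm_num, by decide, by decide, Or.inl (by norm_num)⟩

theorem lz_3_9 : IsLargeZsig 3 9 757 :=
  ⟨by norm_num, by decide, by decide, Or.inl (by norm_num)⟩

theorem lz_3_10 : IsLargeZsig 3 10 61 :=
  ⟨by norm_num, by decide, by decide, Or.inl (by norm_num)⟩

theorem lz_4_10 : IsLargeZsig 4 10 41 :=
  ⟨by norm_num, by decide, by decide, Or.inl (by norm_num)⟩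

theorem lz_2_11 : IsLargeZsig 2 11 23 :=
  ⟨by norm_num, by decide, by decide, Or.inl (by norm_num)⟩

theorem lz_3_12 : IsLargeZsig 3 12 73 :=
  ⟨by norm_num, by decide, by decide, Or.inl (by norm_num)⟩

theorem lz_4_12 : IsLargeZsig 4 12 241 :=
  ⟨by norm_num, by decide, by decide, Or.inl (by norm_num)⟩

theorem lz_2_13 : IsLargeZsig 2 13 8191 :=
  ⟨by norm_num, by decide, by decide, Or.inl (by norm_num)⟩

theorem lz_2_14 : IsLargeZsig 2 14 43 :=
  ⟨by norm_num, by decide, by decide, Or.inl (by norm_num)⟩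

theorem lz_3_14 : IsLargeZsig 3 14 547 :=
  ⟨by norm_num, by decide, by decide, Or.inl (by norm_num)⟩

theorem lz_2_15 : IsLargeZsig 2 15 151 :=
  ⟨by norm_num, by decide, by decide, Or.inl (by norm_num)⟩

theorem lz_2_16 : IsLargeZsig 2 16 257 :=
  ⟨by norm_num, by decide, by decide, Or.inl (by norm_num)⟩

theorem lz_3_16 : IsLargeZsig 3 16 193 :=
  ⟨by norm_num, by decide, by decide, Or.inl (by norm_num)⟩

theorem lz_3_18 : IsLargeZsig 3 18 37 :=
  ⟨by norm_num, by decide, by decide, Or.inl (by norm_num)⟩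

theorem lz_2_20 : IsLargeZsig 2 20 41 :=
  ⟨by norm_num, by decide, by decide, Or.inl (by norm_num)⟩

theorem lz_3_20 : IsLargeZsig 3 20 1181 :=
  ⟨by norm_num, by decide, by decide, Or.inl (by norm_num)⟩

theorem lz_2_21 : IsLargeZsig 2 21 337 :=
  ⟨by norm_num, by decide, by decide, Or.inl (by norm_num)⟩

theorem lz_2_22 : IsLargeZsig 2 22 683 :=
  ⟨by norm_num, by decide, by decide, Or.inl (by norm_num)⟩

theorem lz_2_24 : IsLargeZsig 2 24 241 :=
  ⟨by norm_num, by decide, by decide, Or.inl (by norm_num)⟩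

theorem lz_3_24 : IsLargeZsig 3 24 6481 :=
  ⟨by norm_num, by decide, by decide, Or.inl (by norm_num)⟩

theorem lz_2_26 : IsLargeZsig 2 26 2731 :=
  ⟨by norm_num, by decide, by decide, Or.inl (by norm_num)⟩

theorem lz_2_28 : IsLargeZsig 2 28 113 :=
  ⟨by norm_num, by decide, by decide, Or.inl (by norm_num)⟩

theorem lz_2_30 : IsLargeZsig 2 30 331 :=
  ⟨by norm_num, by decide, by decide, Or.inl (by norm_num)⟩

theorem lz_3_30 : IsLargeZsig 3 30 271 :=
  ⟨by norm_num, by decide, by decide, Or.inl (by norm_num)⟩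

theorem lz_2_32 : IsLargeZsig 2 32 65537 :=
  ⟨by norm_num, by decide, by decide, Or.inl (by norm_num)⟩

theorem lz_2_34 : IsLargeZsig 2 34 43691 :=
  ⟨by norm_num, by decide, by decide, Or.inl (by norm_num)⟩

theorem lz_2_36 : IsLargeZsig 2 36 109 :=
  ⟨by norm_num, by decide, by decide, Or.inl (by norm_num)⟩

theorem lz_2_38 : IsLargeZsig 2 38 174763 :=
  ⟨by norm_num, by decide, by decide, Or.inl (by norm_num)⟩

theorem lz_2_40 : IsLargeZsig 2 40 61681 :=
  ⟨by norm_num, by decide, by decide, Or.inl (by norm_num)⟩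

theorem lz_2_42 : IsLargeZsig 2 42 5419 :=
  ⟨by norm_num, by decide, by decide, Or.inl (by norm_num)⟩

theorem lz_2_48 : IsLargeZsig 2 48 97 :=
  ⟨by norm_num, by decide, by decide, Or.inl (by norm_num)⟩

theorem lz_2_54 : IsLargeZsig 2 54 87211 :=
  ⟨by norm_num, by decide, by decide, Or.inl (by norm_num)⟩

theorem lz_2_60 : IsLargeZsig 2 60 1321 :=
  ⟨by norm_num, by decide, by decide, Or.inl (by norm_num)⟩

theorem lz_2_66 : IsLargeZsig 2 66 20857 :=
  ⟨by norm_num, by decide, by decide, Or.inl (by norm_num)⟩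

end Cfsg.Agent.Helper57
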