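import Cfsg.Agent.Lib.Helper57.SolvPQ

set_option autoImplicit false

namespace Cfsg.Agent.Helper57

universe u

/-- Frattini argument: if `K ⊴ G` has a Sylow `r`-subgroup of order `r`, the prime `s` divides
`|G|` but not `|K|`, and `s ∤ r - 1`, then `G` has an element of order `r * s`. -/
theorem frattini_pq {G : Type u} [Group G] [Finite G] (K : Subgroup G) [K.Normal]
    (r s : ℕ) (hr : r.Prime) (hs : s.Prime) (hrs : r ≠ s)
    (hvr : (Nat.card K).factorization r = 1) (hsG : s ∣ Nat.card G) (hsK : ¬ s ∣ Nat.card K)
    (hsr : ¬ s ∣ r - 1) : ∃ g : G, orderOf g = r * s := by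
  have := Fact.mk hr
  have := Fact.mk hs
  obtain P : Sylow r K := default
  have hPcard : Nat.card P = r := by
    rw [Sylow.card_eq_multiplicity, hvr, pow_one]
  set S : Subgroup G := (P : Subgroup K).map K.subtype with hS
  have hScard : Nat.card S = r := by
    rw [hS, Subgroup.card_map_of_injective K.subtype_injective]
    exact hPcard
  have hsup : (Subgroup.normalizer (S : Set G)) ⊔ K = ⊤ := Sylow.normalizer_sup_eq_top P
  have hdiv : s ∣ Nat.card (Subgroup.normalizer (S : Set G)) := by
    have h1 : K.relIndex ((Subgroup.normalizer (S : Set G)) ⊔ K) = K.relIndex (Subgroup.normalizer (S : Set G)) :=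
      Subgroup.relIndex_sup_right _ _
    rw [hsup, Subgroup.relIndex_top_right] at h1
    have h2 : K.index ∣ Nat.card (Subgroup.normalizer (S : Set G)) := h1 ▸ Subgroup.relIndex_dvd_card _ _
    have h3 : Nat.card G = Nat.card K * K.index := (Subgroup.card_mul_index K).symm
    rw [h3] at hsG
    exact (((Nat.Prime.dvd_mul hs).mp hsG).resolve_left hsK).trans h2
  obtain ⟨y, hy⟩ := exists_prime_orderOf_dvd_card' s hdiv
  -- the automorphism induced by `y` on `S` is trivial
  have hScyc : IsCyclic S := isCyclic_of_prime_card hScard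
  have hAut : Nat.card (MulAut S) = r - 1 := by
    rw [IsCyclic.card_mulAut, hScard, Nat.totient_prime hr]
  have hφ : S.normalizerMonoidHom y = 1 := by
    have h1 : orderOf (S.normalizerMonoidHom y) ∣ s := by
      rw [← hy]; exact orderOf_map_dvd _ _
    have h2 : orderOf (S.normalizerMonoidHom y) ∣ r - 1 := by
      rw [← hAut]; exact orderOf_dvd_natCard _
    have h3 : orderOf (S.normalizerMonoidHom y) = 1 := by
      rcases (Nat.dvd_prime hs).mp h1 with h | h
      · exact h
      · rw [h] at h2; exact absurd h2 hsr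
    exact orderOf_eq_one_iff.mp h3
  obtain ⟨x, hx⟩ := exists_prime_orderOf_dvd_card' (G := S) r (by rw [hScard])
  have hcomm : Commute (x : G) (y : G) := by
    have := congrArg (fun f => ((f x : S) : G)) hφ
    simp only [Subgroup.normalizerMonoidHom_apply_apply_coe, MulAut.one_apply] at this
    -- this : y * x * y⁻¹ = x
    unfold Commute SemiconjBy
    calc (x : G) * (y : G) = ((y : G) * (x : G) * (y : G)⁻¹) * (y : G) := by rw [this]
      _ = (y : G) * (x : G) := by group
  refine ⟨(x : G) * (y : G), ?_⟩
  apply orderOf_mul_of_primes _ _ r s hr hs hrs _ _ hcomm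
  · rw [Subgroup.orderOf_coe, hx]
  · rw [Subgroup.orderOf_coe, hy]

end Cfsg.Agent.Helper57
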