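import Cfsg.Agent.Lib.Helper57.Frobenius

set_option autoImplicit false

namespace Cfsg.Agent.Helper57

open Quaternion

/-- The field with `49` elements as `𝔽₇[i]` (only its ring structure is used). -/
abbrev R49 := QuadraticAlgebra (ZMod 7) (-1) 0

/-- Quaternions over `𝔽₇[i]`. -/
abbrev A7 := ℍ[R49]

instance : DecidableEq A7 := fun a b =>
  decidable_of_iff (a.re = b.re ∧ a.imI = b.imI ∧ a.imJ = b.imJ ∧ a.imK = b.imK)
    (by constructor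
        · rintro ⟨h1, h2, h3, h4⟩; exact QuaternionAlgebra.ext h1 h2 h3 h4
        · rintro rfl; exact ⟨rfl, rfl, rfl, rfl⟩)

instance : Finite R49 := Finite.of_equiv _ (QuadraticAlgebra.equivProd (-1 : ZMod 7) 0).symm

instance : Finite A7 :=
  Finite.of_equiv _ (QuaternionAlgebra.equivProd (-1 : R49) 0 (-1)).symm

/-- An element of order `8` whose square is the central element `i`. -/
def xq : A7 := ⟨⟨0, 0⟩, ⟨3, 4⟩, ⟨4, 3⟩, ⟨0, 0⟩⟩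

/-- `(-1 + I + J + K) / 2`, of order `3`, inverted by `xq`. -/
def cq : A7 := ⟨⟨3, 0⟩, ⟨4, 0⟩, ⟨4, 0⟩, ⟨4, 0⟩⟩

def elts7 : List A7 := [
  ⟨⟨1, 0⟩, ⟨0, 0⟩, ⟨0, 0⟩, ⟨0, 0⟩⟩, ⟨⟨0, 0⟩, ⟨3, 4⟩, ⟨4, 3⟩, ⟨0, 0⟩⟩,
  ⟨⟨0, 1⟩, ⟨0, 0⟩, ⟨0, 0⟩, ⟨0, 0⟩⟩, ⟨⟨0, 0⟩, ⟨3, 3⟩, ⟨4, 4⟩, ⟨0, 0⟩⟩,
  ⟨⟨6, 0⟩, ⟨0, 0⟩, ⟨0, 0⟩, ⟨0, 0⟩⟩, ⟨⟨0, 0⟩, ⟨4, 3⟩, ⟨3, 4⟩, ⟨0, 0⟩⟩,
  ⟨⟨0, 6⟩, ⟨0, 0⟩, ⟨0, 0⟩, ⟨0, 0⟩⟩, ⟨⟨0, 0⟩, ⟨4, 4⟩, ⟨3, 3⟩, ⟨0, 0⟩⟩,
  ⟨⟨3, 0⟩, ⟨4, 0⟩, ⟨4, 0⟩, ⟨4, 0⟩⟩, ⟨⟨0, 0⟩, ⟨0, 0⟩, ⟨3, 4⟩, ⟨4, 3⟩⟩,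
  ⟨⟨0, 3⟩, ⟨0, 4⟩, ⟨0, 4⟩, ⟨0, 4⟩⟩, ⟨⟨0, 0⟩, ⟨0, 0⟩, ⟨3, 3⟩, ⟨4, 4⟩⟩,
  ⟨⟨4, 0⟩, ⟨3, 0⟩, ⟨3, 0⟩, ⟨3, 0⟩⟩, ⟨⟨0, 0⟩, ⟨0, 0⟩, ⟨4, 3⟩, ⟨3, 4⟩⟩,
  ⟨⟨0, 4⟩, ⟨0, 3⟩, ⟨0, 3⟩, ⟨0, 3⟩⟩, ⟨⟨0, 0⟩, ⟨0, 0⟩, ⟨4, 4⟩, ⟨3, 3⟩⟩,
  ⟨⟨3, 0⟩, ⟨3, 0⟩, ⟨3, 0⟩, ⟨3, 0⟩⟩, ⟨⟨0, 0⟩, ⟨4, 3⟩, ⟨0, 0⟩, ⟨3, 4⟩⟩,
  ⟨⟨0, 3⟩, ⟨0, 3⟩, ⟨0, 3⟩, ⟨0, 3⟩⟩, ⟨⟨0, 0⟩, ⟨4, 4⟩, ⟨0, 0⟩, ⟨3, 3⟩⟩,
  ⟨⟨4, 0⟩, ⟨4, 0⟩, ⟨4, 0⟩, ⟨4, 0⟩⟩, ⟨⟨0, 0⟩, ⟨3, 4⟩, ⟨0, 0⟩, ⟨4, 3⟩⟩,
  ⟨⟨0, 4⟩, ⟨0, 4⟩, ⟨0, 4⟩, ⟨0, 4⟩⟩, ⟨⟨0, 0⟩, ⟨3, 3⟩, ⟨0, 0⟩, ⟨4, 4⟩⟩]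

/-- Inverse in `𝔽₇[i]` by the norm formula (`z⁻¹ = z ^ 5` in `𝔽₇`). -/
def invR7 (n : R49) : R49 :=
  let d : ZMod 7 := (n.re * n.re + n.im * n.im) ^ 5
  ⟨n.re * d, -(n.im * d)⟩

/-- A left inverse of `s - 1`, when the reduced norm of `s - 1` is invertible. -/
def witness7 (s : A7) : A7 :=
  let d : A7 := s - 1
  invR7 (star d * d).re • star d

set_option maxRecDepth 100000 in
theorem elts7_closed : ∀ s ∈ elts7,
    xq * s ∈ elts7 ∧ xq ^ 7 * s ∈ elts7 ∧ cq * s ∈ elts7 ∧ star cq * s ∈ elts7 := by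
  decide

set_option maxRecDepth 100000 in
theorem elts7_pow : ∀ s ∈ elts7, s ^ 8 = 1 ∨ s ^ 12 = 1 := by
  decide

set_option maxRecDepth 100000 in
theorem elts7_fpf : ∀ s ∈ elts7, s = 1 ∨ witness7 s * (s - 1) = 1 := by
  decide

theorem elts7_length : elts7.length = 24 := by decide

/-- `xq` as a unit. -/
def xU : A7ˣ := ⟨xq, xq ^ 7, by decide, by decide⟩

/-- `cq` as a unit. -/
def cU : A7ˣ := ⟨cq, star cq, by decide, by decide⟩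

/-- The group `C₃ ⋊ C₈` inside the units of `A7`. -/
def H24 : Subgroup A7ˣ := Subgroup.closure {xU, cU}

theorem coe_mem_elts7 : ∀ h : A7ˣ, h ∈ H24 → (h : A7) ∈ elts7 := by
  intro h hh
  induction hh using Subgroup.closure_induction_left with
  | one => decide
  | mul_left x hx y _ ih =>
    rcases hx with rfl | rfl
    · exact (elts7_closed _ ih).1
    · exact (elts7_closed _ ih).2.2.1
  | inv_mul_cancel x hx y _ ih =>
    rcases hx with rfl | rfl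
    · exact (elts7_closed _ ih).2.1
    · exact (elts7_closed _ ih).2.2.2

theorem xU_mem : xU ∈ H24 := Subgroup.subset_closure (by simp)
theorem cU_mem : cU ∈ H24 := Subgroup.subset_closure (by simp)

theorem orderOf_xq : orderOf xq = 8 := by
  rw [orderOf_eq_iff (by norm_num)]
  decide

set_option maxRecDepth 100000 in
theorem orderOf_cxq : orderOf (cq * xq ^ 2) = 12 := by
  rw [orderOf_eq_iff (by norm_num)]
  decide

/-- `xq` as an element of `H24`. -/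
def xH : H24 := ⟨xU, xU_mem⟩

/-- `cq * xq ^ 2` as an element of `H24`. -/
def yH : H24 := ⟨cU * xU ^ 2, H24.mul_mem cU_mem (H24.pow_mem xU_mem 2)⟩

theorem orderOf_xH : orderOf xH = 8 := by
  have h1 : orderOf xH = orderOf xU := Subgroup.orderOf_mk xU xU_mem
  have h2 : orderOf (xU : A7) = orderOf xU := orderOf_units
  rw [h1, ← h2]
  exact orderOf_xq

theorem orderOf_yH : orderOf yH = 12 := by
  have h1 : orderOf yH = orderOf (cU * xU ^ 2) := Subgroup.orderOf_mk _ _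
  have h2 : orderOf ((cU * xU ^ 2 : A7ˣ) : A7) = orderOf (cU * xU ^ 2) := orderOf_units
  rw [h1, ← h2]
  exact orderOf_cxq

theorem pow_H24 (h : H24) : h ^ 8 = 1 ∨ h ^ 12 = 1 := by
  have hm := coe_mem_elts7 h.1 h.2
  have key : ∀ n : ℕ, ((h.1 : A7ˣ) : A7) ^ n = 1 → h ^ n = 1 := by
    intro n hn
    apply Subtype.ext
    apply Units.ext
    rw [Subgroup.coe_pow, Units.val_pow_eq_pow_val, hn]
    rfl
  rcases elts7_pow _ hm with h8 | h12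
  · exact Or.inl (key 8 h8)
  · exact Or.inr (key 12 h12)

theorem spec_H24 : Set.range (orderOf : H24 → ℕ) = {1, 2, 3, 4, 6, 8, 12} := by
  apply Set.Subset.antisymm
  · rintro _ ⟨h, rfl⟩
    rcases pow_H24 h with h8 | h12
    · have h2 := Nat.mem_divisors.mpr ⟨orderOf_dvd_of_pow_eq_one h8, by norm_num⟩
      have h3 : Nat.divisors 8 = {1, 2, 4, 8} := by decide
      rw [h3] at h2
      simp only [Finset.mem_insert, Finset.mem_singleton] at h2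
      rcases h2 with h2 | h2 | h2 | h2 <;> simp [h2]
    · have h2 := Nat.mem_divisors.mpr ⟨orderOf_dvd_of_pow_eq_one h12, by norm_num⟩
      have h3 : Nat.divisors 12 = {1, 2, 3, 4, 6, 12} := by decide
      rw [h3] at h2
      simp only [Finset.mem_insert, Finset.mem_singleton] at h2
      rcases h2 with h2 | h2 | h2 | h2 | h2 | h2 <;> simp [h2]
  · intro n hn
    simp only [Set.mem_insert_iff, Set.mem_singleton_iff] at hn
    rcases hn with rfl | rfl | rfl | rfl | rfl | rfl | rfl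
    · exact ⟨1, orderOf_one⟩
    · exact ⟨yH ^ 6, by rw [orderOf_pow, orderOf_yH]; rfl⟩
    · exact ⟨yH ^ 4, by rw [orderOf_pow, orderOf_yH]; rfl⟩
    · exact ⟨yH ^ 3, by rw [orderOf_pow, orderOf_yH]; rfl⟩
    · exact ⟨yH ^ 2, by rw [orderOf_pow, orderOf_yH]; rfl⟩
    · exact ⟨xH, orderOf_xH⟩
    · exact ⟨yH, orderOf_yH⟩

instance : Finite A7ˣ := Finite.of_injective _ Units.val_injective

theorem card_H24_le : Nat.card H24 ≤ 24 := by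
  classical
  let f : H24 → {s : A7 // s ∈ elts7.toFinset} :=
    fun h => ⟨((h.1 : A7ˣ) : A7), List.mem_toFinset.mpr (coe_mem_elts7 h.1 h.2)⟩
  have hf : Function.Injective f := by
    intro a b hab
    have : ((a.1 : A7ˣ) : A7) = ((b.1 : A7ˣ) : A7) := congrArg Subtype.val hab
    exact Subtype.ext (Units.ext this)
  have h1 := Nat.card_le_card_of_injective f hf
  have h2 : Nat.card {s : A7 // s ∈ elts7.toFinset} = elts7.toFinset.card := by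
    rw [Nat.card_eq_fintype_card, Fintype.card_coe]
  have h3 : elts7.toFinset.card ≤ elts7.length := List.toFinset_card_le elts7
  rw [elts7_length] at h3
  omega

theorem card_H24 : Nat.card H24 = 24 := by
  have h8 : 8 ∣ Nat.card H24 := by
    rw [← orderOf_xH]; exact orderOf_dvd_natCard xH
  have h12 : 12 ∣ Nat.card H24 := by
    rw [← orderOf_yH]; exact orderOf_dvd_natCard yH
  have hle := card_H24_le
  have hpos : 0 < Nat.card H24 := Nat.card_pos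
  omega

theorem isSolvable_H24 : Group.IsSolvable H24 := by
  haveI : Fact (Nat.Prime 2) := ⟨Nat.prime_two⟩
  obtain P : Sylow 2 H24 := default
  have hP : IsPGroup 2 (P : Subgroup H24) := P.isPGroup'
  have hidx : ¬ 2 ∣ (P : Subgroup H24).index := P.not_dvd_index
  have hmul : Nat.card (P : Subgroup H24) * (P : Subgroup H24).index = Nat.card H24 :=
    Subgroup.card_mul_index _
  have hdvd : (P : Subgroup H24).index ∣ 24 := by
    have hd : (P : Subgroup H24).index ∣ Nat.card H24 := ⟨Nat.card (P : Subgroup H24), by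
      rw [mul_comm]; exact hmul.symm⟩
    rw [card_H24] at hd
    exact hd
  have hmem := Nat.mem_divisors.mpr ⟨hdvd, by norm_num⟩
  have hdiv : Nat.divisors 24 = {1, 2, 3, 4, 6, 8, 12, 24} := by decide
  rw [hdiv] at hmem
  simp only [Finset.mem_insert, Finset.mem_singleton] at hmem
  have h3 : (P : Subgroup H24).index ≤ 3 := by
    rcases hmem with h | h | h | h | h | h | h | h <;> rw [h] at hidx ⊢ <;>
      first | omega | (exfalso; exact hidx (by norm_num))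
  exact isSolvable_of_pgroup_index_le_three 2 (P : Subgroup H24) hP h3

/-- The action of `H24` on the additive group of `A7` by left multiplication. -/
def phi7 : H24 →* MulAut (Multiplicative A7) := (leftMulAut A7).comp H24.subtype

theorem phi7_fpf : ∀ h : H24, h ≠ 1 → ∀ v : Multiplicative A7, phi7 h v = v → v = 1 := by
  intro h hh v hv
  have hm := coe_mem_elts7 h.1 h.2
  rcases elts7_fpf _ hm with h1 | hw
  · exfalso
    apply hh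
    apply Subtype.ext
    apply Units.ext
    rw [h1]
    rfl
  · have hv' : ((h.1 : A7ˣ) : A7) * v.toAdd = v.toAdd := by
      have := congrArg Multiplicative.toAdd hv
      simpa [phi7, leftMulAut_apply] using this
    have h0 : (((h.1 : A7ˣ) : A7) - 1) * v.toAdd = 0 := by
      rw [sub_mul, one_mul, hv', sub_self]
    have : v.toAdd = 0 := by
      calc v.toAdd = (witness7 ((h.1 : A7ˣ) : A7) * (((h.1 : A7ˣ) : A7) - 1)) * v.toAdd := by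
            rw [hw, one_mul]
        _ = 0 := by rw [mul_assoc, h0, mul_zero]
    exact Multiplicative.toAdd.injective this

theorem A7_exp : ∀ v : Multiplicative A7, v ^ 7 = 1 := by
  intro v
  apply Multiplicative.toAdd.injective
  rw [toAdd_pow, toAdd_one, nsmul_eq_mul]
  have : ((7 : ℕ) : A7) = 0 := by decide
  rw [this, zero_mul]

/-- The Frobenius group `7⁸ : (C₃ ⋊ C₈)`. -/
abbrev Frob7 : Type := Multiplicative A7 ⋊[phi7] H24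

instance : Finite Frob7 := Finite.of_equiv _ SemidirectProduct.equivProd.symm

theorem spec_Frob7 : Set.range (orderOf : Frob7 → ℕ) = {1, 2, 3, 4, 6, 7, 8, 12} := by
  have h := spec_semidirect_of_fpf phi7 7 (by norm_num) A7_exp
    ⟨Multiplicative.ofAdd 1, by decide⟩ phi7_fpf
  rw [h, spec_H24]
  ext n
  simp only [Set.mem_union, Set.mem_insert_iff, Set.mem_singleton_iff]
  tauto

theorem isSolvable_Frob7 : Group.IsSolvable Frob7 := by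
  haveI := isSolvable_H24
  exact isSolvable_semidirect phi7

end Cfsg.Agent.Helper57
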