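import Mathlib

set_option autoImplicit false

namespace Cfsg.Agent.Helper57

section Semidirect

variable {H : Type*} [Group H] {N : Type*} [CommGroup N] (φ : H →* MulAut N)

theorem semidirect_pow_eq_one_of_fpf
    (hfpf : ∀ h : H, h ≠ 1 → ∀ v : N, φ h v = v → v = 1)
    (x : N ⋊[φ] H) (hx : x.right ≠ 1) (n : ℕ) (hn : x.right ^ n = 1) : x ^ n = 1 := by
  have hr : (x ^ n).right = 1 := by
    have : (x ^ n).right = x.right ^ n := map_pow (SemidirectProduct.rightHom (φ := φ)) x n
    rw [this, hn]
  have hcomm : x * x ^ n = x ^ n * x := (pow_mul_comm' x n).symm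
  have hl := congrArg SemidirectProduct.left hcomm
  rw [SemidirectProduct.mul_left, SemidirectProduct.mul_left, hr, map_one, MulAut.one_apply,
    mul_comm (x ^ n).left x.left] at hl
  have hfix : φ x.right (x ^ n).left = (x ^ n).left := mul_left_cancel hl
  have hl1 : (x ^ n).left = 1 := hfpf _ hx _ hfix
  ext
  · rw [hl1]; rfl
  · rw [hr]; rfl

theorem orderOf_semidirect_of_fpf
    (hfpf : ∀ h : H, h ≠ 1 → ∀ v : N, φ h v = v → v = 1)
    (x : N ⋊[φ] H) (hx : x.right ≠ 1) : orderOf x = orderOf x.right := by
  apply Nat.dvd_antisymm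
  · exact orderOf_dvd_of_pow_eq_one
      (semidirect_pow_eq_one_of_fpf φ hfpf x hx _ (pow_orderOf_eq_one _))
  · exact orderOf_map_dvd (SemidirectProduct.rightHom (φ := φ)) x

theorem spec_semidirect_of_fpf (p : ℕ) (hp : p.Prime) (hexp : ∀ v : N, v ^ p = 1)
    (hN : ∃ v : N, v ≠ 1)
    (hfpf : ∀ h : H, h ≠ 1 → ∀ v : N, φ h v = v → v = 1) :
    Set.range (orderOf : N ⋊[φ] H → ℕ) = Set.range (orderOf : H → ℕ) ∪ {p} := by
  haveI : Fact p.Prime := ⟨hp⟩
  apply Set.Subset.antisymm
  · rintro _ ⟨x, rfl⟩
    by_cases hx : x.right = 1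
    · have hx' : x = SemidirectProduct.inl x.left := by
        ext
        · rfl
        · rw [hx]; rfl
      have ho : orderOf x = orderOf x.left := by
        rw [hx']
        exact orderOf_injective _ SemidirectProduct.inl_injective _
      have hd : orderOf x.left ∣ p := orderOf_dvd_of_pow_eq_one (hexp _)
      rcases (Nat.dvd_prime hp).mp hd with h1 | h1
      · left
        exact ⟨1, by rw [ho, h1, orderOf_one]⟩
      · right
        rw [ho, h1]
        rfl
    · left
      exact ⟨x.right, (orderOf_semidirect_of_fpf φ hfpf x hx).symm⟩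
  · rintro n (⟨h, rfl⟩ | hn)
    · exact ⟨SemidirectProduct.inr h, orderOf_injective _ SemidirectProduct.inr_injective h⟩
    · obtain ⟨v, hv⟩ := hN
      rw [Set.mem_singleton_iff] at hn
      subst hn
      refine ⟨SemidirectProduct.inl v, ?_⟩
      rw [orderOf_injective _ SemidirectProduct.inl_injective v]
      exact orderOf_eq_prime (hexp v) hv

theorem isSolvable_semidirect [Group.IsSolvable H] : Group.IsSolvable (N ⋊[φ] H) :=
  Group.isSolvable_of_ker_le_range (SemidirectProduct.inl (φ := φ)) SemidirectProduct.rightHom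
    (SemidirectProduct.range_inl_eq_ker_rightHom (φ := φ)).ge

end Semidirect

section LeftMul

variable (A : Type*) [Ring A]

/-- Units of a ring acting on its additive group by left multiplication. -/
def leftMulAut : Aˣ →* MulAut (Multiplicative A) where
  toFun u :=
    { toFun := fun v => Multiplicative.ofAdd ((u : A) * v.toAdd)
      invFun := fun v => Multiplicative.ofAdd (((u⁻¹ : Aˣ) : A) * v.toAdd)
      left_inv := fun v => by simp
      right_inv := fun v => by simp
      map_mul' := fun v w => by simp [mul_add] }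
  map_one' := by ext v; simp
  map_mul' u w := by ext v; simp [mul_assoc]

theorem leftMulAut_apply (u : Aˣ) (v : Multiplicative A) :
    leftMulAut A u v = Multiplicative.ofAdd ((u : A) * v.toAdd) := rfl

end LeftMul

section SolvableSmall

theorem isSolvable_perm_of_card_le_three {α : Type*} [Finite α] [DecidableEq α]
    (h : Nat.card α ≤ 3) : Group.IsSolvable (Equiv.Perm α) := by
  haveI := Fintype.ofFinite α
  have hA : Group.IsSolvable (alternatingGroup α) := by
    haveI : IsCyclic (alternatingGroup α) := alternatingGroup.isCyclic_of_card_le_three h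
    exact Group.isSolvable_of_comm (fun a b => (IsCyclic.commGroup.mul_comm a b))
  exact Group.isSolvable_of_ker_le_range (alternatingGroup α).subtype (Equiv.Perm.sign (α := α))
    (by
      intro x hx
      exact ⟨⟨x, hx⟩, rfl⟩)

/-- A finite group with a `p`-subgroup of index at most three is solvable. -/
theorem isSolvable_of_pgroup_index_le_three {G : Type*} [Group G] [Finite G] (p : ℕ)
    [hp : Fact p.Prime] (P : Subgroup G) (hP : IsPGroup p P) (hidx : P.index ≤ 3) :
    Group.IsSolvable G := by
  classical
  let f : G →* Equiv.Perm (G ⧸ P) := MulAction.toPermHom G (G ⧸ P)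
  have hker : f.ker ≤ P := by
    have : f.ker = P.normalCore := (Subgroup.normalCore_eq_ker P).symm
    rw [this]
    exact Subgroup.normalCore_le P
  haveI : Group.IsSolvable f.ker := by
    have hpk : IsPGroup p f.ker := hP.to_le hker
    haveI : Group.IsNilpotent f.ker := hpk.isNilpotent
    infer_instance
  haveI : Group.IsSolvable (Equiv.Perm (G ⧸ P)) :=
    isSolvable_perm_of_card_le_three (by rw [← Subgroup.index_eq_card]; exact hidx)
  exact Group.isSolvable_of_ker_le_range f.ker.subtype f (by
    intro x hx
    exact ⟨⟨x, hx⟩, rfl⟩)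

end SolvableSmall

end Cfsg.Agent.Helper57
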