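import Mathlib
import Cfsg.Agent.Lib.Helper92.G24Defs

/-!
# G24 (XE) for helper92's lemma server (S1679): the frozen root element matrices of `chevG2` over
`F4` are the tables `XT`

`xMat_eq_table`, name and statement verbatim from `tools/g24_sigs_helper92.lean.txt`.
-/

set_option autoImplicit false
set_option maxRecDepth 100000

namespace Cfsg.Agent.Helper57.G24

open Cfsg.Agent.Helper92.G24

/-- all entries at once, `t` shifted into `Fin 3` -/
theorem h57_xe_all : ∀ (t : Fin 3) (r : Fin D.nroots),
    D.xMat F r (fc (t.val + 1)) = XT r.val (t.val + 1) := by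
  decide +kernel

/-- (XE) the frozen matrices `xMat r (fc t)` are the tables `XT r t` -/
theorem xMat_eq_table (r : Fin D.nroots) (t : ℕ) (h1 : 1 ≤ t) (h3 : t ≤ 3) :
    D.xMat F r (fc t) = XT r.val t := by
  have h := h57_xe_all ⟨t - 1, by omega⟩ r
  have ht : (t - 1) + 1 = t := by omega
  simp only [ht] at h
  exact h

end Cfsg.Agent.Helper57.G24
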