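import Mathlib

set_option autoImplicit false

namespace Cfsg.Agent.Helper57

open Equiv

section lin
variable {F : Type*} [Field F] (E : Type*) [Field E] [Algebra F E] (w s : ℕ)

/-- the space `E^w × F^s` -/
abbrev WV := (Fin w → E) × (Fin s → F)

/-- permutations act on functions on `Fin w` -/
def piAct (C : Type*) [Group C] : Perm (Fin w) →* MulAut (Fin w → C) where
  toFun σ :=
    { toFun := fun f i => f (σ⁻¹ i)
      invFun := fun f i => f (σ i)
      left_inv := fun f => by funext i; simp
      right_inv := fun f => by funext i; simp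
      map_mul' := fun f g => rfl }
  map_one' := by
    ext f i; simp
  map_mul' σ τ := by
    ext f i; simp [mul_inv_rev]

theorem piAct_apply (C : Type*) [Group C] (σ : Perm (Fin w)) (f : Fin w → C) (i : Fin w) :
    piAct w C σ f i = f (σ⁻¹ i) := rfl

/-- the torus acting on `E^w × F^s` -/
def baseLin : (Fin w → Eˣ) →* (WV (F := F) E w s ≃ₗ[F] WV (F := F) E w s) where
  toFun f :=
    { toFun := fun v => (fun i => (f i : E) * v.1 i, v.2)
      map_add' := fun u v => Prod.ext (funext fun i => by simp [mul_add]) rfl
      map_smul' := fun c v => Prod.ext (funext fun i => by simp) rfl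
      invFun := fun v => (fun i => ((f i)⁻¹ : Eˣ) * v.1 i, v.2)
      left_inv := fun v => Prod.ext (funext fun i => by simp) rfl
      right_inv := fun v => Prod.ext (funext fun i => by simp) rfl }
  map_one' := LinearEquiv.ext fun v => Prod.ext (funext fun i => by simp) rfl
  map_mul' f g := LinearEquiv.ext fun v => Prod.ext (funext fun i => by simp [mul_assoc]) rfl

theorem baseLin_apply (f : Fin w → Eˣ) (v : WV (F := F) E w s) :
    baseLin (F := F) E w s f v = (fun i => (f i : E) * v.1 i, v.2) := rfl

/-- permutations acting on `E^w × F^s` -/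
def topLin : Perm (Fin w) →* (WV (F := F) E w s ≃ₗ[F] WV (F := F) E w s) where
  toFun σ :=
    { toFun := fun v => (fun i => v.1 (σ⁻¹ i), v.2)
      map_add' := fun u v => rfl
      map_smul' := fun c v => rfl
      invFun := fun v => (fun i => v.1 (σ i), v.2)
      left_inv := fun v => Prod.ext (funext fun i => by simp) rfl
      right_inv := fun v => Prod.ext (funext fun i => by simp) rfl }
  map_one' := LinearEquiv.ext fun v => Prod.ext (funext fun i => by simp) rfl
  map_mul' σ τ := LinearEquiv.ext fun v => Prod.ext (funext fun i => by simp [mul_inv_rev]) rfl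

theorem topLin_apply (σ : Perm (Fin w)) (v : WV (F := F) E w s) :
    topLin (F := F) E w s σ v = (fun i => v.1 (σ⁻¹ i), v.2) := rfl

theorem topLin_symm_apply (σ : Perm (Fin w)) (v : WV (F := F) E w s) :
    (topLin (F := F) E w s σ).symm v = (fun i => v.1 (σ i), v.2) := rfl

theorem lin_compat (σ : Perm (Fin w)) :
    (baseLin (F := F) E w s).comp (MulEquiv.toMonoidHom (piAct w Eˣ σ)) =
      (MulEquiv.toMonoidHom (MulAut.conj (topLin (F := F) E w s σ))).comp
        (baseLin (F := F) E w s) := by
  ext f v
  · simp only [MonoidHom.comp_apply, MulEquiv.coe_toMonoidHom, MulAut.conj_apply,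
      LinearEquiv.mul_apply, baseLin_apply, topLin_apply]
    have h : (topLin (F := F) E w s σ)⁻¹ v = (topLin (F := F) E w s σ).symm v := rfl
    rw [h, topLin_symm_apply]
    simp [piAct_apply]
  · simp only [MonoidHom.comp_apply, MulEquiv.coe_toMonoidHom, MulAut.conj_apply,
      LinearEquiv.mul_apply, baseLin_apply, topLin_apply]
    have h : (topLin (F := F) E w s σ)⁻¹ v = (topLin (F := F) E w s σ).symm v := rfl
    rw [h, topLin_symm_apply]

/-- the monomial group `Eˣ ≀ S_w` acting on `E^w × F^s` -/
def monoLin : (Fin w → Eˣ) ⋊[piAct w Eˣ] Perm (Fin w) →*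
    (WV (F := F) E w s ≃ₗ[F] WV (F := F) E w s) :=
  SemidirectProduct.lift (baseLin E w s) (topLin E w s) (lin_compat E w s)

theorem monoLin_apply (x : (Fin w → Eˣ) ⋊[piAct w Eˣ] Perm (Fin w)) :
    monoLin (F := F) E w s x = baseLin E w s x.left * topLin E w s x.right := rfl

theorem monoLin_injective : Function.Injective (monoLin (F := F) E w s) := by
  classical
  rw [injective_iff_map_eq_one]
  intro x hx
  rw [monoLin_apply] at hx
  have key : ∀ i : Fin w, x.right i = i ∧ x.left i = 1 := by
    intro i
    have h1 := congrArg (fun g : WV (F := F) E w s ≃ₗ[F] WV (F := F) E w s =>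
      (g ((Pi.single i 1 : Fin w → E), (0 : Fin s → F))).1 (x.right i)) hx
    have h0 : x.right⁻¹ (x.right i) = i := by simp
    simp only [LinearEquiv.mul_apply, baseLin_apply, topLin_apply, LinearEquiv.coe_one, id_eq]
      at h1
    rw [h0, Pi.single_eq_same, mul_one] at h1
    have h2 : x.right i = i := by
      by_contra hne
      rw [Pi.single_eq_of_ne hne] at h1
      exact (x.left (x.right i)).ne_zero h1
    refine ⟨h2, ?_⟩
    rw [h2, Pi.single_eq_same] at h1
    exact Units.ext h1
  ext1
  · funext i
    exact (key i).2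
  · ext i
    rw [(key i).1]
    rfl

end lin

section gl
variable {F : Type*} [Field F] {V : Type*} [AddCommGroup V] [Module F V]

/-- linear automorphisms as matrices -/
noncomputable def toGLEquiv {n : ℕ} (b : Module.Basis (Fin n) F V) :
    (V ≃ₗ[F] V) ≃* GL (Fin n) F :=
  (LinearMap.GeneralLinearGroup.generalLinearEquiv F V).symm.trans
    (Units.mapEquiv (LinearMap.toMatrixAlgEquiv b).toMulEquiv)

end gl

end Cfsg.Agent.Helper57
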