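import Mathlib
import Cfsg.Agent.Lib.Helper40.SylowGLNum

set_option autoImplicit false

namespace Cfsg.Agent.Helper57

open Cfsg.Agent.Helper40.SylGL

variable {q p : ℕ} [hp : Fact p.Prime]

/-- the `p`-adic valuation of `|GL_n(q)|` as a sum -/
theorem padicValNat_card_GL_sum (hq : 2 ≤ q) (hpq : ¬ p ∣ q) (n : ℕ) :
    padicValNat p (∏ i : Fin n, (q ^ n - q ^ (i : ℕ))) =
      ∑ k ∈ Finset.range n, padicValNat p (q ^ (k + 1) - 1) := by
  have hfac : ∀ i : Fin n, q ^ n - q ^ (i : ℕ) = q ^ (i : ℕ) * (q ^ (n - (i : ℕ)) - 1) := by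
    intro i
    have hi : (i : ℕ) < n := i.isLt
    rw [Nat.mul_sub, mul_one, ← pow_add]
    congr 2
    omega
  have hne : ∀ i : Fin n, q ^ n - q ^ (i : ℕ) ≠ 0 := by
    intro i
    have hi : (i : ℕ) < n := i.isLt
    have : q ^ (i : ℕ) < q ^ n := Nat.pow_lt_pow_right (by omega) hi
    omega
  have hval : ∀ i : Fin n, padicValNat p (q ^ n - q ^ (i : ℕ)) =
      padicValNat p (q ^ (n - (i : ℕ)) - 1) := by
    intro i
    have h1 := hne i
    rw [hfac i] at h1 ⊢
    rw [padicValNat.mul (left_ne_zero_of_mul h1) (right_ne_zero_of_mul h1),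
      padicValNat.eq_zero_of_not_dvd (not_dvd_pow hpq _), zero_add]
  have hsum : padicValNat p (∏ i : Fin n, (q ^ n - q ^ (i : ℕ))) =
      ∑ i : Fin n, padicValNat p (q ^ n - q ^ (i : ℕ)) := by
    rw [← Nat.factorization_def _ hp.out, Nat.factorization_prod (fun i _ => hne i)]
    simp only [Finsupp.coe_finsetSum, Finset.sum_apply]
    exact Finset.sum_congr rfl (fun i _ => Nat.factorization_def _ hp.out)
  rw [hsum, Finset.sum_congr rfl (fun i _ => hval i),
    Fin.sum_univ_eq_sum_range (fun i => padicValNat p (q ^ (n - i) - 1)) n]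
  rw [← Finset.sum_range_reflect]
  apply Finset.sum_congr rfl
  intro j hj
  rw [Finset.mem_range] at hj
  congr 3
  omega

/-- lifting the exponent summed up -/
theorem sum_padicValNat_pow_sub_one (hq : 2 ≤ q) (hpq : ¬ p ∣ q) (hp2 : p ≠ 2) (n : ℕ) :
    ∑ k ∈ Finset.range n, padicValNat p (q ^ (k + 1) - 1) =
      (n / orderOf (q : ZMod p)) * padicValNat p (q ^ orderOf (q : ZMod p) - 1) +
        padicValNat p (n / orderOf (q : ZMod p)).factorial := by
  set e := orderOf (q : ZMod p) with he
  have hepos : 0 < e := orderOf_pos hpq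
  have hodd : Odd p := hp.out.odd_of_ne_two hp2
  induction n with
  | zero => simp
  | succ n ih =>
    rw [Finset.sum_range_succ, ih, Nat.succ_div]
    split_ifs with hdvd
    · obtain ⟨j, hj⟩ := hdvd
      have hjpos : j ≠ 0 := by
        rintro rfl
        rw [mul_zero] at hj
        omega
      have hje : n / e + 1 = j := by
        have h1 : (n + 1) / e = j := by rw [hj]; exact Nat.mul_div_cancel_left j hepos
        have h2 := Nat.succ_div (a := n) (b := e)
        rw [if_pos ⟨j, hj⟩] at h2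
        omega
      have h1 : 1 < q ^ e := Nat.one_lt_pow hepos.ne' (by omega)
      have hd : p ∣ q ^ e - 1 := (dvd_pow_sub_one_iff (by omega) e).mpr dvd_rfl
      have h2 := padicValNat.pow_sub_pow hodd h1 hd (not_dvd_pow hpq e) hjpos
      rw [one_pow, ← pow_mul] at h2
      rw [hj, h2, hje]
      obtain ⟨i, rfl⟩ : ∃ i, j = i + 1 := ⟨j - 1, by omega⟩
      have hi : n / e = i := by omega
      rw [hi, Nat.factorial_succ, padicValNat.mul (by omega) (Nat.factorial_ne_zero i)]
      ring
    · have : ¬ p ∣ q ^ (n + 1) - 1 := by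
        rw [dvd_pow_sub_one_iff (by omega)]
        exact hdvd
      rw [padicValNat.eq_zero_of_not_dvd this]
      simp

/-- the `p`-adic valuation of `|GL_n(q)|`, `p` odd not dividing `q` -/
theorem padicValNat_card_GL_cross (hq : 2 ≤ q) (hpq : ¬ p ∣ q) (hp2 : p ≠ 2) (n : ℕ) :
    padicValNat p (∏ i : Fin n, (q ^ n - q ^ (i : ℕ))) =
      (n / orderOf (q : ZMod p)) * padicValNat p (q ^ orderOf (q : ZMod p) - 1) +
        padicValNat p (n / orderOf (q : ZMod p)).factorial := by
  rw [padicValNat_card_GL_sum hq hpq, sum_padicValNat_pow_sub_one hq hpq hp2]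

/-- the `p`-adic valuation of the order of the monomial group -/
theorem padicValNat_mono (w c : ℕ) (hc : c ≠ 0) :
    padicValNat p (c ^ w * w.factorial) = w * padicValNat p c + padicValNat p w.factorial := by
  rw [padicValNat.mul (pow_ne_zero _ hc) (Nat.factorial_ne_zero w), padicValNat.pow]

end Cfsg.Agent.Helper57
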