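import Mathlib

set_option autoImplicit false

namespace Cfsg.Agent.Helper57

open Matrix

/-- a Sylow subgroup is isomorphic to any group of the right order which embeds -/
theorem sylow_equiv_of_injective {G : Type*} [Group G] [Finite G] {r : ℕ} [Fact r.Prime]
    (P : Sylow r G) {A : Type*} [Group A] (Φ : A →* G) (hΦ : Function.Injective Φ)
    (hcard : Nat.card A = r ^ (Nat.card G).factorization r) :
    Nonempty (↥(P : Subgroup G) ≃* A) := by
  have hcardQ : Nat.card Φ.range = r ^ (Nat.card G).factorization r := by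
    rw [Nat.card_congr (MonoidHom.ofInjective hΦ).symm.toEquiv, hcard]
  exact ⟨(Sylow.equiv P (Sylow.ofCard Φ.range hcardQ)).trans
    ((MulEquiv.subgroupCongr (Sylow.coe_ofCard Φ.range hcardQ)).trans
      (MonoidHom.ofInjective hΦ).symm)⟩

/-- a hom between finite groups of coprime orders is trivial -/
theorem hom_eq_one_of_coprime {A H : Type*} [Group A] [Group H] [Finite A] [Finite H]
    (hc : Nat.Coprime (Nat.card A) (Nat.card H)) (f : A →* H) (a : A) : f a = 1 := by
  have h1 : Nat.card f.range ∣ Nat.card A := Subgroup.card_range_dvd f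
  have h2 : Nat.card f.range ∣ Nat.card H := Subgroup.card_subgroup_dvd_card _
  have h3 : Nat.card f.range = 1 := Nat.eq_one_of_dvd_coprimes hc h1 h2
  have h4 : f.range = ⊥ := Subgroup.card_eq_one.mp h3
  have h5 : f a ∈ f.range := ⟨a, rfl⟩
  rw [h4, Subgroup.mem_bot] at h5
  exact h5

variable {F : Type*} [Field F]

/-- a hom to `GL_n` with values of determinant one lifts to `SL_n` -/
theorem exists_lift_SL {n : ℕ} {A : Type*} [Group A] (Φ : A →* GL (Fin n) F)
    (hΦ : Function.Injective Φ)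
    (hdet : ∀ a, Matrix.GeneralLinearGroup.det (Φ a) = 1) :
    ∃ Ψ : A →* SpecialLinearGroup (Fin n) F, Function.Injective Ψ := by
  have hd : ∀ a, ((Φ a : GL (Fin n) F) : Matrix (Fin n) (Fin n) F).det = 1 := by
    intro a
    have := congrArg Units.val (hdet a)
    simpa using this
  obtain ⟨g, hg⟩ : ∃ g : A → SpecialLinearGroup (Fin n) F,
      ∀ a, ((g a : SpecialLinearGroup (Fin n) F) : Matrix (Fin n) (Fin n) F) =
        ((Φ a : GL (Fin n) F) : Matrix (Fin n) (Fin n) F) :=
    ⟨fun a => ⟨((Φ a : GL (Fin n) F) : Matrix (Fin n) (Fin n) F), hd a⟩, fun a => rfl⟩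
  have hmul : ∀ a b, g (a * b) = g a * g b := by
    intro a b
    apply Subtype.ext
    rw [Matrix.SpecialLinearGroup.coe_mul, hg, hg, hg, map_mul]
    rfl
  refine ⟨MonoidHom.mk' g hmul, ?_⟩
  intro a b hab
  apply hΦ
  apply Units.ext
  have h1 : g a = g b := hab
  rw [← hg, ← hg, h1]

/-- the diagonal torus of `GL_n` -/
noncomputable def diagGL (n : ℕ) : (Fin n → Fˣ) →* GL (Fin n) F :=
  (Units.map ((Matrix.diagonalRingHom (Fin n) F : (Fin n → F) →+* Matrix (Fin n) (Fin n) F) :
    (Fin n → F) →* Matrix (Fin n) (Fin n) F)).comp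
    (MulEquiv.piUnits (M := fun _ : Fin n => F)).symm.toMonoidHom

theorem diagGL_val (n : ℕ) (x : Fin n → Fˣ) :
    ((diagGL (F := F) n x : GL (Fin n) F) : Matrix (Fin n) (Fin n) F) =
      Matrix.diagonal (fun i => (x i : F)) := by
  rfl

theorem diagGL_injective (n : ℕ) : Function.Injective (diagGL (F := F) n) := by
  intro x y hxy
  have h1 := congrArg Units.val hxy
  rw [diagGL_val, diagGL_val] at h1
  have h2 := Matrix.diagonal_injective h1
  funext i
  exact Units.ext (congrFun h2 i)

theorem det_diagGL (n : ℕ) (x : Fin n → Fˣ) :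
    Matrix.GeneralLinearGroup.det (diagGL (F := F) n x) = ∏ i, x i := by
  apply Units.ext
  rw [Matrix.GeneralLinearGroup.val_det_apply, diagGL_val, Matrix.det_diagonal]
  simp

/-- `x ↦ ((∏ x)⁻¹, x)` -/
noncomputable def consInv (k : ℕ) : (Fin k → Fˣ) →* (Fin (k + 1) → Fˣ) :=
  MonoidHom.pi (fun i => Fin.cases (motive := fun _ => (Fin k → Fˣ) →* Fˣ)
    { toFun := fun x => (∏ j, x j)⁻¹
      map_one' := by simp
      map_mul' := fun x y => by simp [Finset.prod_mul_distrib, mul_comm] }
    (fun j => Pi.evalMonoidHom (fun _ => Fˣ) j) i)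

theorem consInv_zero (k : ℕ) (x : Fin k → Fˣ) : consInv (F := F) k x 0 = (∏ j, x j)⁻¹ := rfl

theorem consInv_succ (k : ℕ) (x : Fin k → Fˣ) (j : Fin k) :
    consInv (F := F) k x j.succ = x j := rfl

theorem consInv_injective (k : ℕ) : Function.Injective (consInv (F := F) k) := by
  intro x y hxy
  funext j
  have := congrFun hxy j.succ
  rwa [consInv_succ, consInv_succ] at this

theorem prod_consInv (k : ℕ) (x : Fin k → Fˣ) : ∏ i, consInv (F := F) k x i = 1 := by
  rw [Fin.prod_univ_succ, consInv_zero]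
  simp only [consInv_succ]
  exact inv_mul_cancel _

/-- the diagonal torus of `SL_{k+1}` -/
theorem exists_diag_SL (k : ℕ) :
    ∃ Ψ : (Fin k → Fˣ) →* SpecialLinearGroup (Fin (k + 1)) F, Function.Injective Ψ := by
  apply exists_lift_SL ((diagGL (F := F) (k + 1)).comp (consInv k))
    ((diagGL_injective (k + 1)).comp (consInv_injective k))
  intro a
  rw [MonoidHom.comp_apply, det_diagGL, prod_consInv]

/-- counting multiples in `[2, n]` -/
theorem card_filter_Icc_two (n d : ℕ) (hd : 2 ≤ d) :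
    ((Finset.Icc 2 n).filter (fun i => d ∣ i)).card = n / d := by
  rw [← Nat.Ioc_filter_dvd_card_eq_div n d]
  congr 1
  ext i
  simp only [Finset.mem_filter, Finset.mem_Icc, Finset.mem_Ioc]
  constructor
  · rintro ⟨⟨h1, h2⟩, h3⟩
    exact ⟨⟨by omega, h2⟩, h3⟩
  · rintro ⟨⟨h1, h2⟩, h3⟩
    refine ⟨⟨?_, h2⟩, h3⟩
    have := Nat.le_of_dvd h1 h3
    omega

theorem card_filter_Icc_two_one (n : ℕ) :
    ((Finset.Icc 2 n).filter (fun i => 1 ∣ i)).card = n - 1 := by
  simp

end Cfsg.Agent.Helper57
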