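import Mathlib

set_option autoImplicit false

namespace Cfsg.Agent.Helper57

open RegularWreathProduct
open scoped commutatorElement

section
variable {D Q : Type*} [Group D] [Group Q]

theorem rw_comm_base (a b : D ≀ᵣ Q) (ha : a.right = 1) (hb : b.right = 1) :
    ⁅a, b⁆.right = 1 ∧ ∀ x, ⁅a, b⁆.left x = ⁅a.left x, b.left x⁆ := by
  constructor
  · simp [commutatorElement_def, mul_right, inv_right, ha, hb]
  · intro x
    simp [commutatorElement_def, mul_left, inv_left, mul_right, inv_right, ha, hb]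

/-- Projections to coordinate `1` of base elements of the `(j+1)`-st derived subgroup cover
the `j`-th derived subgroup of `D`. -/
theorem wreath_der_proj (q : Q) (hq : q ≠ 1) (j : ℕ) :
    ∀ d ∈ derivedSeries D j, ∃ w ∈ derivedSeries (D ≀ᵣ Q) (j + 1), w.right = 1 ∧ w.left 1 = d := by
  classical
  induction j with
  | zero =>
    intro d _
    refine ⟨⁅(⟨Pi.mulSingle 1 d, 1⟩ : D ≀ᵣ Q), (⟨1, q⟩ : D ≀ᵣ Q)⁆, ?_, ?_, ?_⟩
    · rw [derivedSeries_succ, derivedSeries_zero]
      exact Subgroup.commutator_mem_commutator (Subgroup.mem_top _) (Subgroup.mem_top _)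
    · simp [commutatorElement_def, mul_right, inv_right]
    · have hq' : q⁻¹ ≠ 1 := by simpa using hq
      simp [commutatorElement_def, mul_left, inv_left, mul_right, inv_right, Pi.mulSingle_apply,
        hq']
  | succ j ih =>
    -- the subgroup of projections
    let S : Subgroup D :=
      { carrier := {d | ∃ w ∈ derivedSeries (D ≀ᵣ Q) (j + 1 + 1), w.right = 1 ∧ w.left 1 = d}
        one_mem' := ⟨1, Subgroup.one_mem _, rfl, rfl⟩
        mul_mem' := by
          rintro d e ⟨w, hw, hw1, rfl⟩ ⟨w', hw', hw1', rfl⟩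
          refine ⟨w * w', Subgroup.mul_mem _ hw hw', ?_, ?_⟩
          · simp [mul_right, hw1, hw1']
          · simp [mul_left, hw1]
        inv_mem' := by
          rintro d ⟨w, hw, hw1, rfl⟩
          refine ⟨w⁻¹, Subgroup.inv_mem _ hw, ?_, ?_⟩
          · simp [inv_right, hw1]
          · simp [inv_left, hw1] }
    have hle : derivedSeries D (j + 1) ≤ S := by
      rw [derivedSeries_succ, Subgroup.commutator_le]
      intro d hd e he
      obtain ⟨w, hw, hw1, rfl⟩ := ih d hd
      obtain ⟨w', hw', hw1', rfl⟩ := ih e he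
      refine ⟨⁅w, w'⁆, ?_, (rw_comm_base w w' hw1 hw1').1, (rw_comm_base w w' hw1 hw1').2 1⟩
      change ⁅w, w'⁆ ∈ ⁅derivedSeries (D ≀ᵣ Q) (j + 1), derivedSeries (D ≀ᵣ Q) (j + 1)⁆
      exact Subgroup.commutator_mem_commutator hw hw'
    intro d hd
    exact hle hd

theorem wreath_der_ne_bot [Nontrivial Q] (j : ℕ) (h : derivedSeries D j ≠ ⊥) :
    derivedSeries (D ≀ᵣ Q) (j + 1) ≠ ⊥ := by
  obtain ⟨q, hq⟩ := exists_ne (1 : Q)
  obtain ⟨d, hd⟩ := (Subgroup.ne_bot_iff_exists_ne_one).mp h
  have hdm : (d : D) ∈ derivedSeries D j := d.2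
  obtain ⟨w, hw, _, hwl⟩ := wreath_der_proj (D := D) q hq j (d : D) hdm
  intro hbot
  rw [hbot, Subgroup.mem_bot] at hw
  rw [hw] at hwl
  apply hd
  apply Subtype.ext
  rw [← hwl]
  rfl

end

/-- Lower bound for the derived length of the iterated wreath product. -/
theorem iter_der_ne_bot (G : Type) [Group G] [Nontrivial G] :
    ∀ k : ℕ, derivedSeries (IteratedWreathProduct G (k + 1)) k ≠ ⊥ := by
  intro k
  induction k with
  | zero =>
    rw [derivedSeries_zero]
    intro h
    obtain ⟨q, hq⟩ := exists_ne (1 : G)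
    have h1 : (⟨1, q⟩ : (IteratedWreathProduct G 0) ≀ᵣ G) ∈
        (⊤ : Subgroup ((IteratedWreathProduct G 0) ≀ᵣ G)) := Subgroup.mem_top _
    have h2 : (⊤ : Subgroup ((IteratedWreathProduct G 0) ≀ᵣ G)) = ⊥ := h
    rw [h2, Subgroup.mem_bot] at h1
    apply hq
    exact congrArg RegularWreathProduct.right h1
  | succ k ih =>
    exact wreath_der_ne_bot (D := IteratedWreathProduct G (k + 1)) (Q := G) k ih

end Cfsg.Agent.Helper57
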