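import Mathlib

set_option autoImplicit false

namespace Cfsg.Agent.Helper57

open Equiv

/-! ### General facts on semidirect products -/
section sd
variable {N G : Type*} [Group N] [Group G] (φ : G →* MulAut N)

theorem sd_gen (p : ℕ) (hN : ∀ n : N, n ^ p = 1)
    (hG : Subgroup.closure {g : G | g ^ p = 1} = ⊤) :
    Subgroup.closure {w : N ⋊[φ] G | w ^ p = 1} = ⊤ := by
  rw [eq_top_iff]
  intro w _
  rw [← SemidirectProduct.inl_left_mul_inr_right w]
  apply Subgroup.mul_mem
  · apply Subgroup.subset_closure
    change (SemidirectProduct.inl w.left : N ⋊[φ] G) ^ p = 1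
    rw [← map_pow, hN, map_one]
  · have hle : (Subgroup.closure {g : G | g ^ p = 1}).map (SemidirectProduct.inr : G →* N ⋊[φ] G) ≤
        Subgroup.closure {w : N ⋊[φ] G | w ^ p = 1} := by
      rw [MonoidHom.map_closure]
      apply Subgroup.closure_mono
      rintro _ ⟨g, hg, rfl⟩
      change (SemidirectProduct.inr g : N ⋊[φ] G) ^ p = 1
      rw [← map_pow, hg, map_one]
    apply hle
    rw [hG]
    exact ⟨w.right, Subgroup.mem_top _, rfl⟩

theorem sd_der (hN : ∀ a b : N, a * b = b * a) (j : ℕ) (hG : derivedSeries G j = ⊥) :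
    derivedSeries (N ⋊[φ] G) (j + 1) = ⊥ := by
  have h1 : derivedSeries (N ⋊[φ] G) j ≤ (SemidirectProduct.rightHom : N ⋊[φ] G →* G).ker := by
    intro x hx
    rw [MonoidHom.mem_ker]
    have h2 : SemidirectProduct.rightHom x ∈
        (derivedSeries (N ⋊[φ] G) j).map (SemidirectProduct.rightHom : N ⋊[φ] G →* G) :=
      ⟨x, hx, rfl⟩
    have h3 := map_derivedSeries_le_derivedSeries (SemidirectProduct.rightHom : N ⋊[φ] G →* G) j h2
    rw [hG, Subgroup.mem_bot] at h3
    exact h3
  rw [derivedSeries_succ, Subgroup.commutator_eq_bot_iff_le_centralizer]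
  intro x hx
  rw [Subgroup.mem_centralizer_iff]
  intro y hy
  have hx' := h1 hx
  have hy' := h1 hy
  rw [← SemidirectProduct.range_inl_eq_ker_rightHom] at hx' hy'
  obtain ⟨a, rfl⟩ := hx'
  obtain ⟨b, rfl⟩ := hy'
  rw [← map_mul, ← map_mul, hN]

end sd

/-! ### The permutational wreath product `C_p ≀ H` on `Fin m × ZMod p` -/
section wr
variable (p m : ℕ) [NeZero p]

/-- The base group. -/
abbrev BaseN (p m : ℕ) := Fin m → Multiplicative (ZMod p)

/-- The base group acting on `Fin m × ZMod p`. -/
def baseHom : BaseN p m →* Perm (Fin m × ZMod p) where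
  toFun f := Equiv.prodCongrRight (fun i => Equiv.addRight (f i).toAdd)
  map_one' := by
    ext ⟨i, j⟩ <;> simp
  map_mul' f g := by
    ext ⟨i, j⟩ <;> simp [add_comm, add_left_comm]

/-- Permutations of the blocks. -/
def topHom : Perm (Fin m) →* Perm (Fin m × ZMod p) where
  toFun σ := Equiv.prodCongrLeft (fun _ => σ)
  map_one' := by
    ext ⟨i, j⟩ <;> simp
  map_mul' σ τ := by
    ext ⟨i, j⟩ <;> simp

variable {p m} {H : Type} [Group H] (ι : H →* Perm (Fin m))

/-- `H` acts on the base group by permuting coordinates. -/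
def baseAct : H →* MulAut (BaseN p m) where
  toFun h :=
    { toFun := fun f i => f ((ι h)⁻¹ i)
      invFun := fun f i => f ((ι h) i)
      left_inv := fun f => by funext i; simp
      right_inv := fun f => by funext i; simp
      map_mul' := fun f g => rfl }
  map_one' := by
    ext f i; simp
  map_mul' h₁ h₂ := by
    ext f i; simp [mul_inv_rev]

theorem wr_compat (h : H) :
    (baseHom p m).comp (MulEquiv.toMonoidHom (baseAct (p := p) ι h)) =
      (MulEquiv.toMonoidHom (MulAut.conj (((topHom p m).comp ι) h))).comp (baseHom p m) := by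
  ext f ⟨i, j⟩ <;> simp [baseHom, topHom, baseAct]

/-- The wreath product homomorphism. -/
def wrHom : BaseN p m ⋊[baseAct (p := p) ι] H →* Perm (Fin m × ZMod p) :=
  SemidirectProduct.lift (baseHom p m) ((topHom p m).comp ι) (wr_compat ι)

theorem wrHom_apply (w : BaseN p m ⋊[baseAct (p := p) ι] H) :
    wrHom ι w = baseHom p m w.left * topHom p m (ι w.right) := rfl

theorem wrHom_injective (hι : Function.Injective ι) : Function.Injective (wrHom (p := p) ι) := by
  rw [injective_iff_map_eq_one]
  intro w hw
  rw [wrHom_apply] at hw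
  have key : ∀ i : Fin m, ι w.right i = i ∧ (w.left i).toAdd = 0 := by
    intro i
    have := congrArg (fun σ : Perm (Fin m × ZMod p) => σ (i, 0)) hw
    simp only [Perm.coe_mul, Function.comp_apply, Perm.coe_one, id_eq] at this
    simp only [topHom, baseHom, MonoidHom.coe_mk, OneHom.coe_mk, Equiv.prodCongrLeft_apply,
      Equiv.prodCongrRight_apply, Equiv.coe_addRight, zero_add, Prod.mk.injEq] at this
    refine ⟨this.1, ?_⟩
    have h2 := this.2
    rw [this.1] at h2
    exact h2
  have h1 : w.right = 1 := by
    apply hι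
    rw [map_one]
    ext i
    rw [(key i).1]; rfl
  have h2 : w.left = 1 := by
    funext i
    have := (key i).2
    exact Multiplicative.toAdd.injective this
  ext1
  · exact h2
  · exact h1

theorem sign_topHom (σ : Perm (Fin m)) : Perm.sign (topHom p m σ) = Perm.sign σ ^ p := by
  change Perm.sign (Equiv.prodCongrLeft (fun _ : ZMod p => σ)) = _
  rw [Perm.sign_prodCongrLeft, Finset.prod_const, Finset.card_univ, ZMod.card]

theorem sign_wrHom (w : BaseN p m ⋊[baseAct (p := p) ι] H) :
    Perm.sign (wrHom ι w) = Perm.sign (baseHom p m w.left) * Perm.sign (ι w.right) ^ p := by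
  rw [wrHom_apply, map_mul, sign_topHom]

theorem baseN_pow (f : BaseN p m) : f ^ p = 1 := by
  funext i
  have h : Nat.card (Multiplicative (ZMod p)) = p := by
    rw [Nat.card_eq_fintype_card, Fintype.card_multiplicative, ZMod.card]
  have := pow_card_eq_one' (G := Multiplicative (ZMod p)) (x := f i)
  rw [h] at this
  simpa using this

theorem card_baseN : Nat.card (BaseN p m) = p ^ m := by
  rw [Nat.card_fun, Nat.card_eq_fintype_card (α := Multiplicative (ZMod p)),
    Fintype.card_multiplicative, ZMod.card, Nat.card_eq_fintype_card, Fintype.card_fin]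

end wr

end Cfsg.Agent.Helper57
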