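import Mathlib
import Cfsg.Agent.Lib.Helper57.SymSylowA

set_option autoImplicit false

namespace Cfsg.Agent.Helper57

open Equiv

/-- Data of an explicit Sylow `p`-subgroup of `Perm (Fin n)`. -/
def SylData (p n : ℕ) : Prop :=
  ∃ (H : Type) (_ : Group H) (f : H →* Perm (Fin n)), Finite H ∧ Function.Injective f ∧
    Nat.card H = p ^ padicValNat p n.factorial ∧
    Subgroup.closure {h : H | h ^ p = 1} = ⊤ ∧
    derivedSeries H (Nat.log p n) = ⊥ ∧
    (p = 2 → ∀ h : H, Perm.sign (f h) = 1 →
      h ∈ Subgroup.closure {x : H | x ^ 2 = 1 ∧ Perm.sign (f x) = 1})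

theorem sylData_small (p n : ℕ) [Fact p.Prime] (hn : n < p) : SylData p n := by
  have hp := (Fact.out : p.Prime)
  refine ⟨PUnit, inferInstance, 1, inferInstance, Function.injective_of_subsingleton _, ?_,
    Subsingleton.elim _ _, Subsingleton.elim _ _, ?_⟩
  · have : padicValNat p n.factorial = 0 := by
      apply padicValNat.eq_zero_of_not_dvd
      rw [hp.dvd_factorial]
      omega
    rw [this, pow_zero]
    simp
  · intro _ h _
    rw [Subsingleton.elim h 1]
    exact Subgroup.one_mem _

theorem sylData_step (p m r : ℕ) [Fact p.Prime] (hr : r < p) (hm1 : 1 ≤ m)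
    (ih : SylData p m) : SylData p (p * m + r) := by
  have hp := (Fact.out : p.Prime)
  haveI : NeZero p := ⟨hp.ne_zero⟩
  obtain ⟨H, _, ι, hfin, hι, hcard, hgen, hder, _⟩ := ih
  -- embedding of the point set
  have hcardle : Fintype.card (Fin m × ZMod p) ≤ Fintype.card (Fin (p * m + r)) := by
    rw [Fintype.card_prod, Fintype.card_fin, ZMod.card, Fintype.card_fin, mul_comm]
    exact Nat.le_add_right _ _
  obtain ⟨e⟩ := Function.Embedding.nonempty_of_card_le hcardle
  let W := BaseN p m ⋊[baseAct (p := p) ι] H
  let F : W →* Perm (Fin (p * m + r)) := (Perm.viaEmbeddingHom e).comp (wrHom ι)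
  have hFinj : Function.Injective F :=
    (Perm.viaEmbeddingHom_injective e).comp (wrHom_injective ι hι)
  have hsignF : ∀ w : W, Perm.sign (F w) =
      Perm.sign (baseHom p m w.left) * Perm.sign (ι w.right) ^ p := by
    intro w
    rw [← sign_wrHom]
    change Perm.sign (Perm.viaEmbedding (wrHom ι w) e) = _
    unfold Perm.viaEmbedding
    rw [Perm.sign_extendDomain]
  have hWfin : Finite W := Finite.of_equiv _ SemidirectProduct.equivProd.symm
  refine ⟨W, inferInstance, F, hWfin, hFinj, ?_, ?_, ?_, ?_⟩
  · -- cardinality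
    rw [SemidirectProduct.card, card_baseN, hcard, ← pow_add]
    congr 1
    rw [padicValNat_factorial_mul_add m hr, padicValNat_factorial_mul, add_comm]
  · exact sd_gen _ p (baseN_pow) hgen
  · have hn : p ≤ p * m + r := by nlinarith
    have hdivm : (p * m + r) / p = m := by
      rw [Nat.mul_add_div hp.pos, Nat.div_eq_of_lt hr, add_zero]
    have hlog : Nat.log p (p * m + r) = Nat.log p m + 1 := by
      rw [Nat.log_of_one_lt_of_le hp.one_lt hn, hdivm]
    rw [hlog]
    exact sd_der _ (fun a b => mul_comm a b) _ hder
  · intro h2 w hw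
    have hsq : ∀ u : ℤˣ, u ^ p = 1 := by
      intro u
      rw [h2]
      rcases Int.units_eq_one_or u with h | h <;> rw [h] <;> decide
    have hs : ∀ w : W, Perm.sign (F w) = Perm.sign (baseHom p m w.left) := by
      intro w
      rw [hsignF, hsq, mul_one]
    rw [← SemidirectProduct.inl_left_mul_inr_right w]
    apply Subgroup.mul_mem
    · apply Subgroup.subset_closure
      refine ⟨?_, ?_⟩
      · rw [← map_pow]
        have := baseN_pow (p := p) (m := m) w.left
        have h22 : w.left ^ 2 = 1 := (congrArg (fun k => w.left ^ k) h2).symm.trans this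
        rw [h22, map_one]
      · rw [hs] at hw ⊢
        exact hw
    · have hle : (Subgroup.closure {g : H | g ^ p = 1}).map
          (SemidirectProduct.inr : H →* W) ≤
          Subgroup.closure {x : W | x ^ 2 = 1 ∧ Perm.sign (F x) = 1} := by
        rw [MonoidHom.map_closure]
        apply Subgroup.closure_mono
        rintro _ ⟨g, hg, rfl⟩
        refine ⟨?_, ?_⟩
        · rw [← map_pow]
          have hg' : g ^ p = 1 := hg
          rw [h2] at hg'
          rw [hg', map_one]
        · rw [hs]
          change Perm.sign (baseHom p m 1) = 1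
          rw [map_one, map_one]
      apply hle
      rw [hgen]
      exact ⟨w.right, Subgroup.mem_top _, rfl⟩

theorem sylData (p : ℕ) [Fact p.Prime] : ∀ n : ℕ, SylData p n := by
  have hp := (Fact.out : p.Prime)
  intro n
  induction n using Nat.strong_induction_on with
  | _ n ih =>
    rcases Nat.lt_or_ge n p with h | h
    · exact sylData_small p n h
    · have hpos := hp.pos
      have h1 := sylData_step p (n / p) (n % p) (Nat.mod_lt n hp.pos)
        (Nat.div_pos h hp.pos) (ih _ (Nat.div_lt_self (by omega) hp.one_lt))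
      rwa [Nat.div_add_mod] at h1

end Cfsg.Agent.Helper57
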