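import Mathlib
import Cfsg.Agent.Lib.Helper57.SymSylowB
import Cfsg.Agent.Lib.Helper57.RegWreathDer
import Cfsg.Agent.Lib.Helper57.AltReal
import Cfsg.Agent.Lib.Helper57.AltFacts

set_option autoImplicit false

namespace Cfsg.Agent.Helper57

open Equiv

/-! ### Transfer lemmas -/

theorem derivedSeries_eq_bot_of_injective {A B : Type*} [Group A] [Group B] (e : A →* B)
    (he : Function.Injective e) (j : ℕ) (h : derivedSeries B j = ⊥) : derivedSeries A j = ⊥ := by
  rw [eq_bot_iff]
  intro x hx
  have h1 : e x ∈ (derivedSeries A j).map e := ⟨x, hx, rfl⟩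
  have h2 := map_derivedSeries_le_derivedSeries e j h1
  rw [h, Subgroup.mem_bot] at h2
  rw [Subgroup.mem_bot]
  apply he
  rw [h2, map_one]

theorem closure_pow_eq_top_of_equiv {A B : Type*} [Group A] [Group B] (e : A ≃* B) (p : ℕ)
    (h : Subgroup.closure {b : B | b ^ p = 1} = ⊤) :
    Subgroup.closure {a : A | a ^ p = 1} = ⊤ := by
  rw [eq_top_iff]
  intro a _
  have h1 : e a ∈ Subgroup.closure {b : B | b ^ p = 1} := by rw [h]; exact Subgroup.mem_top _
  have h2 : (Subgroup.closure {b : B | b ^ p = 1}).map e.symm.toMonoidHom ≤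
      Subgroup.closure {a : A | a ^ p = 1} := by
    rw [MonoidHom.map_closure]
    apply Subgroup.closure_mono
    rintro _ ⟨b, hb, rfl⟩
    change (e.symm b) ^ p = 1
    rw [← map_pow, hb, map_one]
  have h3 : e.symm (e a) ∈ (Subgroup.closure {b : B | b ^ p = 1}).map e.symm.toMonoidHom :=
    ⟨e a, h1, rfl⟩
  have := h2 h3
  rwa [MulEquiv.symm_apply_apply] at this

/-- If `G` is generated by elements with `g^p = 1`, then `G/G'` has exponent `p`. -/
theorem pow_mem_commutator_of_gen {G : Type*} [Group G] (p : ℕ)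
    (h : Subgroup.closure {g : G | g ^ p = 1} = ⊤) (x : G) : x ^ p ∈ commutator G := by
  let T : Subgroup G := ((powMonoidHom p : Abelianization G →* Abelianization G).ker).comap
    Abelianization.of
  have hT : Subgroup.closure {g : G | g ^ p = 1} ≤ T := by
    rw [Subgroup.closure_le]
    intro g hg
    change Abelianization.of g ∈ (powMonoidHom p : Abelianization G →* Abelianization G).ker
    rw [MonoidHom.mem_ker, powMonoidHom_apply, ← map_pow]
    have hg' : g ^ p = 1 := hg
    rw [hg', map_one]
  have hx : x ∈ T := hT (by rw [h]; exact Subgroup.mem_top _)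
  have hx' : Abelianization.of x ∈ (powMonoidHom p : Abelianization G →* Abelianization G).ker :=
    hx
  rw [MonoidHom.mem_ker, powMonoidHom_apply, ← map_pow] at hx'
  have : x ^ p ∈ (Abelianization.of : G →* Abelianization G).ker := hx'
  rwa [Abelianization.ker_of] at this

/-! ### Sylow subgroups of the symmetric group -/

theorem card_perm_factorization (p n : ℕ) [Fact p.Prime] :
    (Nat.card (Perm (Fin n))).factorization p = padicValNat p n.factorial := by
  rw [Nat.card_perm, Nat.card_eq_fintype_card, Fintype.card_fin,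
    Nat.factorization_def _ (Fact.out : p.Prime)]

/-- Any Sylow `p`-subgroup of `Perm (Fin n)` is generated by elements of order dividing `p` and
has derived length at most `log_p n`. -/
theorem sylow_perm_facts (p n : ℕ) [Fact p.Prime] (P : Sylow p (Perm (Fin n))) :
    Subgroup.closure {x : (P : Subgroup (Perm (Fin n))) | x ^ p = 1} = ⊤ ∧
      derivedSeries (P : Subgroup (Perm (Fin n))) (Nat.log p n) = ⊥ := by
  obtain ⟨H, _, f, hfin, hf, hcard, hgen, hder, _⟩ := sylData p n
  have hR : Nat.card f.range = p ^ (Nat.card (Perm (Fin n))).factorization p := by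
    rw [card_perm_factorization, ← hcard]
    exact (Nat.card_congr (MonoidHom.ofInjective hf).toEquiv).symm
  let P' : Sylow p (Perm (Fin n)) := Sylow.ofCard f.range hR
  have e1 : (P : Subgroup (Perm (Fin n))) ≃* (P' : Subgroup (Perm (Fin n))) := P.equiv P'
  have e2 : (P' : Subgroup (Perm (Fin n))) ≃* H := (MonoidHom.ofInjective hf).symm
  have e : (P : Subgroup (Perm (Fin n))) ≃* H := e1.trans e2
  exact ⟨closure_pow_eq_top_of_equiv e p hgen,
    derivedSeries_eq_bot_of_injective e.toMonoidHom e.injective _ hder⟩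

/-- Lower bound on the derived length. -/
theorem sylow_perm_der_ne_bot (p n : ℕ) [Fact p.Prime] (P : Sylow p (Perm (Fin n)))
    (hk : 1 ≤ Nat.log p n) :
    derivedSeries (P : Subgroup (Perm (Fin n))) (Nat.log p n - 1) ≠ ⊥ := by
  have hp := (Fact.out : p.Prime)
  haveI : NeZero p := ⟨hp.ne_zero⟩
  obtain ⟨k, hk'⟩ : ∃ k, Nat.log p n = k + 1 := ⟨Nat.log p n - 1, by omega⟩
  rw [hk', Nat.add_sub_cancel]
  let G := Multiplicative (ZMod p)
  haveI : Nontrivial G := by
    haveI : Fact (1 < p) := ⟨hp.one_lt⟩
    exact (inferInstance : Nontrivial (Multiplicative (ZMod p)))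
  have hGc : Nat.card G = p := by
    rw [Nat.card_eq_fintype_card, Fintype.card_multiplicative, ZMod.card]
  have hne := iter_der_ne_bot G k
  -- embed
  have hpow : p ^ (k + 1) ≤ n := by
    rw [← hk']
    exact Nat.pow_log_le_self p (by
      intro h0; rw [h0] at hk; simp at hk)
  have hcardle : Fintype.card (Fin (k + 1) → G) ≤ Fintype.card (Fin n) := by
    rw [Fintype.card_fun, Fintype.card_fin, Fintype.card_fin,
      ← Nat.card_eq_fintype_card (α := G), hGc]
    exact hpow
  obtain ⟨e⟩ := Function.Embedding.nonempty_of_card_le hcardle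
  let Θ : IteratedWreathProduct G (k + 1) →* Perm (Fin n) :=
    (Perm.viaEmbeddingHom e).comp (iteratedWreathToPermHom G (k + 1))
  have hΘ : Function.Injective Θ :=
    (Perm.viaEmbeddingHom_injective e).comp (iteratedWreathToPermHomInj G (k + 1))
  have hWp : IsPGroup p (IteratedWreathProduct G (k + 1)) := by
    apply IsPGroup.of_card (n := ∑ i ∈ Finset.range (k + 1), p ^ i)
    rw [IteratedWreathProduct.card, hGc]
  have hRp : IsPGroup p Θ.range :=
    hWp.of_surjective Θ.rangeRestrict Θ.rangeRestrict_surjective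
  obtain ⟨Q, hQ⟩ := hRp.exists_le_sylow
  have eQP : (Q : Subgroup (Perm (Fin n))) ≃* (P : Subgroup (Perm (Fin n))) := Q.equiv P
  let ψ : IteratedWreathProduct G (k + 1) →* (P : Subgroup (Perm (Fin n))) :=
    eQP.toMonoidHom.comp ((Subgroup.inclusion hQ).comp Θ.rangeRestrict)
  have hψ : Function.Injective ψ := by
    apply eQP.injective.comp
    apply (Subgroup.inclusion_injective hQ).comp
    rw [← MonoidHom.ker_eq_bot_iff, MonoidHom.ker_rangeRestrict, MonoidHom.ker_eq_bot_iff]
    exact hΘ
  intro hbot
  exact hne (derivedSeries_eq_bot_of_injective ψ hψ k hbot)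

end Cfsg.Agent.Helper57
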