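import Mathlib
import Cfsg.Agent.Lib.Helper57.SymSylowC
import Cfsg.Agent.Lib.Helper57.SLSylow
import Cfsg.Agent.Lib.Helper57.GLSylowA

set_option autoImplicit false

namespace Cfsg.Agent.Helper57

open Equiv

/-- abelian kernel over a quotient of derived length `k` -/
theorem der_bot_of_ker_comm {G H : Type*} [Group G] [Group H] (f : G →* H)
    (hker : ∀ a b : G, f a = 1 → f b = 1 → a * b = b * a) (k : ℕ)
    (hH : derivedSeries H k = ⊥) : derivedSeries G (k + 1) = ⊥ := by
  have h1 : derivedSeries G k ≤ f.ker := by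
    intro x hx
    rw [MonoidHom.mem_ker]
    have h2 : f x ∈ (derivedSeries G k).map f := ⟨x, hx, rfl⟩
    have h3 := map_derivedSeries_le_derivedSeries f k h2
    rw [hH, Subgroup.mem_bot] at h3
    exact h3
  rw [derivedSeries_succ, Subgroup.commutator_eq_bot_iff_le_centralizer]
  intro x hx
  rw [Subgroup.mem_centralizer_iff]
  intro y hy
  exact hker y x (h1 hy) (h1 hx)

/-- a `p`-subgroup of `N ⋊ S_w`, `N` abelian, has derived length at most `log_p w + 1` -/
theorem der_bot_of_pgroup_sd {p w : ℕ} [Fact p.Prime] {N : Type*} [CommGroup N]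
    (φ : Perm (Fin w) →* MulAut N) (Q : Subgroup (N ⋊[φ] Perm (Fin w))) (hQ : IsPGroup p Q) :
    derivedSeries Q (Nat.log p w + 1) = ⊥ := by
  let g : Q →* Perm (Fin w) := (SemidirectProduct.rightHom).comp Q.subtype
  have hgp : IsPGroup p g.range := hQ.of_surjective g.rangeRestrict g.rangeRestrict_surjective
  obtain ⟨R, hR⟩ := hgp.exists_le_sylow
  let f : Q →* (R : Subgroup (Perm (Fin w))) := (Subgroup.inclusion hR).comp g.rangeRestrict
  have hf : ∀ a : Q, f a = 1 → (a : N ⋊[φ] Perm (Fin w)).right = 1 := by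
    intro a ha
    have := congrArg Subtype.val ha
    exact this
  apply der_bot_of_ker_comm f _ _ (sylow_perm_facts p w R).2
  intro a b ha hb
  have ha' := hf a ha
  have hb' := hf b hb
  apply Subtype.ext
  rw [Subgroup.coe_mul, Subgroup.coe_mul]
  ext1
  · rw [SemidirectProduct.mul_left, SemidirectProduct.mul_left, ha', hb', map_one]
    exact mul_comm _ _
  · rw [SemidirectProduct.mul_right, SemidirectProduct.mul_right, ha', hb']

/-- lower bound transport: a `p`-group with long derived series embedded in `G` -/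
theorem der_ne_bot_of_embed {G : Type*} [Group G] [Finite G] {p : ℕ} [Fact p.Prime]
    (P : Sylow p G) {W : Type*} [Group W] (hW : IsPGroup p W) (Φ : W →* G)
    (hΦ : Function.Injective Φ) (k : ℕ) (hne : derivedSeries W k ≠ ⊥) :
    derivedSeries (P : Subgroup G) k ≠ ⊥ := by
  have hRp : IsPGroup p Φ.range := hW.of_surjective Φ.rangeRestrict Φ.rangeRestrict_surjective
  obtain ⟨Q, hQ⟩ := hRp.exists_le_sylow
  have eQP : (Q : Subgroup G) ≃* (P : Subgroup G) := Q.equiv P
  let ψ : W →* (P : Subgroup G) :=
    eQP.toMonoidHom.comp ((Subgroup.inclusion hQ).comp Φ.rangeRestrict)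
  have hψ : Function.Injective ψ := by
    apply eQP.injective.comp
    apply (Subgroup.inclusion_injective hQ).comp
    rw [← MonoidHom.ker_eq_bot_iff, MonoidHom.ker_rangeRestrict, MonoidHom.ker_eq_bot_iff]
    exact hΦ
  intro hbot
  exact hne (derivedSeries_eq_bot_of_injective ψ hψ k hbot)

/-- the witness for the lower bound: `C_p ≀ Syl_p(S_w)` -/
theorem exists_wreath_witness (p w : ℕ) [Fact p.Prime] (hw : 1 ≤ w) :
    ∃ (H : Type) (_ : Group H) (ι : H →* Perm (Fin w)), Function.Injective ι ∧
      IsPGroup p (BaseN p w ⋊[baseAct (p := p) ι] H) ∧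
      derivedSeries (BaseN p w ⋊[baseAct (p := p) ι] H) (Nat.log p w) ≠ ⊥ := by
  have hp := (Fact.out : p.Prime)
  have : NeZero p := ⟨hp.ne_zero⟩
  obtain ⟨H, _, ι, hfin, hι, hcard, _, _, _⟩ := sylData p w
  refine ⟨H, inferInstance, ι, hι, ?_, ?_⟩
  · apply IsPGroup.of_card (n := w + padicValNat p w.factorial)
    rw [SemidirectProduct.card, card_baseN, hcard, ← pow_add]
  · have hc : Fintype.card (Fin w × ZMod p) = Fintype.card (Fin (p * w)) := by
      rw [Fintype.card_prod, Fintype.card_fin, ZMod.card, Fintype.card_fin, mul_comm]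
    let ε : Fin w × ZMod p ≃ Fin (p * w) := Fintype.equivOfCardEq hc
    let Φ : BaseN p w ⋊[baseAct (p := p) ι] H →* Perm (Fin (p * w)) :=
      (ε.permCongrHom).toMonoidHom.comp (wrHom ι)
    have hΦ : Function.Injective Φ := (ε.permCongrHom).injective.comp (wrHom_injective ι hι)
    have hcardW : Nat.card (BaseN p w ⋊[baseAct (p := p) ι] H) =
        p ^ (Nat.card (Perm (Fin (p * w)))).factorization p := by
      rw [card_perm_factorization, SemidirectProduct.card, card_baseN, hcard, ← pow_add,
        padicValNat_factorial_mul, add_comm]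
    let P' : Sylow p (Perm (Fin (p * w))) := default
    obtain ⟨e⟩ := sylow_equiv_of_injective P' Φ hΦ hcardW
    have hlog : Nat.log p (p * w) = Nat.log p w + 1 := by
      rw [mul_comm]
      exact Nat.log_mul_base hp.one_lt (by omega)
    have h1 := sylow_perm_der_ne_bot p (p * w) P' (by rw [hlog]; omega)
    rw [hlog, Nat.add_sub_cancel] at h1
    intro hbot
    exact h1 (derivedSeries_eq_bot_of_injective e.toMonoidHom e.injective _ hbot)

section emb
variable {p w : ℕ} {C : Type*} [Group C] {H : Type} [Group H]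

/-- `C_p ≀ H → C ≀ S_w` -/
def wrMap (ζ : Multiplicative (ZMod p) →* C) (ι : H →* Perm (Fin w)) :
    BaseN p w ⋊[baseAct (p := p) ι] H →* (Fin w → C) ⋊[piAct w C] Perm (Fin w) :=
  SemidirectProduct.map (ζ.compLeft (Fin w)) ι (by
    intro h
    ext f i
    rfl)

theorem wrMap_injective (ζ : Multiplicative (ZMod p) →* C) (ι : H →* Perm (Fin w))
    (hζ : Function.Injective ζ) (hι : Function.Injective ι) :
    Function.Injective (wrMap ζ ι) := by
  intro x y hxy
  have h1 := congrArg SemidirectProduct.left hxy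
  have h2 := congrArg SemidirectProduct.right hxy
  unfold wrMap at h1 h2
  rw [SemidirectProduct.map_left, SemidirectProduct.map_left] at h1
  rw [SemidirectProduct.map_right, SemidirectProduct.map_right] at h2
  ext1
  · funext i
    exact hζ (congrFun h1 i)
  · exact hι h2

end emb

end Cfsg.Agent.Helper57
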