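import Mathlib
import Cfsg.Agent.Lib.Helper40.SylowGLTorus
import Cfsg.Agent.Lib.Helper57.GLSylowB
import Cfsg.Agent.Lib.Helper57.GLSylowC

set_option autoImplicit false

namespace Cfsg.Agent.Helper57

open Equiv Cfsg.Agent.Helper40.SylGL

/-- derived length of a Sylow `p`-subgroup of `GL_n(F)` contained in the monomial group
`Eˣ ≀ S_w` -/
theorem gl_sylow_der {F : Type*} [Field F] [Fintype F] (E : Type*) [Field E] [Algebra F E]
    [FiniteDimensional F E] [Finite E] (p : ℕ) [Fact p.Prime] (n w : ℕ) (hw1 : 1 ≤ w)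
    (hwe : w * Module.finrank F E ≤ n)
    (hcardval : (Nat.card (GL (Fin n) F)).factorization p =
      w * padicValNat p (Nat.card Eˣ) + padicValNat p w.factorial)
    (hpE : p ∣ Nat.card Eˣ) (P : Sylow p (GL (Fin n) F)) :
    derivedSeries (P : Subgroup (GL (Fin n) F)) (Nat.log p w + 1) = ⊥ ∧
      derivedSeries (P : Subgroup (GL (Fin n) F)) (Nat.log p w) ≠ ⊥ := by
  classical
  have hp := (Fact.out : p.Prime)
  have : NeZero p := ⟨hp.ne_zero⟩
  obtain ⟨s, hs⟩ : ∃ s, s = n - w * Module.finrank F E := ⟨_, rfl⟩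
  have hfr : Module.finrank F (WV (F := F) E w s) = n := by
    rw [Module.finrank_prod, Module.finrank_pi_fintype, Module.finrank_fin_fun]
    simp only [Finset.sum_const, Finset.card_univ, Fintype.card_fin, smul_eq_mul]
    omega
  let b : Module.Basis (Fin n) F (WV (F := F) E w s) := Module.finBasisOfFinrankEq F _ hfr
  let Ψ : (Fin w → Eˣ) ⋊[piAct w Eˣ] Perm (Fin w) →* GL (Fin n) F :=
    (toGLEquiv b).toMonoidHom.comp (monoLin E w s)
  have hΨ : Function.Injective Ψ := (toGLEquiv b).injective.comp (monoLin_injective E w s)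
  have hfin : Finite ((Fin w → Eˣ) ⋊[piAct w Eˣ] Perm (Fin w)) :=
    Finite.of_equiv _ SemidirectProduct.equivProd.symm
  have hcardΓ : Nat.card ((Fin w → Eˣ) ⋊[piAct w Eˣ] Perm (Fin w)) =
      Nat.card Eˣ ^ w * w.factorial := by
    rw [SemidirectProduct.card, Nat.card_fun, Nat.card_perm, Nat.card_eq_fintype_card (α := Fin w),
      Fintype.card_fin]
  have hcE : Nat.card Eˣ ≠ 0 := Nat.card_pos.ne'
  have hvalΓ : (Nat.card ((Fin w → Eˣ) ⋊[piAct w Eˣ] Perm (Fin w))).factorization p =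
      w * padicValNat p (Nat.card Eˣ) + padicValNat p w.factorial := by
    rw [hcardΓ, Nat.factorization_def _ hp, padicValNat_mono w _ hcE]
  constructor
  · let Q : Sylow p ((Fin w → Eˣ) ⋊[piAct w Eˣ] Perm (Fin w)) := default
    have hQcard := Sylow.card_eq_multiplicity Q
    obtain ⟨e1⟩ := sylow_equiv_of_injective P (Ψ.comp (Q : Subgroup _).subtype)
      (hΨ.comp Subtype.val_injective) (by rw [hQcard, hvalΓ, hcardval])
    exact derivedSeries_eq_bot_of_injective e1.toMonoidHom e1.injective _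
      (der_bot_of_pgroup_sd (p := p) (w := w) (N := Fin w → Eˣ) (piAct w Eˣ)
        (Q : Subgroup _) Q.isPGroup')
  · obtain ⟨H, _, ι, hι, hWp, hWne⟩ := exists_wreath_witness p w hw1
    obtain ⟨ζ, hζ⟩ := exists_zmod_hom (G := Eˣ) hpE
    exact der_ne_bot_of_embed P hWp (Ψ.comp (wrMap ζ ι))
      (hΨ.comp (wrMap_injective ζ ι hζ hι)) _ hWne

end Cfsg.Agent.Helper57
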