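import Mathlib
import Cfsg.Agent.Lib.Helper57.SymSylowC
import Cfsg.Agent.Lib.Helper57.GLSylowA

set_option autoImplicit false

namespace Cfsg.Agent.Helper57

open Equiv

/-- derived series of an extension -/
theorem der_bot_of_ker_der {G H : Type*} [Group G] [Group H] (f : G →* H) (k j : ℕ)
    (hH : derivedSeries H k = ⊥) (hK : derivedSeries f.ker j = ⊥) :
    derivedSeries G (k + j) = ⊥ := by
  have h1 : derivedSeries G k ≤ f.ker := by
    intro x hx
    rw [MonoidHom.mem_ker]
    have h2 : f x ∈ (derivedSeries G k).map f := ⟨x, hx, rfl⟩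
    have h3 := map_derivedSeries_le_derivedSeries f k h2
    rw [hH, Subgroup.mem_bot] at h3
    exact h3
  have h2 : ∀ i : ℕ, derivedSeries G (k + i) ≤ (derivedSeries f.ker i).map f.ker.subtype := by
    intro i
    induction i with
    | zero =>
      rw [add_zero, derivedSeries_zero, ← MonoidHom.range_eq_map, Subgroup.range_subtype]
      exact h1
    | succ i ih =>
      rw [← add_assoc, derivedSeries_succ, derivedSeries_succ, Subgroup.map_commutator]
      exact Subgroup.commutator_mono ih ih
  have h3 := h2 j
  rw [hK, Subgroup.map_bot] at h3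
  exact le_bot_iff.mp h3

/-- derived series and jointly injective families of homomorphisms -/
theorem der_bot_of_jointly_injective {K : Type*} [Group K] {ι : Type*} {G : Type*}
    [Group G] (π : ι → K →* G) (hinj : ∀ x : K, (∀ i, π i x = 1) → x = 1) (j : ℕ)
    (hr : ∀ i, derivedSeries (π i).range j = ⊥) : derivedSeries K j = ⊥ := by
  rw [eq_bot_iff]
  intro x hx
  rw [Subgroup.mem_bot]
  apply hinj
  intro i
  have h2 : (π i).rangeRestrict x ∈ (derivedSeries K j).map (π i).rangeRestrict := ⟨x, hx, rfl⟩
  have h3 := map_derivedSeries_le_derivedSeries (π i).rangeRestrict j h2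
  rw [hr i, Subgroup.mem_bot] at h3
  exact congrArg Subtype.val h3

/-- derived series and two jointly injective homomorphisms -/
theorem der_bot_of_two_homs {K : Type*} [Group K] {G₁ G₂ : Type*} [Group G₁] [Group G₂]
    (f₁ : K →* G₁) (f₂ : K →* G₂) (hinj : ∀ x : K, f₁ x = 1 → f₂ x = 1 → x = 1) (j : ℕ)
    (h1 : derivedSeries f₁.range j = ⊥) (h2 : derivedSeries f₂.range j = ⊥) :
    derivedSeries K j = ⊥ := by
  rw [eq_bot_iff]
  intro x hx
  rw [Subgroup.mem_bot]
  apply hinj
  · have h2' : f₁.rangeRestrict x ∈ (derivedSeries K j).map f₁.rangeRestrict := ⟨x, hx, rfl⟩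
    have h3 := map_derivedSeries_le_derivedSeries f₁.rangeRestrict j h2'
    rw [h1, Subgroup.mem_bot] at h3
    exact congrArg Subtype.val h3
  · have h2' : f₂.rangeRestrict x ∈ (derivedSeries K j).map f₂.rangeRestrict := ⟨x, hx, rfl⟩
    have h3 := map_derivedSeries_le_derivedSeries f₂.rangeRestrict j h2'
    rw [h2, Subgroup.mem_bot] at h3
    exact congrArg Subtype.val h3

/-- `p`-subgroups of `G₂ ≀ S_w` -/
theorem der_bot_of_pgroup_wr {p w j : ℕ} [Fact p.Prime] {G₂ : Type*} [Group G₂]
    (hG₂ : ∀ R : Subgroup G₂, IsPGroup p R → derivedSeries R j = ⊥)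
    (Q : Subgroup ((Fin w → G₂) ⋊[piAct w G₂] Perm (Fin w))) (hQ : IsPGroup p Q) :
    derivedSeries Q (Nat.log p w + j) = ⊥ := by
  let g : Q →* Perm (Fin w) := (SemidirectProduct.rightHom).comp Q.subtype
  have hgp : IsPGroup p g.range := hQ.of_surjective g.rangeRestrict g.rangeRestrict_surjective
  obtain ⟨R, hR⟩ := hgp.exists_le_sylow
  let f : Q →* (R : Subgroup (Perm (Fin w))) := (Subgroup.inclusion hR).comp g.rangeRestrict
  have hf : ∀ a : Q, f a = 1 → (a : (Fin w → G₂) ⋊[piAct w G₂] Perm (Fin w)).right = 1 := by
    intro a ha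
    have := congrArg Subtype.val ha
    exact this
  apply der_bot_of_ker_der f _ _ (sylow_perm_facts p w R).2
  -- the kernel
  have hK : ∀ a : f.ker, ((a : Q) : (Fin w → G₂) ⋊[piAct w G₂] Perm (Fin w)).right = 1 :=
    fun a => hf a.1 a.2
  let π : Fin w → f.ker →* G₂ := fun i =>
    { toFun := fun a => ((a : Q) : (Fin w → G₂) ⋊[piAct w G₂] Perm (Fin w)).left i
      map_one' := rfl
      map_mul' := fun a b => by
        change (((a : Q) : (Fin w → G₂) ⋊[piAct w G₂] Perm (Fin w)) *
          ((b : Q) : (Fin w → G₂) ⋊[piAct w G₂] Perm (Fin w))).left i = _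
        rw [SemidirectProduct.mul_left, hK a, map_one]
        rfl }
  apply der_bot_of_jointly_injective π
  · intro x hx
    apply Subtype.ext
    apply Subtype.ext
    ext1
    · funext i
      exact hx i
    · exact hK x
  · intro i
    apply hG₂
    have hKp : IsPGroup p f.ker := hQ.to_subgroup f.ker
    exact hKp.of_surjective (π i).rangeRestrict (π i).rangeRestrict_surjective

/-- transport of the bound along an isomorphism -/
theorem der_bound_of_equiv {p j : ℕ} {G G' : Type*} [Group G] [Group G'] (e : G ≃* G')
    (hG' : ∀ R : Subgroup G', IsPGroup p R → derivedSeries R j = ⊥)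
    (R : Subgroup G) (hR : IsPGroup p R) : derivedSeries R j = ⊥ := by
  have h1 : IsPGroup p (R.map e.toMonoidHom) := hR.map e.toMonoidHom
  have h2 := hG' _ h1
  exact derivedSeries_eq_bot_of_injective (e.subgroupMap R).toMonoidHom (e.subgroupMap R).injective
    j h2

/-- a large abelian subgroup forces `p`-subgroups to be metabelian -/
theorem der2_bot_of_abelian_large {G : Type*} [Group G] [Finite G] {p : ℕ} [Fact p.Prime]
    (T : Subgroup G) (hT : ∀ a ∈ T, ∀ b ∈ T, a * b = b * a)
    (hv : (Nat.card G).factorization p ≤ (Nat.card T).factorization p + 1)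
    (R : Subgroup G) (hR : IsPGroup p R) : derivedSeries R 2 = ⊥ := by
  have hp := (Fact.out : p.Prime)
  -- Sylow of T, as subgroup of G
  let T₀ : Sylow p T := default
  let A : Subgroup G := (T₀ : Subgroup T).map T.subtype
  have hAcard : Nat.card A = p ^ (Nat.card T).factorization p := by
    rw [Nat.card_congr ((T₀ : Subgroup T).equivMapOfInjective T.subtype
      T.subtype_injective).symm.toEquiv]
    exact Sylow.card_eq_multiplicity T₀
  have hAp : IsPGroup p A := IsPGroup.of_card hAcard
  have hAcomm : ∀ a ∈ A, ∀ b ∈ A, a * b = b * a := by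
    rintro _ ⟨a, _, rfl⟩ _ ⟨b, _, rfl⟩
    exact hT _ a.2 _ b.2
  obtain ⟨S, hAS⟩ := hAp.exists_le_sylow
  -- derived series of S
  have hS2 : derivedSeries (S : Subgroup G) 2 = ⊥ := by
    have hScard := Sylow.card_eq_multiplicity S
    let A' : Subgroup (S : Subgroup G) := A.subgroupOf S
    have hA'card : Nat.card A' = p ^ (Nat.card T).factorization p := by
      rw [Nat.card_congr (Subgroup.subgroupOfEquivOfLe hAS).toEquiv, hAcard]
    have hA'comm : ∀ a ∈ A', ∀ b ∈ A', a * b = b * a := by
      intro a ha b hb
      apply Subtype.ext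
      exact hAcomm _ ha _ hb
    have hidx : A'.index * p ^ (Nat.card T).factorization p =
        p ^ (Nat.card G).factorization p := by
      rw [← hA'card, ← hScard, mul_comm]
      exact Subgroup.card_mul_index A'
    have hder1 : derivedSeries (S : Subgroup G) 1 ≤ A' := by
      rcases Nat.lt_or_ge ((Nat.card T).factorization p) ((Nat.card G).factorization p) with hlt | hge
      · have heq : (Nat.card G).factorization p = (Nat.card T).factorization p + 1 := by omega
        rw [heq, pow_succ, mul_comm] at hidx
        have hidx' : A'.index = p := Nat.eq_of_mul_eq_mul_left (pow_pos hp.pos _) hidx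
        have hminfac : A'.index = (Nat.card (S : Subgroup G)).minFac := by
          rw [hidx', hScard, heq, Nat.pow_minFac (by omega), hp.minFac_eq]
        have hn : A'.Normal := Subgroup.normal_of_index_eq_minFac_card hminfac
        have hqc : Nat.card ((S : Subgroup G) ⧸ A') = p := by
          rw [← Subgroup.index_eq_card]; exact hidx'
        have hcyc : IsCyclic ((S : Subgroup G) ⧸ A') := isCyclic_of_prime_card hqc
        rw [derivedSeries_one]
        rw [← Subgroup.Normal.quotient_commutative_iff_commutator_le]
        exact IsCyclic.isMulCommutative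
      · have h1 : A'.index = 1 := by
          have hle : p ^ (Nat.card G).factorization p ≤ p ^ (Nat.card T).factorization p :=
            Nat.pow_le_pow_right hp.pos hge
          have hpos : 0 < p ^ (Nat.card T).factorization p := pow_pos hp.pos _
          have hipos : 0 < A'.index := Nat.pos_of_ne_zero Subgroup.index_ne_zero_of_finite
          nlinarith
        rw [Subgroup.index_eq_one] at h1
        rw [h1]
        exact le_top
    rw [derivedSeries_succ, Subgroup.commutator_eq_bot_iff_le_centralizer]
    intro x hx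
    rw [Subgroup.mem_centralizer_iff]
    intro y hy
    exact hA'comm y (hder1 hy) x (hder1 hx)
  -- transport to R
  obtain ⟨S', hRS'⟩ := hR.exists_le_sylow
  have e : (S' : Subgroup G) ≃* (S : Subgroup G) := S'.equiv S
  have hS'2 : derivedSeries (S' : Subgroup G) 2 = ⊥ :=
    derivedSeries_eq_bot_of_injective e.toMonoidHom e.injective 2 hS2
  exact derivedSeries_eq_bot_of_injective (Subgroup.inclusion hRS')
    (Subgroup.inclusion_injective hRS') 2 hS'2

end Cfsg.Agent.Helper57
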