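import Mathlib
import Cfsg.Agent.Lib.Helper57.GLSylowA

set_option autoImplicit false

namespace Cfsg.Agent.Helper57

open Equiv

section lin
variable {F : Type*} [Field F] (U : Type*) [AddCommGroup U] [Module F U] (w s : ℕ)

/-- the space `U^w × F^s` -/
abbrev WU := (Fin w → U) × (Fin s → F)

/-- `GL(U)^w` acting on `U^w × F^s` -/
def baseLinU : (Fin w → (U ≃ₗ[F] U)) →* (WU (F := F) U w s ≃ₗ[F] WU (F := F) U w s) where
  toFun f :=
    { toFun := fun v => (fun i => f i (v.1 i), v.2)
      map_add' := fun u v => Prod.ext (funext fun i => by simp) rfl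
      map_smul' := fun c v => Prod.ext (funext fun i => by simp) rfl
      invFun := fun v => (fun i => (f i).symm (v.1 i), v.2)
      left_inv := fun v => Prod.ext (funext fun i => by simp) rfl
      right_inv := fun v => Prod.ext (funext fun i => by simp) rfl }
  map_one' := LinearEquiv.ext fun v => Prod.ext (funext fun i => by simp) rfl
  map_mul' f g := LinearEquiv.ext fun v => Prod.ext (funext fun i => by simp) rfl

theorem baseLinU_apply (f : Fin w → (U ≃ₗ[F] U)) (v : WU (F := F) U w s) :
    baseLinU (F := F) U w s f v = (fun i => f i (v.1 i), v.2) := rfl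

/-- permutations acting on `U^w × F^s` -/
def topLinU : Perm (Fin w) →* (WU (F := F) U w s ≃ₗ[F] WU (F := F) U w s) where
  toFun σ :=
    { toFun := fun v => (fun i => v.1 (σ⁻¹ i), v.2)
      map_add' := fun u v => rfl
      map_smul' := fun c v => rfl
      invFun := fun v => (fun i => v.1 (σ i), v.2)
      left_inv := fun v => Prod.ext (funext fun i => by simp) rfl
      right_inv := fun v => Prod.ext (funext fun i => by simp) rfl }
  map_one' := LinearEquiv.ext fun v => Prod.ext (funext fun i => by simp) rfl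
  map_mul' σ τ := LinearEquiv.ext fun v => Prod.ext (funext fun i => by simp [mul_inv_rev]) rfl

theorem topLinU_apply (σ : Perm (Fin w)) (v : WU (F := F) U w s) :
    topLinU (F := F) U w s σ v = (fun i => v.1 (σ⁻¹ i), v.2) := rfl

theorem topLinU_symm_apply (σ : Perm (Fin w)) (v : WU (F := F) U w s) :
    (topLinU (F := F) U w s σ).symm v = (fun i => v.1 (σ i), v.2) := rfl

/-- the diagonal torus acting on the last `s` coordinates -/
def diagLinU : (Fin s → Fˣ) →* (WU (F := F) U w s ≃ₗ[F] WU (F := F) U w s) where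
  toFun d :=
    { toFun := fun v => (v.1, fun j => (d j : F) * v.2 j)
      map_add' := fun u v => Prod.ext rfl (funext fun j => by simp [mul_add])
      map_smul' := fun c v => Prod.ext rfl (funext fun j => by simp [mul_left_comm])
      invFun := fun v => (v.1, fun j => ((d j)⁻¹ : Fˣ) * v.2 j)
      left_inv := fun v => Prod.ext rfl (funext fun j => by simp)
      right_inv := fun v => Prod.ext rfl (funext fun j => by simp) }
  map_one' := LinearEquiv.ext fun v => Prod.ext rfl (funext fun j => by simp)
  map_mul' f g := LinearEquiv.ext fun v => Prod.ext rfl (funext fun j => by simp [mul_assoc])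

theorem diagLinU_apply (d : Fin s → Fˣ) (v : WU (F := F) U w s) :
    diagLinU (F := F) U w s d v = (v.1, fun j => (d j : F) * v.2 j) := rfl

theorem lin_compatU (σ : Perm (Fin w)) :
    (baseLinU (F := F) U w s).comp (MulEquiv.toMonoidHom (piAct w (U ≃ₗ[F] U) σ)) =
      (MulEquiv.toMonoidHom (MulAut.conj (topLinU (F := F) U w s σ))).comp
        (baseLinU (F := F) U w s) := by
  ext f v
  · simp only [MonoidHom.comp_apply, MulEquiv.coe_toMonoidHom, MulAut.conj_apply,
      LinearEquiv.mul_apply, baseLinU_apply, topLinU_apply]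
    have h : (topLinU (F := F) U w s σ)⁻¹ v = (topLinU (F := F) U w s σ).symm v := rfl
    rw [h, topLinU_symm_apply]
    simp [piAct_apply]
  · simp only [MonoidHom.comp_apply, MulEquiv.coe_toMonoidHom, MulAut.conj_apply,
      LinearEquiv.mul_apply, baseLinU_apply, topLinU_apply]
    have h : (topLinU (F := F) U w s σ)⁻¹ v = (topLinU (F := F) U w s σ).symm v := rfl
    rw [h, topLinU_symm_apply]

/-- the monomial group `GL(U) ≀ S_w` acting on `U^w × F^s` -/
def monoLinU : (Fin w → (U ≃ₗ[F] U)) ⋊[piAct w (U ≃ₗ[F] U)] Perm (Fin w) →*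
    (WU (F := F) U w s ≃ₗ[F] WU (F := F) U w s) :=
  SemidirectProduct.lift (baseLinU U w s) (topLinU U w s) (lin_compatU U w s)

theorem monoLinU_apply (x : (Fin w → (U ≃ₗ[F] U)) ⋊[piAct w (U ≃ₗ[F] U)] Perm (Fin w))
    (v : WU (F := F) U w s) :
    monoLinU (F := F) U w s x v = (fun i => x.left i (v.1 (x.right⁻¹ i)), v.2) := rfl

/-- `(GL(U) ≀ S_w) × (Fˣ)^s` acting on `U^w × F^s` -/
def fullLinU : ((Fin w → (U ≃ₗ[F] U)) ⋊[piAct w (U ≃ₗ[F] U)] Perm (Fin w)) × (Fin s → Fˣ) →*
    (WU (F := F) U w s ≃ₗ[F] WU (F := F) U w s) :=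
  MonoidHom.noncommCoprod (monoLinU U w s) (diagLinU U w s) (by
    intro x d
    apply LinearEquiv.ext
    intro v
    rfl)

theorem fullLinU_apply
    (x : ((Fin w → (U ≃ₗ[F] U)) ⋊[piAct w (U ≃ₗ[F] U)] Perm (Fin w)) × (Fin s → Fˣ))
    (v : WU (F := F) U w s) :
    fullLinU (F := F) U w s x v =
      (fun i => x.1.left i (v.1 (x.1.right⁻¹ i)), fun j => (x.2 j : F) * v.2 j) := rfl

theorem fullLinU_injective [Nontrivial U] : Function.Injective (fullLinU (F := F) U w s) := by
  classical
  rw [injective_iff_map_eq_one]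
  intro x hx
  have hv : ∀ v : WU (F := F) U w s, fullLinU (F := F) U w s x v = v := by
    intro v
    rw [hx]
    rfl
  have key : ∀ i : Fin w, x.1.right i = i ∧ x.1.left i = 1 := by
    intro i
    have h2 : x.1.right i = i := by
      obtain ⟨u, hu⟩ := exists_ne (0 : U)
      have h1 := congrArg (fun v : WU (F := F) U w s => v.1 (x.1.right i))
        (hv ((Pi.single i u : Fin w → U), (0 : Fin s → F)))
      simp only [fullLinU_apply] at h1
      have h0 : x.1.right⁻¹ (x.1.right i) = i := by simp
      rw [h0, Pi.single_eq_same] at h1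
      by_contra hne
      rw [Pi.single_eq_of_ne hne] at h1
      exact hu ((x.1.left (x.1.right i)).map_eq_zero_iff.mp h1)
    refine ⟨h2, ?_⟩
    apply LinearEquiv.ext
    intro u
    have h1 := congrArg (fun v : WU (F := F) U w s => v.1 (x.1.right i))
      (hv ((Pi.single i u : Fin w → U), (0 : Fin s → F)))
    simp only [fullLinU_apply] at h1
    have h0 : x.1.right⁻¹ (x.1.right i) = i := by simp
    rw [h0, Pi.single_eq_same, h2, Pi.single_eq_same] at h1
    exact h1
  have key2 : ∀ j : Fin s, x.2 j = 1 := by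
    intro j
    have h1 := congrArg (fun v : WU (F := F) U w s => v.2 j)
      (hv ((0 : Fin w → U), (Pi.single j 1 : Fin s → F)))
    simp only [fullLinU_apply, Pi.single_eq_same, mul_one] at h1
    exact Units.ext h1
  apply Prod.ext
  · ext1
    · funext i
      exact (key i).2
    · ext i
      rw [(key i).1]
      rfl
  · funext j
    exact key2 j

end lin

end Cfsg.Agent.Helper57
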