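import Mathlib
import Cfsg.Agent.Lib.Helper57.GLSylowB

set_option autoImplicit false

namespace Cfsg.Agent.Helper57

variable {q : ℕ}

theorem odd_geom_sum (hodd : Odd q) (n : ℕ) (hn : Odd n) :
    Odd (∑ i ∈ Finset.range n, q ^ i) := by
  rw [Finset.odd_sum_iff_odd_card_odd]
  have : (Finset.range n).filter (fun i => Odd (q ^ i)) = Finset.range n := by
    apply Finset.filter_true_of_mem
    intro i _
    exact hodd.pow
  rw [this, Finset.card_range]
  exact hn

/-- lifting the exponent at `2`, odd exponent -/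
theorem padicValNat_two_pow_odd_sub_one (hq : 3 ≤ q) (hodd : Odd q) (n : ℕ) (hn : Odd n) :
    padicValNat 2 (q ^ n - 1) = padicValNat 2 (q - 1) := by
  obtain ⟨x, hx⟩ : ∃ x, q = x + 1 := ⟨q - 1, by omega⟩
  have h1 := geom_sum_mul_add x n
  rw [← hx] at h1
  have h2 : q ^ n - 1 = (∑ i ∈ Finset.range n, q ^ i) * (q - 1) := by
    rw [← h1, hx]
    simp
  have hS : (∑ i ∈ Finset.range n, q ^ i) ≠ 0 := by
    intro h0
    have := odd_geom_sum hodd n hn
    rw [h0] at this
    exact absurd this (by decide)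
  rw [h2, padicValNat.mul hS (by omega)]
  have : ¬ 2 ∣ ∑ i ∈ Finset.range n, q ^ i := by
    intro h
    exact Nat.not_even_iff_odd.mpr (odd_geom_sum hodd n hn) (even_iff_two_dvd.mpr h)
  rw [padicValNat.eq_zero_of_not_dvd this, zero_add]

/-- lifting the exponent at `2`, even exponent -/
theorem padicValNat_two_pow_even_sub_one (hq : 3 ≤ q) (hodd : Odd q) (j : ℕ) (hj : j ≠ 0) :
    padicValNat 2 (q ^ (2 * j) - 1) =
      padicValNat 2 (q - 1) + padicValNat 2 (q + 1) + padicValNat 2 j := by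
  have h2q : ¬ 2 ∣ q := fun h => Nat.not_even_iff_odd.mpr hodd (even_iff_two_dvd.mpr h)
  have h1 := padicValNat.pow_two_sub_one (x := q) (n := 2 * j) (by omega) h2q (by omega)
    (even_two_mul j)
  rw [padicValNat.mul (by norm_num) hj, padicValNat_self] at h1
  omega

/-- the `2`-adic valuation of `∏_{k<n} (q^(k+1) - 1)` -/
theorem sum_padicValNat_two (hq : 3 ≤ q) (hodd : Odd q) (m : ℕ) :
    ∑ k ∈ Finset.range (2 * m), padicValNat 2 (q ^ (k + 1) - 1) =
      m * (2 * padicValNat 2 (q - 1) + padicValNat 2 (q + 1)) + padicValNat 2 m.factorial := by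
  induction m with
  | zero => simp
  | succ m ih =>
    have e1 : 2 * (m + 1) = 2 * m + 1 + 1 := by ring
    rw [e1, Finset.sum_range_succ, Finset.sum_range_succ, ih]
    have h1 : padicValNat 2 (q ^ (2 * m + 1) - 1) = padicValNat 2 (q - 1) :=
      padicValNat_two_pow_odd_sub_one hq hodd _ ⟨m, rfl⟩
    have e2 : 2 * m + 1 + 1 = 2 * (m + 1) := by ring
    have h2 : padicValNat 2 (q ^ (2 * m + 1 + 1) - 1) =
        padicValNat 2 (q - 1) + padicValNat 2 (q + 1) + padicValNat 2 (m + 1) := by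
      rw [e2]
      exact padicValNat_two_pow_even_sub_one hq hodd (m + 1) (by omega)
    rw [h1, h2, Nat.factorial_succ, padicValNat.mul (by omega) (Nat.factorial_ne_zero m)]
    ring

/-- the `2`-adic valuation of `|GL_n(q)|`, `q` odd -/
theorem padicValNat_two_card_GL (hq : 3 ≤ q) (hodd : Odd q) (n : ℕ) :
    padicValNat 2 (∏ i : Fin n, (q ^ n - q ^ (i : ℕ))) =
      (n / 2) * (2 * padicValNat 2 (q - 1) + padicValNat 2 (q + 1)) +
        (n % 2) * padicValNat 2 (q - 1) + padicValNat 2 (n / 2).factorial := by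
  have h2q : ¬ 2 ∣ q := fun h => Nat.not_even_iff_odd.mpr hodd (even_iff_two_dvd.mpr h)
  rw [padicValNat_card_GL_sum (p := 2) (by omega) h2q]
  rcases Nat.mod_two_eq_zero_or_one n with h0 | h1
  · have hn : n = 2 * (n / 2) := by omega
    rw [h0, zero_mul, add_zero]
    conv_lhs => rw [hn]
    exact sum_padicValNat_two hq hodd (n / 2)
  · have hn : n = 2 * (n / 2) + 1 := by omega
    rw [h1, one_mul]
    conv_lhs => rw [hn]
    rw [Finset.sum_range_succ, sum_padicValNat_two hq hodd (n / 2),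
      padicValNat_two_pow_odd_sub_one hq hodd _ ⟨n / 2, rfl⟩]
    ring

theorem padicValNat_two_of_mod_four {x : ℕ} (hx : x % 4 = 2) : padicValNat 2 x = 1 := by
  obtain ⟨y, hy⟩ : ∃ y, x = 2 * y := ⟨x / 2, by omega⟩
  have hyodd : ¬ 2 ∣ y := by omega
  rw [hy, padicValNat.mul (by norm_num) (by omega), padicValNat_self,
    padicValNat.eq_zero_of_not_dvd hyodd]

theorem padicValNat_two_pos {x : ℕ} (hx : x ≠ 0) (h2 : 2 ∣ x) : 1 ≤ padicValNat 2 x :=
  one_le_padicValNat_of_dvd hx h2

/-- one of `q - 1`, `q + 1` is twice an odd number -/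
theorem val_one_or (hq : 3 ≤ q) (hodd : Odd q) :
    padicValNat 2 (q - 1) = 1 ∨ padicValNat 2 (q + 1) = 1 := by
  obtain ⟨k, hk⟩ := hodd
  rcases Nat.even_or_odd k with ⟨j, hj⟩ | ⟨j, hj⟩
  · right
    apply padicValNat_two_of_mod_four
    omega
  · left
    apply padicValNat_two_of_mod_four
    omega

end Cfsg.Agent.Helper57
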