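import Mathlib
import Cfsg.Agent.Lib.Helper40.SylowGLTorus
import Cfsg.Agent.Lib.Helper57.SLSylow
import Cfsg.Agent.Lib.Helper57.GLSylowE
import Cfsg.Agent.Lib.Helper57.GLSylowF
import Cfsg.Agent.Lib.Helper57.GLSylowG

set_option autoImplicit false

namespace Cfsg.Agent.Helper57

open Equiv Cfsg.Agent.Helper40.SylGL

variable {F : Type*} [Field F] [Fintype F]

theorem card_GL_two : Nat.card (GL (Fin 2) F) =
    ∏ i : Fin 2, (Fintype.card F ^ 2 - Fintype.card F ^ (i : ℕ)) :=
  Matrix.card_GL_field 2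

/-- `2`-subgroups of `GL_2(q)`, `q` odd, are metabelian -/
theorem gl2_two_subgroup_der (hodd : Odd (Fintype.card F)) (R : Subgroup (GL (Fin 2) F))
    (hR : IsPGroup 2 R) : derivedSeries R 2 = ⊥ := by
  classical
  obtain ⟨q, hq⟩ : ∃ q, q = Fintype.card F := ⟨_, rfl⟩
  rw [← hq] at hodd
  have hq2 : 2 ≤ q := hq ▸ Fintype.one_lt_card
  have hq3 : 3 ≤ q := by
    obtain ⟨k, hk⟩ := hodd
    omega
  have hGL : (Nat.card (GL (Fin 2) F)).factorization 2 =
      2 * padicValNat 2 (q - 1) + padicValNat 2 (q + 1) := by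
    rw [Nat.factorization_def _ Nat.prime_two, card_GL_two, ← hq, padicValNat_two_card_GL hq3 hodd]
    simp
  rcases val_one_or hq3 hodd with hc | hd
  · -- nonsplit torus
    have hchar : CharP F (ringChar F) := ringChar.charP F
    have hprime : Fact (ringChar F).Prime := ⟨CharP.char_is_prime F (ringChar F)⟩
    have hfr : Module.finrank F (FiniteField.Extension F (ringChar F) 2) = 2 :=
      FiniteField.finrank_extension F (ringChar F) 2
    have hcardE : Nat.card (FiniteField.Extension F (ringChar F) 2)ˣ = q ^ 2 - 1 := by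
      rw [Nat.card_units, FiniteField.natCard_extension, Nat.card_eq_fintype_card, hq]
    obtain ⟨φ, hφ⟩ := exists_unitsHom (F := F) (FiniteField.Extension F (ringChar F) 2) hfr
    apply der2_bot_of_abelian_large φ.range _ _ R hR
    · rintro _ ⟨a, rfl⟩ _ ⟨b, rfl⟩
      rw [← map_mul, ← map_mul, mul_comm]
    · rw [Nat.card_congr (MonoidHom.ofInjective hφ).symm.toEquiv, hcardE, hGL,
        Nat.factorization_def _ Nat.prime_two]
      have h1 : q ^ 2 - 1 = (q - 1) * (q + 1) := by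
        have := Nat.sq_sub_sq q 1
        rw [one_pow] at this
        rw [this, mul_comm]
      rw [h1, padicValNat.mul (by omega) (by omega)]
      omega
  · -- split torus
    apply der2_bot_of_abelian_large (diagGL (F := F) 2).range _ _ R hR
    · rintro _ ⟨a, rfl⟩ _ ⟨b, rfl⟩
      rw [← map_mul, ← map_mul, mul_comm]
    · rw [Nat.card_congr (MonoidHom.ofInjective (diagGL_injective (F := F) 2)).symm.toEquiv,
        Nat.card_fun, Nat.card_units, Nat.card_eq_fintype_card (α := F), ← hq,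
        Nat.card_eq_fintype_card (α := Fin 2), Fintype.card_fin, hGL,
        Nat.factorization_def _ Nat.prime_two, padicValNat.pow]
      omega

omit [Fintype F] in
theorem gl1_comm (a b : GL (Fin 1) F) : a * b = b * a := by
  apply Units.ext
  rw [Units.val_mul, Units.val_mul]
  ext i j
  have hi : i = 0 := Subsingleton.elim _ _
  have hj : j = 0 := Subsingleton.elim _ _
  subst hi hj
  simp [Matrix.mul_apply, mul_comm]

/-- `2`-subgroups of `GL_n(q)`, `q` odd -/
theorem gl_two_subgroup_der (hodd : Odd (Fintype.card F)) (n : ℕ) (hn : 1 ≤ n)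
    (P : Subgroup (GL (Fin n) F)) (hP : IsPGroup 2 P) :
    derivedSeries P (Nat.log 2 n + 1) = ⊥ := by
  classical
  rcases Nat.lt_or_ge n 2 with hn1 | hn2
  · obtain rfl : n = 1 := by omega
    rw [derivedSeries_succ, Subgroup.commutator_eq_bot_iff_le_centralizer]
    intro x _
    rw [Subgroup.mem_centralizer_iff]
    intro y _
    apply Subtype.ext
    exact gl1_comm _ _
  obtain ⟨q, hq⟩ : ∃ q, q = Fintype.card F := ⟨_, rfl⟩
  have hodd' := hodd
  rw [← hq] at hodd
  have hq2 : 2 ≤ q := hq ▸ Fintype.one_lt_card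
  have hq3 : 3 ≤ q := by
    obtain ⟨k, hk⟩ := hodd
    omega
  obtain ⟨m, hm⟩ : ∃ m, m = n / 2 := ⟨_, rfl⟩
  obtain ⟨s, hs⟩ : ∃ s, s = n % 2 := ⟨_, rfl⟩
  have hm1 : 1 ≤ m := by omega
  have hlog : Nat.log 2 n + 1 = Nat.log 2 m + 2 := by
    rw [Nat.log_of_one_lt_of_le (by norm_num) hn2, ← hm]
  rw [hlog]
  -- the monomial group
  have hfr : Module.finrank F (WU (F := F) (Fin 2 → F) m s) = n := by
    rw [Module.finrank_prod, Module.finrank_pi_fintype, Module.finrank_fin_fun,
      Module.finrank_fin_fun]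
    simp only [Finset.sum_const, Finset.card_univ, Fintype.card_fin, smul_eq_mul]
    omega
  let b : Module.Basis (Fin n) F (WU (F := F) (Fin 2 → F) m s) :=
    Module.finBasisOfFinrankEq F _ hfr
  let e2 : ((Fin 2 → F) ≃ₗ[F] (Fin 2 → F)) ≃* GL (Fin 2) F := toGLEquiv (Pi.basisFun F (Fin 2))
  have hfin2 : Finite ((Fin 2 → F) ≃ₗ[F] (Fin 2 → F)) := Finite.of_equiv _ e2.symm.toEquiv
  let Ψ : ((Fin m → ((Fin 2 → F) ≃ₗ[F] (Fin 2 → F))) ⋊[piAct m ((Fin 2 → F) ≃ₗ[F] (Fin 2 → F))]
      Perm (Fin m)) × (Fin s → Fˣ) →* GL (Fin n) F :=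
    (toGLEquiv b).toMonoidHom.comp (fullLinU (Fin 2 → F) m s)
  have hΨ : Function.Injective Ψ :=
    (toGLEquiv b).injective.comp (fullLinU_injective (Fin 2 → F) m s)
  have hfin1 : Finite ((Fin m → ((Fin 2 → F) ≃ₗ[F] (Fin 2 → F))) ⋊[piAct m
      ((Fin 2 → F) ≃ₗ[F] (Fin 2 → F))] Perm (Fin m)) :=
    Finite.of_equiv _ SemidirectProduct.equivProd.symm
  have hcardΓ : Nat.card (((Fin m → ((Fin 2 → F) ≃ₗ[F] (Fin 2 → F))) ⋊[piAct m
      ((Fin 2 → F) ≃ₗ[F] (Fin 2 → F))] Perm (Fin m)) × (Fin s → Fˣ)) =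
      (∏ i : Fin 2, (q ^ 2 - q ^ (i : ℕ))) ^ m * m.factorial * (q - 1) ^ s := by
    rw [Nat.card_prod, SemidirectProduct.card, Nat.card_fun, Nat.card_perm, Nat.card_fun,
      Nat.card_eq_fintype_card (α := Fin m), Fintype.card_fin,
      Nat.card_eq_fintype_card (α := Fin s), Fintype.card_fin, Nat.card_units,
      Nat.card_eq_fintype_card (α := F), ← hq, Nat.card_congr e2.toEquiv, card_GL_two, ← hq]
  have hne2 : (∏ i : Fin 2, (q ^ 2 - q ^ (i : ℕ))) ≠ 0 := by
    rw [Fin.prod_univ_two]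
    simp only [Fin.val_zero, pow_zero, Fin.val_one, pow_one]
    have h1 : 1 < q ^ 2 := Nat.one_lt_pow (by norm_num) (by omega)
    have h2 : q < q ^ 2 := by nlinarith
    exact Nat.mul_ne_zero (by omega) (by omega)
  have hvalΓ : (Nat.card (((Fin m → ((Fin 2 → F) ≃ₗ[F] (Fin 2 → F))) ⋊[piAct m
      ((Fin 2 → F) ≃ₗ[F] (Fin 2 → F))] Perm (Fin m)) × (Fin s → Fˣ))).factorization 2 =
      (Nat.card (GL (Fin n) F)).factorization 2 := by
    rw [hcardΓ, Nat.factorization_def _ Nat.prime_two, Nat.factorization_def _ Nat.prime_two,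
      Matrix.card_GL_field, ← hq, padicValNat_two_card_GL hq3 hodd n, ← hm, ← hs,
      padicValNat.mul (Nat.mul_ne_zero (pow_ne_zero _ hne2) (Nat.factorial_ne_zero m))
        (pow_ne_zero _ (by omega)),
      padicValNat.mul (pow_ne_zero _ hne2) (Nat.factorial_ne_zero m), padicValNat.pow,
      padicValNat.pow, padicValNat_two_card_GL hq3 hodd 2]
    simp
    ring
  -- Sylow of the monomial group
  let Q : Sylow 2 (((Fin m → ((Fin 2 → F) ≃ₗ[F] (Fin 2 → F))) ⋊[piAct m
      ((Fin 2 → F) ≃ₗ[F] (Fin 2 → F))] Perm (Fin m)) × (Fin s → Fˣ)) := default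
  have hQcard := Sylow.card_eq_multiplicity Q
  have hQder : derivedSeries Q.toSubgroup (Nat.log 2 m + 2) = ⊥ := by
    apply der_bot_of_two_homs ((MonoidHom.fst _ _).comp Q.toSubgroup.subtype)
      ((MonoidHom.snd _ _).comp Q.toSubgroup.subtype)
    · intro x h1 h2
      apply Subtype.ext
      exact Prod.ext h1 h2
    · apply der_bot_of_pgroup_wr (p := 2) (w := m) (j := 2)
      · intro R hR
        exact der_bound_of_equiv e2 (fun R' hR' => gl2_two_subgroup_der hodd' R' hR') R hR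
      · exact Q.isPGroup'.of_surjective (MonoidHom.rangeRestrict _)
          (MonoidHom.rangeRestrict_surjective _)
    · rw [eq_bot_iff]
      refine (derivedSeries_antitone _ (by omega : 1 ≤ Nat.log 2 m + 2)).trans ?_
      rw [derivedSeries_one, le_bot_iff, commutator_eq_bot_iff_center_eq_top, eq_top_iff]
      intro x _
      rw [Subgroup.mem_center_iff]
      intro y
      apply Subtype.ext
      rw [Subgroup.coe_mul, Subgroup.coe_mul, mul_comm]
  obtain ⟨S, hPS⟩ := hP.exists_le_sylow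
  obtain ⟨e1⟩ := sylow_equiv_of_injective S (Ψ.comp Q.toSubgroup.subtype)
    (hΨ.comp Subtype.val_injective) (by rw [hQcard, hvalΓ])
  have hS : derivedSeries (S : Subgroup (GL (Fin n) F)) (Nat.log 2 m + 2) = ⊥ :=
    derivedSeries_eq_bot_of_injective e1.toMonoidHom e1.injective _ hQder
  exact derivedSeries_eq_bot_of_injective (Subgroup.inclusion hPS)
    (Subgroup.inclusion_injective hPS) _ hS

end Cfsg.Agent.Helper57
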