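import Mathlib

/-!
# GS4 (P4) for helper87's lemma server (S2608): `V ⋊ S₃ ≅ S₄`

`perm4_of_semidirect`, name and statement verbatim from `tools/gs4_sigs_helper87.lean.txt`.
-/

namespace Cfsg.Agent.Helper57.GS4

open scoped Pointwise

/-- Powers of an element of order dividing three. -/
theorem p4_pow_cases {G : Type*} [Group G] (t : G) (ht3 : t ^ 3 = 1) (i : ℕ) :
    t ^ i = 1 ∨ t ^ i = t ∨ t ^ i = t⁻¹ := by
  have h : t ^ i = t ^ (i % 3) := by
    conv_lhs => rw [← Nat.div_add_mod i 3, pow_add, pow_mul, ht3, one_pow, one_mul]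
  have h3 : i % 3 < 3 := Nat.mod_lt _ (by norm_num)
  rw [h]
  interval_cases (i % 3)
  · left; simp
  · right; left; simp
  · right; right
    apply eq_inv_of_mul_eq_one_left
    rw [← pow_succ, ht3]

/-- An element all of whose `V ⊔ U`-conjugates lie in `U` centralises `V`. -/
theorem p4_centralises {G : Type*} [Group G] (V U : Subgroup G) [V.Normal]
    (hUV : ∀ u ∈ U, u ∈ V → u = 1) (y : G) (hy : ∀ s ∈ V ⊔ U, s * y * s⁻¹ ∈ U) :
    ∀ v ∈ V, v * y = y * v := by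
  intro v hv
  have hyU : y ∈ U := by
    have := hy 1 (one_mem _)
    simpa using this
  have h1 : v * y * v⁻¹ ∈ U := hy v ((le_sup_left : V ≤ V ⊔ U) hv)
  have h2 : v * y * v⁻¹ * y⁻¹ ∈ U := U.mul_mem h1 (U.inv_mem hyU)
  have h3 : v * y * v⁻¹ * y⁻¹ ∈ V := by
    have h4 : y * v⁻¹ * y⁻¹ ∈ V := ‹V.Normal›.conj_mem _ (V.inv_mem hv) y
    have h5 : v * y * v⁻¹ * y⁻¹ = v * (y * v⁻¹ * y⁻¹) := by group
    rw [h5]
    exact V.mul_mem hv h4
  have h6 := hUV _ h2 h3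
  calc v * y = (v * y * v⁻¹ * y⁻¹) * (y * v) := by group
    _ = y * v := by rw [h6, one_mul]

/-- The core of `U` in `V ⊔ U` is trivial. -/
theorem p4_core_trivial {G : Type*} [Group G] [Finite G] (V U : Subgroup G) [V.Normal]
    (hV : Nat.card V = 4) (t r : G) (htU : t ∈ U)
    (hrr : r * r = 1) (ht3 : t ^ 3 = 1) (hrt : r * t * r = t⁻¹)
    (hUV : ∀ u ∈ U, u ∈ V → u = 1) (hUform : ∀ u ∈ U, ∃ i : ℕ, u = t ^ i ∨ u = t ^ i * r)
    (hfree : ∀ v ∈ V, t * v = v * t → v = 1)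
    (x : G) (hx : ∀ s ∈ V ⊔ U, s * x * s⁻¹ ∈ U) : x = 1 := by
  -- `t` does not centralise `V`
  have hnot : ¬ ∀ v ∈ V, v * t = t * v := by
    intro hc
    have hbot : V = ⊥ := by
      rw [Subgroup.eq_bot_iff_forall]
      intro v hv
      exact hfree v hv (hc v hv).symm
    rw [hbot] at hV
    simp at hV
  have hxU : x ∈ U := by
    have := hx 1 (one_mem _)
    simpa using this
  have hcx := p4_centralises V U hUV x hx
  have htS : t ∈ V ⊔ U := (le_sup_right : U ≤ V ⊔ U) htU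
  obtain ⟨i, hi | hi⟩ := hUform x hxU
  · rcases p4_pow_cases t ht3 i with h | h | h
    · rw [hi, h]
    · exfalso; apply hnot; rw [← h, ← hi]; exact hcx
    · exfalso; apply hnot
      intro v hv
      have h1 : v * t⁻¹ = t⁻¹ * v := by rw [← h, ← hi]; exact hcx v hv
      calc v * t = t * (t⁻¹ * v) * t := by group
        _ = t * (v * t⁻¹) * t := by rw [h1]
        _ = t * v := by group
  · exfalso; apply hnot
    -- `t * x * t⁻¹` is in the core too
    have hx' : ∀ s ∈ V ⊔ U, s * (t * x * t⁻¹) * s⁻¹ ∈ U := by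
      intro s hs
      have := hx (s * t) ((V ⊔ U).mul_mem hs htS)
      have h2 : s * t * x * (s * t)⁻¹ = s * (t * x * t⁻¹) * s⁻¹ := by group
      rwa [h2] at this
    have hcx' := p4_centralises V U hUV _ hx'
    -- `x⁻¹ * (t * x * t⁻¹) = t`
    have hrinv : r⁻¹ = r := inv_eq_of_mul_eq_one_left hrr
    have hti : t ^ i * t = t * t ^ i := by rw [← pow_succ, ← pow_succ']
    have hkey : x⁻¹ * (t * x * t⁻¹) = t := by
      rw [hi, mul_inv_rev, hrinv]
      calc r * (t ^ i)⁻¹ * (t * (t ^ i * r) * t⁻¹)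
          = r * ((t ^ i)⁻¹ * (t * t ^ i)) * r * t⁻¹ := by group
        _ = r * ((t ^ i)⁻¹ * (t ^ i * t)) * r * t⁻¹ := by rw [hti]
        _ = (r * t * r) * t⁻¹ := by group
        _ = t⁻¹ * t⁻¹ := by rw [hrt]
        _ = t := by
          have : t⁻¹ * t⁻¹ * t⁻¹ = 1 := by
            have : (t ^ 3)⁻¹ = 1 := by rw [ht3, inv_one]
            rw [← this]; group
          calc t⁻¹ * t⁻¹ = (t⁻¹ * t⁻¹ * t⁻¹) * t := by group
            _ = t := by rw [this, one_mul]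
    intro v hv
    rw [← hkey]
    have h1 : v * x⁻¹ = x⁻¹ * v := by
      have := hcx v hv
      calc v * x⁻¹ = x⁻¹ * (x * v) * x⁻¹ := by group
        _ = x⁻¹ * (v * x) * x⁻¹ := by rw [this]
        _ = x⁻¹ * v := by group
    calc v * (x⁻¹ * (t * x * t⁻¹)) = (v * x⁻¹) * (t * x * t⁻¹) := by group
      _ = x⁻¹ * (v * (t * x * t⁻¹)) := by rw [h1]; group
      _ = x⁻¹ * ((t * x * t⁻¹) * v) := by rw [hcx' v hv]
      _ = x⁻¹ * (t * x * t⁻¹) * v := by group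

/-- `|V ⊔ U| = |V| * |U|` when `V` is normal and `V ∩ U = 1`. -/
theorem p4_card_sup {G : Type*} [Group G] [Finite G] (V U : Subgroup G) [V.Normal]
    (hUV : ∀ u ∈ U, u ∈ V → u = 1) :
    Nat.card ↥(V ⊔ U) = Nat.card V * Nat.card U := by
  rw [← Nat.card_prod]
  symm
  let f : V × U → ↥(V ⊔ U) := fun p =>
    ⟨(p.1 : G) * (p.2 : G), (V ⊔ U).mul_mem ((le_sup_left : V ≤ V ⊔ U) p.1.2)
      ((le_sup_right : U ≤ V ⊔ U) p.2.2)⟩
  apply Nat.card_congr (Equiv.ofBijective f ⟨?_, ?_⟩)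
  · rintro ⟨⟨v, hv⟩, ⟨u, hu⟩⟩ ⟨⟨v', hv'⟩, ⟨u', hu'⟩⟩ h
    have h' : v * u = v' * u' := congrArg Subtype.val h
    have h1 : v'⁻¹ * v = u' * u⁻¹ := by
      calc v'⁻¹ * v = v'⁻¹ * (v * u) * u⁻¹ := by group
        _ = v'⁻¹ * (v' * u') * u⁻¹ := by rw [h']
        _ = u' * u⁻¹ := by group
    have h2 : u' * u⁻¹ = 1 := by
      apply hUV _ (U.mul_mem hu' (U.inv_mem hu))
      rw [← h1]; exact V.mul_mem (V.inv_mem hv') hv
    have h3 : u' = u := by
      calc u' = (u' * u⁻¹) * u := by group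
        _ = u := by rw [h2, one_mul]
    have h4 : v' = v := by
      have : v'⁻¹ * v = 1 := by rw [h1, h2]
      calc v' = v' * (v'⁻¹ * v) := by rw [this, mul_one]
        _ = v := by group
    subst h3; subst h4; rfl
  · rintro ⟨s, hs⟩
    have hs' : s ∈ ((V ⊔ U : Subgroup G) : Set G) := hs
    rw [Subgroup.normal_mul] at hs'
    obtain ⟨v, hv, u, hu, rfl⟩ := Set.mem_mul.1 hs'
    exact ⟨⟨⟨v, hv⟩, ⟨u, hu⟩⟩, rfl⟩

theorem perm4_of_semidirect {G : Type*} [Group G] [Finite G] (V U : Subgroup G) [V.Normal]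
    (hV : Nat.card V = 4) (hU : Nat.card U = 6) (t r : G) (htU : t ∈ U) (hrU : r ∈ U)
    (hrr : r * r = 1) (ht3 : t ^ 3 = 1) (hrt : r * t * r = t⁻¹)
    (hUV : ∀ u ∈ U, u ∈ V → u = 1) (hUform : ∀ u ∈ U, ∃ i : ℕ, u = t ^ i ∨ u = t ^ i * r)
    (hfree : ∀ v ∈ V, t * v = v * t → v = 1) :
    Nonempty (↥(V ⊔ U) ≃* Equiv.Perm (Fin 4)) := by
  classical
  have hcardS : Nat.card ↥(V ⊔ U) = 24 := by
    rw [p4_card_sup V U hUV, hV, hU]
  have hUS : U ≤ V ⊔ U := le_sup_right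
  let U' : Subgroup ↥(V ⊔ U) := U.subgroupOf (V ⊔ U)
  have hcardU' : Nat.card U' = 6 := by
    rw [← hU]
    exact Nat.card_congr (Subgroup.subgroupOfEquivOfLe hUS).toEquiv
  have hidx : U'.index = 4 := by
    have h := U'.index_mul_card
    rw [hcardU', hcardS] at h
    omega
  let φ : ↥(V ⊔ U) →* Equiv.Perm (↥(V ⊔ U) ⧸ U') := MulAction.toPermHom ↥(V ⊔ U) (↥(V ⊔ U) ⧸ U')
  have hker : φ.ker = U'.normalCore := (Subgroup.normalCore_eq_ker U').symm
  have hC : U'.normalCore = ⊥ := by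
    rw [Subgroup.eq_bot_iff_forall]
    intro x hx
    have hx1 : ∀ s ∈ V ⊔ U, s * (x : G) * s⁻¹ ∈ U := by
      intro s hs
      have := hx ⟨s, hs⟩
      exact Subgroup.mem_subgroupOf.1 this
    have := p4_core_trivial V U hV t r htU hrr ht3 hrt hUV hUform hfree (x : G) hx1
    exact Subtype.ext this
  have hinj : Function.Injective φ := (MonoidHom.ker_eq_bot_iff φ).1 (hker.trans hC)
  have hcardQ : Nat.card (↥(V ⊔ U) ⧸ U') = 4 := by
    rw [← Subgroup.index_eq_card, hidx]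
  have hcardP : Nat.card (Equiv.Perm (↥(V ⊔ U) ⧸ U')) = 24 := by
    rw [Nat.card_perm, hcardQ]; rfl
  have hbij : Function.Bijective φ :=
    (Nat.bijective_iff_injective_and_card φ).2 ⟨hinj, by rw [hcardS, hcardP]⟩
  have e : (↥(V ⊔ U) ⧸ U') ≃ Fin 4 := Finite.equivFinOfCardEq hcardQ
  exact ⟨(MulEquiv.ofBijective φ hbij).trans e.permCongrHom⟩

end Cfsg.Agent.Helper57.GS4
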