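import Mathlib
import Cfsg.Agent.Lib.Helper7.M11LADefs

/-!
# M11LA piece (K11) `caseI_np` for helper7's server (S0435 / S0434), plus shared elementary lemmas
about normalizers of a subgroup of order 5 (used again in (K12)).
-/

set_option autoImplicit false

namespace Cfsg.Agent.Helper57.M11LA

open Subgroup
open Cfsg.Agent.Helper7.M11LA

variable {G : Type*} [Group G] [Finite G]

omit [Finite G] in
/-- a subgroup of order 5 is generated by any of its elements of order 5 -/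
theorem h57_eq_zpowers (P : Subgroup G) (hP : Nat.card P = 5) (y : G) (hy : y ∈ P)
    (hy5 : orderOf y = 5) : P = zpowers y := by
  have : Finite P := Nat.finite_of_card_ne_zero (by rw [hP]; norm_num)
  symm
  apply Subgroup.eq_of_le_of_card_ge
  · exact (zpowers_le).mpr hy
  · rw [Nat.card_zpowers, hy5, hP]

omit [Finite G] in
/-- a subgroup of order 5 contains an element of order 5 -/
theorem h57_exists_gen (P : Subgroup G) (hP : Nat.card P = 5) : ∃ y ∈ P, orderOf y = 5 := by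
  have : Fact (Nat.Prime 5) := ⟨by norm_num⟩
  have : Finite P := Nat.finite_of_card_ne_zero (by rw [hP]; norm_num)
  obtain ⟨x, hx⟩ := exists_prime_orderOf_dvd_card' (G := P) 5 (by rw [hP])
  exact ⟨x, x.2, by rw [← hx, Subgroup.orderOf_coe]⟩

/-- (L1) an element normalizing `⟨y⟩`, `y` of order 5, conjugates `y` to `y ^ k`, `k ∈ {1,2,3,4}` -/
theorem h57_conj_pow (y g : G) (hy : orderOf y = 5)
    (hg : g ∈ normalizer ((zpowers y : Subgroup G) : Set G)) :
    ∃ k : ℕ, (k = 1 ∨ k = 2 ∨ k = 3 ∨ k = 4) ∧ g * y * g⁻¹ = y ^ k := by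
  classical
  have h1 : g * y * g⁻¹ ∈ zpowers y := (mem_normalizer_iff.mp hg y).mp (mem_zpowers y)
  rw [mem_zpowers_iff_mem_range_orderOf, hy] at h1
  obtain ⟨k, hk, hk2⟩ := Finset.mem_image.mp h1
  have hk5 : k < 5 := Finset.mem_range.mp hk
  have hk0 : k ≠ 0 := by
    rintro rfl
    rw [pow_zero] at hk2
    have h2 : y = 1 := conj_eq_one_iff.mp hk2.symm
    rw [h2, orderOf_one] at hy
    norm_num at hy
  exact ⟨k, by omega, hk2.symm⟩

/-- (L2) if moreover `g ^ 2` commutes with `y` then `g` centralizes or inverts `y` -/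
theorem h57_commute_or_inv (y g : G) (hy : orderOf y = 5)
    (hg : g ∈ normalizer ((zpowers y : Subgroup G) : Set G))
    (hg2 : Commute (g ^ 2) y) : Commute g y ∨ g * y * g⁻¹ = y⁻¹ := by
  obtain ⟨k, hk, hk2⟩ := h57_conj_pow y g hy hg
  have h3 : y ^ (k * k) = y ^ 1 := by
    have h : g ^ 2 * y * (g ^ 2)⁻¹ = y ^ (k * k) := by
      calc g ^ 2 * y * (g ^ 2)⁻¹ = g * (g * y * g⁻¹) * g⁻¹ := by rw [pow_two]; group
        _ = g * y ^ k * g⁻¹ := by rw [hk2]
        _ = (g * y * g⁻¹) ^ k := (conj_pow).symm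
        _ = (y ^ k) ^ k := by rw [hk2]
        _ = y ^ (k * k) := (pow_mul y k k).symm
    rw [pow_one, ← h, hg2.eq, mul_inv_cancel_right]
  have h4 : k * k ≡ 1 [MOD 5] := by
    rw [← hy]; exact (pow_eq_pow_iff_modEq).mp h3
  have hy5 : y ^ 5 = 1 := by rw [← hy]; exact pow_orderOf_eq_one y
  rcases hk with rfl | rfl | rfl | rfl
  · left
    rw [pow_one] at hk2
    exact mul_inv_eq_iff_eq_mul.mp hk2
  · exfalso; revert h4; decide
  · exfalso; revert h4; decide
  · right
    rw [hk2]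
    exact eq_inv_of_mul_eq_one_left (by rw [← pow_succ, hy5])

omit [Finite G] in
/-- an element inverting `y` inverts all of `⟨y⟩` -/
theorem h57_inv_all (y s : G) (hs : s * y * s⁻¹ = y⁻¹) :
    ∀ q ∈ zpowers y, s * q * s⁻¹ = q⁻¹ := by
  intro q hq
  obtain ⟨n, rfl⟩ := mem_zpowers_iff.mp hq
  rw [← conj_zpow, hs, inv_zpow]

/-- (★) in Case I the centralizer of `y` in `N(⟨y⟩)` (of order 20) is `⟨y⟩` -/
theorem h57_star (y : G) (hy : orderOf y = 5)
    (hN : Nat.card (normalizer ((zpowers y : Subgroup G) : Set G)) = 20)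
    (hI : ∀ z y : G, orderOf z = 2 → orderOf y = 5 → ¬ Commute z y)
    (g : G) (hg : g ∈ normalizer ((zpowers y : Subgroup G) : Set G)) (hgy : Commute g y) :
    g ∈ zpowers y := by
  have : Fact (Nat.Prime 2) := ⟨by norm_num⟩
  have hCdef : ∃ C : Subgroup G, C = centralizer {y} ⊓ normalizer ((zpowers y : Subgroup G) : Set G) :=
    ⟨_, rfl⟩
  obtain ⟨C, hC⟩ := hCdef
  have hmemC : ∀ x, x ∈ C ↔ (x * y = y * x ∧ x ∈ normalizer ((zpowers y : Subgroup G) : Set G)) := by
    intro x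
    rw [hC, mem_inf, mem_centralizer_singleton_iff]
  have hPC : zpowers y ≤ C := by
    rw [zpowers_le, hmemC]
    exact ⟨rfl, le_normalizer (mem_zpowers y)⟩
  have h20 : Nat.card C ∣ 20 := by
    rw [← hN]
    exact Subgroup.card_dvd_of_le (by rw [hC]; exact inf_le_right)
  have h5dvd : 5 ∣ Nat.card C := by
    have := Subgroup.card_dvd_of_le hPC
    rwa [Nat.card_zpowers, hy] at this
  have hodd : ¬ 2 ∣ Nat.card C := by
    intro h2
    obtain ⟨x, hx⟩ := exists_prime_orderOf_dvd_card' (G := C) 2 h2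
    have hx2 : orderOf (x : G) = 2 := by rw [Subgroup.orderOf_coe, hx]
    exact hI x y hx2 hy ((hmemC x).mp x.2).1
  have hpos : 0 < Nat.card C := Nat.card_pos
  have h5 : Nat.card C = 5 := by
    obtain ⟨k, hk⟩ := h5dvd
    have hle : Nat.card C ≤ 20 := Nat.le_of_dvd (by norm_num) h20
    have hk4 : k ≤ 4 := by omega
    interval_cases k
    · omega
    · omega
    · exfalso; apply hodd; rw [hk]; norm_num
    · exfalso; rw [hk] at h20; norm_num at h20
    · exfalso; apply hodd; rw [hk]; norm_num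
  have hEq : zpowers y = C :=
    Subgroup.eq_of_le_of_card_ge hPC (by rw [h5, Nat.card_zpowers, hy])
  rw [hEq, hmemC]
  exact ⟨hgy.eq, hg⟩

/-- (K11) Case I structure of `N(P)`. -/
theorem caseI_np (P : Subgroup G) (hP : Nat.card P = 5)
    (hN : Nat.card (normalizer (P : Set G)) = 20)
    (hI : ∀ z y : G, orderOf z = 2 → orderOf y = 5 → ¬ Commute z y) : NPI P := by
  have : Fact (Nat.Prime 2) := ⟨by norm_num⟩
  obtain ⟨y, hyP, hy⟩ := h57_exists_gen P hP
  have hPy : P = zpowers y := h57_eq_zpowers P hP y hyP hy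
  subst hPy
  have hy5 : y ^ 5 = 1 := by rw [← hy]; exact pow_orderOf_eq_one y
  have hNdef : ∃ N : Subgroup G, N = normalizer ((zpowers y : Subgroup G) : Set G) := ⟨_, rfl⟩
  obtain ⟨N, hNN⟩ := hNdef
  rw [← hNN] at hN
  -- every involution of `N` inverts `y`
  have hinv : ∀ s ∈ N, orderOf s = 2 → s * y * s⁻¹ = y⁻¹ := by
    intro s hs hs2
    have hsq : s ^ 2 = 1 := by rw [← hs2]; exact pow_orderOf_eq_one s
    rcases h57_commute_or_inv y s hy (hNN ▸ hs) (by rw [hsq]; exact Commute.one_left y) with h | h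
    · exact absurd h (hI s y hs2 hy)
    · exact h
  have hq5 : ∀ q ∈ zpowers y, q ^ 5 = 1 := by
    intro q hq
    obtain ⟨n, rfl⟩ := mem_zpowers_iff.mp hq
    rw [← zpow_natCast, ← zpow_mul, mul_comm, zpow_mul, zpow_natCast, hy5, one_zpow]
  -- a subgroup of order 4 of `N`
  obtain ⟨T0, hT0⟩ := Sylow.exists_subgroup_card_pow_prime (G := N) 2 (n := 2)
    (by rw [hN]; norm_num)
  have hTdef : ∃ T : Subgroup G, T = T0.map N.subtype := ⟨_, rfl⟩
  obtain ⟨T, hT⟩ := hTdef
  have hTN : T ≤ N := by rw [hT]; exact map_subtype_le T0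
  have hTcard : Nat.card T = 4 := by
    rw [hT, Subgroup.card_map_of_injective N.subtype_injective, hT0]; norm_num
  have hTord : ∀ t ∈ T, orderOf t ∣ 4 := by
    intro t ht
    rw [← hTcard]
    exact Subgroup.orderOf_dvd_natCard T ht
  -- there is an element of order 4
  have hex4 : ∃ f ∈ T, orderOf f = 4 := by
    by_contra hcon
    push Not at hcon
    have hsq : ∀ t ∈ T, t ^ 2 = 1 := by
      intro t ht
      have h1 := hTord t ht
      have h2 := hcon t ht
      have h3 : orderOf t ≤ 4 := Nat.le_of_dvd (by norm_num) h1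
      have h4 : orderOf t ∣ 2 := by
        interval_cases h : orderOf t
        · norm_num at h1
        · norm_num
        · norm_num
        · norm_num at h1
        · exact absurd rfl h2
      exact orderOf_dvd_iff_pow_eq_one.mp h4
    have hinvT : ∀ t ∈ T, t ≠ 1 → t * y * t⁻¹ = y⁻¹ := by
      intro t ht ht1
      apply hinv t (hTN ht)
      exact orderOf_eq_prime (hsq t ht) ht1
    -- pick a ≠ 1 in T
    have : Finite T := Nat.finite_of_card_ne_zero (by rw [hTcard]; norm_num)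
    have hnt : Nontrivial T := Finite.one_lt_card_iff_nontrivial.mp (by rw [hTcard]; norm_num)
    obtain ⟨a, ha⟩ := exists_ne (1 : T)
    have ha1 : (a : G) ≠ 1 := fun h => ha (Subtype.ext h)
    -- pick b ∉ {1, a}
    have hb : ∃ b ∈ T, b ≠ 1 ∧ b ≠ (a : G) := by
      by_contra hcon2
      push Not at hcon2
      have hsub : (T : Set G) ⊆ {1, (a : G)} := by
        intro b hb
        by_cases hb1 : b = 1
        · left; exact hb1
        · right; exact hcon2 b hb hb1
      have h1 : (T : Set G).ncard ≤ ({1, (a : G)} : Set G).ncard :=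
        Set.ncard_le_ncard hsub (Set.toFinite _)
      have h2 : ({1, (a : G)} : Set G).ncard ≤ 2 := by
        have := Set.ncard_insert_le (1 : G) ({(a : G)} : Set G)
        rwa [Set.ncard_singleton] at this
      have h3 : (T : Set G).ncard = 4 := by
        rw [← hTcard]; exact (Nat.card_coe_set_eq (T : Set G)).symm
      omega
    obtain ⟨b, hbT, hb1, hba⟩ := hb
    have hab : (a : G) * b ∈ T := T.mul_mem a.2 hbT
    have h1 := hinvT a a.2 ha1
    have h2 := hinvT b hbT hb1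
    have hcomm : Commute ((a : G) * b) y := by
      have h3 : (a : G) * b * y * ((a : G) * b)⁻¹ = y := by
        calc (a : G) * b * y * ((a : G) * b)⁻¹ = (a : G) * (b * y * b⁻¹) * (a : G)⁻¹ := by group
          _ = (a : G) * y⁻¹ * (a : G)⁻¹ := by rw [h2]
          _ = ((a : G) * y * (a : G)⁻¹)⁻¹ := by group
          _ = y := by rw [h1, inv_inv]
      exact mul_inv_eq_iff_eq_mul.mp h3
    have hmem : (a : G) * b ∈ zpowers y :=
      h57_star y hy (hNN ▸ hN) hI _ (hNN ▸ hTN hab) hcomm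
    have h5 := hq5 _ hmem
    have h4 := hsq _ hab
    have hone : (a : G) * b = 1 := by
      calc (a : G) * b = ((a : G) * b) ^ 5 * ((((a : G) * b) ^ 2) ^ 2)⁻¹ := by group
        _ = 1 := by rw [h5, h4]; simp
    have hb2 := hsq b hbT
    apply hba
    calc b = ((a : G) * b)⁻¹ * (a : G) * b ^ 2 := by group
      _ = (a : G) := by rw [hone, hb2]; simp
  obtain ⟨f, hfT, hf4⟩ := hex4
  have hfN : f ∈ N := hTN hfT
  have hf2ord : orderOf (f ^ 2) = 2 := by
    rw [orderOf_pow' f (by norm_num : (2 : ℕ) ≠ 0), hf4]; norm_num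
  have hf2N : f ^ 2 ∈ N := N.pow_mem hfN 2
  have hf4one : f ^ 4 = 1 := by rw [← hf4]; exact pow_orderOf_eq_one f
  have hf2sq : f ^ 2 * f ^ 2 = 1 := by rw [← pow_add]; exact hf4one
  have hf2inv : (f ^ 2)⁻¹ = f ^ 2 := inv_eq_of_mul_eq_one_left hf2sq
  have hfy := hinv (f ^ 2) hf2N hf2ord
  have hfP := h57_inv_all y (f ^ 2) hfy
  -- an involution `s` of `N` is `p * f ^ 2` with `p ∈ P`
  have hsP : ∀ s ∈ N, orderOf s = 2 → s * f ^ 2 ∈ zpowers y := by
    intro s hs hs2
    have hsy := hinv s hs hs2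
    apply h57_star y hy (hNN ▸ hN) hI _ (hNN ▸ N.mul_mem hs hf2N)
    have h3 : s * f ^ 2 * y * (s * f ^ 2)⁻¹ = y := by
      calc s * f ^ 2 * y * (s * f ^ 2)⁻¹ = s * (f ^ 2 * y * (f ^ 2)⁻¹) * s⁻¹ := by group
        _ = s * y⁻¹ * s⁻¹ := by rw [hfy]
        _ = (s * y * s⁻¹)⁻¹ := by group
        _ = y := by rw [hsy, inv_inv]
    exact mul_inv_eq_iff_eq_mul.mp h3
  -- `p * f ^ 2` is an involution of `N` for `p ∈ P`
  have hPs : ∀ p ∈ zpowers y, orderOf (p * f ^ 2) = 2 ∧ p * f ^ 2 ∈ N := by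
    intro p hp
    have hpN : p ∈ N := by rw [hNN]; exact le_normalizer hp
    refine ⟨?_, N.mul_mem hpN hf2N⟩
    apply orderOf_eq_prime
    · have h1 := hfP p hp
      calc (p * f ^ 2) ^ 2 = p * (f ^ 2 * p * (f ^ 2)⁻¹) * (f ^ 2 * f ^ 2) := by
            rw [pow_two (p * f ^ 2)]; group
        _ = 1 := by rw [h1, hf2sq]; group
    · intro h1
      have h2 : f ^ 2 = p⁻¹ := eq_inv_of_mul_eq_one_right h1
      have h3 : (f ^ 2) ^ 5 = 1 := by
        rw [h2]; exact hq5 _ ((zpowers y).inv_mem hp)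
      have h4 : orderOf (f ^ 2) ∣ 5 := orderOf_dvd_of_pow_eq_one h3
      rw [hf2ord] at h4
      norm_num at h4
  refine ⟨f, hNN ▸ hfN, hf4, ?_, ?_⟩
  · -- count
    rw [← hNN]
    unfold Cfsg.Agent.Helper7.M11LA.inv
    have hcard5 : Nat.card (zpowers y) = 5 := hP
    rw [← hcard5]
    apply Nat.card_congr
    refine ⟨fun t => ⟨t.1 * f ^ 2, hsP t.1 t.2.2 t.2.1⟩,
      fun p => ⟨p.1 * f ^ 2, hPs p.1 p.2⟩, ?_, ?_⟩
    · intro t
      apply Subtype.ext
      show t.1 * f ^ 2 * f ^ 2 = t.1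
      rw [mul_assoc, hf2sq, mul_one]
    · intro p
      apply Subtype.ext
      show p.1 * f ^ 2 * f ^ 2 = p.1
      rw [mul_assoc, hf2sq, mul_one]
  · intro s hs hs2
    rw [← hNN] at hs
    refine ⟨?_, h57_inv_all y s (hinv s hs hs2)⟩
    -- s = p * f^2 with p := s * f^2; conjugator p^3
    have hp := hsP s hs hs2
    have hp5 := hq5 _ hp
    obtain ⟨q, hq⟩ : ∃ q, q = s * f ^ 2 := ⟨_, rfl⟩
    rw [← hq] at hp hp5
    refine ⟨q ^ 3, (zpowers y).pow_mem hp 3, ?_⟩
    have h1 := hfP (q ^ 3)⁻¹ ((zpowers y).inv_mem ((zpowers y).pow_mem hp 3))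
    rw [inv_inv] at h1
    calc q ^ 3 * f ^ 2 * (q ^ 3)⁻¹
        = q ^ 3 * (f ^ 2 * (q ^ 3)⁻¹ * (f ^ 2)⁻¹) * f ^ 2 := by group
      _ = q ^ 3 * q ^ 3 * f ^ 2 := by rw [h1]
      _ = q ^ 5 * q * f ^ 2 := by group
      _ = s * (f ^ 2 * f ^ 2) := by rw [hp5, one_mul, hq, mul_assoc]
      _ = s := by rw [hf2sq, mul_one]

end Cfsg.Agent.Helper57.M11LA
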