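import Mathlib
import Cfsg.Agent.Lib.Helper7.M11LADefs
import Cfsg.Agent.Lib.Helper57.M11LAK11

/-!
# M11LA piece (K12) `caseII_np` for helper7's server (S0435 / S0434).
-/

set_option autoImplicit false

namespace Cfsg.Agent.Helper57.M11LA

open Subgroup
open Cfsg.Agent.Helper7.M11LA

variable {G : Type*} [Group G] [Finite G]

omit [Finite G] in
/-- membership in a subgroup of relative index 2 -/
theorem h57_mul_mem_iff {H K : Subgroup G} (hHK : H ≤ K) (hpos : 0 < Nat.card H)
    (h : Nat.card K = 2 * Nat.card H)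
    {a b : G} (ha : a ∈ K) (hb : b ∈ K) : a * b ∈ H ↔ (a ∈ H ↔ b ∈ H) := by
  have hidx : (H.subgroupOf K).index = 2 := by
    have h1 := (H.subgroupOf K).index_mul_card
    have h2 : Nat.card (H.subgroupOf K) = Nat.card H :=
      Nat.card_congr (subgroupOfEquivOfLe hHK).toEquiv
    rw [h2, h] at h1
    exact Nat.eq_of_mul_eq_mul_right hpos h1
  have h3 := Subgroup.mul_mem_iff_of_index_two hidx (a := (⟨a, ha⟩ : K)) (b := (⟨b, hb⟩ : K))
  simpa [mem_subgroupOf] using h3

/-- the core of (K12), for `P = ⟨y⟩` -/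
theorem h57_caseII_core (y z : G) (hz : orderOf z = 2) (hy : orderOf y = 5) (hzy : Commute z y)
    (hN : Nat.card (normalizer ((zpowers y : Subgroup G) : Set G)) = 20)
    (hburn : ¬ normalizer ((zpowers y : Subgroup G) : Set G) ≤
      centralizer ((zpowers y : Subgroup G) : Set G)) :
    (∃ f : G, orderOf f = 4 ∧ f ^ 2 = z ∧
      Helper7.M11LA.inv (normalizer ((zpowers y : Subgroup G) : Set G)) = 1) ∨
    (∃ u : G, orderOf u = 2 ∧ u ≠ z ∧ Commute u z ∧ u * y * u⁻¹ = y⁻¹ ∧
      Helper7.M11LA.inv (normalizer ((zpowers y : Subgroup G) : Set G)) = 11) := by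
  have hp2 : Fact (Nat.Prime 2) := ⟨by norm_num⟩
  obtain ⟨N, hNN⟩ : ∃ N : Subgroup G, N = normalizer ((zpowers y : Subgroup G) : Set G) :=
    ⟨_, rfl⟩
  obtain ⟨C, hCC⟩ : ∃ C : Subgroup G, C = centralizer ((zpowers y : Subgroup G) : Set G) :=
    ⟨_, rfl⟩
  rw [← hNN] at hN ⊢
  rw [← hNN, ← hCC] at hburn
  have hy5 : y ^ 5 = 1 := by rw [← hy]; exact pow_orderOf_eq_one y
  have hzz : z * z = 1 := by rw [← pow_two, ← hz]; exact pow_orderOf_eq_one z
  have hz1 : z ≠ 1 := by
    intro h; rw [h, orderOf_one] at hz; norm_num at hz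
  have hq5 : ∀ q ∈ zpowers y, q ^ 5 = 1 := by
    intro q hq
    obtain ⟨n, rfl⟩ := mem_zpowers_iff.mp hq
    rw [← zpow_natCast, ← zpow_mul, mul_comm, zpow_mul, zpow_natCast, hy5, one_zpow]
  have hmemC : ∀ g, g ∈ C ↔ Commute g y := by
    intro g
    rw [hCC, mem_centralizer_iff]
    constructor
    · intro h; exact (h y (mem_zpowers y)).symm
    · intro h q hq
      obtain ⟨n, rfl⟩ := mem_zpowers_iff.mp hq
      exact ((h.zpow_right n).eq).symm
  have hPC : zpowers y ≤ C := by
    rw [zpowers_le, hmemC]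
  have hCN : C ≤ N := by
    rw [hCC, hNN]; exact centralizer_le_normalizer _
  have hzC : z ∈ C := (hmemC z).mpr hzy
  have hzP : z ∉ zpowers y := by
    intro h
    have h1 : orderOf z ∣ 5 := orderOf_dvd_of_pow_eq_one (hq5 z h)
    rw [hz] at h1; norm_num at h1
  have hPcard : Nat.card (zpowers y) = 5 := by rw [Nat.card_zpowers, hy]
  have hCcard : Nat.card C = 10 := by
    have h20 : Nat.card C ∣ 20 := hN ▸ Subgroup.card_dvd_of_le hCN
    have h5 : 5 ∣ Nat.card C := hPcard ▸ Subgroup.card_dvd_of_le hPC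
    have h2 : 2 ∣ Nat.card C := hz ▸ Subgroup.orderOf_dvd_natCard C hzC
    have hne : Nat.card C ≠ 20 := by
      intro h
      apply hburn
      have h3 : C = N := Subgroup.eq_of_le_of_card_ge hCN (by rw [h, hN])
      rw [h3]
    have hle : Nat.card C ≤ 20 := Nat.le_of_dvd (by norm_num) h20
    obtain ⟨k, hk⟩ := Nat.Coprime.mul_dvd_of_dvd_of_dvd (by norm_num : Nat.Coprime 2 5) h2 h5
    have hpos : 0 < Nat.card C := Nat.card_pos
    omega
  have hCN2 : ∀ {a b : G}, a ∈ N → b ∈ N → (a * b ∈ C ↔ (a ∈ C ↔ b ∈ C)) := fun ha hb =>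
    h57_mul_mem_iff hCN (by rw [hCcard]; norm_num) (by rw [hN, hCcard]) ha hb
  have hPC2 : ∀ {a b : G}, a ∈ C → b ∈ C →
      (a * b ∈ zpowers y ↔ (a ∈ zpowers y ↔ b ∈ zpowers y)) := fun ha hb =>
    h57_mul_mem_iff hPC (by rw [hPcard]; norm_num) (by rw [hCcard, hPcard]) ha hb
  have hC3 : ∀ c ∈ C, c ∈ zpowers y ∨ c * z ∈ zpowers y := by
    intro c hc
    by_cases h : c ∈ zpowers y
    · left; exact h
    · right
      rw [hPC2 hc hzC]
      exact ⟨fun h' => absurd h' h, fun h' => absurd h' hzP⟩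
  have hinvy : ∀ g ∈ N, g ∉ C → g * y * g⁻¹ = y⁻¹ := by
    intro g hg hgC
    have hg2 : g ^ 2 ∈ C := by rw [pow_two, hCN2 hg hg]
    rcases h57_commute_or_inv y g hy (hNN ▸ hg) ((hmemC _).mp hg2) with h | h
    · exact absurd ((hmemC g).mpr h) hgC
    · exact h
  have hinvP : ∀ g ∈ N, g ∉ C → ∀ q ∈ zpowers y, g * q * g⁻¹ = q⁻¹ :=
    fun g hg hgC => h57_inv_all y g (hinvy g hg hgC)
  have hzcomm : ∀ q ∈ zpowers y, z * q = q * z := by
    intro q hq
    have h1 := hzC
    rw [hCC, mem_centralizer_iff] at h1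
    exact (h1 q hq).symm
  -- `z` is the only involution of `C`
  have huniq : ∀ t ∈ C, orderOf t = 2 → t = z := by
    intro t ht ht2
    have htsq : t * t = 1 := by rw [← pow_two, ← ht2]; exact pow_orderOf_eq_one t
    rcases hC3 t ht with h | h
    · exfalso
      have h1 : orderOf t ∣ 5 := orderOf_dvd_of_pow_eq_one (hq5 t h)
      rw [ht2] at h1; norm_num at h1
    · have htp : (t * z) * t = t * (t * z) := by
        have h1 := ht
        rw [hCC, mem_centralizer_iff] at h1
        exact h1 _ h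
      have htz : z * t = t * z := mul_left_cancel (a := t) (by rw [← mul_assoc]; exact htp)
      obtain ⟨q, hq⟩ : ∃ q, q = t * z := ⟨_, rfl⟩
      have hq2 : q ^ 2 = 1 := by
        rw [pow_two, hq]
        calc t * z * (t * z) = t * (z * t) * z := by group
          _ = t * (t * z) * z := by rw [htz]
          _ = (t * t) * (z * z) := by group
          _ = 1 := by rw [htsq, hzz, mul_one]
      have hq5' : q ^ 5 = 1 := by rw [hq]; exact hq5 _ h
      have hq1 : q = 1 := by
        calc q = q ^ 5 * ((q ^ 2) ^ 2)⁻¹ := by group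
          _ = 1 := by rw [hq5', hq2]; simp
      rw [hq] at hq1
      have h2 : t = z⁻¹ := eq_inv_of_mul_eq_one_left hq1
      rw [h2]
      exact inv_eq_of_mul_eq_one_left hzz
  -- `z` is central in `N`
  have hzcent : ∀ g ∈ N, g * z * g⁻¹ = z := by
    intro g hg
    apply huniq
    · rw [hmemC]
      have hginv : g⁻¹ ∈ N := N.inv_mem hg
      have h1 : g⁻¹ * y * g ∈ zpowers y := by
        have h0 := (mem_normalizer_iff.mp (hNN ▸ hginv) y).mp (mem_zpowers y)
        rwa [inv_inv] at h0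
      have h2 := hzcomm _ h1
      show g * z * g⁻¹ * y = y * (g * z * g⁻¹)
      calc g * z * g⁻¹ * y = g * (z * (g⁻¹ * y * g)) * g⁻¹ := by group
        _ = g * ((g⁻¹ * y * g) * z) * g⁻¹ := by rw [h2]
        _ = y * (g * z * g⁻¹) := by group
    · rw [← MulAut.conj_apply, MulEquiv.orderOf_eq, hz]
  have hF8 : ∀ g ∈ N, g ∉ C → ∀ c ∈ C, g⁻¹ * c * g * c = 1 := by
    intro g hg hgC c hc
    have hgi : g⁻¹ ∈ N := N.inv_mem hg
    have hgiC : g⁻¹ ∉ C := fun h => hgC (by simpa using C.inv_mem h)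
    have hzg : g⁻¹ * z * g = z := by
      have h0 := hzcent g⁻¹ hgi
      rwa [inv_inv] at h0
    rcases hC3 c hc with h | h
    · have h0 := hinvP g⁻¹ hgi hgiC c h
      rw [inv_inv] at h0
      rw [h0, inv_mul_cancel]
    · have h1 := hinvP g⁻¹ hgi hgiC _ h
      rw [inv_inv] at h1
      have h2 : g⁻¹ * c * g = (c * z)⁻¹ * z⁻¹ := by
        calc g⁻¹ * c * g = (g⁻¹ * (c * z) * g) * (g⁻¹ * z * g)⁻¹ := by group
          _ = (c * z)⁻¹ * z⁻¹ := by rw [h1, hzg]
      rw [h2]
      have h3 := hzcomm _ h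
      have h4 : z * c = c * z := mul_right_cancel (b := z) (by rw [mul_assoc]; exact h3)
      calc (c * z)⁻¹ * z⁻¹ * c = (z * c * z)⁻¹ * c := by group
        _ = (c * z * z)⁻¹ * c := by rw [h4]
        _ = (c * (z * z))⁻¹ * c := by rw [mul_assoc]
        _ = 1 := by rw [hzz, mul_one, inv_mul_cancel]
  -- all elements of `N \ C` have the same square
  have hsq : ∀ g ∈ N, g ∉ C → ∀ h ∈ N, h ∉ C → h ^ 2 = g ^ 2 := by
    intro g hg hgC h hh hhC
    have hgi : g⁻¹ ∈ N := N.inv_mem hg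
    have hgiC : g⁻¹ ∉ C := fun h' => hgC (by simpa using C.inv_mem h')
    have hc : g⁻¹ * h ∈ C := by
      rw [hCN2 hgi hh]
      exact ⟨fun h' => absurd h' hgiC, fun h' => absurd h' hhC⟩
    have h0 := hF8 g hg hgC _ hc
    calc h ^ 2 = g ^ 2 * (g⁻¹ * (g⁻¹ * h) * g * (g⁻¹ * h)) := by rw [pow_two, pow_two]; group
      _ = g ^ 2 := by rw [h0, mul_one]
  -- a 2-element `w` of `N \ C`
  obtain ⟨g, hgN, hgC⟩ : ∃ g ∈ N, g ∉ C := by
    by_contra hcon
    push Not at hcon
    exact hburn hcon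
  have hg2C : g ^ 2 ∈ C := by rw [pow_two, hCN2 hgN hgN]
  obtain ⟨w, hw⟩ : ∃ w, w = g ^ 5 := ⟨_, rfl⟩
  have hwN : w ∈ N := hw ▸ N.pow_mem hgN 5
  have hwC : w ∉ C := by
    intro h
    apply hgC
    have h4 : g ^ 4 ∈ C := by
      have h0 := C.pow_mem hg2C 2
      rwa [← pow_mul] at h0
    have h5 : g = (g ^ 4)⁻¹ * w := by rw [hw]; group
    rw [h5]
    exact C.mul_mem (C.inv_mem h4) h
  have hw4 : w ^ 4 = 1 := by
    rw [hw, ← pow_mul]
    have h0 : orderOf g ∣ 20 := hN ▸ Subgroup.orderOf_dvd_natCard N hgN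
    exact orderOf_dvd_iff_pow_eq_one.mp h0
  have hw2C : w ^ 2 ∈ C := by rw [pow_two, hCN2 hwN hwN]
  have hw1 : w ≠ 1 := fun h => hwC (h ▸ C.one_mem)
  have hNncard : (N : Set G).ncard = 20 := by
    rw [← hN]; exact (Nat.card_coe_set_eq (N : Set G)).symm
  have hCncard : (C : Set G).ncard = 10 := by
    rw [← hCcard]; exact (Nat.card_coe_set_eq (C : Set G)).symm
  by_cases hw2 : w ^ 2 = 1
  · right
    refine ⟨w, orderOf_eq_prime hw2 hw1, fun h => hwC (h ▸ hzC), ?_, hinvy w hwN hwC, ?_⟩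
    · exact mul_inv_eq_iff_eq_mul.mp (hzcent w hwN)
    · show Set.ncard {t : G | orderOf t = 2 ∧ t ∈ N} = 11
      have hset : {t : G | orderOf t = 2 ∧ t ∈ N} = insert z ((N : Set G) \ (C : Set G)) := by
        ext t
        simp only [Set.mem_ofPred_eq, Set.mem_insert_iff, Set.mem_sdiff, SetLike.mem_coe]
        constructor
        · rintro ⟨ht2, htN⟩
          by_cases htC : t ∈ C
          · left; exact huniq t htC ht2
          · right; exact ⟨htN, htC⟩
        · rintro (rfl | ⟨htN, htC⟩)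
          · exact ⟨hz, hCN hzC⟩
          · refine ⟨orderOf_eq_prime ?_ (fun h => htC (h ▸ C.one_mem)), htN⟩
            rw [hsq w hwN hwC t htN htC, hw2]
      rw [hset, Set.ncard_insert_of_notMem (fun h => h.2 hzC) (Set.toFinite _),
        Set.ncard_sdiff (fun x hx => hCN hx) (Set.toFinite _), hNncard, hCncard]
  · left
    have hw2z : w ^ 2 = z := by
      apply huniq _ hw2C
      apply orderOf_eq_prime _ hw2
      rw [← pow_mul]; exact hw4
    refine ⟨w, ?_, hw2z, ?_⟩
    · have h0 : orderOf w = 2 ^ (1 + 1) :=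
        orderOf_eq_prime_pow (by simpa using hw2) (by simpa using hw4)
      simpa using h0
    · show Set.ncard {t : G | orderOf t = 2 ∧ t ∈ N} = 1
      have hset : {t : G | orderOf t = 2 ∧ t ∈ N} = {z} := by
        ext t
        simp only [Set.mem_ofPred_eq, Set.mem_singleton_iff]
        constructor
        · rintro ⟨ht2, htN⟩
          by_cases htC : t ∈ C
          · exact huniq t htC ht2
          · exfalso
            have h0 := hsq w hwN hwC t htN htC
            have h1 : t ^ 2 = 1 := by rw [← ht2]; exact pow_orderOf_eq_one t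
            rw [h1] at h0
            exact hw2 h0.symm
        · rintro rfl
          exact ⟨hz, hCN hzC⟩
      rw [hset, Set.ncard_singleton]

/-- (K12) Case II structure of `N(P)`. -/
theorem caseII_np (F : Facts G) (z y : G) (hz : orderOf z = 2) (hy : orderOf y = 5)
    (hzy : Commute z y) (P : Sylow 5 G) (hyP : y ∈ (P : Subgroup G)) :
    (∃ f : G, orderOf f = 4 ∧ f ^ 2 = z ∧ Helper7.M11LA.inv (normalizer ((P : Subgroup G) : Set G)) = 1) ∨
    (∃ u : G, orderOf u = 2 ∧ u ≠ z ∧ Commute u z ∧ u * y * u⁻¹ = y⁻¹ ∧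
      Helper7.M11LA.inv (normalizer ((P : Subgroup G) : Set G)) = 11) := by
  have hp5 : Fact (Nat.Prime 5) := ⟨by norm_num⟩
  have hNcard := F.np P
  have hPcard : Nat.card (P : Subgroup G) = 5 := by
    obtain ⟨n, hn⟩ := IsPGroup.iff_card.mp P.2
    have hdvd : Nat.card (P : Subgroup G) ∣ 20 := by
      rw [← hNcard]; exact Subgroup.card_dvd_of_le le_normalizer
    have h5 : 5 ∣ Nat.card (P : Subgroup G) := by
      have h0 : orderOf y ∣ Nat.card (P : Subgroup G) := Subgroup.orderOf_dvd_natCard _ hyP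
      rwa [hy] at h0
    rcases n with _ | _ | n
    · rw [hn] at h5; norm_num at h5
    · rw [hn]; norm_num
    · exfalso
      rw [hn] at hdvd
      have h25 : 25 ∣ 20 := Dvd.dvd.trans ⟨5 ^ n, by ring⟩ hdvd
      norm_num at h25
  have hPy : (P : Subgroup G) = zpowers y := h57_eq_zpowers _ hPcard y hyP hy
  have hburn : ¬ normalizer ((P : Subgroup G) : Set G) ≤
      centralizer ((P : Subgroup G) : Set G) := by
    intro hle
    have hcomp := MonoidHom.ker_transferSylow_isComplement' P hle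
    have hmul := hcomp.card_mul_card
    rw [hPcard, F.card] at hmul
    have hK : Nat.card (MonoidHom.transferSylow P hle).ker = 1584 := by omega
    have hsimple := F.simple
    rcases (MonoidHom.transferSylow P hle).normal_ker.eq_bot_or_eq_top with h | h
    · rw [h, Subgroup.card_bot] at hK; norm_num at hK
    · rw [h, Subgroup.card_top, F.card] at hK; norm_num at hK
  rw [hPy] at hNcard hburn ⊢
  exact h57_caseII_core y z hz hy hzy hNcard hburn

end Cfsg.Agent.Helper57.M11LA
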