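import Mathlib
import Cfsg.Prelude.Def_Sporadic
import Cfsg.Prelude.Def_Sporadic_a
import Cfsg.Agent.Lib.Helper7.M11UDefs
import Cfsg.Agent.Lib.Helper7.M11LAMain

/-!
# M11U (B0) for helper7's S0420 server: the standing facts `Base G` of a simple group of order 7920.
-/

set_option autoImplicit false
set_option linter.style.haveILetI false

namespace Cfsg.Agent.Helper57.M11U

open Subgroup Cfsg.Agent.Helper7.M11U
open scoped Pointwise

section L

variable {G : Type*} [Group G] [Finite G]

omit [Finite G] in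
theorem b0_centralizer_singleton_eq (x : G) :
    centralizer ({x} : Set G) = centralizer ((zpowers x : Subgroup G) : Set G) := by
  ext g
  rw [mem_centralizer_iff, mem_centralizer_iff]
  constructor
  · intro h y hy
    obtain ⟨k, rfl⟩ := Subgroup.mem_zpowers_iff.1 hy
    have hc : Commute x g := h x (Set.mem_singleton x)
    exact (hc.zpow_left k).eq
  · intro h y hy
    rw [Set.mem_singleton_iff] at hy
    rw [hy]
    exact h x (Subgroup.mem_zpowers x)

theorem b0_h11 (F : Cfsg.Agent.Helper7.M11LA.Facts G) (x : G) (hx : orderOf x = 11) :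
    Nat.card (centralizer ({x} : Set G)) = 11 := by
  haveI : Fact (Nat.Prime 11) := ⟨by norm_num⟩
  have hpg : IsPGroup 11 (zpowers x) := by
    apply IsPGroup.of_card (n := 1)
    rw [Nat.card_zpowers, hx]; norm_num
  obtain ⟨Q, hQ⟩ := hpg.exists_le_sylow
  have hQc : Nat.card (Q : Subgroup G) = 11 := Cfsg.Agent.Helper7.M11LA.card_sylow11 F.card Q
  have hzQ : zpowers x = (Q : Subgroup G) := by
    apply Subgroup.eq_of_le_of_card_ge hQ
    rw [hQc, Nat.card_zpowers, hx]
  rw [b0_centralizer_singleton_eq, hzQ]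
  exact F.cq Q

theorem b0_h5 (F : Cfsg.Agent.Helper7.M11LA.Facts G) (y : G) (hy : orderOf y = 5) :
    Nat.card (centralizer ({y} : Set G)) = 5 := by
  haveI : Fact (Nat.Prime 5) := ⟨by norm_num⟩
  have hpg : IsPGroup 5 (zpowers y) := by
    apply IsPGroup.of_card (n := 1)
    rw [Nat.card_zpowers, hy]; norm_num
  obtain ⟨P, hP⟩ := hpg.exists_le_sylow
  have hPc : Nat.card (P : Subgroup G) = 5 := Cfsg.Agent.Helper7.M11LA.card_sylow5 F.card P
  have hzP : zpowers y = (P : Subgroup G) := by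
    apply Subgroup.eq_of_le_of_card_ge hP
    rw [hPc, Nat.card_zpowers, hy]
  have hle : centralizer ({y} : Set G) ≤ normalizer ((P : Subgroup G) : Set G) := by
    rw [b0_centralizer_singleton_eq, hzP]
    exact Subgroup.centralizer_le_normalizer _
  have hd20 : Nat.card (centralizer ({y} : Set G)) ∣ 20 := by
    rw [← F.np P]; exact Subgroup.card_dvd_of_le hle
  have hd5 : 5 ∣ Nat.card (centralizer ({y} : Set G)) := by
    have h1 : zpowers y ≤ centralizer ({y} : Set G) := by
      rw [zpowers_le, mem_centralizer_iff]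
      intro h hh
      rw [Set.mem_singleton_iff] at hh
      rw [hh]
    have := Subgroup.card_dvd_of_le h1
    rwa [Nat.card_zpowers, hy] at this
  have hodd : ¬ 2 ∣ Nat.card (centralizer ({y} : Set G)) := by
    intro h2
    haveI : Fact (Nat.Prime 2) := ⟨Nat.prime_two⟩
    obtain ⟨z, hz⟩ := exists_prime_orderOf_dvd_card' (G := centralizer ({y} : Set G)) 2 h2
    have hz' : orderOf (z : G) = 2 := by rw [Subgroup.orderOf_coe]; exact hz
    have hcomm : Commute (z : G) y := by
      have := z.2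
      rw [mem_centralizer_iff] at this
      exact (this y (Set.mem_singleton y)).symm
    exact Cfsg.Agent.Helper7.M11LA.caseII F z y hz' hy hcomm
  generalize Nat.card (centralizer ({y} : Set G)) = c at *
  have hc20 : c ≤ 20 := Nat.le_of_dvd (by norm_num) hd20
  interval_cases c <;> omega

theorem b0_conj_sq (F : Cfsg.Agent.Helper7.M11LA.Facts G)
    (hI : ∀ z y : G, orderOf z = 2 → orderOf y = 5 → ¬ Commute z y)
    (h48 : ∀ t : G, orderOf t = 2 → Nat.card (centralizer ({t} : Set G)) = 48) :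
    ∃ f : G, orderOf f = 4 ∧ ∀ x : G, orderOf x = 2 → IsConj (f ^ 2) x := by
  haveI : Fact (Nat.Prime 5) := ⟨by norm_num⟩
  haveI := F.simple
  obtain ⟨P₀⟩ : Nonempty (Sylow 5 G) := inferInstance
  obtain ⟨f, hfN, hf4, hinv5, hs⟩ := Cfsg.Agent.Helper7.M11LA.caseI_np _
    (Cfsg.Agent.Helper7.M11LA.card_sylow5 F.card P₀) (F.np P₀) hI
  have ht₀ : orderOf (f ^ 2) = 2 := by
    rw [orderOf_pow' f (by norm_num), hf4]; norm_num
  have hi : Cfsg.Agent.Helper7.M11LA.inv (⊤ : Subgroup G) ≤ 165 := by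
    have := Cfsg.Agent.Helper7.M11LA.inv_bound F P₀
    rw [hinv5] at this
    omega
  have hmul := Cfsg.Agent.Helper7.M11LA.cls_mul_card_centralizer (f ^ 2)
  rw [F.card, h48 _ ht₀] at hmul
  have hk : Cfsg.Agent.Helper7.M11LA.cls (f ^ 2) = 165 := by omega
  have hall : Cfsg.Agent.Helper7.M11LA.cls (f ^ 2) = Cfsg.Agent.Helper7.M11LA.inv (⊤ : Subgroup G) :=
    le_antisymm (Cfsg.Agent.Helper7.M11LA.cls_le_inv _ ht₀) (hk ▸ hi)
  exact ⟨f, hf4, fun x hx => Cfsg.Agent.Helper7.M11LA.isConj_of_cls_eq_inv (f ^ 2) ht₀ hall x hx⟩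

/-- (B0) the standing facts.  From `Cfsg.Agent.Helper7.M11LA` (import Cfsg.Agent.Lib.Helper7.M11LAMain): `facts hc : Facts G`, `card_centralizer_involution hc x hx`
(= h48), `caseII F z y hz hy hzy : False` (no involution commutes with an element of order 5).  h11: `x` generates a Sylow 11-subgroup `Q`, `C(x) = C(Q)`, `F.cq`.
h5: `C(y) = C(P) ≤ N(P)` (order 20, `F.np`), contains `P`, and has odd order by `caseII`: order 5.  hconj: `cls t * 48 = 7920` (K6 `cls_mul_card_centralizer`) so
every class of involutions has 165 elements; `inv ⊤ ≤ 110 + 11 * inv(N(P)) = 165` (`inv_bound` + `caseI_np` gives `inv (N P) = 5`, exactly as in `M11LA.caseI`), so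
`isConj_of_cls_eq_inv`.  hsq: `caseI_np` gives `f` of order 4 in `N(P)`, `f²` an involution, all involutions are conjugate to it. -/
theorem base_of_simple (hs : IsSimpleGroup G) (hc : Nat.card G = 7920)
    (h144 : ∀ R : Sylow 3 G, Nat.card (normalizer ((R : Subgroup G) : Set G)) = 144) : Base G := by
  haveI := hs
  have F := Cfsg.Agent.Helper7.M11LA.facts (G := G) hc
  have hI : ∀ z y : G, orderOf z = 2 → orderOf y = 5 → ¬ Commute z y :=
    fun z y hz hy hzy => Cfsg.Agent.Helper7.M11LA.caseII F z y hz hy hzy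
  have h48 : ∀ t : G, orderOf t = 2 → Nat.card (centralizer ({t} : Set G)) = 48 :=
    fun t ht => Cfsg.Agent.Helper7.M11LA.card_centralizer_involution hc t ht
  obtain ⟨f, hf4, hconj⟩ := b0_conj_sq F hI h48
  refine ⟨hs, hc, h48, ?_, ?_, b0_h5 F, b0_h11 F, h144⟩
  · intro s t hs' ht'
    obtain ⟨c₁, hc₁⟩ := isConj_iff.mp (hconj s hs')
    obtain ⟨c₂, hc₂⟩ := isConj_iff.mp (hconj t ht')
    refine ⟨c₂ * c₁⁻¹, ?_⟩
    rw [← hc₁, ← hc₂]
    group
  · intro t ht'
    obtain ⟨c, hc'⟩ := isConj_iff.mp (hconj t ht')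
    refine ⟨c * f * c⁻¹, ?_⟩
    rw [← hc', pow_two, pow_two]
    group

end L

end Cfsg.Agent.Helper57.M11U
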