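import Mathlib
import Cfsg.Prelude.Def_OddOrderLocal
import Cfsg.Agent.Lib.Helper53.MC3Defs

set_option autoImplicit false

/-!
# MC3 (B3) for helper53's S4079 server: counting the fixed points of `a`.
-/

namespace Cfsg.Agent.Helper57.MC3

open Cfsg.Agent.Helper53.MC3
open Subgroup

universe u

section B
variable {L : Type*} [Group L] {p : ℕ} [Fact p.Prime]

/-- (B3) counting the fixed points of `a` on the `p`-group `L`: every fixed point has `p`-th power `1`
(else a suitable power has order exactly `p^2`, contradicting `h2`), so the fixed points are the `p` powers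
of `w2`. -/
theorem fixed_card [Finite L] (hL : IsPGroup p L) (a : MulAut L) (w2 : L) (hw2 : w2 ≠ 1)
    (hw2p : w2 ^ p = 1) (haw2 : a w2 = w2)
    (hfix : ∀ w : L, w ^ p = 1 → a w = w → ∃ k : ℕ, w = w2 ^ k)
    (h2 : ∀ g : L, g ^ p ^ 2 = 1 → a g = g → g ^ p = 1) :
    Nat.card {g : L // a g = g} = p := by
  classical
  have hp : p.Prime := Fact.out
  have key : ∀ g : L, a g = g → g ^ p = 1 := by
    intro g hg
    have hex : ∃ k, g ^ p ^ k = 1 := hL g
    have hmin := @Nat.find_min _ _ hex
    have hspec := Nat.find_spec hex
    generalize Nat.find hex = k at hmin hspec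
    by_cases hk1 : k ≤ 1
    · interval_cases k
      · have : g = 1 := by simpa using hspec
        rw [this, one_pow]
      · simpa using hspec
    · push Not at hk1
      exfalso
      have h' : (g ^ p ^ (k - 2)) ^ p = 1 := by
        apply h2
        · rw [← pow_mul, ← pow_add]
          have : k - 2 + 2 = k := by omega
          rw [this]; exact hspec
        · rw [map_pow, hg]
      apply hmin (m := k - 1) (by omega)
      rw [← pow_mul, ← pow_succ] at h'
      have : k - 2 + 1 = k - 1 := by omega
      rw [this] at h'
      exact h'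
  have hset : {g : L | a g = g} = (Subgroup.zpowers w2 : Set L) := by
    ext g
    simp only [Set.mem_ofPred_eq, SetLike.mem_coe]
    constructor
    · intro hg
      obtain ⟨k, rfl⟩ := hfix g (key g hg) hg
      exact Subgroup.pow_mem _ (Subgroup.mem_zpowers _) _
    · rintro ⟨z, rfl⟩
      simp only [map_zpow, haw2]
  have hcard : Nat.card {g : L // a g = g} = Nat.card (Subgroup.zpowers w2) :=
    Nat.card_congr (Equiv.setCongr hset)
  rw [hcard, Nat.card_zpowers, orderOf_eq_prime hw2p hw2]

end B

end Cfsg.Agent.Helper57.MC3
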