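import Mathlib
import Cfsg.Prelude.Def_OddOrderLocal
import Cfsg.Agent.Lib.Helper53.MC3Defs

set_option autoImplicit false

/-!
# MC3 (C2) for helper53's S4079 server: instantiate (C1) at `L ⋊ ⟨a⟩`.
-/

namespace Cfsg.Agent.Helper57.MC3

open Cfsg.Agent.Helper53.MC3
open Subgroup

universe u

/-- transport of the counting of `n`-torsion along `inl`. -/
theorem c2_card_inl {L : Type u} [Group L] {G : Type*} [Group G] (φ : G →* MulAut L) (n : ℕ) :
    Nat.card {x : SemidirectProduct L G φ //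
        x ∈ (SemidirectProduct.inl : L →* SemidirectProduct L G φ).range ∧ x ^ n = 1} =
      Nat.card {l : L // l ^ n = 1} := by
  symm
  apply Nat.card_congr
  refine Equiv.ofBijective (fun l => ⟨SemidirectProduct.inl l.1, ⟨l.1, rfl⟩, ?_⟩) ⟨?_, ?_⟩
  · rw [← map_pow, l.2, map_one]
  · intro l l' h
    have := congrArg Subtype.val h
    exact Subtype.ext (SemidirectProduct.inl_injective this)
  · rintro ⟨x, ⟨l, rfl⟩, hx⟩
    refine ⟨⟨l, ?_⟩, rfl⟩
    rw [← map_pow] at hx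
    exact SemidirectProduct.inl_injective (by rw [hx, map_one])

/-- (C2) plumbing: instantiate (C1) (given as hypothesis `hC1`, stated for the universe of `L`) with
`X = L ⋊ ⟨a⟩`, `Lh = (SemidirectProduct.inl).range`, `a := inr ⟨a, _⟩`.  `m ≥ 4` from `D.card2`
(`p^4 = #Ω₂ ≤ #L = 3^m`). -/
theorem exists_moved {L : Type u} [Group L] [Finite L] (D : OmData 3 L) (m : ℕ) (hm : Nat.card L = 3 ^ m)
    (a : MulAut L) (ha : orderOf a = 3)
    (hcl : Group.nilpotencyClass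
      (SemidirectProduct L ↥(Subgroup.zpowers a) (Subgroup.zpowers a).subtype) = m)
    (hC1 : ∀ {X : Type u} [Group X] [Finite X] (m : ℕ) (_ : 4 ≤ m)
      (_ : Nat.card X = 3 ^ (m + 1)) (_ : Group.nilpotencyClass X = m)
      (Lh : Subgroup X) [Lh.Normal]
      (_ : Nat.card {x : X // x ∈ Lh ∧ x ^ 3 = 1} = 9)
      (_ : ∀ x y : X, x ∈ Lh → y ∈ Lh → x ^ 3 = 1 → y ^ 3 = 1 → (x * y) ^ 3 = 1)
      (_ : Nat.card {x : X // x ∈ Lh ∧ x ^ 9 = 1} = 81)
      (_ : ∀ x y : X, x ∈ Lh → y ∈ Lh → x ^ 9 = 1 → y ^ 9 = 1 → (x * y) ^ 9 = 1)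
      (_ : ∀ x y : X, x ∈ Lh → y ∈ Lh → x ^ 9 = 1 → y ^ 9 = 1 → (x * y) ^ 3 = x ^ 3 * y ^ 3)
      (_ : ∃ c : X, ∀ x y : X, x ∈ Lh → y ∈ Lh → x * y * x⁻¹ * y⁻¹ ∈ Subgroup.zpowers c)
      (a : X) (_ : ∀ x : X, ∃ l ∈ Lh, ∃ k : ℕ, x = l * a ^ k)
      (_ : ∀ w : X, w ∈ Lh → w ^ 3 = 1 → a * w = w * a), False) :
    ∃ x : L, x ^ 3 = 1 ∧ a x ≠ x := by
  by_contra hcon
  push Not at hcon
  have hfo : IsOfFinOrder a := orderOf_pos_iff.mp (by rw [ha]; norm_num)
  have : Finite ↥(Subgroup.zpowers a) := (finite_zpowers.mpr hfo).to_subtype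
  have : Finite (SemidirectProduct L ↥(Subgroup.zpowers a) (Subgroup.zpowers a).subtype) :=
    Finite.of_equiv _ SemidirectProduct.equivProd.symm
  have e9 : (3 : ℕ) ^ 2 = 9 := by norm_num
  have c1 : Nat.card {x : L // x ^ 3 = 1} = 9 := by rw [D.card1]; norm_num
  have c2 : Nat.card {x : L // x ^ 9 = 1} = 81 := by
    have := D.card2
    rw [e9] at this
    rw [this]; norm_num
  have h4 : 4 ≤ m := by
    have h1 : Nat.card {x : L // x ^ 3 ^ 2 = 1} ≤ Nat.card L := Finite.card_subtype_le _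
    rw [D.card2, hm] at h1
    exact (Nat.pow_le_pow_iff_right (by norm_num)).mp h1
  have hXcard : Nat.card (SemidirectProduct L ↥(Subgroup.zpowers a) (Subgroup.zpowers a).subtype)
      = 3 ^ (m + 1) := by
    rw [SemidirectProduct.card, hm, Nat.card_zpowers, ha, pow_succ]
  have hnormal : ((SemidirectProduct.inl : L →* SemidirectProduct L ↥(Subgroup.zpowers a)
      (Subgroup.zpowers a).subtype).range).Normal := by
    rw [SemidirectProduct.range_inl_eq_ker_rightHom]; infer_instance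
  have hpow_inl : ∀ (l : L) (n : ℕ), (SemidirectProduct.inl l : SemidirectProduct L
      ↥(Subgroup.zpowers a) (Subgroup.zpowers a).subtype) ^ n = 1 → l ^ n = 1 := by
    intro l n h
    rw [← map_pow] at h
    exact SemidirectProduct.inl_injective (by rw [h, map_one])
  obtain ⟨c, hc⟩ := D.comm_cyc
  refine hC1 m h4 hXcard hcl ((SemidirectProduct.inl : L →* SemidirectProduct L
      ↥(Subgroup.zpowers a) (Subgroup.zpowers a).subtype).range) ?_ ?_ ?_ ?_ ?_ ?_
      (SemidirectProduct.inr ⟨a, Subgroup.mem_zpowers a⟩) ?_ ?_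
  · rw [c2_card_inl, c1]
  · rintro x y ⟨l, rfl⟩ ⟨l', rfl⟩ hx hy
    rw [← map_mul, ← map_pow, D.mul1 l l' (hpow_inl l 3 hx) (hpow_inl l' 3 hy), map_one]
  · rw [c2_card_inl, c2]
  · rintro x y ⟨l, rfl⟩ ⟨l', rfl⟩ hx hy
    have hl := hpow_inl l 9 hx
    have hl' := hpow_inl l' 9 hy
    rw [← e9] at hl hl'
    have := D.mul2 l l' hl hl'
    rw [e9] at this
    rw [← map_mul, ← map_pow, this, map_one]
  · rintro x y ⟨l, rfl⟩ ⟨l', rfl⟩ hx hy
    have hl := hpow_inl l 9 hx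
    have hl' := hpow_inl l' 9 hy
    rw [← e9] at hl hl'
    have := D.pow_mul l l' hl hl'
    rw [← map_mul, ← map_pow, this, map_mul, map_pow, map_pow]
  · refine ⟨SemidirectProduct.inl c, ?_⟩
    rintro x y ⟨l, rfl⟩ ⟨l', rfl⟩
    obtain ⟨z, hz⟩ := hc l l'
    have hz' : c ^ z = l * l' * l⁻¹ * l'⁻¹ := hz
    refine ⟨z, ?_⟩
    simp only
    rw [← map_zpow, hz', map_mul, map_mul, map_mul, map_inv, map_inv]
  · intro x
    refine ⟨SemidirectProduct.inl x.left, ⟨x.left, rfl⟩, ?_⟩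
    have hmem : (x.right : MulAut L) ∈ Submonoid.powers a :=
      hfo.mem_powers_iff_mem_zpowers.mpr x.right.2
    obtain ⟨k, hk⟩ := hmem
    refine ⟨k, ?_⟩
    have hr : x.right = (⟨a, Subgroup.mem_zpowers a⟩ : ↥(Subgroup.zpowers a)) ^ k := by
      apply Subtype.ext
      rw [Subgroup.coe_pow]
      exact hk.symm
    rw [← map_pow, ← hr, SemidirectProduct.inl_left_mul_inr_right]
  · rintro w ⟨l, rfl⟩ hw
    have hl := hcon l (hpow_inl l 3 hw)
    ext
    · simp [hl]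
    · simp

end Cfsg.Agent.Helper57.MC3
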