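import Mathlib
import Cfsg.Prelude.Def_Sporadic
import Cfsg.Prelude.Def_Sporadic_a
import Cfsg.Prelude.Def_Spor_Mathieu
import Cfsg.Agent.Lib.Helper7.M11UDefs
import Cfsg.Agent.Lib.Helper7.NSEDefs

/-!
# NSE (G1) for helper7's S3592 server: `s₁₁(G) = 10 · n₁₁(G)` for `|G| = 7920`.
-/

set_option autoImplicit false
set_option linter.style.haveILetI false

namespace Cfsg.Agent.Helper57.NSE

open Subgroup Cfsg.Agent.Helper7.M11U Cfsg.Agent.Helper7.NSE
open scoped Pointwise

universe u

section G

theorem g1_card_sylow11 {G : Type*} [Group G] [Finite G] (hord : Nat.card G = 7920) (P : Sylow 11 G) :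
    Nat.card (P : Subgroup G) = 11 := by
  haveI : Fact (Nat.Prime 11) := ⟨by norm_num⟩
  rw [Sylow.card_eq_multiplicity, hord]
  have : (7920 : ℕ).factorization 11 = 1 := by
    have h : (7920 : ℕ) = 11 ^ 1 * 720 := by norm_num
    rw [h, Nat.factorization_mul (by norm_num) (by norm_num), Nat.Prime.factorization_pow (by norm_num)]
    simp
    exact Nat.factorization_eq_zero_of_not_dvd (by norm_num)
  rw [this]; norm_num

/-- a Sylow 11-subgroup containing an element `g` of order 11 is `zpowers g` -/
theorem g1_eq_zpowers {G : Type*} [Group G] [Finite G] (hord : Nat.card G = 7920) (P : Sylow 11 G)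
    (g : G) (hg : orderOf g = 11) (hgP : g ∈ (P : Subgroup G)) : (P : Subgroup G) = zpowers g := by
  symm
  apply Subgroup.eq_of_le_of_card_ge
  · rw [zpowers_le]; exact hgP
  · rw [g1_card_sylow11 hord P, Nat.card_zpowers, hg]

theorem g1_card_ne_one {G : Type*} [Group G] [Finite G] (hord : Nat.card G = 7920) (P : Sylow 11 G) :
    Nat.card {g : G // g ∈ (P : Subgroup G) ∧ g ≠ 1} = 10 := by
  classical
  have h1 : {g : G | g ∈ (P : Subgroup G) ∧ g ≠ 1} = ((P : Subgroup G) : Set G) \ {1} := by
    ext g
    simp only [Set.mem_ofPred_eq, Set.mem_sdiff, SetLike.mem_coe, Set.mem_singleton_iff]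
  have h2 : Nat.card {g : G // g ∈ (P : Subgroup G) ∧ g ≠ 1} =
      (((P : Subgroup G) : Set G) \ {1}).ncard := by
    rw [← h1, ← Nat.card_coe_set_eq]
    rfl
  rw [h2, Set.ncard_sdiff_singleton_of_mem (Subgroup.one_mem _), ← Nat.card_coe_set_eq]
  have : Nat.card ↥((P : Subgroup G) : Set G) = Nat.card (P : Subgroup G) := rfl
  rw [this, g1_card_sylow11 hord P]

/-- (G1) an element of order 11 generates a Sylow 11-subgroup (`|P| = 11` since `11² ∤ 7920`), the unique one containing it; each Sylow 11-subgroup has 10 elements of order 11. -/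
theorem card_order_eleven {G : Type*} [Group G] [Finite G] (hc : Nat.card G = 7920) :
    sn G 11 = 10 * Nat.card (Sylow 11 G) := by
  classical
  haveI : Fact (Nat.Prime 11) := ⟨by norm_num⟩
  haveI : Fintype (Sylow 11 G) := Fintype.ofFinite _
  -- every element of order 11 lies in a Sylow 11-subgroup
  have hex : ∀ g : G, orderOf g = 11 → ∃ P : Sylow 11 G, g ∈ (P : Subgroup G) := by
    intro g hg
    have hpg : IsPGroup 11 (zpowers g) := by
      apply IsPGroup.of_card (n := 1)
      rw [Nat.card_zpowers, hg]; norm_num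
    obtain ⟨Q, hQ⟩ := hpg.exists_le_sylow
    exact ⟨Q, hQ (Subgroup.mem_zpowers g)⟩
  let e : {g : G // orderOf g = 11} ≃ Σ P : Sylow 11 G, {g : G // g ∈ (P : Subgroup G) ∧ g ≠ 1} :=
    { toFun := fun g => ⟨Classical.choose (hex g.1 g.2), g.1, Classical.choose_spec (hex g.1 g.2), by
        intro h1
        have := g.2
        rw [h1, orderOf_one] at this
        omega⟩
      invFun := fun x => ⟨x.2.1, by
        have hmem := x.2.2.1
        have hne := x.2.2.2
        have hd : orderOf x.2.1 ∣ 11 := by
          have h1 : orderOf (⟨x.2.1, hmem⟩ : (x.1 : Subgroup G)) ∣ Nat.card (x.1 : Subgroup G) :=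
            orderOf_dvd_natCard _
          rw [g1_card_sylow11 hc x.1, Subgroup.orderOf_mk] at h1
          exact h1
        rcases (Nat.dvd_prime (by norm_num : Nat.Prime 11)).mp hd with h | h
        · exact absurd (orderOf_eq_one_iff.mp h) hne
        · exact h⟩
      left_inv := fun g => Subtype.ext rfl
      right_inv := by
        rintro ⟨P, g, hgP, hg1⟩
        have hg11 : orderOf g = 11 := by
          have hd : orderOf g ∣ 11 := by
            have h1 : orderOf (⟨g, hgP⟩ : (P : Subgroup G)) ∣ Nat.card (P : Subgroup G) :=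
              orderOf_dvd_natCard _
            rw [g1_card_sylow11 hc P, Subgroup.orderOf_mk] at h1
            exact h1
          rcases (Nat.dvd_prime (by norm_num : Nat.Prime 11)).mp hd with h | h
          · exact absurd (orderOf_eq_one_iff.mp h) hg1
          · exact h
        have hP' : Classical.choose (hex g hg11) = P := by
          apply Sylow.ext
          rw [g1_eq_zpowers hc _ g hg11 (Classical.choose_spec (hex g hg11)),
            g1_eq_zpowers hc P g hg11 hgP]
        simp only
        subst hP'
        rfl }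
  unfold sn
  rw [Nat.card_congr e, Nat.card_sigma]
  simp only [g1_card_ne_one hc]
  rw [Finset.sum_const, Finset.card_univ, smul_eq_mul, mul_comm, Nat.card_eq_fintype_card]

end G

end Cfsg.Agent.Helper57.NSE
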