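import Mathlib
import Cfsg.Prelude.Def_Sporadic
import Cfsg.Prelude.Def_Sporadic_a
import Cfsg.Prelude.Def_Spor_Mathieu
import Cfsg.Agent.Lib.Helper7.M11UDefs
import Cfsg.Agent.Lib.Helper7.NSEDefs

/-!
# NSE (G5b) for helper7's S3592 server: fixed points of a group of order 11 normalising `T`.
-/

set_option autoImplicit false
set_option linter.style.haveILetI false

namespace Cfsg.Agent.Helper57.NSE

open Subgroup Cfsg.Agent.Helper7.M11U Cfsg.Agent.Helper7.NSE
open scoped Pointwise

universe u

section G

/-- the conjugation action of `P ≤ N(T)` on (the elements of) `T` -/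
@[reducible] def g5bAction {G : Type*} [Group G] (P T : Subgroup G) (hPT : P ≤ normalizer (T : Set G)) :
    MulAction P T where
  smul x y := ⟨(x : G) * (y : G) * (x : G)⁻¹,
    (Subgroup.mem_normalizer_iff.mp (hPT x.2) (y : G)).mp y.2⟩
  one_smul y := by
    apply Subtype.ext
    show ((1 : P) : G) * (y : G) * ((1 : P) : G)⁻¹ = y
    simp
  mul_smul x x' y := by
    apply Subtype.ext
    show ((x * x' : P) : G) * (y : G) * ((x * x' : P) : G)⁻¹ =
      (x : G) * ((x' : G) * (y : G) * (x' : G)⁻¹) * (x : G)⁻¹
    simp only [Subgroup.coe_mul, mul_inv_rev]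
    group

/-- (G5b) `P` of order 11 acts on (the elements of) `T` by conjugation; the fixed points are `T ⊓ C(P)`; `IsPGroup.card_modEq_card_fixedPoints`
(action of `↥P` on `↥T`: `x • y = ⟨x y x⁻¹, _⟩`, e.g. via `MulAut.conjNormal` in `↥(normalizer T)` or a hand-made `MulAction`). -/
theorem card_modEq_of_normalizes {G : Type*} [Group G] [Finite G] (P : Subgroup G) (hP : Nat.card P = 11)
    (T : Subgroup G) (hPT : P ≤ normalizer (T : Set G)) :
    Nat.card T ≡ Nat.card (T ⊓ centralizer (P : Set G) : Subgroup G) [MOD 11] := by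
  classical
  haveI : Fact (Nat.Prime 11) := ⟨by norm_num⟩
  letI : MulAction P T := g5bAction P T hPT
  have hpg : IsPGroup 11 P := IsPGroup.of_card (n := 1) (by rw [hP]; norm_num)
  have h := hpg.card_modEq_card_fixedPoints (α := T)
  have hsmul : ∀ (x : P) (y : T), ((x • y : T) : G) = (x : G) * (y : G) * (x : G)⁻¹ := fun _ _ => rfl
  have hcard : Nat.card (MulAction.fixedPoints P T) =
      Nat.card (T ⊓ centralizer (P : Set G) : Subgroup G) := by
    apply Nat.card_congr
    refine
      { toFun := fun y => ⟨(y.1 : G), ?_⟩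
        invFun := fun z => ⟨⟨(z : G), (Subgroup.mem_inf.mp z.2).1⟩, ?_⟩
        left_inv := fun y => by apply Subtype.ext; apply Subtype.ext; rfl
        right_inv := fun z => by apply Subtype.ext; rfl }
    · refine Subgroup.mem_inf.mpr ⟨y.1.2, ?_⟩
      rw [Subgroup.mem_centralizer_iff]
      intro x hx
      have hfix : (⟨x, hx⟩ : P) • y.1 = y.1 := y.2 ⟨x, hx⟩
      have h1 : x * (y.1 : G) * x⁻¹ = (y.1 : G) := by
        have := congrArg (Subtype.val : T → G) hfix
        rwa [hsmul] at this
      calc x * (y.1 : G) = (x * (y.1 : G) * x⁻¹) * x := by group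
        _ = (y.1 : G) * x := by rw [h1]
    · intro x
      apply Subtype.ext
      rw [hsmul]
      have hz := (Subgroup.mem_inf.mp z.2).2
      rw [Subgroup.mem_centralizer_iff] at hz
      have h1 : (x : G) * (z : G) = (z : G) * (x : G) := hz (x : G) x.2
      show (x : G) * (z : G) * (x : G)⁻¹ = (z : G)
      rw [h1]; group
  rw [← hcard]
  exact h

end G

end Cfsg.Agent.Helper57.NSE
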