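import Mathlib
import Cfsg.Prelude.Def_Sporadic
import Cfsg.Prelude.Def_Sporadic_a
import Cfsg.Prelude.Def_Spor_Mathieu
import Cfsg.Agent.Lib.Helper7.M11UDefs
import Cfsg.Agent.Lib.Helper7.NSEDefs

/-!
# NSE (M5) for helper7's S3592 server: `|H| ≤ s_{o(g)} · |C(g)|`.
-/

set_option autoImplicit false

namespace Cfsg.Agent.Helper57.NSE

open Subgroup Cfsg.Agent.Helper7.M11U Cfsg.Agent.Helper7.NSE
open scoped Pointwise

universe u

section M

variable {H : Type*} [Group H] [Finite H]

/-- (M5) the conjugacy class of `g` has `|H| / |C(g)|` elements, all of order `o(g)`. -/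
theorem card_le_sn_mul_centralizer (g : H) :
    Nat.card H ≤ sn H (orderOf g) * Nat.card (centralizer ({g} : Set H)) := by
  classical
  set C : Subgroup H := centralizer ({g} : Set H) with hC
  -- the map `qC ↦ q g q⁻¹`
  let f : H ⧸ C → {x : H // orderOf x = orderOf g} :=
    Quotient.lift (s := QuotientGroup.leftRel C)
      (fun q => ⟨q * g * q⁻¹, by
        have : q * g * q⁻¹ = MulAut.conj q g := by simp [MulAut.conj_apply]
        rw [this, MulEquiv.orderOf_eq]⟩)
      (by
        intro a b hab
        replace hab : QuotientGroup.leftRel C a b := hab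
        rw [QuotientGroup.leftRel_apply] at hab
        have hc : (a⁻¹ * b) * g = g * (a⁻¹ * b) := by
          have := (Subgroup.mem_centralizer_iff.mp hab) g (Set.mem_singleton g)
          exact this.symm
        apply Subtype.ext
        show a * g * a⁻¹ = b * g * b⁻¹
        have h1 : b = a * (a⁻¹ * b) := by group
        rw [h1, mul_assoc a (a⁻¹ * b) g, hc]
        group)
  have hf : Function.Injective f := by
    intro x y
    induction x using Quotient.inductionOn with
    | h a =>
      induction y using Quotient.inductionOn with
      | h b =>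
        intro hab
        have hab' : a * g * a⁻¹ = b * g * b⁻¹ := congrArg Subtype.val hab
        apply Quotient.sound
        show QuotientGroup.leftRel C a b
        rw [QuotientGroup.leftRel_apply, hC, Subgroup.mem_centralizer_iff]
        intro h hh
        rw [Set.mem_singleton_iff] at hh
        rw [hh]
        have : g = a⁻¹ * (b * g * b⁻¹) * a := by rw [← hab']; group
        calc g * (a⁻¹ * b) = (a⁻¹ * (b * g * b⁻¹) * a) * (a⁻¹ * b) := by rw [← this]
          _ = a⁻¹ * b * g := by group
  have hle : Nat.card (H ⧸ C) ≤ sn H (orderOf g) := Nat.card_le_card_of_injective f hf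
  have hlag : Nat.card H = Nat.card (H ⧸ C) * Nat.card C := Subgroup.card_eq_card_quotient_mul_card_subgroup C
  rw [hlag]
  exact Nat.mul_le_mul_right _ hle

end M

end Cfsg.Agent.Helper57.NSE
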