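import Mathlib
import Cfsg.Prelude.Def_Transfer

set_option autoImplicit false

namespace Cfsg.Agent.Helper57

open Equiv

section transport
variable {G W : Type*} [Group G] [Group W]

theorem isElementaryAbelian_map (f : G →* W) (p : ℕ) (E : Subgroup G)
    (hE : Cfsg.IsElementaryAbelian p E) : Cfsg.IsElementaryAbelian p (E.map f) := by
  obtain ⟨hc, he⟩ := hE
  refine ⟨⟨⟨?_⟩⟩, ?_⟩
  · rintro ⟨_, ⟨a, ha, rfl⟩⟩ ⟨_, ⟨b, hb, rfl⟩⟩
    apply Subtype.ext
    change f a * f b = f b * f a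
    have h1 : (⟨a, ha⟩ : E) * ⟨b, hb⟩ = ⟨b, hb⟩ * ⟨a, ha⟩ := hc.is_comm.comm _ _
    have h2 : a * b = b * a := congrArg Subtype.val h1
    rw [← map_mul, ← map_mul, h2]
  · rintro _ ⟨a, ha, rfl⟩
    rw [← map_pow, he a ha, map_one]

/-- the normal `2`-rank statement is invariant under isomorphism -/
theorem normalRank_transport (e : G ≃* W) (k : ℕ)
    (h : (∃ E : Subgroup W, E.Normal ∧ Cfsg.IsElementaryAbelian 2 E ∧ 2 ^ k ≤ Nat.card E) ∧
      ∀ E : Subgroup W, E.Normal → Cfsg.IsElementaryAbelian 2 E → Nat.card E ≤ 2 ^ k) :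
    (∃ E : Subgroup G, E.Normal ∧ Cfsg.IsElementaryAbelian 2 E ∧ 2 ^ k ≤ Nat.card E) ∧
      ∀ E : Subgroup G, E.Normal → Cfsg.IsElementaryAbelian 2 E → Nat.card E ≤ 2 ^ k := by
  obtain ⟨⟨E, hEn, hEe, hEc⟩, hall⟩ := h
  constructor
  · refine ⟨E.map e.symm.toMonoidHom, hEn.map _ e.symm.surjective,
      isElementaryAbelian_map _ 2 E hEe, ?_⟩
    rw [Subgroup.card_map_of_injective e.symm.injective]
    exact hEc
  · intro E' hn he
    have := hall (E'.map e.toMonoidHom) (hn.map _ e.surjective) (isElementaryAbelian_map _ 2 E' he)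
    rwa [Subgroup.card_map_of_injective e.injective] at this

end transport

section wr
variable {n : ℕ} {D H : Type*} [Group D] [Group H]

/-- a normal subgroup of exponent `2` of a wreath product `D ≀ H`, where `D` has an element of
order greater than `2`, lies in the base group -/
theorem right_eq_one_of_normal_exp_two (ι : H →* Perm (Fin n)) (hι : Function.Injective ι)
    (φ : H →* MulAut (Fin n → D)) (hφ : ∀ h f i, φ h f i = f ((ι h)⁻¹ i))
    (x₄ : D) (hx₄ : x₄ ^ 2 ≠ 1) (E : Subgroup ((Fin n → D) ⋊[φ] H)) (hE : E.Normal)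
    (hexp : ∀ a ∈ E, a ^ 2 = 1) (a : (Fin n → D) ⋊[φ] H) (ha : a ∈ E) : a.right = 1 := by
  classical
  by_contra hne
  have hne' : ι a.right ≠ 1 := by
    intro h1
    apply hne
    apply hι
    rw [h1, map_one]
  obtain ⟨i, hi⟩ : ∃ i, ι a.right i ≠ i := by
    by_contra hall
    apply hne'
    ext j
    have hj : ι a.right j = j := by
      by_contra hj
      exact hall ⟨j, hj⟩
    rw [hj]
    rfl
  let g : Fin n → D := Pi.mulSingle i x₄
  let b : (Fin n → D) ⋊[φ] H := SemidirectProduct.inl g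
  let k : Fin n → D := a.left * φ a.right g * a.left⁻¹ * g⁻¹
  have hc : a * b * a⁻¹ * b⁻¹ ∈ E := by
    have h1 : b * a⁻¹ * b⁻¹ ∈ E := hE.conj_mem a⁻¹ (E.inv_mem ha) b
    have h2 := E.mul_mem ha h1
    have h3 : a * (b * a⁻¹ * b⁻¹) = a * b * a⁻¹ * b⁻¹ := by group
    rwa [h3] at h2
  have hck : a * b * a⁻¹ * b⁻¹ = SemidirectProduct.inl k := by
    have h1 : (SemidirectProduct.inl k : (Fin n → D) ⋊[φ] H) =
        SemidirectProduct.inl a.left * (SemidirectProduct.inr a.right * SemidirectProduct.inl g *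
          SemidirectProduct.inr a.right⁻¹) * (SemidirectProduct.inl a.left)⁻¹ *
          (SemidirectProduct.inl g)⁻¹ := by
      rw [← SemidirectProduct.inl_aut, ← map_inv, ← map_inv, ← map_mul, ← map_mul, ← map_mul]
    rw [h1]
    change a * SemidirectProduct.inl g * a⁻¹ * (SemidirectProduct.inl g)⁻¹ = _
    conv_lhs => rw [← SemidirectProduct.inl_left_mul_inr_right a]
    rw [map_inv]
    group
  have h2 := hexp _ hc
  rw [hck, ← map_pow] at h2
  have h3 : k ^ 2 = 1 := by
    apply SemidirectProduct.inl_injective (φ := φ)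
    rw [h2, map_one]
  have h4 := congrFun h3 i
  rw [Pi.pow_apply, Pi.one_apply] at h4
  have hki : k i = x₄⁻¹ := by
    change a.left i * (φ a.right g) i * (a.left i)⁻¹ * (g i)⁻¹ = x₄⁻¹
    rw [hφ]
    have hne2 : (ι a.right)⁻¹ i ≠ i := by
      intro h5
      apply hi
      have h6 := congrArg (ι a.right) h5
      have h7 : (ι a.right) ((ι a.right)⁻¹ i) = i := by simp
      rw [h7] at h6
      exact h6.symm
    change a.left i * (Pi.mulSingle i x₄ : Fin n → D) ((ι a.right)⁻¹ i) * (a.left i)⁻¹ *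
      ((Pi.mulSingle i x₄ : Fin n → D) i)⁻¹ = x₄⁻¹
    rw [Pi.mulSingle_eq_of_ne hne2, Pi.mulSingle_eq_same, mul_one, mul_inv_cancel, one_mul]
  rw [hki, inv_pow, inv_eq_one] at h4
  exact hx₄ h4

/-- elements of the base group with trivial square have coordinates of trivial square -/
theorem left_sq_of_right_eq_one (φ : H →* MulAut (Fin n → D)) (a : (Fin n → D) ⋊[φ] H)
    (har : a.right = 1) (ha2 : a ^ 2 = 1) (i : Fin n) : (a.left i) ^ 2 = 1 := by
  have h1 := congrArg SemidirectProduct.left ha2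
  rw [sq, SemidirectProduct.mul_left, har, map_one, SemidirectProduct.one_left] at h1
  have h2 := congrFun h1 i
  rw [sq]
  exact h2

variable (ι : H →* Perm (Fin n)) (φ : H →* MulAut (Fin n → D))

/-- the central elementary abelian subgroup `⟨z⟩^n` of the base group -/
def baseCenterHom (z₀ : D) : (Fin n → Subgroup.zpowers z₀) →* (Fin n → D) ⋊[φ] H :=
  (SemidirectProduct.inl).comp ((Subgroup.zpowers z₀).subtype.compLeft (Fin n))

theorem baseCenterHom_injective (z₀ : D) : Function.Injective (baseCenterHom φ z₀) := by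
  intro c c' h
  have h1 := SemidirectProduct.inl_injective h
  funext i
  apply Subtype.ext
  exact congrFun h1 i

theorem card_baseCenter (z₀ : D) (hz2 : z₀ ^ 2 = 1) (hz1 : z₀ ≠ 1) :
    Nat.card (baseCenterHom φ z₀).range = 2 ^ n := by
  rw [Nat.card_congr (MonoidHom.ofInjective (baseCenterHom_injective φ z₀)).symm.toEquiv,
    Nat.card_fun, Nat.card_zpowers, orderOf_eq_prime hz2 hz1, Nat.card_eq_fintype_card,
    Fintype.card_fin]

theorem baseCenter_elementary (z₀ : D) (hz2 : z₀ ^ 2 = 1) :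
    Cfsg.IsElementaryAbelian 2 (baseCenterHom φ z₀).range := by
  have hcomm : ∀ c c' : Fin n → Subgroup.zpowers z₀, c * c' = c' * c := by
    intro c c'
    funext i
    apply Subtype.ext
    obtain ⟨m, hm⟩ := Subgroup.mem_zpowers_iff.mp (c i).2
    obtain ⟨m', hm'⟩ := Subgroup.mem_zpowers_iff.mp (c' i).2
    change ((c i : Subgroup.zpowers z₀) : D) * (c' i : D) = (c' i : D) * (c i : D)
    rw [← hm, ← hm', ← zpow_add, ← zpow_add, add_comm]
  refine ⟨⟨⟨?_⟩⟩, ?_⟩
  · rintro ⟨_, ⟨c, rfl⟩⟩ ⟨_, ⟨c', rfl⟩⟩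
    apply Subtype.ext
    change baseCenterHom φ z₀ c * baseCenterHom φ z₀ c' =
      baseCenterHom φ z₀ c' * baseCenterHom φ z₀ c
    rw [← map_mul, ← map_mul, hcomm]
  · rintro _ ⟨c, rfl⟩
    rw [← map_pow]
    have : c ^ 2 = 1 := by
      funext i
      apply Subtype.ext
      obtain ⟨m, hm⟩ := Subgroup.mem_zpowers_iff.mp (c i).2
      rw [Pi.pow_apply, Pi.one_apply, Subgroup.coe_pow, Subgroup.coe_one, ← hm, ← zpow_natCast,
        ← zpow_mul, mul_comm, zpow_mul, zpow_natCast, hz2, one_zpow]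
    rw [this, map_one]

theorem baseCenter_normal (hφ : ∀ h f i, φ h f i = f ((ι h)⁻¹ i)) (z₀ : D)
    (hzc : z₀ ∈ Subgroup.center D) : (baseCenterHom φ z₀).range.Normal := by
  have hle : Subgroup.zpowers z₀ ≤ Subgroup.center D := by
    rw [Subgroup.zpowers_le]
    exact hzc
  constructor
  rintro _ ⟨c, rfl⟩ w
  refine ⟨fun i => c ((ι w.right)⁻¹ i), ?_⟩
  have h1 : w * baseCenterHom φ z₀ c * w⁻¹ =
      SemidirectProduct.inl w.left * (SemidirectProduct.inr w.right *
        SemidirectProduct.inl ((Subgroup.zpowers z₀).subtype.compLeft (Fin n) c) *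
        SemidirectProduct.inr w.right⁻¹) * SemidirectProduct.inl w.left⁻¹ := by
    conv_lhs => rw [← SemidirectProduct.inl_left_mul_inr_right w]
    rw [map_inv, map_inv]
    change _ * SemidirectProduct.inl ((Subgroup.zpowers z₀).subtype.compLeft (Fin n) c) * _ = _
    group
  rw [h1, ← SemidirectProduct.inl_aut, ← map_mul, ← map_mul]
  change SemidirectProduct.inl _ = SemidirectProduct.inl _
  congr 1
  funext i
  change ((c ((ι w.right)⁻¹ i) : Subgroup.zpowers z₀) : D) =
    w.left i * (φ w.right ((Subgroup.zpowers z₀).subtype.compLeft (Fin n) c)) i * (w.left i)⁻¹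
  rw [hφ]
  change _ = w.left i * ((c ((ι w.right)⁻¹ i) : Subgroup.zpowers z₀) : D) * (w.left i)⁻¹
  have hcen := hle (c ((ι w.right)⁻¹ i)).2
  rw [Subgroup.mem_center_iff] at hcen
  rw [hcen, mul_inv_cancel_right]

/-- the normal `2`-rank of `D ≀ H` when `D` has a unique involution and exponent `> 2` -/
theorem normalRank_wr (hι : Function.Injective ι) (hφ : ∀ h f i, φ h f i = f ((ι h)⁻¹ i))
    (z₀ : D) (hz2 : z₀ ^ 2 = 1) (hz1 : z₀ ≠ 1) (hzc : z₀ ∈ Subgroup.center D)
    (huniq : ∀ d : D, d ^ 2 = 1 → d = 1 ∨ d = z₀) (x₄ : D) (hx₄ : x₄ ^ 2 ≠ 1)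
    [Finite ((Fin n → D) ⋊[φ] H)] :
    (∃ E : Subgroup ((Fin n → D) ⋊[φ] H), E.Normal ∧ Cfsg.IsElementaryAbelian 2 E ∧
      2 ^ n ≤ Nat.card E) ∧
    ∀ E : Subgroup ((Fin n → D) ⋊[φ] H), E.Normal → Cfsg.IsElementaryAbelian 2 E →
      Nat.card E ≤ 2 ^ n := by
  constructor
  · exact ⟨(baseCenterHom φ z₀).range, baseCenter_normal ι φ hφ z₀ hzc,
      baseCenter_elementary φ z₀ hz2, (card_baseCenter φ z₀ hz2 hz1).ge⟩
  · intro E hEn hEe
    rw [← card_baseCenter φ z₀ hz2 hz1]
    apply Subgroup.card_le_of_le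
    intro a ha
    have har := right_eq_one_of_normal_exp_two ι hι φ hφ x₄ hx₄ E hEn hEe.2 a ha
    have hsq := left_sq_of_right_eq_one φ a har (hEe.2 a ha)
    have hmem : ∀ i, a.left i ∈ Subgroup.zpowers z₀ := by
      intro i
      rcases huniq _ (hsq i) with h | h
      · rw [h]; exact Subgroup.one_mem _
      · rw [h]; exact Subgroup.mem_zpowers _
    refine ⟨fun i => ⟨a.left i, hmem i⟩, ?_⟩
    ext1
    · rfl
    · change (1 : H) = a.right
      rw [har]

end wr

end Cfsg.Agent.Helper57
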