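import Mathlib
import Cfsg.Agent.Lib.Helper57.RegWreathDer

set_option autoImplicit false

namespace Cfsg.Agent.Helper57

open Equiv RegularWreathProduct

section defs
variable (ι : Type*) (C : Type*) [Group C]

/-- permutations of `ι` act on functions on `ι` -/
def piActG : Perm ι →* MulAut (ι → C) where
  toFun σ :=
    { toFun := fun f i => f (σ⁻¹ i)
      invFun := fun f i => f (σ i)
      left_inv := fun f => by funext i; simp
      right_inv := fun f => by funext i; simp
      map_mul' := fun f g => rfl }
  map_one' := by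
    ext f i; simp
  map_mul' σ τ := by
    ext f i; simp [mul_inv_rev]

/-- the permutational wreath product `C ≀ Sym(ι)` -/
abbrev WrG := (ι → C) ⋊[piActG ι C] Perm ι

variable {ι C}

theorem piActG_apply (σ : Perm ι) (f : ι → C) (i : ι) : piActG ι C σ f i = f (σ⁻¹ i) := rfl

theorem WrG.mul_left_apply (a b : WrG ι C) (i : ι) :
    (a * b).left i = a.left i * b.left (a.right⁻¹ i) := rfl

end defs

section step
variable {ι : Type*} {C : Type*} [Group C] {X : Type*} [Group X] {Q : Type*} [Group Q]

/-- one wreath step: `X ≀ᵣ Q → C ≀ Sym(ι × Q)` -/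
def wrStepFun (Ψ : X →* WrG ι C) (a : X ≀ᵣ Q) : WrG (ι × Q) C :=
  ⟨fun p => (Ψ (a.left p.2)).left p.1,
    { toFun := fun p => ((Ψ (a.left (a.right * p.2))).right p.1, a.right * p.2)
      invFun := fun p => ((Ψ (a.left p.2)).right⁻¹ p.1, a.right⁻¹ * p.2)
      left_inv := fun p => by simp
      right_inv := fun p => by simp }⟩

theorem wrStepFun_left (Ψ : X →* WrG ι C) (a : X ≀ᵣ Q) (p : ι × Q) :
    (wrStepFun Ψ a).left p = (Ψ (a.left p.2)).left p.1 := rfl

theorem wrStepFun_right (Ψ : X →* WrG ι C) (a : X ≀ᵣ Q) (p : ι × Q) :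
    (wrStepFun Ψ a).right p = ((Ψ (a.left (a.right * p.2))).right p.1, a.right * p.2) := rfl

theorem wrStepFun_right_inv (Ψ : X →* WrG ι C) (a : X ≀ᵣ Q) (p : ι × Q) :
    (wrStepFun Ψ a).right⁻¹ p = ((Ψ (a.left p.2)).right⁻¹ p.1, a.right⁻¹ * p.2) := rfl

theorem wrStepFun_mul (Ψ : X →* WrG ι C) (a b : X ≀ᵣ Q) :
    wrStepFun Ψ (a * b) = wrStepFun Ψ a * wrStepFun Ψ b := by
  ext1
  · funext p
    rw [WrG.mul_left_apply, wrStepFun_left, wrStepFun_left, wrStepFun_left, wrStepFun_right_inv,
      RegularWreathProduct.mul_left]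
    simp only [Pi.mul_apply]
    rw [map_mul, WrG.mul_left_apply]
  · ext1 p
    rw [SemidirectProduct.mul_right, Perm.mul_apply, wrStepFun_right, wrStepFun_right,
      wrStepFun_right, RegularWreathProduct.mul_right, RegularWreathProduct.mul_left]
    simp only [Pi.mul_apply]
    rw [map_mul, SemidirectProduct.mul_right, Perm.mul_apply]
    have h1 : a.right⁻¹ * (a.right * b.right * p.2) = b.right * p.2 := by group
    rw [h1, mul_assoc]

/-- the wreath step as a homomorphism -/
def wrStep (Ψ : X →* WrG ι C) : X ≀ᵣ Q →* WrG (ι × Q) C :=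
  MonoidHom.mk' (wrStepFun Ψ) (wrStepFun_mul Ψ)

theorem wrStep_injective [Nonempty ι] (Ψ : X →* WrG ι C) (hΨ : Function.Injective Ψ) :
    Function.Injective (wrStep (Q := Q) Ψ) := by
  rw [injective_iff_map_eq_one]
  intro a ha
  have ha' : wrStepFun Ψ a = 1 := ha
  obtain ⟨i₀⟩ := ‹Nonempty ι›
  have hr : ∀ p : ι × Q, (wrStepFun Ψ a).right p = p := by
    intro p; rw [ha']; rfl
  have hl : ∀ p : ι × Q, (wrStepFun Ψ a).left p = 1 := by
    intro p; rw [ha']; rfl
  have h1 : a.right = 1 := by
    have := congrArg Prod.snd (hr (i₀, 1))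
    rw [wrStepFun_right] at this
    simpa using this
  have h2 : ∀ x : Q, a.left x = 1 := by
    intro x
    apply hΨ
    rw [map_one]
    ext1
    · funext i
      have := hl (i, x)
      rw [wrStepFun_left] at this
      exact this
    · ext1 i
      have := congrArg Prod.fst (hr (i, x))
      rw [wrStepFun_right, h1, one_mul] at this
      exact this
  ext1
  · funext x
    exact h2 x
  · exact h1

end step

section extend
variable {α β : Type*} (C : Type*) [Group C] (e : α ↪ β)

/-- extension of the wreath product along an embedding of the point sets -/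
noncomputable def wrExtend : WrG α C →* WrG β C :=
  SemidirectProduct.map (Function.ExtendByOne.hom C e) (Perm.viaEmbeddingHom e) (by
    classical
    intro σ
    ext f b
    simp only [MonoidHom.comp_apply, MulEquiv.coe_toMonoidHom, Function.ExtendByOne.hom_apply,
      piActG_apply]
    by_cases hb : ∃ a, e a = b
    · obtain ⟨a, rfl⟩ := hb
      have h1 : (Perm.viaEmbeddingHom e σ)⁻¹ (e a) = e (σ⁻¹ a) := by
        rw [← map_inv, Perm.viaEmbeddingHom_apply, Perm.viaEmbedding_apply]
      rw [h1, e.injective.extend_apply, e.injective.extend_apply, piActG_apply]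
    · have h1 : (Perm.viaEmbeddingHom e σ)⁻¹ b = b := by
        rw [← map_inv, Perm.viaEmbeddingHom_apply]
        exact Perm.viaEmbedding_apply_of_notMem _ _ _ (by simpa using hb)
      rw [h1, Function.extend_apply' _ _ _ hb, Function.extend_apply' _ _ _ hb])

theorem wrExtend_injective : Function.Injective (wrExtend C e) := by
  intro x y hxy
  have h1 := congrArg SemidirectProduct.left hxy
  have h2 := congrArg SemidirectProduct.right hxy
  unfold wrExtend at h1 h2
  rw [SemidirectProduct.map_left, SemidirectProduct.map_left] at h1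
  rw [SemidirectProduct.map_right, SemidirectProduct.map_right] at h2
  ext1
  · funext a
    have := congrFun h1 (e a)
    simp only [Function.ExtendByOne.hom_apply] at this
    rwa [e.injective.extend_apply, e.injective.extend_apply] at this
  · exact Perm.viaEmbeddingHom_injective e h2

end extend

/-- functoriality in the base group -/
def wrBase {ι : Type*} {C C' : Type*} [Group C] [Group C'] (ζ : C →* C') :
    WrG ι C →* WrG ι C' :=
  SemidirectProduct.map (ζ.compLeft ι) (MonoidHom.id _) (by
    intro σ
    ext f i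
    rfl)

theorem wrBase_injective {ι : Type*} {C C' : Type*} [Group C] [Group C'] (ζ : C →* C')
    (hζ : Function.Injective ζ) : Function.Injective (wrBase (ι := ι) ζ) := by
  intro x y hxy
  have h1 := congrArg SemidirectProduct.left hxy
  have h2 := congrArg SemidirectProduct.right hxy
  unfold wrBase at h1 h2
  rw [SemidirectProduct.map_left, SemidirectProduct.map_left] at h1
  rw [SemidirectProduct.map_right, SemidirectProduct.map_right] at h2
  ext1
  · funext i
    exact hζ (congrFun h1 i)
  · exact h2

/-- the iterated wreath witness for the lower bound -/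
theorem exists_wr_witness.{u} (D : Type u) [Group D] [Finite D] (hD2 : IsPGroup 2 D)
    (hD : derivedSeries D 1 ≠ ⊥) (k : ℕ) :
    ∃ (X : Type u) (_ : Group X) (ι : Type) (_ : Fintype ι) (_ : DecidableEq ι)
      (Ψ : X →* WrG ι D), Finite X ∧ IsPGroup 2 X ∧ Function.Injective Ψ ∧ Nonempty ι ∧
        Fintype.card ι = 2 ^ k ∧ derivedSeries X (k + 1) ≠ ⊥ := by
  induction k with
  | zero =>
    refine ⟨D, inferInstance, Unit, inferInstance, inferInstance,
      (SemidirectProduct.inl).comp (Pi.constMonoidHom Unit D), inferInstance, hD2, ?_, ⟨()⟩, rfl, hD⟩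
    intro x y hxy
    have h1 := SemidirectProduct.inl_injective hxy
    exact congrFun h1 ()
  | succ k ih =>
    obtain ⟨X, _, ι, _, _, Ψ, hfin, hX2, hΨ, hne, hcard, hder⟩ := ih
    have : Nontrivial (Multiplicative (ZMod 2)) := by
      have : Fact (1 < 2) := ⟨by norm_num⟩
      exact (inferInstance : Nontrivial (Multiplicative (ZMod 2)))
    refine ⟨X ≀ᵣ Multiplicative (ZMod 2), inferInstance, ι × Multiplicative (ZMod 2),
      inferInstance, inferInstance, wrStep Ψ, inferInstance, ?_, wrStep_injective Ψ hΨ,
      inferInstance, ?_, ?_⟩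
    · obtain ⟨m, hm⟩ := IsPGroup.iff_card.mp hX2
      apply IsPGroup.of_card (n := m * 2 + 1)
      rw [RegularWreathProduct.card, hm, Nat.card_eq_fintype_card (α := Multiplicative (ZMod 2)),
        Fintype.card_multiplicative, ZMod.card, ← pow_mul, pow_succ]
    · rw [Fintype.card_prod, hcard, Fintype.card_multiplicative, ZMod.card, pow_succ]
    · exact wreath_der_ne_bot (D := X) (Q := Multiplicative (ZMod 2)) (k + 1) hder

end Cfsg.Agent.Helper57
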