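import Mathlib
import Cfsg.Agent.Lib.Helper57.SpSylowA

set_option autoImplicit false

namespace Cfsg.Agent.Helper57

open Equiv Matrix

variable {l : Type*} [Fintype l] [DecidableEq l] {F : Type*} [Field F]

/-- block matrix with diagonal blocks -/
def dblock (a b c d : l → F) : Matrix (l ⊕ l) (l ⊕ l) F :=
  fromBlocks (diagonal a) (diagonal b) (diagonal c) (diagonal d)

theorem dblock_mul (a b c d a' b' c' d' : l → F) :
    dblock a b c d * dblock a' b' c' d' =
      dblock (a * a' + b * c') (a * b' + b * d') (c * a' + d * c') (c * b' + d * d') := by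
  unfold dblock
  rw [fromBlocks_multiply]
  simp only [diagonal_mul_diagonal, diagonal_add]
  rfl

theorem dblock_one : dblock (1 : l → F) 0 0 1 = 1 := by
  unfold dblock
  rw [← fromBlocks_one]
  simp [Pi.one_def, Pi.zero_def]

theorem dblock_mem (a b c d : l → F) (h : a * d - b * c = 1) :
    dblock a b c d ∈ symplecticGroup l F := by
  rw [SymplecticGroup.mem_iff]
  unfold dblock J
  rw [fromBlocks_multiply, fromBlocks_transpose, fromBlocks_multiply, fromBlocks_inj]
  have h1 : ∀ i, a i * d i - b i * c i = 1 := fun i => congrFun h i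
  refine ⟨?_, ?_, ?_, ?_⟩
  · ext i j
    by_cases hij : i = j
    · subst hij
      simp [Matrix.add_apply, Matrix.mul_apply, Matrix.diagonal_apply, mul_comm]
    · simp [Matrix.add_apply, Matrix.mul_apply, Matrix.diagonal_apply, hij]
  · ext i j
    by_cases hij : i = j
    · subst hij
      simp [Matrix.add_apply, Matrix.mul_apply, Matrix.diagonal_apply]
      linear_combination (-1 : F) * h1 i
    · simp [Matrix.add_apply, Matrix.mul_apply, Matrix.diagonal_apply, hij]
  · ext i j
    by_cases hij : i = j
    · subst hij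
      simp [Matrix.add_apply, Matrix.mul_apply, Matrix.diagonal_apply]
      linear_combination h1 i
    · simp [Matrix.add_apply, Matrix.mul_apply, Matrix.diagonal_apply, hij]
  · ext i j
    by_cases hij : i = j
    · subst hij
      simp [Matrix.add_apply, Matrix.mul_apply, Matrix.diagonal_apply, mul_comm]
    · simp [Matrix.add_apply, Matrix.mul_apply, Matrix.diagonal_apply, hij]

theorem dblock_congr {a b c d a' b' c' d' : l → F} (ha : a = a') (hb : b = b') (hc : c = c')
    (hd : d = d') : dblock a b c d = dblock a' b' c' d' := by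
  subst ha hb hc hd
  rfl

/-- the base group `SL_2(F)^l` inside `Sp_{2l}(F)` -/
def spBase : (l → SpecialLinearGroup (Fin 2) F) →* symplecticGroup l F where
  toFun f := ⟨dblock (fun i => (f i).1 0 0) (fun i => (f i).1 0 1) (fun i => (f i).1 1 0)
    (fun i => (f i).1 1 1), dblock_mem _ _ _ _ (by
      funext i
      have := (f i).2
      rw [Matrix.det_fin_two] at this
      simpa using this)⟩
  map_one' := by
    apply Subtype.ext
    simp only [Pi.one_apply, SpecialLinearGroup.coe_one, one_apply_eq, ne_eq, zero_ne_one,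
      not_false_eq_true, one_apply_ne, one_ne_zero]
    exact dblock_one
  map_mul' f g := by
    apply Subtype.ext
    rw [Submonoid.coe_mul, dblock_mul]
    apply dblock_congr <;> funext i <;>
      simp [Matrix.mul_apply, Fin.sum_univ_two]

/-- permutation matrices -/
def pmat (σ : Perm l) : Matrix l l F := Matrix.of fun i j => if i = σ j then 1 else 0

theorem pmat_apply (σ : Perm l) (i j : l) : pmat (F := F) σ i j = if i = σ j then 1 else 0 := rfl

theorem pmat_mul (σ τ : Perm l) : pmat (F := F) (σ * τ) = pmat σ * pmat τ := by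
  ext i j
  rw [Matrix.mul_apply]
  simp only [pmat_apply, Perm.mul_apply]
  rw [Finset.sum_eq_single (τ j)]
  · rw [if_pos rfl, mul_one]
    rfl
  · intro k _ hk
    rw [if_neg hk, mul_zero]
  · intro h; exact absurd (Finset.mem_univ _) h

theorem pmat_one : pmat (F := F) (1 : Perm l) = 1 := by
  ext i j
  rw [pmat_apply, Matrix.one_apply]
  rfl

theorem pmat_transpose (σ : Perm l) : (pmat (F := F) σ)ᵀ = pmat σ⁻¹ := by
  ext i j
  simp only [transpose_apply, pmat_apply]
  by_cases h : j = σ i
  · rw [if_pos h, if_pos]
    rw [h]; simp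
  · rw [if_neg h, if_neg]
    intro h'
    apply h
    rw [h']; simp

theorem pmat_mul_transpose (σ : Perm l) : pmat (F := F) σ * (pmat σ)ᵀ = 1 := by
  rw [pmat_transpose, ← pmat_mul, mul_inv_cancel, pmat_one]

theorem pmat_mul_diagonal (σ : Perm l) (d : l → F) :
    pmat σ * diagonal d = diagonal (fun i => d (σ⁻¹ i)) * pmat σ := by
  ext i j
  rw [Matrix.mul_diagonal, Matrix.diagonal_mul]
  simp only [pmat_apply]
  by_cases h : i = σ j
  · rw [if_pos h, h]; simp
  · rw [if_neg h]; simp

/-- block permutation matrices -/
def pblock (σ : Perm l) : Matrix (l ⊕ l) (l ⊕ l) F := fromBlocks (pmat σ) 0 0 (pmat σ)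

theorem pblock_mem (σ : Perm l) : pblock (F := F) σ ∈ symplecticGroup l F := by
  rw [SymplecticGroup.mem_iff]
  unfold pblock J
  rw [fromBlocks_multiply, fromBlocks_transpose, fromBlocks_multiply]
  simp only [Matrix.mul_zero, Matrix.mul_one, Matrix.mul_neg, zero_add, add_zero,
    Matrix.zero_mul, transpose_zero, Matrix.neg_mul, pmat_mul_transpose, neg_zero]

/-- the top group `Sym(l)` inside `Sp_{2l}(F)` -/
def spTop : Perm l →* symplecticGroup l F where
  toFun σ := ⟨pblock σ, pblock_mem σ⟩
  map_one' := by
    apply Subtype.ext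
    change pblock (1 : Perm l) = 1
    unfold pblock
    rw [pmat_one, fromBlocks_one]
  map_mul' σ τ := by
    apply Subtype.ext
    change pblock (σ * τ) = pblock σ * pblock τ
    unfold pblock
    rw [fromBlocks_multiply, pmat_mul]
    simp

theorem sp_compat (σ : Perm l) :
    (spBase (l := l) (F := F)).comp
        (MulEquiv.toMonoidHom (piActG l (SpecialLinearGroup (Fin 2) F) σ)) =
      (MulEquiv.toMonoidHom (MulAut.conj (spTop (l := l) (F := F) σ))).comp spBase := by
  ext1 f
  simp only [MonoidHom.comp_apply, MulEquiv.coe_toMonoidHom, MulAut.conj_apply]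
  rw [eq_mul_inv_iff_mul_eq]
  apply Subtype.ext
  rw [Submonoid.coe_mul, Submonoid.coe_mul]
  change dblock _ _ _ _ * pblock σ = pblock σ * dblock _ _ _ _
  unfold dblock pblock
  rw [fromBlocks_multiply, fromBlocks_multiply]
  simp only [Matrix.mul_zero, Matrix.zero_mul, add_zero, zero_add, pmat_mul_diagonal]
  rfl

/-- the monomial group `SL_2(F) ≀ Sym(l)` inside `Sp_{2l}(F)` -/
def spMono : WrG l (SpecialLinearGroup (Fin 2) F) →* symplecticGroup l F :=
  SemidirectProduct.lift spBase spTop sp_compat

theorem spMono_val (x : WrG l (SpecialLinearGroup (Fin 2) F)) :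
    ((spMono x : symplecticGroup l F) : Matrix (l ⊕ l) (l ⊕ l) F) =
      dblock (fun i => (x.left i).1 0 0) (fun i => (x.left i).1 0 1) (fun i => (x.left i).1 1 0)
        (fun i => (x.left i).1 1 1) * pblock x.right := rfl

theorem spMono_injective : Function.Injective (spMono (l := l) (F := F)) := by
  rw [injective_iff_map_eq_one]
  intro x hx
  have h := congrArg (Subtype.val) hx
  rw [spMono_val] at h
  change _ = (1 : Matrix (l ⊕ l) (l ⊕ l) F) at h
  unfold dblock pblock at h
  rw [fromBlocks_multiply, ← fromBlocks_one] at h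
  simp only [Matrix.mul_zero, Matrix.zero_mul, add_zero, zero_add] at h
  rw [fromBlocks_inj] at h
  obtain ⟨h00, h01, h10, h11⟩ := h
  -- entries
  have e00 : ∀ i j, (x.left i).1 0 0 * pmat (F := F) x.right i j = (1 : Matrix l l F) i j := by
    intro i j
    have := congrFun (congrFun h00 i) j
    rwa [Matrix.diagonal_mul] at this
  have e01 : ∀ i j, (x.left i).1 0 1 * pmat (F := F) x.right i j = 0 := by
    intro i j
    have := congrFun (congrFun h01 i) j
    rwa [Matrix.diagonal_mul] at this
  have e10 : ∀ i j, (x.left i).1 1 0 * pmat (F := F) x.right i j = 0 := by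
    intro i j
    have := congrFun (congrFun h10 i) j
    rwa [Matrix.diagonal_mul] at this
  have e11 : ∀ i j, (x.left i).1 1 1 * pmat (F := F) x.right i j = (1 : Matrix l l F) i j := by
    intro i j
    have := congrFun (congrFun h11 i) j
    rwa [Matrix.diagonal_mul] at this
  have hσ : ∀ j, x.right j = j := by
    intro j
    by_contra hne
    have h1 := e00 (x.right j) j
    have h2 := e01 (x.right j) j
    have h3 := e10 (x.right j) j
    have h4 := e11 (x.right j) j
    rw [pmat_apply, if_pos rfl, mul_one] at h1 h2 h3 h4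
    rw [Matrix.one_apply_ne hne] at h1 h4
    have hdet := (x.left (x.right j)).2
    rw [Matrix.det_fin_two, h1, h2, h3, h4] at hdet
    simp at hdet
  have hright : x.right = 1 := by
    ext j
    rw [hσ j]; rfl
  ext1
  · funext i
    apply Subtype.ext
    have h1 := e00 i i
    have h2 := e01 i i
    have h3 := e10 i i
    have h4 := e11 i i
    rw [pmat_apply, if_pos (hσ i).symm, mul_one] at h1 h2 h3 h4
    rw [Matrix.one_apply_eq] at h1 h4
    ext a b
    fin_cases a <;> fin_cases b <;> simp [h1, h2, h3, h4]
  · exact hright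

end Cfsg.Agent.Helper57
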