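import Mathlib

set_option autoImplicit false

namespace Cfsg.Agent.Helper57

open Matrix Polynomial

variable {F : Type*} [Field F]

theorem exists_sq_add_sq_neg_one [Fintype F] (hodd : Odd (Fintype.card F)) :
    ∃ a b : F, a ^ 2 + b ^ 2 = -1 := by
  obtain ⟨a, b, hab⟩ : ∃ a b, (X ^ 2 : F[X]).eval a + (X ^ 2 - C (-1) : F[X]).eval b = 0 :=
    FiniteField.exists_root_sum_quadratic (degree_X_pow 2) (degree_X_pow_sub_C (by decide) _)
      (Nat.odd_iff.mp hodd)
  refine ⟨a, b, ?_⟩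
  simp only [eval_C, eval_X, eval_pow, eval_sub] at hab
  linear_combination hab

theorem two_ne_zero_of_odd_card [Fintype F] (hodd : Odd (Fintype.card F)) : (2 : F) ≠ 0 := by
  intro h2
  have h1 : ringChar F = 2 := by
    have hdvd : ringChar F ∣ 2 := by
      have : ((2 : ℕ) : F) = 0 := by exact_mod_cast h2
      exact (ringChar.spec F 2).mp this
    have hp : (ringChar F).Prime := CharP.char_is_prime F (ringChar F)
    exact (Nat.prime_dvd_prime_iff_eq hp Nat.prime_two).mp hdvd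
  have := FiniteField.even_card_iff_char_two.mp h1
  rw [Nat.odd_iff] at hodd
  omega

/-- matrix of the quaternion `i` -/
def mI (a b : F) : Matrix (Fin 2) (Fin 2) F := !![a, b; b, -a]

/-- matrix of the quaternion `j` -/
def mJ : Matrix (Fin 2) (Fin 2) F := !![0, -1; 1, 0]

/-- the matrix `-1` -/
def mN : Matrix (Fin 2) (Fin 2) F := !![-1, 0; 0, -1]

theorem mI_sq (a b : F) (h : a ^ 2 + b ^ 2 = -1) : mI a b * mI a b = mN := by
  unfold mI mN
  ext i j
  fin_cases i <;> fin_cases j <;> simp [Matrix.mul_apply, Fin.sum_univ_two]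
  · linear_combination h
  · ring
  · ring
  · linear_combination h

theorem mJ_sq : (mJ : Matrix (Fin 2) (Fin 2) F) * mJ = mN := by
  unfold mJ mN
  ext i j
  fin_cases i <;> fin_cases j <;> simp [Matrix.mul_apply, Fin.sum_univ_two]

theorem mN_sq : (mN : Matrix (Fin 2) (Fin 2) F) * mN = 1 := by
  unfold mN
  ext i j
  fin_cases i <;> fin_cases j <;> simp [Matrix.mul_apply, Fin.sum_univ_two]

theorem mJ_mul_mI (a b : F) : mJ * mI a b = mN * mI a b * mJ := by
  unfold mI mJ mN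
  ext i j
  fin_cases i <;> fin_cases j <;> simp [Matrix.mul_apply, Fin.sum_univ_two]

/-- the quaternion `i` -/
def qI (a b : F) (h : a ^ 2 + b ^ 2 = -1) : SpecialLinearGroup (Fin 2) F :=
  ⟨mI a b, by unfold mI; rw [det_fin_two_of]; linear_combination (-1 : F) * h⟩

/-- the quaternion `j` -/
def qJ : SpecialLinearGroup (Fin 2) F :=
  ⟨mJ, by unfold mJ; rw [det_fin_two_of]; ring⟩

theorem sl_val_mul (A B : SpecialLinearGroup (Fin 2) F) : (A * B).1 = A.1 * B.1 := rfl

theorem sl_val_one : (1 : SpecialLinearGroup (Fin 2) F).1 = 1 := rfl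

section
variable (a b : F) (h : a ^ 2 + b ^ 2 = -1)

theorem qI_val : (qI a b h).1 = mI a b := rfl

theorem qJ_val : (qJ : SpecialLinearGroup (Fin 2) F).1 = mJ := rfl

theorem qI_pow_four : qI a b h ^ 4 = 1 := by
  apply Subtype.ext
  simp only [pow_succ, pow_zero, one_mul]
  rw [sl_val_mul, sl_val_mul, sl_val_mul, qI_val, mI_sq a b h, Matrix.mul_assoc, mI_sq a b h,
    mN_sq]
  rfl

theorem qJ_pow_four : (qJ : SpecialLinearGroup (Fin 2) F) ^ 4 = 1 := by
  apply Subtype.ext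
  simp only [pow_succ, pow_zero, one_mul]
  rw [sl_val_mul, sl_val_mul, sl_val_mul, qJ_val, mJ_sq, Matrix.mul_assoc, mJ_sq, mN_sq]
  rfl

theorem mN_ne_one (h2 : (2 : F) ≠ 0) : (mN : Matrix (Fin 2) (Fin 2) F) ≠ 1 := by
  intro h1
  have h3 := congrFun (congrFun h1 0) 0
  unfold mN at h3
  simp at h3
  apply h2
  linear_combination (-1 : F) * h3

theorem qI_sq_ne_one (h2 : (2 : F) ≠ 0) : qI a b h ^ 2 ≠ 1 := by
  intro h1
  have h3 := congrArg Subtype.val h1
  simp only [pow_succ, pow_zero, one_mul] at h3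
  rw [sl_val_mul, qI_val, mI_sq a b h] at h3
  exact mN_ne_one h2 h3

theorem qJ_sq_ne_one (h2 : (2 : F) ≠ 0) : (qJ : SpecialLinearGroup (Fin 2) F) ^ 2 ≠ 1 := by
  intro h1
  have h3 := congrArg Subtype.val h1
  simp only [pow_succ, pow_zero, one_mul] at h3
  rw [sl_val_mul, qJ_val, mJ_sq] at h3
  exact mN_ne_one h2 h3

/-- `j i = i³ j` -/
theorem qJ_mul_qI : qJ * qI a b h = qI a b h ^ 3 * qJ := by
  apply Subtype.ext
  simp only [pow_succ, pow_zero, one_mul]
  rw [sl_val_mul, sl_val_mul, sl_val_mul, sl_val_mul, qI_val, qJ_val, mI_sq a b h, mJ_mul_mI]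

theorem qI_qJ_not_comm (h2 : (2 : F) ≠ 0) : qI a b h * qJ ≠ qJ * qI a b h := by
  intro hc
  have hv := congrArg Subtype.val hc
  rw [sl_val_mul, sl_val_mul, qI_val, qJ_val] at hv
  have h00 := congrFun (congrFun hv 0) 0
  have h01 := congrFun (congrFun hv 0) 1
  unfold mI mJ at h00 h01
  simp [Matrix.mul_apply, Fin.sum_univ_two] at h00 h01
  have hb : b = 0 := by
    have : (2 : F) * b = 0 := by linear_combination h00
    rcases mul_eq_zero.mp this with h' | h'
    · exact absurd h' h2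
    · exact h'
  have ha : a = 0 := by
    have : (2 : F) * a = 0 := by linear_combination (-1 : F) * h01
    rcases mul_eq_zero.mp this with h' | h'
    · exact absurd h' h2
    · exact h'
  have h' := h
  rw [ha, hb] at h'
  have h1 : (1 : F) = 0 := by linear_combination h'
  exact one_ne_zero h1

end

/-- a nonabelian `2`-subgroup of `SL_2(F)`, `|F|` odd -/
theorem exists_quaternion_subgroup [Fintype F] (hodd : Odd (Fintype.card F)) :
    ∃ D : Subgroup (SpecialLinearGroup (Fin 2) F), IsPGroup 2 D ∧ derivedSeries D 1 ≠ ⊥ := by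
  classical
  obtain ⟨a, b, h⟩ := exists_sq_add_sq_neg_one hodd
  have h2 := two_ne_zero_of_odd_card hodd
  have hoI : orderOf (qI a b h) = 2 ^ (1 + 1) :=
    orderOf_eq_prime_pow (by rw [pow_one]; exact qI_sq_ne_one a b h h2) (qI_pow_four a b h)
  have hoJ : orderOf (qJ : SpecialLinearGroup (Fin 2) F) = 2 ^ (1 + 1) :=
    orderOf_eq_prime_pow (by rw [pow_one]; exact qJ_sq_ne_one h2) qJ_pow_four
  have hpI : IsPGroup 2 (Subgroup.zpowers (qI a b h)) :=
    IsPGroup.of_card (n := 2) (by rw [Nat.card_zpowers, hoI])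
  have hpJ : IsPGroup 2 (Subgroup.zpowers (qJ : SpecialLinearGroup (Fin 2) F)) :=
    IsPGroup.of_card (n := 2) (by rw [Nat.card_zpowers, hoJ])
  have hinv : (qI a b h)⁻¹ = qI a b h ^ 3 := by
    rw [inv_eq_iff_mul_eq_one, ← pow_succ', qI_pow_four]
  have hconj : qJ * qI a b h * qJ⁻¹ = (qI a b h)⁻¹ := by
    rw [qJ_mul_qI, mul_inv_cancel_right, hinv]
  have hconj' : qJ⁻¹ * qI a b h * (qJ⁻¹)⁻¹ = (qI a b h)⁻¹ := by
    have h1 : qI a b h = qJ⁻¹ * (qI a b h)⁻¹ * qJ := by
      rw [← hconj]; group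
    have h3 : (qI a b h)⁻¹ = (qJ⁻¹ * (qI a b h)⁻¹ * qJ)⁻¹ := congrArg (fun x => x⁻¹) h1
    rw [h3]; group
  have hnorm : Subgroup.zpowers (qJ : SpecialLinearGroup (Fin 2) F) ≤
      Subgroup.normalizer (Subgroup.zpowers (qI a b h) : Set (SpecialLinearGroup (Fin 2) F)) := by
    rw [Subgroup.zpowers_le, Subgroup.mem_normalizer_iff]
    intro x
    constructor
    · rintro ⟨k, rfl⟩
      rw [← conj_zpow, hconj]
      exact Subgroup.zpow_mem _ (Subgroup.inv_mem _ (Subgroup.mem_zpowers _)) k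
    · rintro ⟨k, hk⟩
      have hk' : qI a b h ^ k = qJ * x * qJ⁻¹ := hk
      have hx : x = qJ⁻¹ * (qI a b h) ^ k * (qJ⁻¹)⁻¹ := by
        rw [hk']; group
      rw [hx, ← conj_zpow, hconj']
      exact Subgroup.zpow_mem _ (Subgroup.inv_mem _ (Subgroup.mem_zpowers _)) k
  refine ⟨Subgroup.zpowers (qJ : SpecialLinearGroup (Fin 2) F) ⊔ Subgroup.zpowers (qI a b h),
    IsPGroup.to_sup_of_normal_right' hpJ hpI hnorm, ?_⟩
  intro hbot
  rw [derivedSeries_one, commutator_eq_bot_iff_center_eq_top] at hbot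
  have hIm : qI a b h ∈ Subgroup.zpowers (qJ : SpecialLinearGroup (Fin 2) F) ⊔
      Subgroup.zpowers (qI a b h) :=
    (le_sup_right : Subgroup.zpowers (qI a b h) ≤ _) (Subgroup.mem_zpowers _)
  have hJm : (qJ : SpecialLinearGroup (Fin 2) F) ∈
      Subgroup.zpowers (qJ : SpecialLinearGroup (Fin 2) F) ⊔ Subgroup.zpowers (qI a b h) :=
    (le_sup_left : Subgroup.zpowers (qJ : SpecialLinearGroup (Fin 2) F) ≤ _)
      (Subgroup.mem_zpowers _)
  have hc : (⟨qI a b h, hIm⟩ : ↥(Subgroup.zpowers (qJ : SpecialLinearGroup (Fin 2) F) ⊔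
      Subgroup.zpowers (qI a b h))) ∈ Subgroup.center _ := by
    rw [hbot]; exact Subgroup.mem_top _
  rw [Subgroup.mem_center_iff] at hc
  have := hc ⟨qJ, hJm⟩
  have h3 := congrArg Subtype.val this
  simp only [Subgroup.coe_mul] at h3
  exact qI_qJ_not_comm a b h h2 h3.symm

end Cfsg.Agent.Helper57
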