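import Mathlib
import Cfsg.Agent.S0016
import Cfsg.Agent.Lib.Helper57.GLSylowC
import Cfsg.Agent.Lib.Helper57.SpSylowC

set_option autoImplicit false

namespace Cfsg.Agent.Helper57

open Matrix
open scoped commutatorElement

/-- If `G` is generated by elements with `g^p ∈ G'`, then `G/G'` has exponent `p`. -/
theorem pow_mem_commutator_of_gen' {G : Type*} [Group G] (p : ℕ) (S : Set G)
    (h : Subgroup.closure S = ⊤) (hS : ∀ g ∈ S, g ^ p ∈ commutator G) (x : G) :
    x ^ p ∈ commutator G := by
  let T : Subgroup G := ((powMonoidHom p : Abelianization G →* Abelianization G).ker).comap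
    Abelianization.of
  have hT : Subgroup.closure S ≤ T := by
    rw [Subgroup.closure_le]
    intro g hg
    change Abelianization.of g ∈ (powMonoidHom p : Abelianization G →* Abelianization G).ker
    rw [MonoidHom.mem_ker, powMonoidHom_apply, ← map_pow]
    have hg' : g ^ p ∈ (Abelianization.of : G →* Abelianization G).ker := by
      rw [Abelianization.ker_of]; exact hS g hg
    exact hg'
  have hx : x ∈ T := hT (by rw [h]; exact Subgroup.mem_top _)
  have hx' : Abelianization.of x ∈ (powMonoidHom p : Abelianization G →* Abelianization G).ker :=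
    hx
  rw [MonoidHom.mem_ker, powMonoidHom_apply, ← map_pow] at hx'
  have : x ^ p ∈ (Abelianization.of : G →* Abelianization G).ker := hx'
  rwa [Abelianization.ker_of] at this

/-- transport of "`p`-th powers lie in the commutator subgroup" along an isomorphism -/
theorem pow_mem_commutator_of_equiv {G G' : Type*} [Group G] [Group G'] (e : G ≃* G') (p : ℕ)
    (h : ∀ y : G', y ^ p ∈ commutator G') (x : G) : x ^ p ∈ commutator G := by
  have h1 : (commutator G').map e.symm.toMonoidHom = commutator G := by
    rw [commutator_def, commutator_def, Subgroup.map_commutator]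
    have : (⊤ : Subgroup G').map e.symm.toMonoidHom = ⊤ := by
      rw [← MonoidHom.range_eq_map, MonoidHom.range_eq_top]
      exact e.symm.surjective
    rw [this]
  rw [← h1]
  refine ⟨(e x) ^ p, h (e x), ?_⟩
  change e.symm ((e x) ^ p) = x ^ p
  rw [map_pow, MulEquiv.symm_apply_apply]

/-! ### quaternion groups -/

open QuaternionGroup in
theorem quat_comm (k : ℕ) (j : ZMod (2 * k)) :
    ⁅(xa 0 : QuaternionGroup k), a j⁆ = a (-(j + j)) := by
  rw [commutatorElement_def]
  have hkk : ((k : ZMod (2 * k)) + (k : ZMod (2 * k))) = 0 := by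
    rw [← two_mul]
    have : ((2 * k : ℕ) : ZMod (2 * k)) = 0 := ZMod.natCast_self _
    push_cast at this
    exact this
  have h1 : (xa 0 : QuaternionGroup k)⁻¹ = xa (k : ZMod (2 * k)) := by
    rw [inv_eq_iff_mul_eq_one, xa_mul_xa, sub_zero, hkk, a_zero]
  have h2 : (a j : QuaternionGroup k)⁻¹ = a (-j) := by
    rw [inv_eq_iff_mul_eq_one, a_mul_a, add_neg_cancel, a_zero]
  rw [h1, h2, xa_mul_a, xa_mul_xa, a_mul_a]
  congr 1
  linear_combination hkk

open QuaternionGroup in
theorem quat_sq_mem_commutator (k : ℕ) (hk : 2 ∣ k) (x : QuaternionGroup k) :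
    x ^ 2 ∈ commutator (QuaternionGroup k) := by
  have hmem : ∀ j : ZMod (2 * k), (a (j + j) : QuaternionGroup k) ∈ commutator (QuaternionGroup k) := by
    intro j
    have h1 := quat_comm k (-j)
    have h2 : -(-j + -j) = j + j := by ring
    rw [h2] at h1
    rw [← h1, commutator_def]
    exact Subgroup.commutator_mem_commutator (Subgroup.mem_top _) (Subgroup.mem_top _)
  rcases x with i | i
  · rw [sq, a_mul_a]
    exact hmem i
  · rw [xa_sq]
    obtain ⟨m, rfl⟩ := hk
    have : ((2 * m : ℕ) : ZMod (2 * (2 * m))) = (m : ZMod (2 * (2 * m))) + m := by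
      push_cast; ring
    rw [this]
    exact hmem _

/-! ### involutions of `SL_2` -/

variable {F : Type*} [Field F]

/-- the central involution of `SL_2(F)` -/
def qN : SpecialLinearGroup (Fin 2) F :=
  ⟨mN, by unfold mN; rw [det_fin_two_of]; ring⟩

theorem sl2_involution (h2 : (2 : F) ≠ 0) (t : SpecialLinearGroup (Fin 2) F) (ht : t * t = 1) :
    t = 1 ∨ t = qN := by
  have hv := congrArg Subtype.val ht
  rw [sl_val_mul, sl_val_one] at hv
  have hdet := t.2
  rw [det_fin_two] at hdet
  have e00 := congrFun (congrFun hv 0) 0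
  have e01 := congrFun (congrFun hv 0) 1
  have e10 := congrFun (congrFun hv 1) 0
  have e11 := congrFun (congrFun hv 1) 1
  simp only [Matrix.mul_apply, Fin.sum_univ_two, Matrix.one_apply_eq] at e00 e11
  simp only [Matrix.mul_apply, Fin.sum_univ_two] at e01 e10
  rw [Matrix.one_apply_ne (by decide)] at e01 e10
  -- the trace is nonzero
  have htr : t.1 0 0 + t.1 1 1 ≠ 0 := by
    intro h0
    have hw : t.1 1 1 = -t.1 0 0 := by linear_combination h0
    rw [hw] at hdet
    apply h2
    linear_combination (-1 : F) * e00 + (-1 : F) * hdet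
  have hy : t.1 0 1 = 0 := by
    have : t.1 0 1 * (t.1 0 0 + t.1 1 1) = 0 := by linear_combination e01
    rcases mul_eq_zero.mp this with h | h
    · exact h
    · exact absurd h htr
  have hz : t.1 1 0 = 0 := by
    have : t.1 1 0 * (t.1 0 0 + t.1 1 1) = 0 := by linear_combination e10
    rcases mul_eq_zero.mp this with h | h
    · exact h
    · exact absurd h htr
  rw [hy, hz] at hdet e00 e11
  have hxw : t.1 0 0 = t.1 1 1 := by
    have hx2 : t.1 0 0 * t.1 0 0 = 1 := by linear_combination e00
    have : t.1 0 0 * (t.1 0 0 - t.1 1 1) = 0 := by linear_combination hx2 - hdet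
    rcases mul_eq_zero.mp this with h | h
    · rw [h] at hx2; simp at hx2
    · linear_combination h
  have hx2 : (t.1 0 0 - 1) * (t.1 0 0 + 1) = 0 := by linear_combination e00
  rcases mul_eq_zero.mp hx2 with h | h
  · left
    apply Subtype.ext
    have hx : t.1 0 0 = 1 := by linear_combination h
    ext i j
    fin_cases i <;> fin_cases j
    · exact hx
    · exact hy
    · exact hz
    · change t.1 1 1 = 1
      rw [← hxw]; exact hx
  · right
    apply Subtype.ext
    have hx : t.1 0 0 = -1 := by linear_combination h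
    change t.1 = mN
    unfold mN
    ext i j
    fin_cases i <;> fin_cases j
    · simpa using hx
    · simpa using hy
    · simpa using hz
    · change t.1 1 1 = _
      rw [← hxw]; simpa using hx

/-- subgroups of order `2` in subgroups of `SL_2(F)` are unique -/
theorem sl2_unique_order_two (h2 : (2 : F) ≠ 0) (D₀ : Subgroup (SpecialLinearGroup (Fin 2) F))
    [Finite D₀] (H K : Subgroup D₀) (hH : Nat.card H = 2) (hK : Nat.card K = 2) : H = K := by
  have key : ∀ H : Subgroup D₀, Nat.card H = 2 → ∃ t : D₀, t.1 = qN ∧ H = Subgroup.zpowers t := by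
    intro H hH
    have hnt : Nontrivial H := by
      rw [← Finite.one_lt_card_iff_nontrivial, hH]; norm_num
    obtain ⟨t, ht⟩ := exists_ne (1 : H)
    have ht2 : t ^ 2 = 1 := by
      have := pow_card_eq_one' (G := H) (x := t)
      rwa [hH] at this
    have ht2' : (t : D₀).1 * (t : D₀).1 = 1 := by
      have := congrArg (fun x : H => ((x : D₀) : SpecialLinearGroup (Fin 2) F)) ht2
      simpa [sq] using this
    have hne : (t : D₀).1 ≠ 1 := by
      intro h1
      apply ht
      apply Subtype.ext
      apply Subtype.ext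
      exact h1
    rcases sl2_involution h2 _ ht2' with h1 | h1
    · exact absurd h1 hne
    · refine ⟨(t : D₀), h1, ?_⟩
      symm
      apply Subgroup.eq_of_le_of_card_ge
      · rw [Subgroup.zpowers_le]; exact t.2
      · rw [hH, Nat.card_zpowers]
        have hne' : (t : D₀) ≠ 1 := fun h => ht (Subtype.ext h)
        have hpow : (t : D₀) ^ 2 = 1 := congrArg Subtype.val ht2
        have := orderOf_eq_prime hpow hne'
        rw [this]
  obtain ⟨t, ht, rfl⟩ := key H hH
  obtain ⟨t', ht', rfl⟩ := key K hK
  have : t = t' := Subtype.ext (ht.trans ht'.symm)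
  rw [this]

theorem quat_one_comm : ∀ x y : QuaternionGroup 1, x * y = y * x := by decide

/-- squares in a Sylow `2`-subgroup of `SL_2(F)`, `|F|` odd, lie in its derived subgroup -/
theorem sl2_sylow_sq_mem [Fintype F] (hodd : Odd (Fintype.card F))
    (D₀ : Sylow 2 (SpecialLinearGroup (Fin 2) F)) (x : (D₀ : Subgroup (SpecialLinearGroup (Fin 2) F))) :
    x ^ 2 ∈ commutator (D₀ : Subgroup (SpecialLinearGroup (Fin 2) F)) := by
  have h2 := two_ne_zero_of_odd_card hodd
  obtain ⟨D, hD2, hDder⟩ := exists_quaternion_subgroup hodd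
  have hne : derivedSeries (D₀ : Subgroup (SpecialLinearGroup (Fin 2) F)) 1 ≠ ⊥ :=
    der_ne_bot_of_embed D₀ hD2 D.subtype D.subtype_injective 1 hDder
  have hnc : ¬ ∀ a b : (D₀ : Subgroup (SpecialLinearGroup (Fin 2) F)), a * b = b * a := by
    intro hc
    apply hne
    rw [derivedSeries_one, commutator_eq_bot_iff_center_eq_top, eq_top_iff]
    intro a _
    rw [Subgroup.mem_center_iff]
    intro b
    exact hc b a
  rcases Cfsg.Agent.S0016.result 2 D₀.isPGroup'
      (fun H K hH hK => sl2_unique_order_two h2 _ H K hH hK) with hcyc | ⟨_, m, ⟨e⟩⟩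
  · exfalso
    apply hnc
    intro a b
    exact (IsCyclic.commGroup (α := (D₀ : Subgroup (SpecialLinearGroup (Fin 2) F)))).mul_comm a b
  · rcases Nat.eq_zero_or_pos m with rfl | hm
    · exfalso
      apply hnc
      intro a b
      apply e.injective
      rw [map_mul, map_mul]
      exact quat_one_comm _ _
    · exact pow_mem_commutator_of_equiv e 2
        (quat_sq_mem_commutator _ (dvd_pow_self 2 hm.ne')) x

end Cfsg.Agent.Helper57
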