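import Mathlib
import Cfsg.Agent.Lib.Lead.SpCard
import Cfsg.Agent.Lib.Helper5.SL2Sylow
import Cfsg.Agent.Lib.Helper57.SymSylowB
import Cfsg.Agent.Lib.Helper57.SLSylow
import Cfsg.Agent.Lib.Helper57.GLSylowG
import Cfsg.Agent.Lib.Helper57.SpSylowB
import Cfsg.Agent.Lib.Helper57.SpSylowD

set_option autoImplicit false

namespace Cfsg.Agent.Helper57

open Equiv Matrix

/-- `map` of the derived subgroup lands in the derived subgroup -/
theorem map_commutator_le' {G H : Type*} [Group G] [Group H] (f : G →* H) :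
    (commutator G).map f ≤ commutator H := by
  rw [commutator_def, commutator_def, Subgroup.map_commutator]
  exact Subgroup.commutator_mono le_top le_top

/-- functions with values in the derived subgroup lie in the derived subgroup -/
theorem pi_mem_commutator {ι : Type*} [Fintype ι] [DecidableEq ι] {D : Type*} [Group D]
    (f : ι → D) (hf : ∀ i, f i ∈ commutator D) : f ∈ commutator (ι → D) := by
  rw [← Finset.noncommProd_mulSingle f]
  apply Subgroup.noncommProd_mem
  intro i _
  exact map_commutator_le' (MonoidHom.mulSingle (fun _ => D) i) ⟨f i, hf i, rfl⟩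

section num
variable {q : ℕ}

theorem padicValNat_two_prod_sp (hq : 3 ≤ q) (hodd : Odd q) (m : ℕ) :
    padicValNat 2 (∏ i ∈ Finset.range m, (q ^ (2 * (i + 1)) - 1)) =
      m * (padicValNat 2 (q - 1) + padicValNat 2 (q + 1)) + padicValNat 2 m.factorial := by
  have hne : ∀ i : ℕ, q ^ (2 * (i + 1)) - 1 ≠ 0 := by
    intro i
    have : 1 < q ^ (2 * (i + 1)) := Nat.one_lt_pow (by omega) (by omega)
    omega
  induction m with
  | zero => simp
  | succ m ih =>
    rw [Finset.prod_range_succ, padicValNat.mul (Finset.prod_ne_zero_iff.mpr fun i _ => hne i)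
      (hne m), ih, padicValNat_two_pow_even_sub_one hq hodd (m + 1) (by omega),
      Nat.factorial_succ, padicValNat.mul (by omega) (Nat.factorial_ne_zero m)]
    ring

theorem padicValNat_two_card_sp (hq : 3 ≤ q) (hodd : Odd q) (m : ℕ) :
    padicValNat 2 (q ^ (m ^ 2) * ∏ i ∈ Finset.range m, (q ^ (2 * (i + 1)) - 1)) =
      m * (padicValNat 2 (q - 1) + padicValNat 2 (q + 1)) + padicValNat 2 m.factorial := by
  have hne : ∀ i : ℕ, q ^ (2 * (i + 1)) - 1 ≠ 0 := by
    intro i
    have : 1 < q ^ (2 * (i + 1)) := Nat.one_lt_pow (by omega) (by omega)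
    omega
  have h2q : ¬ 2 ∣ q ^ (m ^ 2) := by
    intro h
    have := Nat.Prime.dvd_of_dvd_pow Nat.prime_two h
    exact Nat.not_even_iff_odd.mpr hodd (even_iff_two_dvd.mpr this)
  rw [padicValNat.mul (pow_ne_zero _ (by omega)) (Finset.prod_ne_zero_iff.mpr fun i _ => hne i),
    padicValNat.eq_zero_of_not_dvd h2q, zero_add, padicValNat_two_prod_sp hq hodd]

theorem padicValNat_two_card_sl2 (hq : 3 ≤ q) (hodd : Odd q) :
    padicValNat 2 (q * (q ^ 2 - 1)) = padicValNat 2 (q - 1) + padicValNat 2 (q + 1) := by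
  have h2q : ¬ 2 ∣ q := fun h => Nat.not_even_iff_odd.mpr hodd (even_iff_two_dvd.mpr h)
  have h1 : 1 < q ^ 2 := Nat.one_lt_pow (by norm_num) (by omega)
  rw [padicValNat.mul (by omega) (by omega), padicValNat.eq_zero_of_not_dvd h2q, zero_add]
  have := padicValNat_two_pow_even_sub_one hq hodd 1 one_ne_zero
  rw [mul_one, padicValNat_one_right, add_zero] at this
  exact this

end num

variable {F : Type*} [Field F] [Fintype F]

/-- squares in Sylow `2`-subgroups of `Sp_{2n}(F)`, `|F|` odd, lie in the derived subgroup -/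
theorem sp_sylow_sq_mem (hodd : Odd (Fintype.card F)) (n : ℕ)
    (P : Sylow 2 (Matrix.symplecticGroup (Fin n) F))
    (x : (P : Subgroup (Matrix.symplecticGroup (Fin n) F))) :
    x ^ 2 ∈ commutator (P : Subgroup (Matrix.symplecticGroup (Fin n) F)) := by
  classical
  obtain ⟨q, hq⟩ : ∃ q, q = Fintype.card F := ⟨_, rfl⟩
  have hodd' := hodd
  rw [← hq] at hodd
  have hq2 : 2 ≤ q := hq ▸ Fintype.one_lt_card
  have hq3 : 3 ≤ q := by
    obtain ⟨k, hk⟩ := hodd
    omega
  let D₀ : Sylow 2 (SpecialLinearGroup (Fin 2) F) := default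
  have hD₀card : Nat.card (D₀ : Subgroup (SpecialLinearGroup (Fin 2) F)) =
      2 ^ (padicValNat 2 (q - 1) + padicValNat 2 (q + 1)) := by
    rw [Sylow.card_eq_multiplicity, Nat.factorization_def _ Nat.prime_two,
      Cfsg.Agent.Helper5.card_SL2 hq.symm, padicValNat_two_card_sl2 hq3 hodd]
  obtain ⟨H, _, ι, hfin, hι, hcard, hgen, _, _⟩ := sylData 2 n
  -- the wreath product
  let φ : H →* MulAut (Fin n → (D₀ : Subgroup (SpecialLinearGroup (Fin 2) F))) :=
    (piActG (Fin n) (D₀ : Subgroup (SpecialLinearGroup (Fin 2) F))).comp ι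
  let μ : (Fin n → (D₀ : Subgroup (SpecialLinearGroup (Fin 2) F))) ⋊[φ] H →*
      WrG (Fin n) (D₀ : Subgroup (SpecialLinearGroup (Fin 2) F)) :=
    SemidirectProduct.map (MonoidHom.id _) ι (by
      intro h
      ext f i
      rfl)
  have hμ : Function.Injective μ := by
    intro a b hab
    have h1 := congrArg SemidirectProduct.left hab
    have h2 := congrArg SemidirectProduct.right hab
    simp only [μ, SemidirectProduct.map_left, SemidirectProduct.map_right] at h1 h2
    ext1
    · exact h1
    · exact hι h2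
  let Φ : (Fin n → (D₀ : Subgroup (SpecialLinearGroup (Fin 2) F))) ⋊[φ] H →*
      Matrix.symplecticGroup (Fin n) F :=
    spMono.comp ((wrBase (D₀ : Subgroup (SpecialLinearGroup (Fin 2) F)).subtype).comp μ)
  have hΦ : Function.Injective Φ :=
    spMono_injective.comp ((wrBase_injective _ (Subgroup.subtype_injective _)).comp hμ)
  have hcardW : Nat.card ((Fin n → (D₀ : Subgroup (SpecialLinearGroup (Fin 2) F))) ⋊[φ] H) =
      2 ^ (Nat.card (Matrix.symplecticGroup (Fin n) F)).factorization 2 := by
    rw [SemidirectProduct.card, Nat.card_fun, Nat.card_eq_fintype_card (α := Fin n),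
      Fintype.card_fin, hD₀card, hcard, ← pow_mul, ← pow_add,
      Nat.factorization_def _ Nat.prime_two, Cfsg.Agent.Lead.card_symplecticGroup,
      Nat.card_eq_fintype_card (α := F), ← hq, padicValNat_two_card_sp hq3 hodd]
    congr 1
    ring
  obtain ⟨e⟩ := sylow_equiv_of_injective P Φ hΦ hcardW
  apply pow_mem_commutator_of_equiv e 2
  -- squares in the wreath product
  intro y
  apply pow_mem_commutator_of_gen' 2
    (Set.range (SemidirectProduct.inl : _ →* (Fin n → (D₀ : Subgroup (SpecialLinearGroup (Fin 2) F))) ⋊[φ] H) ∪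
      (SemidirectProduct.inr : H →* (Fin n → (D₀ : Subgroup (SpecialLinearGroup (Fin 2) F))) ⋊[φ] H) ''
        {h : H | h ^ 2 = 1})
  · rw [eq_top_iff]
    intro w _
    rw [← SemidirectProduct.inl_left_mul_inr_right w]
    apply Subgroup.mul_mem
    · apply Subgroup.subset_closure
      left
      exact ⟨w.left, rfl⟩
    · have hle : (Subgroup.closure {h : H | h ^ 2 = 1}).map
          (SemidirectProduct.inr : H →* (Fin n → (D₀ : Subgroup (SpecialLinearGroup (Fin 2) F))) ⋊[φ] H) ≤
          Subgroup.closure (Set.range (SemidirectProduct.inl : _ →* (Fin n → (D₀ : Subgroup (SpecialLinearGroup (Fin 2) F))) ⋊[φ] H) ∪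
            (SemidirectProduct.inr : H →* (Fin n → (D₀ : Subgroup (SpecialLinearGroup (Fin 2) F))) ⋊[φ] H) ''
              {h : H | h ^ 2 = 1}) := by
        rw [MonoidHom.map_closure]
        apply Subgroup.closure_mono
        exact Set.subset_union_right
      apply hle
      rw [hgen]
      exact ⟨w.right, Subgroup.mem_top _, rfl⟩
  · rintro g (⟨f, rfl⟩ | ⟨h, hh, rfl⟩)
    · rw [← map_pow]
      apply map_commutator_le' (SemidirectProduct.inl : _ →* (Fin n → (D₀ : Subgroup (SpecialLinearGroup (Fin 2) F))) ⋊[φ] H)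
      refine ⟨f ^ 2, ?_, rfl⟩
      apply pi_mem_commutator
      intro i
      exact sl2_sylow_sq_mem hodd' D₀ (f i)
    · rw [← map_pow]
      have hh' : h ^ 2 = 1 := hh
      rw [hh', map_one]
      exact Subgroup.one_mem _

end Cfsg.Agent.Helper57
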