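import Mathlib
import Cfsg.Agent.Lib.Helper57.GLSylowA
import Cfsg.Agent.Lib.Helper57.SpSylowE

set_option autoImplicit false

namespace Cfsg.Agent.Helper57

open Equiv
open scoped commutatorElement

/-- functoriality of the wreath product `X ≀ H` into `D ≀ S_w` -/
def wrMapG {w : ℕ} {X D H : Type*} [Group X] [Group D] [Group H] (f : X →* D)
    (ι : H →* Perm (Fin w)) :
    (Fin w → X) ⋊[(piAct w X).comp ι] H →* (Fin w → D) ⋊[piAct w D] Perm (Fin w) :=
  SemidirectProduct.map (f.compLeft (Fin w)) ι (by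
    intro h
    ext g i
    rfl)

theorem wrMapG_injective {w : ℕ} {X D H : Type*} [Group X] [Group D] [Group H] (f : X →* D)
    (ι : H →* Perm (Fin w)) (hf : Function.Injective f) (hι : Function.Injective ι) :
    Function.Injective (wrMapG f ι) := by
  intro x y hxy
  have h1 := congrArg SemidirectProduct.left hxy
  have h2 := congrArg SemidirectProduct.right hxy
  unfold wrMapG at h1 h2
  rw [SemidirectProduct.map_left, SemidirectProduct.map_left] at h1
  rw [SemidirectProduct.map_right, SemidirectProduct.map_right] at h2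
  ext1
  · funext i
    exact hf (congrFun h1 i)
  · exact hι h2

/-- squares in a wreath product with top group generated by involutions -/
theorem sq_mem_commutator_wr {w : ℕ} {X H : Type*} [Group X] [Group H]
    (φ : H →* MulAut (Fin w → X))
    (hX : ∀ x : X, x ^ 2 ∈ commutator X) (hH : Subgroup.closure {h : H | h ^ 2 = 1} = ⊤)
    (y : (Fin w → X) ⋊[φ] H) : y ^ 2 ∈ commutator ((Fin w → X) ⋊[φ] H) := by
  classical
  apply pow_mem_commutator_of_gen' 2
    (Set.range (SemidirectProduct.inl : _ →* (Fin w → X) ⋊[φ] H) ∪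
      (SemidirectProduct.inr : H →* (Fin w → X) ⋊[φ] H) '' {h : H | h ^ 2 = 1})
  · rw [eq_top_iff]
    intro u _
    rw [← SemidirectProduct.inl_left_mul_inr_right u]
    apply Subgroup.mul_mem
    · apply Subgroup.subset_closure
      left
      exact ⟨u.left, rfl⟩
    · have hle : (Subgroup.closure {h : H | h ^ 2 = 1}).map
          (SemidirectProduct.inr : H →* (Fin w → X) ⋊[φ] H) ≤
          Subgroup.closure (Set.range (SemidirectProduct.inl : _ →* (Fin w → X) ⋊[φ] H) ∪
            (SemidirectProduct.inr : H →* (Fin w → X) ⋊[φ] H) '' {h : H | h ^ 2 = 1}) := by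
        rw [MonoidHom.map_closure]
        apply Subgroup.closure_mono
        exact Set.subset_union_right
      apply hle
      rw [hH]
      exact ⟨u.right, Subgroup.mem_top _, rfl⟩
  · rintro g (⟨f, rfl⟩ | ⟨h, hh, rfl⟩)
    · rw [← map_pow]
      apply map_commutator_le' (SemidirectProduct.inl : _ →* (Fin w → X) ⋊[φ] H)
      refine ⟨f ^ 2, ?_, rfl⟩
      apply pi_mem_commutator
      intro i
      exact hX (f i)
    · rw [← map_pow]
      have hh' : h ^ 2 = 1 := hh
      rw [hh', map_one]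
      exact Subgroup.one_mem _

/-- squares in a product with an elementary abelian factor -/
theorem sq_mem_commutator_prod {A B : Type*} [Group A] [Group B]
    (hA : ∀ x : A, x ^ 2 ∈ commutator A) (hB : ∀ x : B, x ^ 2 = 1) (y : A × B) :
    y ^ 2 ∈ commutator (A × B) := by
  have h1 : y ^ 2 = MonoidHom.inl A B (y.1 ^ 2) := by
    apply Prod.ext
    · simp
    · simp [hB y.2]
  rw [h1]
  exact map_commutator_le' (MonoidHom.inl A B) ⟨y.1 ^ 2, hA y.1, rfl⟩

/-- a `2`-group `C` extended by an involution acting as `c ↦ c^(2r+1)`, `r` odd: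
squares lie in the derived subgroup -/
theorem sq_mem_commutator_sd {G : Type*} [Group G] (C : Subgroup G) (hC : IsPGroup 2 C) (s : G)
    (r : ℕ) (hr : Odd r) (hs : s ^ 2 = 1) (hconj : ∀ c ∈ C, s * c * s⁻¹ = c ^ (2 * r + 1))
    (x : (C ⊔ Subgroup.zpowers s : Subgroup G)) :
    x ^ 2 ∈ commutator (C ⊔ Subgroup.zpowers s : Subgroup G) := by
  have hsX : s ∈ C ⊔ Subgroup.zpowers s :=
    (le_sup_right : Subgroup.zpowers s ≤ C ⊔ Subgroup.zpowers s) (Subgroup.mem_zpowers s)
  have hCX : C ≤ C ⊔ Subgroup.zpowers s := le_sup_left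
  apply pow_mem_commutator_of_gen' 2
    {y : (C ⊔ Subgroup.zpowers s : Subgroup G) | (y : G) ∈ C ∨ (y : G) = s}
  · apply Subgroup.map_injective (Subgroup.subtype_injective (C ⊔ Subgroup.zpowers s))
    rw [MonoidHom.map_closure, ← MonoidHom.range_eq_map, Subgroup.range_subtype]
    apply le_antisymm
    · rw [Subgroup.closure_le]
      rintro _ ⟨y, _, rfl⟩
      exact y.2
    · apply sup_le
      · intro c hc
        apply Subgroup.subset_closure
        exact ⟨⟨c, hCX hc⟩, Or.inl hc, rfl⟩
      · rw [Subgroup.zpowers_le]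
        apply Subgroup.subset_closure
        exact ⟨⟨s, hsX⟩, Or.inr rfl, rfl⟩
  · rintro ⟨g, hgX⟩ (hg | hg)
    · -- `g ∈ C`
      change g ∈ C at hg
      obtain ⟨k, hk⟩ := hC ⟨g, hg⟩
      have hk' : g ^ 2 ^ k = 1 := by
        have := congrArg Subtype.val hk
        simpa using this
      have hcop : Nat.Coprime r (orderOf g) := by
        have hdvd : orderOf g ∣ 2 ^ k := orderOf_dvd_of_pow_eq_one hk'
        apply Nat.Coprime.coprime_dvd_right hdvd
        apply Nat.Coprime.pow_right
        exact (Nat.coprime_two_right.mpr hr)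
      obtain ⟨a, ha⟩ := exists_pow_eq_self_of_coprime hcop
      have hv : g ^ a ∈ C := C.pow_mem hg a
      have hcomm : ⁅s, g ^ a⁆ = g ^ 2 := by
        rw [commutatorElement_def, hconj _ hv, pow_succ, mul_inv_cancel_right, ← pow_mul]
        have : a * (2 * r) = (r * a) * 2 := by ring
        rw [this, pow_mul, pow_mul, ha]
      have hmem : ⁅(⟨s, hsX⟩ : (C ⊔ Subgroup.zpowers s : Subgroup G)), ⟨g ^ a, hCX hv⟩⁆ ∈
          commutator (C ⊔ Subgroup.zpowers s : Subgroup G) := by
        rw [commutator_def]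
        exact Subgroup.commutator_mem_commutator (Subgroup.mem_top _) (Subgroup.mem_top _)
      have heq : (⟨g, hgX⟩ : (C ⊔ Subgroup.zpowers s : Subgroup G)) ^ 2 =
          ⁅(⟨s, hsX⟩ : (C ⊔ Subgroup.zpowers s : Subgroup G)), ⟨g ^ a, hCX hv⟩⁆ := by
        apply Subtype.ext
        rw [Subgroup.coe_pow]
        change g ^ 2 = ⁅s, g ^ a⁆
        rw [hcomm]
      rw [heq]
      exact hmem
    · change g = s at hg
      subst hg
      have : (⟨g, hgX⟩ : (C ⊔ Subgroup.zpowers g : Subgroup G)) ^ 2 = 1 := by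
        apply Subtype.ext
        rw [Subgroup.coe_pow]
        exact hs
      rw [this]
      exact Subgroup.one_mem _

/-- the cyclic group generated by a `p`-element is a `p`-group -/
theorem isPGroup_zpowers {G : Type*} [Group G] {p : ℕ} (z : G) (k : ℕ) (hzk : z ^ (p ^ k) = 1) :
    IsPGroup p (Subgroup.zpowers z) := by
  rintro ⟨g, hg⟩
  obtain ⟨i, rfl⟩ := Subgroup.mem_zpowers_iff.mp hg
  refine ⟨k, ?_⟩
  apply Subtype.ext
  rw [Subgroup.coe_pow]
  change (z ^ i) ^ p ^ k = 1
  rw [← zpow_natCast, ← zpow_mul, mul_comm, zpow_mul, zpow_natCast, hzk, one_zpow]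

/-- central `p`-elements lie in every Sylow `p`-subgroup -/
theorem central_mem_sylow {G : Type*} [Group G] {p : ℕ} [Fact p.Prime] (S : Sylow p G) (z : G)
    (hz : z ∈ Subgroup.center G) (k : ℕ) (hzk : z ^ (p ^ k) = 1) : z ∈ S := by
  have hle : Subgroup.zpowers z ≤ Subgroup.center G := by
    rw [Subgroup.zpowers_le]
    exact hz
  have hn : (Subgroup.zpowers z).Normal := by
    constructor
    intro n hn g
    have : n ∈ Subgroup.center G := hle hn
    rw [Subgroup.mem_center_iff] at this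
    rw [this g, mul_inv_cancel_right]
    exact hn
  have hZ : IsPGroup p (Subgroup.zpowers z) := isPGroup_zpowers z k hzk
  have h1 : IsPGroup p (S.toSubgroup ⊔ Subgroup.zpowers z : Subgroup G) :=
    IsPGroup.to_sup_of_normal_right S.isPGroup' hZ
  have h2 := S.is_maximal' h1 le_sup_left
  have h3 : z ∈ S.toSubgroup ⊔ Subgroup.zpowers z :=
    (le_sup_right : Subgroup.zpowers z ≤ _) (Subgroup.mem_zpowers z)
  rw [h2] at h3
  exact h3

/-- if `S = P₁ ∪ P₁ z` with `z` central then `S' ≤ P₁'` -/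
theorem commutator_le_of_central_cover {G : Type*} [Group G] (S P₁ : Subgroup G) (z : G)
    (hz : z ∈ Subgroup.center G) (hcov : ∀ y ∈ S, y ∈ P₁ ∨ y * z ∈ P₁) : ⁅S, S⁆ ≤ ⁅P₁, P₁⁆ := by
  rw [Subgroup.mem_center_iff] at hz
  have hl : ∀ a b : G, ⁅a * z, b⁆ = ⁅a, b⁆ := by
    intro a b
    rw [commutatorElement_def, commutatorElement_def, mul_inv_rev]
    have e1 : a * z * b * (z⁻¹ * a⁻¹) * b⁻¹ = a * (z * b * z⁻¹) * a⁻¹ * b⁻¹ := by group
    rw [e1, ← hz b, mul_inv_cancel_right]
  have hr : ∀ a b : G, ⁅a, b * z⁆ = ⁅a, b⁆ := by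
    intro a b
    rw [commutatorElement_def, commutatorElement_def, mul_inv_rev]
    have e1 : a * (b * z) * a⁻¹ * (z⁻¹ * b⁻¹) = a * b * (z * a⁻¹ * z⁻¹) * b⁻¹ := by group
    rw [e1, ← hz a⁻¹, mul_inv_cancel_right]
  rw [Subgroup.commutator_le]
  intro a ha b hb
  rcases hcov a ha with ha1 | ha1 <;> rcases hcov b hb with hb1 | hb1
  · exact Subgroup.commutator_mem_commutator ha1 hb1
  · rw [← hr a b]
    exact Subgroup.commutator_mem_commutator ha1 hb1
  · rw [← hl a b]
    exact Subgroup.commutator_mem_commutator ha1 hb1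
  · rw [← hl a b, ← hr (a * z) b]
    exact Subgroup.commutator_mem_commutator ha1 hb1

end Cfsg.Agent.Helper57
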