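import Mathlib
import Cfsg.Agent.Lib.Helper57.SpSylowE
import Cfsg.Agent.Lib.Helper57.SLOddA
import Cfsg.Agent.Lib.Helper57.NormalRankA

set_option autoImplicit false

namespace Cfsg.Agent.Helper57

open Equiv Matrix

variable {F : Type*} [Field F] [Fintype F]

/-- Sylow `2`-subgroups of `Sp_{2n}(F)`, `|F|` odd, are wreath products `Syl_2(SL_2(F)) ≀ Syl_2(S_n)` -/
theorem sp_sylow_equiv (hodd : Odd (Fintype.card F)) (n : ℕ)
    (P : Sylow 2 (Matrix.symplecticGroup (Fin n) F)) (D₀ : Sylow 2 (SpecialLinearGroup (Fin 2) F)) :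
    ∃ (H : Type) (_ : Group H) (ι : H →* Perm (Fin n)), Finite H ∧ Function.Injective ι ∧
      Nonempty ((P : Subgroup (Matrix.symplecticGroup (Fin n) F)) ≃*
        (Fin n → (D₀ : Subgroup (SpecialLinearGroup (Fin 2) F))) ⋊[(piActG (Fin n)
          (D₀ : Subgroup (SpecialLinearGroup (Fin 2) F))).comp ι] H) := by
  classical
  obtain ⟨q, hq⟩ : ∃ q, q = Fintype.card F := ⟨_, rfl⟩
  have hodd' := hodd
  rw [← hq] at hodd
  have hq2 : 2 ≤ q := hq ▸ Fintype.one_lt_card
  have hq3 : 3 ≤ q := by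
    obtain ⟨k, hk⟩ := hodd
    omega
  have hD₀card : Nat.card (D₀ : Subgroup (SpecialLinearGroup (Fin 2) F)) =
      2 ^ (padicValNat 2 (q - 1) + padicValNat 2 (q + 1)) := by
    rw [Sylow.card_eq_multiplicity, Nat.factorization_def _ Nat.prime_two,
      Cfsg.Agent.Helper5.card_SL2 hq.symm, padicValNat_two_card_sl2 hq3 hodd]
  obtain ⟨H, _, ι, hfin, hι, hcard, hgen, _, _⟩ := sylData 2 n
  refine ⟨H, inferInstance, ι, hfin, hι, ?_⟩
  let φ : H →* MulAut (Fin n → (D₀ : Subgroup (SpecialLinearGroup (Fin 2) F))) :=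
    (piActG (Fin n) (D₀ : Subgroup (SpecialLinearGroup (Fin 2) F))).comp ι
  let μ : (Fin n → (D₀ : Subgroup (SpecialLinearGroup (Fin 2) F))) ⋊[φ] H →*
      WrG (Fin n) (D₀ : Subgroup (SpecialLinearGroup (Fin 2) F)) :=
    SemidirectProduct.map (MonoidHom.id _) ι (by
      intro h
      ext f i
      rfl)
  have hμ : Function.Injective μ := by
    intro a b hab
    have h1 := congrArg SemidirectProduct.left hab
    have h2 := congrArg SemidirectProduct.right hab
    simp only [μ, SemidirectProduct.map_left, SemidirectProduct.map_right] at h1 h2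
    ext1
    · exact h1
    · exact hι h2
  let Φ : (Fin n → (D₀ : Subgroup (SpecialLinearGroup (Fin 2) F))) ⋊[φ] H →*
      Matrix.symplecticGroup (Fin n) F :=
    spMono.comp ((wrBase (D₀ : Subgroup (SpecialLinearGroup (Fin 2) F)).subtype).comp μ)
  have hΦ : Function.Injective Φ :=
    spMono_injective.comp ((wrBase_injective _ (Subgroup.subtype_injective _)).comp hμ)
  have hcardW : Nat.card ((Fin n → (D₀ : Subgroup (SpecialLinearGroup (Fin 2) F))) ⋊[φ] H) =
      2 ^ (Nat.card (Matrix.symplecticGroup (Fin n) F)).factorization 2 := by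
    rw [SemidirectProduct.card, Nat.card_fun, Nat.card_eq_fintype_card (α := Fin n),
      Fintype.card_fin, hD₀card, hcard, ← pow_mul, ← pow_add,
      Nat.factorization_def _ Nat.prime_two, Cfsg.Agent.Lead.card_symplecticGroup,
      Nat.card_eq_fintype_card (α := F), ← hq, padicValNat_two_card_sp hq3 hodd]
    congr 1
    ring
  exact sylow_equiv_of_injective P Φ hΦ hcardW

omit [Fintype F] in
theorem qN_val : (qN : SpecialLinearGroup (Fin 2) F).1 = -1 := by
  change mN = -1
  unfold mN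
  ext i j
  fin_cases i <;> fin_cases j <;> simp

omit [Fintype F] in
theorem qN_central : (qN : SpecialLinearGroup (Fin 2) F) ∈
    Subgroup.center (SpecialLinearGroup (Fin 2) F) := by
  rw [Subgroup.mem_center_iff]
  intro g
  apply Subtype.ext
  rw [sl_val_mul, sl_val_mul, qN_val, mul_neg_one, neg_one_mul]

omit [Fintype F] in
theorem qN_sq : (qN : SpecialLinearGroup (Fin 2) F) ^ 2 = 1 := by
  apply Subtype.ext
  rw [sq, sl_val_mul, qN_val, neg_one_mul, neg_neg]
  rfl

omit [Fintype F] in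
theorem qN_ne_one (h2 : (2 : F) ≠ 0) : (qN : SpecialLinearGroup (Fin 2) F) ≠ 1 := by
  intro h
  have h1 := congrArg Subtype.val h
  rw [qN_val] at h1
  have h3 := congrFun (congrFun h1 0) 0
  simp only [sl_val_one, Matrix.neg_apply, Matrix.one_apply_eq] at h3
  apply h2
  linear_combination (-1 : F) * h3

/-- the normal `2`-rank of a Sylow `2`-subgroup of `Sp_{2n}(F)`, `|F|` odd, is `n` -/
theorem sp_sylow_normalRank (hodd : Odd (Fintype.card F)) (n : ℕ)
    (S : Sylow 2 (Matrix.symplecticGroup (Fin n) F)) :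
    (∃ E : Subgroup (S : Subgroup (Matrix.symplecticGroup (Fin n) F)), E.Normal ∧
      Cfsg.IsElementaryAbelian 2 E ∧ 2 ^ n ≤ Nat.card E) ∧
    ∀ E : Subgroup (S : Subgroup (Matrix.symplecticGroup (Fin n) F)), E.Normal →
      Cfsg.IsElementaryAbelian 2 E → Nat.card E ≤ 2 ^ n := by
  classical
  have h2 := two_ne_zero_of_odd_card hodd
  let D₀ : Sylow 2 (SpecialLinearGroup (Fin 2) F) := default
  obtain ⟨H, _, ι, hfin, hι, ⟨e⟩⟩ := sp_sylow_equiv hodd n S D₀
  apply normalRank_transport e n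
  have hzD : (qN : SpecialLinearGroup (Fin 2) F) ∈ D₀ :=
    central_mem_sylow D₀ qN qN_central 1 (by rw [pow_one]; exact qN_sq)
  -- non-commutativity
  obtain ⟨D, hD2, hDder⟩ := exists_quaternion_subgroup hodd
  have hne : derivedSeries (D₀ : Subgroup (SpecialLinearGroup (Fin 2) F)) 1 ≠ ⊥ :=
    der_ne_bot_of_embed D₀ hD2 D.subtype D.subtype_injective 1 hDder
  have hnc : ¬ ∀ a b : (D₀ : Subgroup (SpecialLinearGroup (Fin 2) F)), a * b = b * a := by
    intro hc
    apply hne
    rw [derivedSeries_one, commutator_eq_bot_iff_center_eq_top, eq_top_iff]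
    intro a _
    rw [Subgroup.mem_center_iff]
    intro b
    exact hc b a
  obtain ⟨x₄, hx₄⟩ : ∃ x₄ : (D₀ : Subgroup (SpecialLinearGroup (Fin 2) F)), x₄ ^ 2 ≠ 1 := by
    by_contra hall
    apply hnc
    have hsq : ∀ x : (D₀ : Subgroup (SpecialLinearGroup (Fin 2) F)), x * x = 1 := by
      intro x
      by_contra hx
      exact hall ⟨x, by rwa [sq]⟩
    intro a b
    have h1 := hsq (a * b)
    have ha := hsq a
    have hb := hsq b
    calc a * b = a * (a * b * (a * b)) * b := by rw [h1, mul_one]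
      _ = (a * a) * (b * a) * (b * b) := by group
      _ = b * a := by rw [ha, hb, one_mul, mul_one]
  have hfinW : Finite ((Fin n → (D₀ : Subgroup (SpecialLinearGroup (Fin 2) F))) ⋊[(piActG (Fin n)
      (D₀ : Subgroup (SpecialLinearGroup (Fin 2) F))).comp ι] H) :=
    Finite.of_equiv _ SemidirectProduct.equivProd.symm
  let z₀ : (D₀ : Subgroup (SpecialLinearGroup (Fin 2) F)) := ⟨qN, hzD⟩
  have hz2 : z₀ ^ 2 = 1 := by
    apply Subtype.ext
    rw [Subgroup.coe_pow]
    exact qN_sq
  have hz1 : z₀ ≠ 1 := by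
    intro h
    exact qN_ne_one h2 (congrArg Subtype.val h)
  have hzc : z₀ ∈ Subgroup.center (D₀ : Subgroup (SpecialLinearGroup (Fin 2) F)) := by
    rw [Subgroup.mem_center_iff]
    intro g
    apply Subtype.ext
    have := Subgroup.mem_center_iff.mp (qN_central (F := F)) g.1
    exact this
  have huniq : ∀ d : (D₀ : Subgroup (SpecialLinearGroup (Fin 2) F)), d ^ 2 = 1 →
      d = 1 ∨ d = z₀ := by
    intro d hd
    have hd' : d.1 * d.1 = 1 := by
      have := congrArg Subtype.val hd
      rwa [Subgroup.coe_pow, sq] at this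
    rcases sl2_involution h2 d.1 hd' with h | h
    · left
      exact Subtype.ext h
    · right
      exact Subtype.ext h
  exact normalRank_wr ι ((piActG (Fin n) (D₀ : Subgroup (SpecialLinearGroup (Fin 2) F))).comp ι)
    hι (fun h f i => rfl) z₀ hz2 hz1 hzc huniq x₄ hx₄

end Cfsg.Agent.Helper57
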