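import Mathlib
import Cfsg.Agent.Lib.Helper57.NormalRankA

set_option autoImplicit false

namespace Cfsg.Agent.Helper57

open Equiv

section wr
variable {n : ℕ} {D H : Type*} [Group D] [Group H]
variable (ι : H →* Perm (Fin n)) (φ : H →* MulAut (Fin n → D))

theorem eq_inl_left_of_right_eq_one (a : (Fin n → D) ⋊[φ] H) (har : a.right = 1) :
    a = SemidirectProduct.inl a.left := by
  ext1
  · rfl
  · change a.right = 1
    exact har

/-- coordinates of elements of a normal subgroup of exponent `2` of `D ≀ H` lying in the base -/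
theorem left_mem_of_normal_exp_two (z₀ : D)
    (hQ : ∀ N : Subgroup D, N.Normal → (∀ d ∈ N, d ^ 2 = 1) → N ≤ Subgroup.zpowers z₀)
    (E : Subgroup ((Fin n → D) ⋊[φ] H)) (hE : E.Normal) (hexp : ∀ a ∈ E, a ^ 2 = 1)
    (a : (Fin n → D) ⋊[φ] H) (ha : a ∈ E) (har : a.right = 1) (i : Fin n) :
    a.left i ∈ Subgroup.zpowers z₀ := by
  classical
  let E' : Subgroup (Fin n → D) := E.comap SemidirectProduct.inl
  have hE' : E'.Normal := hE.comap _
  let N : Subgroup D := E'.map (Pi.evalMonoidHom (fun _ : Fin n => D) i)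
  have hsurj : Function.Surjective (Pi.evalMonoidHom (fun _ : Fin n => D) i) := by
    intro d
    exact ⟨fun _ => d, rfl⟩
  have hN : N.Normal := hE'.map _ hsurj
  have hNexp : ∀ d ∈ N, d ^ 2 = 1 := by
    rintro _ ⟨f, hf, rfl⟩
    have h1 : (SemidirectProduct.inl f : (Fin n → D) ⋊[φ] H) ^ 2 = 1 := hexp _ hf
    rw [← map_pow] at h1
    have h2 : f ^ 2 = 1 := by
      apply SemidirectProduct.inl_injective (φ := φ)
      rw [h1, map_one]
    exact congrFun h2 i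
  apply hQ N hN hNexp
  refine ⟨a.left, ?_, rfl⟩
  change SemidirectProduct.inl a.left ∈ E
  rw [← eq_inl_left_of_right_eq_one φ a har]
  exact ha

variable {Y : Type*} [Group Y]

/-- the normal `2`-rank of `(D ≀ H) × Y`, `Y` elementary abelian, when the normal subgroups of
exponent `2` of `D` lie in a central subgroup of order `2` and `D` has exponent `> 2` -/
theorem normalRank_wr_prod (hι : Function.Injective ι) (hφ : ∀ h f i, φ h f i = f ((ι h)⁻¹ i))
    (z₀ : D) (hz2 : z₀ ^ 2 = 1) (hz1 : z₀ ≠ 1) (hzc : z₀ ∈ Subgroup.center D)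
    (hQ : ∀ N : Subgroup D, N.Normal → (∀ d ∈ N, d ^ 2 = 1) → N ≤ Subgroup.zpowers z₀)
    (x₄ : D) (hx₄ : x₄ ^ 2 ≠ 1) (hYc : ∀ a b : Y, a * b = b * a) (hY2 : ∀ y : Y, y ^ 2 = 1)
    (s : ℕ) (hYcard : Nat.card Y = 2 ^ s) [Finite (((Fin n → D) ⋊[φ] H) × Y)] :
    (∃ E : Subgroup (((Fin n → D) ⋊[φ] H) × Y), E.Normal ∧ Cfsg.IsElementaryAbelian 2 E ∧
      2 ^ (n + s) ≤ Nat.card E) ∧
    ∀ E : Subgroup (((Fin n → D) ⋊[φ] H) × Y), E.Normal → Cfsg.IsElementaryAbelian 2 E →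
      Nat.card E ≤ 2 ^ (n + s) := by
  have hB := baseCenter_normal ι φ hφ z₀ hzc
  have hBe := baseCenter_elementary (n := n) φ z₀ hz2
  have hcardE₀ : Nat.card ((baseCenterHom φ z₀).range.prod (⊤ : Subgroup Y)) = 2 ^ (n + s) := by
    rw [Nat.card_congr (Subgroup.prodEquiv _ _).toEquiv, Nat.card_prod,
      card_baseCenter φ z₀ hz2 hz1, Nat.card_congr Subgroup.topEquiv.toEquiv, hYcard, pow_add]
  constructor
  · refine ⟨(baseCenterHom φ z₀).range.prod ⊤, ?_, ?_, hcardE₀.ge⟩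
    · exact Subgroup.prod_normal _ _
    · refine ⟨⟨⟨?_⟩⟩, ?_⟩
      · rintro ⟨⟨a, y⟩, ha⟩ ⟨⟨b, y'⟩, hb⟩
        apply Subtype.ext
        rw [Subgroup.mem_prod] at ha hb
        have h1 : (⟨a, ha.1⟩ : (baseCenterHom φ z₀).range) * ⟨b, hb.1⟩ =
            ⟨b, hb.1⟩ * ⟨a, ha.1⟩ := hBe.1.is_comm.comm _ _
        have h2 : a * b = b * a := congrArg Subtype.val h1
        exact Prod.ext h2 (hYc y y')
      · rintro ⟨a, y⟩ ha
        rw [Subgroup.mem_prod] at ha
        exact Prod.ext (hBe.2 a ha.1) (hY2 y)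
  · intro E hEn hEe
    rw [← hcardE₀]
    apply Subgroup.card_le_of_le
    rintro ⟨a, y⟩ hay
    rw [Subgroup.mem_prod]
    refine ⟨?_, Subgroup.mem_top _⟩
    let E₁ : Subgroup ((Fin n → D) ⋊[φ] H) := E.map (MonoidHom.fst _ _)
    have hE₁n : E₁.Normal := hEn.map _ (fun w => ⟨(w, 1), rfl⟩)
    have hE₁exp : ∀ w ∈ E₁, w ^ 2 = 1 := by
      rintro _ ⟨⟨w, y'⟩, hw, rfl⟩
      have := hEe.2 _ hw
      exact congrArg Prod.fst this
    have haE₁ : a ∈ E₁ := ⟨(a, y), hay, rfl⟩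
    have har := right_eq_one_of_normal_exp_two ι hι φ hφ x₄ hx₄ E₁ hE₁n hE₁exp a haE₁
    have hmem := left_mem_of_normal_exp_two φ z₀ hQ E₁ hE₁n hE₁exp a haE₁ har
    refine ⟨fun i => ⟨a.left i, hmem i⟩, ?_⟩
    ext1
    · rfl
    · change (1 : H) = a.right
      rw [har]

end wr

end Cfsg.Agent.Helper57
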