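import Mathlib
import Cfsg.Agent.Lib.Helper57.SLOddA
import Cfsg.Agent.Lib.Helper57.GLSylowH

set_option autoImplicit false

namespace Cfsg.Agent.Helper57

open Equiv

variable {F : Type*} [Field F] [Fintype F] (E : Type*) [Field E] [Algebra F E] [Fintype E]

/-- multiplication by units of `E` as `F`-linear automorphisms -/
noncomputable def mulLin : Eˣ →* (E ≃ₗ[F] E) := DistribMulAction.toModuleAut F E

omit [Fintype F] [Fintype E] in
theorem mulLin_apply (u : Eˣ) (x : E) : mulLin (F := F) E u x = (u : E) * x := rfl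

omit [Fintype F] [Fintype E] in
theorem mulLin_injective : Function.Injective (mulLin (F := F) E) := by
  intro u v h
  have := congrArg (fun g : E ≃ₗ[F] E => g 1) h
  simp only [mulLin_apply, mul_one] at this
  exact Units.ext this

/-- the Frobenius of `E/F` as an `F`-linear automorphism -/
noncomputable def frobLin : E ≃ₗ[F] E :=
  (FiniteField.frobeniusAlgEquivOfAlgebraic F E).toLinearEquiv

theorem frobLin_apply (x : E) : frobLin (F := F) E x = x ^ Fintype.card F := rfl

theorem frobLin_conj (u : Eˣ) :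
    frobLin (F := F) E * mulLin E u * (frobLin (F := F) E)⁻¹ = mulLin E (u ^ Fintype.card F) := by
  apply LinearEquiv.ext
  intro x
  rw [LinearEquiv.mul_apply, LinearEquiv.mul_apply, mulLin_apply, frobLin_apply, mulLin_apply,
    mul_pow, ← frobLin_apply (F := F) E ((frobLin (F := F) E)⁻¹ x)]
  have : frobLin (F := F) E ((frobLin (F := F) E)⁻¹ x) = x :=
    (frobLin (F := F) E).apply_symm_apply x
  rw [this, Units.val_pow_eq_pow_val]

theorem frobLin_sq (h2 : Module.finrank F E = 2) : frobLin (F := F) E ^ 2 = 1 := by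
  apply LinearEquiv.ext
  intro x
  rw [sq, LinearEquiv.mul_apply, frobLin_apply, frobLin_apply, ← pow_mul, ← sq]
  have : Fintype.card E = Fintype.card F ^ 2 := by
    rw [Module.card_eq_pow_finrank (K := F) (V := E), h2]
  rw [← this, FiniteField.pow_card]
  rfl

theorem frobLin_ne_one (h2 : Module.finrank F E = 2) : frobLin (F := F) E ≠ 1 := by
  intro h
  have h1 : FiniteField.frobeniusAlgEquivOfAlgebraic F E = 1 := by
    apply AlgEquiv.ext
    intro x
    have := congrArg (fun g : E ≃ₗ[F] E => g x) h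
    exact this
  have h3 := FiniteField.orderOf_frobeniusAlgEquivOfAlgebraic F E
  rw [h1, orderOf_one, h2] at h3
  omega

/-- an explicit Sylow `2`-subgroup of `GL_F(E)`, `[E:F] = 2`, `|F| ≡ 3 mod 4` -/
theorem exists_gl2_sylow (hq4 : Fintype.card F % 4 = 3) (h2 : Module.finrank F E = 2) :
    ∃ X : Subgroup (E ≃ₗ[F] E),
      Nat.card X = 2 ^ (2 + padicValNat 2 (Fintype.card F + 1)) ∧
      ∀ x : X, x ^ 2 ∈ commutator X := by
  classical
  obtain ⟨q, hq⟩ : ∃ q, q = Fintype.card F := ⟨_, rfl⟩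
  rw [← hq] at hq4 ⊢
  have hodd : Odd q := Nat.odd_iff.mpr (by omega)
  have hq3 : 3 ≤ q := by omega
  obtain ⟨r, hr⟩ : ∃ r, q = 2 * r + 1 := ⟨q / 2, by omega⟩
  have hrodd : Odd r := Nat.odd_iff.mpr (by omega)
  have hv1 : padicValNat 2 (q - 1) = 1 := padicValNat_two_of_mod_four (by omega)
  let Sy : Sylow 2 Eˣ := default
  let C₀ : Subgroup (E ≃ₗ[F] E) := (Sy : Subgroup Eˣ).map (mulLin (F := F) E)
  let s : E ≃ₗ[F] E := frobLin (F := F) E
  have hC : IsPGroup 2 C₀ := Sy.isPGroup'.map _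
  have hs2 : s ^ 2 = 1 := frobLin_sq E h2
  have hconj : ∀ c ∈ C₀, s * c * s⁻¹ = c ^ (2 * r + 1) := by
    rintro _ ⟨u, _, rfl⟩
    rw [← hr, hq, ← map_pow]
    exact frobLin_conj E u
  refine ⟨C₀ ⊔ Subgroup.zpowers s, ?_, sq_mem_commutator_sd C₀ hC s r hrodd hs2 hconj⟩
  -- the order
  have hcardE : Nat.card Eˣ = q ^ 2 - 1 := by
    rw [Nat.card_units, Nat.card_eq_fintype_card, Module.card_eq_pow_finrank (K := F) (V := E), h2,
      hq]
  have hsq : q ^ 2 - 1 = (q - 1) * (q + 1) := by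
    have := Nat.sq_sub_sq q 1
    rw [one_pow] at this
    rw [this, mul_comm]
  have hcardC : Nat.card C₀ = 2 ^ (1 + padicValNat 2 (q + 1)) := by
    rw [Subgroup.card_map_of_injective (mulLin_injective E), Sylow.card_eq_multiplicity, hcardE,
      Nat.factorization_def _ Nat.prime_two, hsq, padicValNat.mul (by omega) (by omega), hv1]
  have hZ : IsPGroup 2 (Subgroup.zpowers s) := isPGroup_zpowers s 1 (by rw [pow_one]; exact hs2)
  have hnorm : Subgroup.zpowers s ≤ Subgroup.normalizer (C₀ : Set (E ≃ₗ[F] E)) := by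
    rw [Subgroup.zpowers_le, Subgroup.mem_normalizer_iff]
    intro h
    constructor
    · intro hh
      rw [hconj h hh]
      exact C₀.pow_mem hh _
    · intro hh
      have h1 := hconj _ hh
      have h3 : s * (s * h * s⁻¹) * s⁻¹ = s ^ 2 * h * (s ^ 2)⁻¹ := by
        simp only [sq, mul_inv_rev, mul_assoc]
      rw [h3, hs2, one_mul, inv_one, mul_one] at h1
      rw [h1]
      exact C₀.pow_mem hh _
  have hX : IsPGroup 2 (C₀ ⊔ Subgroup.zpowers s : Subgroup (E ≃ₗ[F] E)) :=
    IsPGroup.to_sup_of_normal_left' hC hZ hnorm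
  have hsC : s ∉ C₀ := by
    rintro ⟨u, _, hu⟩
    have h1 := congrArg (fun g : E ≃ₗ[F] E => g 1) hu
    simp only [mulLin_apply, mul_one] at h1
    have h3 : s 1 = 1 := by
      change frobLin (F := F) E 1 = 1
      rw [frobLin_apply, one_pow]
    rw [h3] at h1
    have hu1 : u = 1 := Units.ext h1
    rw [hu1, map_one] at hu
    exact frobLin_ne_one E h2 hu.symm
  -- finiteness and the order of the ambient group
  let b : Module.Basis (Fin 2) F E := Module.finBasisOfFinrankEq F E h2
  let e2 : (E ≃ₗ[F] E) ≃* GL (Fin 2) F := toGLEquiv b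
  have hfin : Finite (E ≃ₗ[F] E) := Finite.of_equiv _ e2.symm.toEquiv
  have hGL : padicValNat 2 (Nat.card (E ≃ₗ[F] E)) = 2 + padicValNat 2 (q + 1) := by
    rw [Nat.card_congr e2.toEquiv, card_GL_two, ← hq, padicValNat_two_card_GL hq3 hodd, hv1]
    simp
  have hGLne : Nat.card (E ≃ₗ[F] E) ≠ 0 := Nat.card_pos.ne'
  obtain ⟨k, hk⟩ := hX.exists_card_eq
  rw [hk]
  congr 1
  apply le_antisymm
  · rw [← hGL, ← padicValNat_dvd_iff_le hGLne, ← hk]
    exact Subgroup.card_subgroup_dvd_card _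
  · have hdvd : Nat.card C₀ ∣ Nat.card (C₀ ⊔ Subgroup.zpowers s : Subgroup (E ≃ₗ[F] E)) :=
      Subgroup.card_dvd_of_le le_sup_left
    rw [hk, hcardC, Nat.pow_dvd_pow_iff_le_right (by norm_num)] at hdvd
    rcases Nat.lt_or_ge (1 + padicValNat 2 (q + 1)) k with hlt | hge
    · omega
    · exfalso
      have hkk : k = 1 + padicValNat 2 (q + 1) := le_antisymm hge hdvd
      have heq : C₀ = C₀ ⊔ Subgroup.zpowers s := by
        apply Subgroup.eq_of_le_of_card_ge le_sup_left
        rw [hk, hcardC, hkk]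
      apply hsC
      rw [heq]
      exact (le_sup_right : Subgroup.zpowers s ≤ _) (Subgroup.mem_zpowers s)

end Cfsg.Agent.Helper57
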