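import Mathlib
import Cfsg.Agent.Lib.Helper57.SLOddB

set_option autoImplicit false

namespace Cfsg.Agent.Helper57

open Equiv

/-- normal subgroups of exponent `2` in a "semidihedral-like" group `C₀ ⋊ ⟨s⟩` -/
theorem sd_normal_exp_two {G : Type*} [Group G] (C₀ : Subgroup G) (s : G) (r : ℕ) (hr : Odd r)
    (hC : IsPGroup 2 C₀) (_hs2 : s ^ 2 = 1) (hconj : ∀ c ∈ C₀, s * c * s⁻¹ = c ^ (2 * r + 1))
    (hsC : s ∉ C₀) (hcomm : ∀ c ∈ C₀, ∀ c' ∈ C₀, c * c' = c' * c)
    [Finite (C₀ ⊔ Subgroup.zpowers s : Subgroup G)]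
    (hidx : Nat.card (C₀ ⊔ Subgroup.zpowers s : Subgroup G) = 2 * Nat.card C₀)
    (z : G) (hz : z ∈ C₀) (huniq : ∀ c ∈ C₀, c ^ 2 = 1 → c = 1 ∨ c = z)
    (c₈ : G) (hc₈ : c₈ ∈ C₀) (hc₈4 : c₈ ^ 4 ≠ 1)
    (N : Subgroup (C₀ ⊔ Subgroup.zpowers s : Subgroup G)) (hN : N.Normal)
    (hexp : ∀ d ∈ N, d ^ 2 = 1) :
    N ≤ Subgroup.zpowers (⟨z, (le_sup_left : C₀ ≤ C₀ ⊔ Subgroup.zpowers s) hz⟩ :
      (C₀ ⊔ Subgroup.zpowers s : Subgroup G)) := by
  have hCX : C₀ ≤ C₀ ⊔ Subgroup.zpowers s := le_sup_left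
  have hsX : s ∈ C₀ ⊔ Subgroup.zpowers s :=
    (le_sup_right : Subgroup.zpowers s ≤ C₀ ⊔ Subgroup.zpowers s) (Subgroup.mem_zpowers s)
  -- index two
  have hfinC : Finite C₀ := Finite.of_injective (Subgroup.inclusion hCX)
    (Subgroup.inclusion_injective hCX)
  have hindex : (C₀.subgroupOf (C₀ ⊔ Subgroup.zpowers s)).index = 2 := by
    have h1 := Subgroup.card_mul_index (C₀.subgroupOf (C₀ ⊔ Subgroup.zpowers s))
    rw [Nat.card_congr (Subgroup.subgroupOfEquivOfLe hCX).toEquiv, hidx, mul_comm] at h1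
    have hpos : 0 < Nat.card C₀ := Nat.card_pos
    exact Nat.eq_of_mul_eq_mul_right hpos h1
  intro a ha
  have ha2 := hexp a ha
  have ha2' : (a : G) ^ 2 = 1 := by
    have := congrArg Subtype.val ha2
    rwa [Subgroup.coe_pow, Subgroup.coe_one] at this
  by_cases haC : (a : G) ∈ C₀
  · rcases huniq _ haC ha2' with h | h
    · have : a = 1 := Subtype.ext h
      rw [this]
      exact Subgroup.one_mem _
    · have : a = ⟨z, hCX hz⟩ := Subtype.ext h
      rw [this]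
      exact Subgroup.mem_zpowers _
  · exfalso
    -- `a = c * s`
    have hsinv : s⁻¹ ∉ C₀ := fun h => hsC (by simpa using C₀.inv_mem h)
    have hmem : (a * (⟨s, hsX⟩ : (C₀ ⊔ Subgroup.zpowers s : Subgroup G))⁻¹) ∈
        C₀.subgroupOf (C₀ ⊔ Subgroup.zpowers s) := by
      rw [Subgroup.mul_mem_iff_of_index_two hindex]
      constructor
      · intro h
        exact absurd (Subgroup.mem_subgroupOf.mp h) haC
      · intro h
        exact absurd (Subgroup.mem_subgroupOf.mp h) hsinv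
    have hc : (a : G) * s⁻¹ ∈ C₀ := Subgroup.mem_subgroupOf.mp hmem
    obtain ⟨c, hcC, hca⟩ : ∃ c ∈ C₀, (a : G) = c * s := ⟨_, hc, by group⟩
    let c₈' : (C₀ ⊔ Subgroup.zpowers s : Subgroup G) := ⟨c₈, hCX hc₈⟩
    have ht : a * c₈' * a⁻¹ * c₈'⁻¹ ∈ N := by
      have h1 : c₈' * a⁻¹ * c₈'⁻¹ ∈ N := hN.conj_mem a⁻¹ (N.inv_mem ha) c₈'
      have h2 := N.mul_mem ha h1
      have h3 : a * (c₈' * a⁻¹ * c₈'⁻¹) = a * c₈' * a⁻¹ * c₈'⁻¹ := by group
      rwa [h3] at h2
    have ht2 := hexp _ ht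
    have hval : ((a * c₈' * a⁻¹ * c₈'⁻¹ : (C₀ ⊔ Subgroup.zpowers s : Subgroup G)) : G) =
        c₈ ^ (2 * r) := by
      change (a : G) * c₈ * (a : G)⁻¹ * c₈⁻¹ = c₈ ^ (2 * r)
      rw [hca]
      have h1 : c * s * c₈ * (c * s)⁻¹ * c₈⁻¹ = c * (s * c₈ * s⁻¹) * c⁻¹ * c₈⁻¹ := by group
      rw [h1, hconj _ hc₈, hcomm c hcC _ (C₀.pow_mem hc₈ _), mul_inv_cancel_right, pow_succ,
        mul_inv_cancel_right]
    have ht2' : (c₈ ^ (2 * r)) ^ 2 = 1 := by
      have := congrArg Subtype.val ht2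
      rwa [Subgroup.coe_pow, Subgroup.coe_one, hval] at this
    obtain ⟨k, hk⟩ := hC ⟨c₈, hc₈⟩
    have hk' : c₈ ^ 2 ^ k = 1 := by
      have := congrArg Subtype.val hk
      rwa [Subgroup.coe_pow, Subgroup.coe_one] at this
    apply hc₈4
    have hd1 : orderOf (c₈ ^ 4) ∣ r := by
      apply orderOf_dvd_of_pow_eq_one
      rw [← pow_mul, ← ht2', ← pow_mul]
      congr 1
      ring
    have hd2 : orderOf (c₈ ^ 4) ∣ 2 ^ k := by
      apply orderOf_dvd_of_pow_eq_one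
      rw [← pow_mul, mul_comm, pow_mul, hk', one_pow]
    have hcop : Nat.Coprime r (2 ^ k) := Nat.Coprime.pow_right _ (Nat.coprime_two_right.mpr hr)
    have h1 : orderOf (c₈ ^ 4) = 1 := Nat.eq_one_of_dvd_coprimes hcop hd1 hd2
    exact orderOf_eq_one_iff.mp h1

variable {F : Type*} [Field F] [Fintype F] (E : Type*) [Field E] [Algebra F E] [Fintype E]

/-- an explicit Sylow `2`-subgroup of `GL_F(E)`, `[E:F] = 2`, `|F| ≡ 3 mod 4`, with its structure -/
theorem exists_gl2_sylow_full (hq4 : Fintype.card F % 4 = 3) (h2 : Module.finrank F E = 2) :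
    ∃ (X : Subgroup (E ≃ₗ[F] E)) (z x₄ : X),
      Nat.card X = 2 ^ (2 + padicValNat 2 (Fintype.card F + 1)) ∧
      z ^ 2 = 1 ∧ z ≠ 1 ∧ z ∈ Subgroup.center X ∧ x₄ ^ 2 ≠ 1 ∧
      ∀ N : Subgroup X, N.Normal → (∀ d ∈ N, d ^ 2 = 1) → N ≤ Subgroup.zpowers z := by
  classical
  obtain ⟨q, hq⟩ : ∃ q, q = Fintype.card F := ⟨_, rfl⟩
  rw [← hq] at hq4 ⊢
  have hodd : Odd q := Nat.odd_iff.mpr (by omega)
  have hq3 : 3 ≤ q := by omega
  obtain ⟨r, hr⟩ : ∃ r, q = 2 * r + 1 := ⟨q / 2, by omega⟩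
  have hrodd : Odd r := Nat.odd_iff.mpr (by omega)
  have hv1 : padicValNat 2 (q - 1) = 1 := padicValNat_two_of_mod_four (by omega)
  have hd2 : 2 ≤ padicValNat 2 (q + 1) := by
    rw [← padicValNat_dvd_iff_le (by omega)]
    norm_num
    omega
  let Sy : Sylow 2 Eˣ := default
  let C₀ : Subgroup (E ≃ₗ[F] E) := (Sy : Subgroup Eˣ).map (mulLin (F := F) E)
  let s : E ≃ₗ[F] E := frobLin (F := F) E
  have hC : IsPGroup 2 C₀ := Sy.isPGroup'.map _
  have hs2 : s ^ 2 = 1 := frobLin_sq E h2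
  have hconj : ∀ c ∈ C₀, s * c * s⁻¹ = c ^ (2 * r + 1) := by
    rintro _ ⟨u, _, rfl⟩
    rw [← hr, hq, ← map_pow]
    exact frobLin_conj E u
  have hcardE : Nat.card Eˣ = q ^ 2 - 1 := by
    rw [Nat.card_units, Nat.card_eq_fintype_card, Module.card_eq_pow_finrank (K := F) (V := E), h2,
      hq]
  have hsq : q ^ 2 - 1 = (q - 1) * (q + 1) := by
    have := Nat.sq_sub_sq q 1
    rw [one_pow] at this
    rw [this, mul_comm]
  have hcardSy : Nat.card (Sy : Subgroup Eˣ) = 2 ^ (1 + padicValNat 2 (q + 1)) := by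
    rw [Sylow.card_eq_multiplicity, hcardE,
      Nat.factorization_def _ Nat.prime_two, hsq, padicValNat.mul (by omega) (by omega), hv1]
  have hcardC : Nat.card C₀ = 2 ^ (1 + padicValNat 2 (q + 1)) := by
    rw [Subgroup.card_map_of_injective (mulLin_injective E), hcardSy]
  have hZ : IsPGroup 2 (Subgroup.zpowers s) := isPGroup_zpowers s 1 (by rw [pow_one]; exact hs2)
  have hnorm : Subgroup.zpowers s ≤ Subgroup.normalizer (C₀ : Set (E ≃ₗ[F] E)) := by
    rw [Subgroup.zpowers_le, Subgroup.mem_normalizer_iff]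
    intro h
    constructor
    · intro hh
      rw [hconj h hh]
      exact C₀.pow_mem hh _
    · intro hh
      have h1 := hconj _ hh
      have h3 : s * (s * h * s⁻¹) * s⁻¹ = s ^ 2 * h * (s ^ 2)⁻¹ := by
        simp only [sq, mul_inv_rev, mul_assoc]
      rw [h3, hs2, one_mul, inv_one, mul_one] at h1
      rw [h1]
      exact C₀.pow_mem hh _
  have hX : IsPGroup 2 (C₀ ⊔ Subgroup.zpowers s : Subgroup (E ≃ₗ[F] E)) :=
    IsPGroup.to_sup_of_normal_left' hC hZ hnorm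
  have hsC : s ∉ C₀ := by
    rintro ⟨u, _, hu⟩
    have h1 := congrArg (fun g : E ≃ₗ[F] E => g 1) hu
    simp only [mulLin_apply, mul_one] at h1
    have h3 : s 1 = 1 := by
      change frobLin (F := F) E 1 = 1
      rw [frobLin_apply, one_pow]
    rw [h3] at h1
    have hu1 : u = 1 := Units.ext h1
    rw [hu1, map_one] at hu
    exact frobLin_ne_one E h2 hu.symm
  let b : Module.Basis (Fin 2) F E := Module.finBasisOfFinrankEq F E h2
  let e2 : (E ≃ₗ[F] E) ≃* GL (Fin 2) F := toGLEquiv b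
  have hfin : Finite (E ≃ₗ[F] E) := Finite.of_equiv _ e2.symm.toEquiv
  have hGL : padicValNat 2 (Nat.card (E ≃ₗ[F] E)) = 2 + padicValNat 2 (q + 1) := by
    rw [Nat.card_congr e2.toEquiv, card_GL_two, ← hq, padicValNat_two_card_GL hq3 hodd, hv1]
    simp
  have hGLne : Nat.card (E ≃ₗ[F] E) ≠ 0 := Nat.card_pos.ne'
  have hcardX : Nat.card (C₀ ⊔ Subgroup.zpowers s : Subgroup (E ≃ₗ[F] E)) =
      2 ^ (2 + padicValNat 2 (q + 1)) := by
    obtain ⟨k, hk⟩ := hX.exists_card_eq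
    rw [hk]
    congr 1
    apply le_antisymm
    · rw [← hGL, ← padicValNat_dvd_iff_le hGLne, ← hk]
      exact Subgroup.card_subgroup_dvd_card _
    · have hdvd : Nat.card C₀ ∣ Nat.card (C₀ ⊔ Subgroup.zpowers s : Subgroup (E ≃ₗ[F] E)) :=
        Subgroup.card_dvd_of_le le_sup_left
      rw [hk, hcardC, Nat.pow_dvd_pow_iff_le_right (by norm_num)] at hdvd
      rcases Nat.lt_or_ge (1 + padicValNat 2 (q + 1)) k with hlt | hge
      · omega
      · exfalso
        have hkk : k = 1 + padicValNat 2 (q + 1) := le_antisymm hge hdvd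
        have heq : C₀ = C₀ ⊔ Subgroup.zpowers s := by
          apply Subgroup.eq_of_le_of_card_ge le_sup_left
          rw [hk, hcardC, hkk]
        apply hsC
        rw [heq]
        exact (le_sup_right : Subgroup.zpowers s ≤ _) (Subgroup.mem_zpowers s)
  have hidx : Nat.card (C₀ ⊔ Subgroup.zpowers s : Subgroup (E ≃ₗ[F] E)) = 2 * Nat.card C₀ := by
    rw [hcardX, hcardC, ← pow_succ']
    congr 1
    ring
  -- commutativity of `C₀`
  have hcomm : ∀ c ∈ C₀, ∀ c' ∈ C₀, c * c' = c' * c := by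
    rintro _ ⟨u, _, rfl⟩ _ ⟨u', _, rfl⟩
    rw [← map_mul, ← map_mul, mul_comm]
  -- the central involution
  have h2F : (2 : E) ≠ 0 := by
    have h2F' : (2 : F) ≠ 0 := two_ne_zero_of_odd_card (hq ▸ hodd)
    intro h0
    apply h2F'
    have : algebraMap F E 2 = 0 := by rw [map_ofNat]; exact h0
    exact (map_eq_zero (algebraMap F E)).mp this
  have hneg1 : (-1 : Eˣ) ∈ (Sy : Subgroup Eˣ) := by
    apply central_mem_sylow Sy (-1) _ 1
    · rw [pow_one, neg_one_sq]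
    · rw [Subgroup.mem_center_iff]
      intro g
      rw [mul_comm]
  let z : E ≃ₗ[F] E := mulLin (F := F) E (-1)
  have hzC : z ∈ C₀ := ⟨-1, hneg1, rfl⟩
  have hz2 : z ^ 2 = 1 := by
    change mulLin (F := F) E (-1) ^ 2 = 1
    rw [← map_pow, neg_one_sq, map_one]
  have hz1 : z ≠ 1 := by
    intro h
    have h1 : mulLin (F := F) E (-1) = mulLin (F := F) E 1 := by rw [map_one]; exact h
    have h3 := mulLin_injective E h1
    have h4 := congrArg Units.val h3
    rw [Units.val_neg, Units.val_one] at h4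
    apply h2F
    linear_combination (-1 : E) * h4
  have hzcen : ∀ g : E ≃ₗ[F] E, g * z = z * g := by
    intro g
    apply LinearEquiv.ext
    intro x
    change g ((((-1 : Eˣ) : E)) * x) = ((-1 : Eˣ) : E) * g x
    rw [Units.val_neg, Units.val_one, neg_one_mul, neg_one_mul, map_neg]
  have huniq : ∀ c ∈ C₀, c ^ 2 = 1 → c = 1 ∨ c = z := by
    rintro _ ⟨u, _, rfl⟩ hu
    rw [← map_pow] at hu
    have h1 : u ^ 2 = 1 := by
      apply mulLin_injective (F := F) E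
      rw [hu, map_one]
    have h3 : (u : E) ^ 2 = 1 := by
      rw [← Units.val_pow_eq_pow_val, h1, Units.val_one]
    rcases sq_eq_one_iff.mp h3 with h | h
    · left
      have : u = 1 := Units.ext h
      rw [this, map_one]
    · right
      have : u = -1 := by
        apply Units.ext
        rw [h, Units.val_neg, Units.val_one]
      rw [this]
  -- an element of order at least `8`
  obtain ⟨c₈, hc₈, hc₈4⟩ : ∃ c₈ ∈ C₀, c₈ ^ 4 ≠ 1 := by
    have hcyc : IsCyclic (Sy : Subgroup Eˣ) := Subgroup.isCyclic _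
    obtain ⟨g, hg⟩ := IsCyclic.exists_generator (α := (Sy : Subgroup Eˣ))
    have hog := orderOf_eq_card_of_forall_mem_zpowers hg
    rw [hcardSy] at hog
    refine ⟨mulLin (F := F) E (g : Eˣ), ⟨_, g.2, rfl⟩, ?_⟩
    intro h4
    rw [← map_pow] at h4
    have h5 : (g : Eˣ) ^ 4 = 1 := by
      apply mulLin_injective (F := F) E
      rw [h4, map_one]
    have h6 : g ^ 4 = 1 := by
      apply Subtype.ext
      rw [Subgroup.coe_pow]
      exact h5
    have h7 := orderOf_dvd_of_pow_eq_one h6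
    rw [hog] at h7
    have h8 : 2 ^ (1 + padicValNat 2 (q + 1)) ≤ 4 := Nat.le_of_dvd (by norm_num) h7
    have h9 : 2 ^ 3 ≤ 2 ^ (1 + padicValNat 2 (q + 1)) :=
      Nat.pow_le_pow_right (by norm_num) (by omega)
    omega
  have hCX : C₀ ≤ C₀ ⊔ Subgroup.zpowers s := le_sup_left
  have hfinX : Finite (C₀ ⊔ Subgroup.zpowers s : Subgroup (E ≃ₗ[F] E)) := inferInstance
  refine ⟨C₀ ⊔ Subgroup.zpowers s, ⟨z, hCX hzC⟩, ⟨c₈, hCX hc₈⟩, hcardX, ?_, ?_, ?_, ?_, ?_⟩
  · apply Subtype.ext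
    rw [Subgroup.coe_pow]
    exact hz2
  · intro h
    exact hz1 (congrArg Subtype.val h)
  · rw [Subgroup.mem_center_iff]
    intro g
    apply Subtype.ext
    exact hzcen g.1
  · intro h
    have h1 : c₈ ^ 2 = 1 := by
      have := congrArg Subtype.val h
      rwa [Subgroup.coe_pow] at this
    apply hc₈4
    have : c₈ ^ 4 = (c₈ ^ 2) ^ 2 := by rw [← pow_mul]
    rw [this, h1, one_pow]
  · intro N hN hexp
    exact sd_normal_exp_two C₀ s r hrodd hC hs2 hconj hsC hcomm hidx z hzC huniq c₈ hc₈ hc₈4 N hN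
      hexp

end Cfsg.Agent.Helper57
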