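import Mathlib
import Cfsg.Agent.Lib.Helper57.SymSylowB
import Cfsg.Agent.Lib.Helper57.SLOddB

set_option autoImplicit false

namespace Cfsg.Agent.Helper57

open Equiv Matrix

/-- an element of `2`-power order killed by `2 r`, `r` odd, is an involution -/
theorem sq_eq_one_of_two_pow {G : Type*} [Group G] (g : G) (k r : ℕ) (hr : Odd r)
    (h1 : g ^ 2 ^ k = 1) (h2 : g ^ (2 * r) = 1) : g ^ 2 = 1 := by
  have hd1 : orderOf g ∣ 2 ^ k := orderOf_dvd_of_pow_eq_one h1
  have hd2 : orderOf g ∣ 2 * r := orderOf_dvd_of_pow_eq_one h2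
  have hcop : Nat.Coprime (orderOf g) r := by
    apply Nat.Coprime.coprime_dvd_left hd1
    apply Nat.Coprime.pow_left
    exact (Nat.coprime_two_left.mpr hr)
  exact orderOf_dvd_iff_pow_eq_one.mp (hcop.dvd_of_dvd_mul_right hd2)

variable {F : Type*} [Field F] [Fintype F]

/-- squares in Sylow `2`-subgroups of `GL_n(F)`, `|F| ≡ 3 mod 4`, lie in the derived subgroup
(version with a given quadratic extension) -/
theorem gl_sylow_sq_mem_aux (E : Type*) [Field E] [Algebra F E] [Fintype E]
    (h2 : Module.finrank F E = 2) (hq4 : Fintype.card F % 4 = 3) (n : ℕ)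
    (S : Sylow 2 (GL (Fin n) F)) (y : (S : Subgroup (GL (Fin n) F))) :
    y ^ 2 ∈ commutator (S : Subgroup (GL (Fin n) F)) := by
  classical
  obtain ⟨q, hq⟩ : ∃ q, q = Fintype.card F := ⟨_, rfl⟩
  have hq4' : q % 4 = 3 := by rw [hq]; exact hq4
  have hodd : Odd q := Nat.odd_iff.mpr (by omega)
  have hq3 : 3 ≤ q := by omega
  have hv1 : padicValNat 2 (q - 1) = 1 := padicValNat_two_of_mod_four (by omega)
  obtain ⟨r, hr⟩ : ∃ r, q = 2 * r + 1 := ⟨q / 2, by omega⟩
  have hrodd : Odd r := Nat.odd_iff.mpr (by omega)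
  obtain ⟨m, hm⟩ : ∃ m, m = n / 2 := ⟨_, rfl⟩
  obtain ⟨s, hs⟩ : ∃ s, s = n % 2 := ⟨_, rfl⟩
  obtain ⟨X, hXcard, hXsq⟩ := exists_gl2_sylow E hq4 h2
  rw [← hq] at hXcard
  obtain ⟨H, _, ι, hfin, hι, hcard, hgen, _, _⟩ := sylData 2 m
  let Y : Sylow 2 (Fin s → Fˣ) := default
  let b2 : Module.Basis (Fin 2) F E := Module.finBasisOfFinrankEq F E h2
  have hfinE : Finite (E ≃ₗ[F] E) := Finite.of_equiv _ (toGLEquiv b2).symm.toEquiv
  have hfinX : Finite X := inferInstance
  let Ψ₀ : ((Fin m → X) ⋊[(piAct m X).comp ι] H) × (Y : Subgroup (Fin s → Fˣ)) →*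
      ((Fin m → (E ≃ₗ[F] E)) ⋊[piAct m (E ≃ₗ[F] E)] Perm (Fin m)) × (Fin s → Fˣ) :=
    MonoidHom.prodMap (wrMapG X.subtype ι) (Y : Subgroup (Fin s → Fˣ)).subtype
  have hΨ₀ : Function.Injective Ψ₀ :=
    Function.Injective.prodMap (wrMapG_injective _ _ (Subgroup.subtype_injective _) hι)
      (Subgroup.subtype_injective _)
  have hfr : Module.finrank F (WU (F := F) E m s) = n := by
    rw [Module.finrank_prod, Module.finrank_pi_fintype, Module.finrank_fin_fun]
    simp only [h2, Finset.sum_const, Finset.card_univ, Fintype.card_fin, smul_eq_mul]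
    omega
  let b : Module.Basis (Fin n) F (WU (F := F) E m s) := Module.finBasisOfFinrankEq F _ hfr
  let Ψ : ((Fin m → X) ⋊[(piAct m X).comp ι] H) × (Y : Subgroup (Fin s → Fˣ)) →* GL (Fin n) F :=
    ((toGLEquiv b).toMonoidHom.comp (fullLinU E m s)).comp Ψ₀
  have hΨ : Function.Injective Ψ :=
    ((toGLEquiv b).injective.comp (fullLinU_injective E m s)).comp hΨ₀
  have hYcard : Nat.card (Y : Subgroup (Fin s → Fˣ)) = 2 ^ s := by
    rw [Sylow.card_eq_multiplicity, Nat.card_fun, Nat.card_units,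
      Nat.card_eq_fintype_card (α := F), ← hq, Nat.card_eq_fintype_card (α := Fin s),
      Fintype.card_fin, Nat.factorization_def _ Nat.prime_two, padicValNat.pow, hv1, mul_one]
  have hcardA : Nat.card (((Fin m → X) ⋊[(piAct m X).comp ι] H) × (Y : Subgroup (Fin s → Fˣ))) =
      2 ^ (Nat.card (GL (Fin n) F)).factorization 2 := by
    rw [Nat.card_prod, SemidirectProduct.card, Nat.card_fun,
      Nat.card_eq_fintype_card (α := Fin m), Fintype.card_fin, hXcard, hcard, hYcard, ← pow_mul,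
      ← pow_add, ← pow_add, Nat.factorization_def _ Nat.prime_two, Matrix.card_GL_field, ← hq,
      padicValNat_two_card_GL hq3 hodd n, ← hm, ← hs, hv1]
    congr 1
    ring
  obtain ⟨e⟩ := sylow_equiv_of_injective S Ψ hΨ hcardA
  apply pow_mem_commutator_of_equiv e 2
  intro a
  apply sq_mem_commutator_prod
  · intro w
    exact sq_mem_commutator_wr _ hXsq hgen w
  · intro t
    obtain ⟨k, hk⟩ := Y.isPGroup' t
    apply Subtype.ext
    rw [Subgroup.coe_pow, Subgroup.coe_one]
    apply sq_eq_one_of_two_pow (t : Fin s → Fˣ) k r hrodd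
    · have := congrArg Subtype.val hk
      rwa [Subgroup.coe_pow, Subgroup.coe_one] at this
    · funext j
      rw [Pi.pow_apply, Pi.one_apply]
      apply Units.ext
      rw [Units.val_pow_eq_pow_val, Units.val_one]
      have h3 := FiniteField.pow_card_sub_one_eq_one ((t : Fin s → Fˣ) j : F) (Units.ne_zero _)
      rw [← hq, hr, Nat.add_sub_cancel] at h3
      exact h3

/-- squares in Sylow `2`-subgroups of `GL_n(F)`, `|F| ≡ 3 mod 4`, lie in the derived subgroup -/
theorem gl_sylow_sq_mem (hq4 : Fintype.card F % 4 = 3) (n : ℕ)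
    (S : Sylow 2 (GL (Fin n) F)) (y : (S : Subgroup (GL (Fin n) F))) :
    y ^ 2 ∈ commutator (S : Subgroup (GL (Fin n) F)) := by
  have hchar : CharP F (ringChar F) := ringChar.charP F
  have hprime : Fact (ringChar F).Prime := ⟨CharP.char_is_prime F (ringChar F)⟩
  have hfr : Module.finrank F (FiniteField.Extension F (ringChar F) 2) = 2 :=
    FiniteField.finrank_extension F (ringChar F) 2
  have hfin : Finite (FiniteField.Extension F (ringChar F) 2) := Module.finite_of_finite F
  have : Fintype (FiniteField.Extension F (ringChar F) 2) := Fintype.ofFinite _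
  exact gl_sylow_sq_mem_aux (FiniteField.Extension F (ringChar F) 2) hfr hq4 n S y

end Cfsg.Agent.Helper57
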