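import Mathlib
import Cfsg.Agent.Lib.Helper57.SymSylowB
import Cfsg.Agent.Lib.Helper57.SLOddC
import Cfsg.Agent.Lib.Helper57.NormalRankC
import Cfsg.Agent.Lib.Helper57.NormalRankD

set_option autoImplicit false

namespace Cfsg.Agent.Helper57

open Equiv Matrix

variable {F : Type*} [Field F] [Fintype F]

/-- the structure of the Sylow `2`-subgroups of `GL_n(F)`, `|F| ≡ 3 mod 4` -/
theorem gl_sylow_equiv_three (E : Type*) [Field E] [Algebra F E] [Fintype E]
    (h2 : Module.finrank F E = 2) (hq4 : Fintype.card F % 4 = 3) (n : ℕ)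
    (S : Sylow 2 (GL (Fin n) F)) (X : Subgroup (E ≃ₗ[F] E))
    (hXcard : Nat.card X = 2 ^ (2 + padicValNat 2 (Fintype.card F + 1))) :
    ∃ (H : Type) (_ : Group H) (ι : H →* Perm (Fin (n / 2))), Finite H ∧ Function.Injective ι ∧
      Nat.card ((default : Sylow 2 (Fin (n % 2) → Fˣ)) : Subgroup (Fin (n % 2) → Fˣ)) =
        2 ^ (n % 2) ∧
      (∀ t : ((default : Sylow 2 (Fin (n % 2) → Fˣ)) : Subgroup (Fin (n % 2) → Fˣ)), t ^ 2 = 1) ∧
      Nonempty ((S : Subgroup (GL (Fin n) F)) ≃*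
        ((Fin (n / 2) → X) ⋊[(piAct (n / 2) X).comp ι] H) ×
          ((default : Sylow 2 (Fin (n % 2) → Fˣ)) : Subgroup (Fin (n % 2) → Fˣ))) := by
  classical
  obtain ⟨q, hq⟩ : ∃ q, q = Fintype.card F := ⟨_, rfl⟩
  have hq4' : q % 4 = 3 := by rw [hq]; exact hq4
  have hodd : Odd q := Nat.odd_iff.mpr (by omega)
  have hq3 : 3 ≤ q := by omega
  have hv1 : padicValNat 2 (q - 1) = 1 := padicValNat_two_of_mod_four (by omega)
  obtain ⟨r, hr⟩ : ∃ r, q = 2 * r + 1 := ⟨q / 2, by omega⟩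
  have hrodd : Odd r := Nat.odd_iff.mpr (by omega)
  obtain ⟨m, hm⟩ : ∃ m, m = n / 2 := ⟨_, rfl⟩
  obtain ⟨s, hs⟩ : ∃ s, s = n % 2 := ⟨_, rfl⟩
  rw [← hm, ← hs]
  rw [← hq] at hXcard
  obtain ⟨H, _, ι, hfin, hι, hcard, hgen, _, _⟩ := sylData 2 m
  let Y : Sylow 2 (Fin s → Fˣ) := default
  let b2 : Module.Basis (Fin 2) F E := Module.finBasisOfFinrankEq F E h2
  have hfinE : Finite (E ≃ₗ[F] E) := Finite.of_equiv _ (toGLEquiv b2).symm.toEquiv
  have hfinX : Finite X := inferInstance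
  let Ψ₀ : ((Fin m → X) ⋊[(piAct m X).comp ι] H) × (Y : Subgroup (Fin s → Fˣ)) →*
      ((Fin m → (E ≃ₗ[F] E)) ⋊[piAct m (E ≃ₗ[F] E)] Perm (Fin m)) × (Fin s → Fˣ) :=
    MonoidHom.prodMap (wrMapG X.subtype ι) (Y : Subgroup (Fin s → Fˣ)).subtype
  have hΨ₀ : Function.Injective Ψ₀ :=
    Function.Injective.prodMap (wrMapG_injective _ _ (Subgroup.subtype_injective _) hι)
      (Subgroup.subtype_injective _)
  have hfr : Module.finrank F (WU (F := F) E m s) = n := by
    rw [Module.finrank_prod, Module.finrank_pi_fintype, Module.finrank_fin_fun]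
    simp only [h2, Finset.sum_const, Finset.card_univ, Fintype.card_fin, smul_eq_mul]
    omega
  let b : Module.Basis (Fin n) F (WU (F := F) E m s) := Module.finBasisOfFinrankEq F _ hfr
  let Ψ : ((Fin m → X) ⋊[(piAct m X).comp ι] H) × (Y : Subgroup (Fin s → Fˣ)) →* GL (Fin n) F :=
    ((toGLEquiv b).toMonoidHom.comp (fullLinU E m s)).comp Ψ₀
  have hΨ : Function.Injective Ψ :=
    ((toGLEquiv b).injective.comp (fullLinU_injective E m s)).comp hΨ₀
  have hYcard : Nat.card (Y : Subgroup (Fin s → Fˣ)) = 2 ^ s := by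
    rw [Sylow.card_eq_multiplicity, Nat.card_fun, Nat.card_units,
      Nat.card_eq_fintype_card (α := F), ← hq, Nat.card_eq_fintype_card (α := Fin s),
      Fintype.card_fin, Nat.factorization_def _ Nat.prime_two, padicValNat.pow, hv1, mul_one]
  have hcardA : Nat.card (((Fin m → X) ⋊[(piAct m X).comp ι] H) × (Y : Subgroup (Fin s → Fˣ))) =
      2 ^ (Nat.card (GL (Fin n) F)).factorization 2 := by
    rw [Nat.card_prod, SemidirectProduct.card, Nat.card_fun,
      Nat.card_eq_fintype_card (α := Fin m), Fintype.card_fin, hXcard, hcard, hYcard, ← pow_mul,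
      ← pow_add, ← pow_add, Nat.factorization_def _ Nat.prime_two, Matrix.card_GL_field, ← hq,
      padicValNat_two_card_GL hq3 hodd n, ← hm, ← hs, hv1]
    congr 1
    ring
  refine ⟨H, inferInstance, ι, hfin, hι, hYcard, ?_, sylow_equiv_of_injective S Ψ hΨ hcardA⟩
  intro t
  obtain ⟨k, hk⟩ := Y.isPGroup' t
  apply Subtype.ext
  rw [Subgroup.coe_pow, Subgroup.coe_one]
  apply sq_eq_one_of_two_pow (t : Fin s → Fˣ) k r hrodd
  · have := congrArg Subtype.val hk
    rwa [Subgroup.coe_pow, Subgroup.coe_one] at this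
  · funext j
    rw [Pi.pow_apply, Pi.one_apply]
    apply Units.ext
    rw [Units.val_pow_eq_pow_val, Units.val_one]
    have h3 := FiniteField.pow_card_sub_one_eq_one ((t : Fin s → Fˣ) j : F) (Units.ne_zero _)
    rw [← hq, hr, Nat.add_sub_cancel] at h3
    exact h3

/-- the normal `2`-rank of the Sylow `2`-subgroups of `GL_n(F)`, `|F| ≡ 3 mod 4` -/
theorem gl_sylow_normalRank_three_aux (E : Type*) [Field E] [Algebra F E] [Fintype E]
    (h2 : Module.finrank F E = 2) (hq4 : Fintype.card F % 4 = 3) (n : ℕ)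
    (S : Sylow 2 (GL (Fin n) F)) :
    (∃ A : Subgroup (S : Subgroup (GL (Fin n) F)), A.Normal ∧
      Cfsg.IsElementaryAbelian 2 A ∧ 2 ^ ((n + 1) / 2) ≤ Nat.card A) ∧
    ∀ A : Subgroup (S : Subgroup (GL (Fin n) F)), A.Normal →
      Cfsg.IsElementaryAbelian 2 A → Nat.card A ≤ 2 ^ ((n + 1) / 2) := by
  classical
  obtain ⟨X, z, x₄, hXcard, hz2, hz1, hzc, hx₄, hQ⟩ := exists_gl2_sylow_full E hq4 h2
  obtain ⟨H, _, ι, hfin, hι, hYcard, hY2, ⟨e⟩⟩ := gl_sylow_equiv_three E h2 hq4 n S X hXcard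
  have hk : (n + 1) / 2 = n / 2 + n % 2 := by omega
  rw [hk]
  apply normalRank_transport e
  let b2 : Module.Basis (Fin 2) F E := Module.finBasisOfFinrankEq F E h2
  have hfinE : Finite (E ≃ₗ[F] E) := Finite.of_equiv _ (toGLEquiv b2).symm.toEquiv
  have hfinX : Finite X := inferInstance
  have hfinW : Finite ((Fin (n / 2) → X) ⋊[(piAct (n / 2) X).comp ι] H) :=
    Finite.of_equiv _ SemidirectProduct.equivProd.symm
  have hfinA : Finite (((Fin (n / 2) → X) ⋊[(piAct (n / 2) X).comp ι] H) ×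
      ((default : Sylow 2 (Fin (n % 2) → Fˣ)) : Subgroup (Fin (n % 2) → Fˣ))) := inferInstance
  apply normalRank_wr_prod ι ((piAct (n / 2) X).comp ι) hι (fun h f i => rfl) z hz2 hz1 hzc hQ x₄
    hx₄ _ hY2 (n % 2) hYcard
  intro a b
  apply Subtype.ext
  rw [Subgroup.coe_mul, Subgroup.coe_mul, mul_comm]

/-- the structure of the Sylow `2`-subgroups of `GL_n(F)`, `|F| ≡ 1 mod 4` -/
theorem gl_sylow_equiv_one (hq4 : Fintype.card F % 4 = 1) (n : ℕ)
    (S : Sylow 2 (GL (Fin n) F)) (Y₁ : Sylow 2 Fˣ) :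
    ∃ (H : Type) (_ : Group H) (ι : H →* Perm (Fin n)), Finite H ∧ Function.Injective ι ∧
      Nonempty ((S : Subgroup (GL (Fin n) F)) ≃*
        (Fin n → (Y₁ : Subgroup Fˣ)) ⋊[(piAct n (Y₁ : Subgroup Fˣ)).comp ι] H) := by
  classical
  obtain ⟨q, hq⟩ : ∃ q, q = Fintype.card F := ⟨_, rfl⟩
  have hq4' : q % 4 = 1 := by rw [hq]; exact hq4
  have hq2 : 2 ≤ q := hq ▸ Fintype.one_lt_card
  have hodd : Odd q := Nat.odd_iff.mpr (by omega)
  have hq3 : 3 ≤ q := by omega
  have hv1 : padicValNat 2 (q + 1) = 1 := padicValNat_two_of_mod_four (by omega)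
  obtain ⟨H, _, ι, hfin, hι, hcard, hgen, _, _⟩ := sylData 2 n
  refine ⟨H, inferInstance, ι, hfin, hι, ?_⟩
  have hfr : Module.finrank F (WV (F := F) F n 0) = n := by
    rw [Module.finrank_prod, Module.finrank_fin_fun, Module.finrank_fin_fun, add_zero]
  let b : Module.Basis (Fin n) F (WV (F := F) F n 0) := Module.finBasisOfFinrankEq F _ hfr
  let Ψ : (Fin n → (Y₁ : Subgroup Fˣ)) ⋊[(piAct n (Y₁ : Subgroup Fˣ)).comp ι] H →*
      GL (Fin n) F :=
    ((toGLEquiv b).toMonoidHom.comp (monoLin (F := F) F n 0)).comp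
      (wrMapG (Y₁ : Subgroup Fˣ).subtype ι)
  have hΨ : Function.Injective Ψ :=
    ((toGLEquiv b).injective.comp (monoLin_injective (F := F) F n 0)).comp
      (wrMapG_injective _ _ (Subgroup.subtype_injective _) hι)
  have hY₁card : Nat.card (Y₁ : Subgroup Fˣ) = 2 ^ padicValNat 2 (q - 1) := by
    rw [Sylow.card_eq_multiplicity, Nat.card_units, Nat.card_eq_fintype_card (α := F), ← hq,
      Nat.factorization_def _ Nat.prime_two]
  have hfact : padicValNat 2 n.factorial = padicValNat 2 (n / 2).factorial + n / 2 := by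
    have h1 : n = 2 * (n / 2) + n % 2 := by omega
    conv_lhs => rw [h1]
    rw [padicValNat_factorial_mul_add (n / 2) (Nat.mod_lt n (by norm_num)),
      padicValNat_factorial_mul]
  have harith : ∀ a V : ℕ, a * n + (V + n / 2) =
      n / 2 * (2 * a + 1) + n % 2 * a + V := by
    intro a V
    obtain ⟨m, hm⟩ : ∃ m, m = n / 2 := ⟨_, rfl⟩
    obtain ⟨s, hs⟩ : ∃ s, s = n % 2 := ⟨_, rfl⟩
    have h1 : n = 2 * m + s := by omega
    rw [← hm, ← hs, h1]
    ring
  have hcardA : Nat.card ((Fin n → (Y₁ : Subgroup Fˣ)) ⋊[(piAct n (Y₁ : Subgroup Fˣ)).comp ι]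
      H) = 2 ^ (Nat.card (GL (Fin n) F)).factorization 2 := by
    rw [SemidirectProduct.card, Nat.card_fun, Nat.card_eq_fintype_card (α := Fin n),
      Fintype.card_fin, hY₁card, hcard, ← pow_mul, ← pow_add,
      Nat.factorization_def _ Nat.prime_two, Matrix.card_GL_field, ← hq,
      padicValNat_two_card_GL hq3 hodd n, hv1, hfact]
    congr 1
    exact harith _ _
  exact sylow_equiv_of_injective S Ψ hΨ hcardA

/-- the normal `2`-rank of the Sylow `2`-subgroups of `GL_n(F)`, `|F| ≡ 1 mod 4` -/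
theorem gl_sylow_normalRank_one (hq4 : Fintype.card F % 4 = 1) (n : ℕ)
    (S : Sylow 2 (GL (Fin n) F)) :
    (∃ A : Subgroup (S : Subgroup (GL (Fin n) F)), A.Normal ∧
      Cfsg.IsElementaryAbelian 2 A ∧ 2 ^ n ≤ Nat.card A) ∧
    ∀ A : Subgroup (S : Subgroup (GL (Fin n) F)), A.Normal →
      Cfsg.IsElementaryAbelian 2 A → Nat.card A ≤ 2 ^ n := by
  classical
  obtain ⟨q, hq⟩ : ∃ q, q = Fintype.card F := ⟨_, rfl⟩
  have hq4' : q % 4 = 1 := by rw [hq]; exact hq4
  have hq2 : 2 ≤ q := hq ▸ Fintype.one_lt_card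
  have hodd : Odd q := Nat.odd_iff.mpr (by omega)
  have h2F : (2 : F) ≠ 0 := two_ne_zero_of_odd_card (hq ▸ hodd)
  let Y₁ : Sylow 2 Fˣ := default
  obtain ⟨H, _, ι, hfin, hι, ⟨e⟩⟩ := gl_sylow_equiv_one hq4 n S Y₁
  apply normalRank_transport e
  have hY₁card : Nat.card (Y₁ : Subgroup Fˣ) = 2 ^ padicValNat 2 (q - 1) := by
    rw [Sylow.card_eq_multiplicity, Nat.card_units, Nat.card_eq_fintype_card (α := F), ← hq,
      Nat.factorization_def _ Nat.prime_two]
  have hv2 : 2 ≤ padicValNat 2 (q - 1) := by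
    rw [← padicValNat_dvd_iff_le (by omega)]
    norm_num
    omega
  have hneg1 : (-1 : Fˣ) ∈ (Y₁ : Subgroup Fˣ) := by
    apply central_mem_sylow Y₁ (-1) _ 1
    · rw [pow_one, neg_one_sq]
    · rw [Subgroup.mem_center_iff]
      intro g
      rw [mul_comm]
  let z₀ : (Y₁ : Subgroup Fˣ) := ⟨-1, hneg1⟩
  have hz2 : z₀ ^ 2 = 1 := by
    apply Subtype.ext
    rw [Subgroup.coe_pow]
    exact neg_one_sq
  have hz1 : z₀ ≠ 1 := by
    intro h
    have h1 : (-1 : Fˣ) = 1 := congrArg Subtype.val h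
    have h4 := congrArg Units.val h1
    rw [Units.val_neg, Units.val_one] at h4
    apply h2F
    linear_combination (-1 : F) * h4
  have hzc : z₀ ∈ Subgroup.center (Y₁ : Subgroup Fˣ) := by
    rw [Subgroup.mem_center_iff]
    intro g
    apply Subtype.ext
    rw [Subgroup.coe_mul, Subgroup.coe_mul, mul_comm]
  have huniq : ∀ d : (Y₁ : Subgroup Fˣ), d ^ 2 = 1 → d = 1 ∨ d = z₀ := by
    intro d hd
    have h1 : (d : Fˣ) ^ 2 = 1 := by
      have := congrArg Subtype.val hd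
      rwa [Subgroup.coe_pow] at this
    have h3 : ((d : Fˣ) : F) ^ 2 = 1 := by
      rw [← Units.val_pow_eq_pow_val, h1, Units.val_one]
    rcases sq_eq_one_iff.mp h3 with h | h
    · left
      apply Subtype.ext
      exact Units.ext h
    · right
      apply Subtype.ext
      apply Units.ext
      rw [h]
      rfl
  obtain ⟨x₄, hx₄⟩ : ∃ x₄ : (Y₁ : Subgroup Fˣ), x₄ ^ 2 ≠ 1 := by
    have hcyc : IsCyclic (Y₁ : Subgroup Fˣ) := Subgroup.isCyclic _
    obtain ⟨g, hg⟩ := IsCyclic.exists_generator (α := (Y₁ : Subgroup Fˣ))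
    have hog := orderOf_eq_card_of_forall_mem_zpowers hg
    rw [hY₁card] at hog
    refine ⟨g, ?_⟩
    intro h6
    have h7 := orderOf_dvd_of_pow_eq_one h6
    rw [hog] at h7
    have h8 : 2 ^ padicValNat 2 (q - 1) ≤ 2 := Nat.le_of_dvd (by norm_num) h7
    have h9 : 2 ^ 2 ≤ 2 ^ padicValNat 2 (q - 1) := Nat.pow_le_pow_right (by norm_num) hv2
    omega
  have hfinW : Finite ((Fin n → (Y₁ : Subgroup Fˣ)) ⋊[(piAct n (Y₁ : Subgroup Fˣ)).comp ι] H) :=
    Finite.of_equiv _ SemidirectProduct.equivProd.symm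
  exact normalRank_wr ι ((piAct n (Y₁ : Subgroup Fˣ)).comp ι) hι (fun h f i => rfl) z₀ hz2 hz1
    hzc huniq x₄ hx₄

/-- the normal `2`-rank of the Sylow `2`-subgroups of `GL_n(F)`, `|F| ≡ 3 mod 4` -/
theorem gl_sylow_normalRank_three (hq4 : Fintype.card F % 4 = 3) (n : ℕ)
    (S : Sylow 2 (GL (Fin n) F)) :
    (∃ A : Subgroup (S : Subgroup (GL (Fin n) F)), A.Normal ∧
      Cfsg.IsElementaryAbelian 2 A ∧ 2 ^ ((n + 1) / 2) ≤ Nat.card A) ∧
    ∀ A : Subgroup (S : Subgroup (GL (Fin n) F)), A.Normal →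
      Cfsg.IsElementaryAbelian 2 A → Nat.card A ≤ 2 ^ ((n + 1) / 2) := by
  have hchar : CharP F (ringChar F) := ringChar.charP F
  have hprime : Fact (ringChar F).Prime := ⟨CharP.char_is_prime F (ringChar F)⟩
  have hfr : Module.finrank F (FiniteField.Extension F (ringChar F) 2) = 2 :=
    FiniteField.finrank_extension F (ringChar F) 2
  have hfin : Finite (FiniteField.Extension F (ringChar F) 2) := Module.finite_of_finite F
  have : Fintype (FiniteField.Extension F (ringChar F) 2) := Fintype.ofFinite _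
  exact gl_sylow_normalRank_three_aux (FiniteField.Extension F (ringChar F) 2) hfr hq4 n S

end Cfsg.Agent.Helper57
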