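import Mathlib
import Cfsg.Agent.Lib.Helper55.O2520Defs
import Cfsg.Agent.Lib.Helper87.O2520S3C_Q1
import Cfsg.Agent.Lib.Helper49.O2520S3C_Q2

/-!
# O2520 / S3C (K4) for helper86's sub-server (S0984): the local structure of `N(P)` of order 36
without elements of order 4

`local36`, name and statement verbatim from `tools/o2520_s3c_sigs_helper86.lean.txt`, as a bridge from
helper87's `s3c_structure` (Q1) and helper49's `s3c_normalizer_mem` (Q2) of helper20's split.
-/

set_option autoImplicit false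

namespace Cfsg.Agent.Helper57.O2520

open Cfsg Cfsg.Agent.Helper55.O2520
open scoped Classical

universe u

section K4
variable {G : Type u} [Group G]
/-- an element of a group of exponent 3 equal to its inverse is trivial -/
theorem h57_k4_self (x : G) (h3 : x ^ 3 = 1) (h : x = x⁻¹) : x = 1 := by
  have h2 : x * x = 1 := by
    nth_rewrite 2 [h]
    exact mul_inv_cancel x
  rw [pow_succ, pow_two, h2, one_mul] at h3
  exact h3

/-- three involutions commuting with `z` -/
theorem h57_k4_invols [Finite G] (P : Subgroup G) (hexp : ∀ x ∈ P, x ^ 3 = 1)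
    (hab : ∀ x ∈ P, ∀ y ∈ P, x * y = y * x) (z z' s : G) (hz : z ∈ P) (hz' : z' ∈ P)
    (hz'1 : z' ≠ 1) (hss : s * s = 1) (hsP : s ∉ P) (hsz : s * z * s⁻¹ = z)
    (hsz' : s * z' * s⁻¹ = z'⁻¹) :
    3 ≤ Nat.card {j : G // orderOf j = 2 ∧ j * z = z * j} := by
  have hsinv : s⁻¹ = s := inv_eq_of_mul_eq_one_left hss
  have hsz2 : s * z = z * s := by
    have := congrArg (fun g => g * s) hsz
    simpa [mul_assoc] using this
  have hkey : ∀ w ∈ P, s * w * s⁻¹ = w⁻¹ → orderOf (w * s) = 2 ∧ (w * s) * z = z * (w * s) := by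
    intro w hw hws
    have hne : w * s ≠ 1 := by
      intro h
      apply hsP
      have : s = w⁻¹ := (eq_inv_of_mul_eq_one_right h)
      rw [this]
      exact P.inv_mem hw
    have hsq : (w * s) ^ 2 = 1 := by
      have h1 : (w * s) ^ 2 = w * (s * w * s⁻¹) * (s * s) := by
        rw [pow_two]; group
      rw [h1, hws, hss, mul_inv_cancel, one_mul]
    refine ⟨orderOf_eq_prime hsq hne, ?_⟩
    rw [mul_assoc, hsz2, ← mul_assoc, hab w hw z hz, mul_assoc]
  have h1s : s * 1 * s⁻¹ = (1 : G)⁻¹ := by group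
  have hinv' : s * z'⁻¹ * s⁻¹ = (z'⁻¹)⁻¹ := by
    have : s * z'⁻¹ * s⁻¹ = (s * z' * s⁻¹)⁻¹ := by group
    rw [this, hsz']
  have hz'self : z' ≠ z'⁻¹ := fun h => hz'1 (h57_k4_self z' (hexp z' hz') h)
  let e : Finset G := {1 * s, z' * s, z'⁻¹ * s}
  have hecard : e.card = 3 := by
    rw [Finset.card_insert_of_notMem, Finset.card_insert_of_notMem, Finset.card_singleton]
    · rw [Finset.mem_singleton]
      intro h
      exact hz'self (mul_right_cancel h)
    · rw [Finset.mem_insert, Finset.mem_singleton]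
      rintro (h | h)
      · exact hz'1 (mul_right_cancel h).symm
      · have := (mul_right_cancel h)
        exact hz'1 (inv_eq_one.1 this.symm)
  have hsub : (↑e : Set G) ⊆ {j : G | orderOf j = 2 ∧ j * z = z * j} := by
    intro j hj
    rw [Finset.mem_coe, Finset.mem_insert, Finset.mem_insert, Finset.mem_singleton] at hj
    rcases hj with rfl | rfl | rfl
    · exact hkey 1 P.one_mem h1s
    · exact hkey z' hz' hsz'
    · exact hkey z'⁻¹ (P.inv_mem hz') hinv'
  have h1 := Set.ncard_le_ncard hsub (Set.toFinite _)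
  rw [Set.ncard_coe_finset, hecard] at h1
  calc 3 ≤ {j : G | orderOf j = 2 ∧ j * z = z * j}.ncard := h1
    _ = Nat.card {j : G // orderOf j = 2 ∧ j * z = z * j} :=
      (Nat.card_coe_set_eq {j : G | orderOf j = 2 ∧ j * z = z * j}).symm

/-- the centraliser in `N` of `z` has order 18 -/
theorem h57_k4_card18 (P N : Subgroup G) (hP : Nat.card P = 9) (hN : Nat.card N = 36)
    (hPN : P ≤ N) (z s r : G) (hPz : ∀ p ∈ P, p * z = z * p) (hs : s ∈ N) (hsP : s ∉ P)
    (hsz : s * z = z * s) (hr : r ∈ N) (hrz : r * z ≠ z * r) :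
    Nat.card (N ⊓ Subgroup.centralizer ({z} : Set G) : Subgroup G) = 18 := by
  have hfinN : Finite N := Nat.finite_of_card_ne_zero (by rw [hN]; norm_num)
  set K : Subgroup G := N ⊓ Subgroup.centralizer ({z} : Set G) with hK
  have hKN : K ≤ N := inf_le_left
  have hPK : P ≤ K := by
    intro p hp
    exact Subgroup.mem_inf.2 ⟨hPN hp, Subgroup.mem_centralizer_singleton_iff.2 (hPz p hp)⟩
  have hfinK : Finite K := Finite.of_injective (Subgroup.inclusion hKN) (Subgroup.inclusion_injective hKN)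
  have h1 : Nat.card K ∣ 36 := hN ▸ Subgroup.card_dvd_of_le hKN
  have h2 : 9 ∣ Nat.card K := hP ▸ Subgroup.card_dvd_of_le hPK
  have h3 : Nat.card K ≠ 9 := by
    intro h
    have : P = K := Subgroup.eq_of_le_of_card_ge hPK (by rw [hP, h])
    apply hsP
    rw [this]
    exact Subgroup.mem_inf.2 ⟨hs, Subgroup.mem_centralizer_singleton_iff.2 hsz⟩
  have h4 : Nat.card K ≠ 36 := by
    intro h
    have : K = N := Subgroup.eq_of_le_of_card_ge hKN (by rw [hN, h])
    have hrK : r ∈ K := by rw [this]; exact hr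
    have h6 := Subgroup.mem_centralizer_singleton_iff.1 (Subgroup.mem_inf.1 hrK).2
    exact hrz h6
  have h5 : Nat.card K ≤ 36 := Nat.le_of_dvd (by norm_num) h1
  obtain ⟨m, hm⟩ := h2
  rw [hm] at h1 h3 h4 h5 ⊢
  have hm4 : m ≤ 4 := by omega
  interval_cases m <;> omega

end K4

/-- (K4) the local structure of `N(P)` of order 36 without elements of order 4 -/
theorem local36 {G : Type u} [Group G] [Finite G] (P : Subgroup G) (hP : Nat.card P = 9)
    (hexp : ∀ x ∈ P, x ^ 3 = 1) (hC : Subgroup.centralizer (P : Set G) = P)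
    (hN : Nat.card (Subgroup.normalizer (P : Set G)) = 36)
    (h4 : ∀ u ∈ Subgroup.normalizer (P : Set G), orderOf u ≠ 4) :
    ∃ x x' y : G, x ∈ P ∧ x' ∈ P ∧ y ∈ P ∧ x ≠ 1 ∧ x' ≠ 1 ∧ y ≠ 1 ∧
      Subgroup.normalizer (P : Set G) ≤ Subgroup.normalizer ((Subgroup.zpowers x : Subgroup G) : Set G) ∧
      Subgroup.normalizer (P : Set G) ≤ Subgroup.normalizer ((Subgroup.zpowers x' : Subgroup G) : Set G) ∧
      (∀ n ∈ Subgroup.normalizer (P : Set G), n * x * n⁻¹ ≠ x') ∧
      (∀ n ∈ Subgroup.normalizer (P : Set G), n * y = y * n → n ∈ P) ∧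
      Nat.card (Subgroup.normalizer (P : Set G) ⊓ Subgroup.centralizer ({x} : Set G) : Subgroup G) = 18 ∧
      Nat.card (Subgroup.normalizer (P : Set G) ⊓ Subgroup.centralizer ({x'} : Set G) : Subgroup G) = 18 ∧
      3 ≤ Nat.card {j : G // orderOf j = 2 ∧ j * x = x * j} ∧
      3 ≤ Nat.card {j : G // orderOf j = 2 ∧ j * x' = x' * j} := by
  obtain ⟨x, x', a, b, hx, hx', hx1, hx'1, ha, hb, hoa, hob, habc, hax, hax', hbx, hbx'⟩ :=
    Cfsg.Agent.Helper87.O2520.s3c_structure P hP hexp hC hN h4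
  have hmem := Cfsg.Agent.Helper49.O2520.s3c_normalizer_mem P hP hN x x' a b hx hx' hx1 hx'1 ha hb
    hoa hob habc hax hax' hbx hbx'
  have hab : ∀ p ∈ P, ∀ q ∈ P, p * q = q * p := by
    intro p hp q hq
    have hp' : p ∈ Subgroup.centralizer (P : Set G) := by rw [hC]; exact hp
    exact (Subgroup.mem_centralizer_iff.1 hp' q hq).symm
  have hPN : P ≤ Subgroup.normalizer (P : Set G) := Subgroup.le_normalizer
  have haa : a * a = 1 := by rw [← pow_two, ← hoa]; exact pow_orderOf_eq_one a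
  have hbb : b * b = 1 := by rw [← pow_two, ← hob]; exact pow_orderOf_eq_one b
  have hself : ∀ z ∈ P, z = z⁻¹ → z = 1 := fun z hz h => h57_k4_self z (hexp z hz) h
  have hconjinv : ∀ (t p : G), t * p⁻¹ * t⁻¹ = (t * p * t⁻¹)⁻¹ := by intro t p; group
  have hPconj : ∀ p ∈ P, ∀ q ∈ P, p * q * p⁻¹ = q := by
    intro p hp q hq
    rw [hab p hp q hq, mul_inv_cancel_right]
  have hconjmul : ∀ (p t z : G), (p * t) * z * (p * t)⁻¹ = p * (t * z * t⁻¹) * p⁻¹ := by
    intro p t z; group
  have hx'x : x' ≠ x := by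
    intro h
    apply hx1
    apply hself x hx
    rw [h, hax] at hax'
    exact hax'
  have hx'xi : x' ≠ x⁻¹ := by
    intro h
    apply hx'1
    apply hself x' hx'
    have h1 : a * x' * a⁻¹ = x' := by
      rw [h, hconjinv, hax]
    rw [h1] at hax'
    exact hax'
  have hyP : x * x' ∈ P := P.mul_mem hx hx'
  have hy1 : x * x' ≠ 1 := fun h => hx'xi (eq_inv_of_mul_eq_one_right h)
  have haP : a ∉ P := by
    intro h
    apply hx'1
    apply hself x' hx'
    rw [hPconj a h x' hx'] at hax'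
    exact hax'
  have hbP : b ∉ P := by
    intro h
    apply hx1
    apply hself x hx
    rw [hPconj b h x hx] at hbx
    exact hbx
  have hsign : ∀ n ∈ Subgroup.normalizer (P : Set G),
      (n * x * n⁻¹ = x ∧ n * x' * n⁻¹ = x' ∧ n ∈ P) ∨ (n * x * n⁻¹ = x ∧ n * x' * n⁻¹ = x'⁻¹) ∨
      (n * x * n⁻¹ = x⁻¹ ∧ n * x' * n⁻¹ = x') ∨ (n * x * n⁻¹ = x⁻¹ ∧ n * x' * n⁻¹ = x'⁻¹) := by
    intro n hn
    obtain ⟨p, hp, h | h | h | h⟩ := hmem n hn
    · left
      subst h
      exact ⟨hPconj n hp x hx, hPconj n hp x' hx', hp⟩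
    · right; left
      subst h
      refine ⟨?_, ?_⟩
      · rw [hconjmul, hax, hPconj p hp x hx]
      · rw [hconjmul, hax', hPconj p hp _ (P.inv_mem hx')]
    · right; right; left
      subst h
      refine ⟨?_, ?_⟩
      · rw [hconjmul, hbx, hPconj p hp _ (P.inv_mem hx)]
      · rw [hconjmul, hbx', hPconj p hp x' hx']
    · right; right; right
      subst h
      have e1 : (a * b) * x * (a * b)⁻¹ = x⁻¹ := by
        have : (a * b) * x * (a * b)⁻¹ = a * (b * x * b⁻¹) * a⁻¹ := by group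
        rw [this, hbx, hconjinv, hax]
      have e2 : (a * b) * x' * (a * b)⁻¹ = x'⁻¹ := by
        have : (a * b) * x' * (a * b)⁻¹ = a * (b * x' * b⁻¹) * a⁻¹ := by group
        rw [this, hbx', hax']
      refine ⟨?_, ?_⟩
      · rw [hconjmul, e1, hPconj p hp _ (P.inv_mem hx)]
      · rw [hconjmul, e2, hPconj p hp _ (P.inv_mem hx')]
  have hconjx : ∀ n ∈ Subgroup.normalizer (P : Set G), n * x * n⁻¹ = x ∨ n * x * n⁻¹ = x⁻¹ := by
    intro n hn
    rcases hsign n hn with h | h | h | h
    · exact Or.inl h.1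
    · exact Or.inl h.1
    · exact Or.inr h.1
    · exact Or.inr h.1
  have hconjx' : ∀ n ∈ Subgroup.normalizer (P : Set G),
      n * x' * n⁻¹ = x' ∨ n * x' * n⁻¹ = x'⁻¹ := by
    intro n hn
    rcases hsign n hn with h | h | h | h
    · exact Or.inl h.2.1
    · exact Or.inr h.2
    · exact Or.inl h.2
    · exact Or.inr h.2
  have hnorm : ∀ z : G, (∀ n ∈ Subgroup.normalizer (P : Set G),
      n * z * n⁻¹ = z ∨ n * z * n⁻¹ = z⁻¹) →
      Subgroup.normalizer (P : Set G) ≤
        Subgroup.normalizer ((Subgroup.zpowers z : Subgroup G) : Set G) := by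
    intro z hz n hn
    apply Subgroup.mem_normalizer_fintype
    intro h hh
    rw [SetLike.mem_coe, Subgroup.mem_zpowers_iff] at hh ⊢
    obtain ⟨k, rfl⟩ := hh
    rcases hz n hn with h1 | h1
    · exact ⟨k, by rw [← conj_zpow, h1]⟩
    · exact ⟨-k, by rw [← conj_zpow, h1, inv_zpow, zpow_neg]⟩
  have hcomm_of : ∀ (t z : G), t * z * t⁻¹ = z → t * z = z * t := by
    intro t z h
    exact mul_inv_eq_iff_eq_mul.1 h
  have hconj_of : ∀ (t z : G), t * z = z * t → t * z * t⁻¹ = z := by
    intro t z h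
    rw [h, mul_inv_cancel_right]
  refine ⟨x, x', x * x', hx, hx', hyP, hx1, hx'1, hy1, hnorm x hconjx, hnorm x' hconjx', ?_, ?_,
    ?_, ?_, ?_, ?_⟩
  · intro n hn h
    rcases hconjx n hn with h1 | h1
    · rw [h1] at h
      exact hx'x h.symm
    · rw [h1] at h
      exact hx'xi h.symm
  · intro n hn hcomm
    have hc : n * (x * x') * n⁻¹ = x * x' := hconj_of n _ hcomm
    have hsplit : n * (x * x') * n⁻¹ = (n * x * n⁻¹) * (n * x' * n⁻¹) := by group
    rw [hsplit] at hc
    rcases hsign n hn with h | h | h | h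
    · exact h.2.2
    · exfalso
      rw [h.1, h.2] at hc
      have := mul_left_cancel hc
      exact hx'1 (hself x' hx' this.symm)
    · exfalso
      rw [h.1, h.2] at hc
      have := mul_right_cancel hc
      exact hx1 (hself x hx this.symm)
    · exfalso
      rw [h.1, h.2] at hc
      have h5 : (x * x')⁻¹ = x * x' := by
        rw [mul_inv_rev, hab _ (P.inv_mem hx') _ (P.inv_mem hx)]
        exact hc
      exact hy1 (hself _ hyP h5.symm)
  · refine h57_k4_card18 P _ hP hN hPN x a b (fun p hp => hab p hp x hx) ha haP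
      (hcomm_of a x hax) hb ?_
    intro h
    rw [hconj_of b x h] at hbx
    exact hx1 (hself x hx hbx)
  · refine h57_k4_card18 P _ hP hN hPN x' b a (fun p hp => hab p hp x' hx') hb hbP
      (hcomm_of b x' hbx') ha ?_
    intro h
    rw [hconj_of a x' h] at hax'
    exact hx'1 (hself x' hx' hax')
  · exact h57_k4_invols P hexp hab x x' a hx hx' hx'1 haa haP hax hax'
  · exact h57_k4_invols P hexp hab x' x b hx' hx hx1 hbb hbP hbx' hbx

end Cfsg.Agent.Helper57.O2520
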