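import Mathlib
import Cfsg.Agent.Lib.Helper55.O2520Defs

/-!
# O2520 wave 2 (S3D) for helper55's lemma server (S0984): an element of order 4 normalising a
self-centralising elementary abelian group of order 9 has its square inverting the group

`inverts_of_order4`, name and statement verbatim from `tools/o2520_sigs2_helper55.lean.txt`.
-/

set_option autoImplicit false

namespace Cfsg.Agent.Helper57.O2520

open Cfsg Cfsg.Agent.Helper55.O2520
open scoped Classical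

universe u

/-- (S3D) -/
theorem inverts_of_order4 {G : Type u} [Group G] (P : Subgroup G) (hP : Nat.card P = 9)
    (hexp : ∀ x ∈ P, x ^ 3 = 1)
    (hC : Subgroup.centralizer (P : Set G) = P) (u : G) (hu : orderOf u = 4)
    (hn : u ∈ Subgroup.normalizer (P : Set G)) :
    ∀ x ∈ P, u ^ 2 * x * (u ^ 2)⁻¹ = x⁻¹ := by
  have hfin : Finite P := Nat.finite_of_card_ne_zero (by rw [hP]; norm_num)
  have hu4 : u ^ 4 = 1 := by
    have := pow_orderOf_eq_one u
    rwa [hu] at this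
  -- `P` is abelian
  have hcomm : ∀ x ∈ P, ∀ y ∈ P, x * y = y * x := by
    intro x hx y hy
    have hy' : y ∈ Subgroup.centralizer (P : Set G) := by rw [hC]; exact hy
    exact Subgroup.mem_centralizer_iff.1 hy' x hx
  have hφ : ∀ x ∈ P, u * x * u⁻¹ ∈ P := fun x hx => (Subgroup.mem_normalizer_iff.1 hn x).1 hx
  have hφpow : ∀ (x : G) (k : ℕ), u * x ^ k * u⁻¹ = (u * x * u⁻¹) ^ k := by
    intro x k
    exact (map_pow (MulAut.conj u) x k)
  have hτφ : ∀ x, u ^ 2 * x * (u ^ 2)⁻¹ = u * (u * x * u⁻¹) * u⁻¹ := by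
    intro x
    rw [pow_two, mul_inv_rev]
    simp only [mul_assoc]
  have hτP : ∀ x ∈ P, u ^ 2 * x * (u ^ 2)⁻¹ ∈ P := by
    intro x hx; rw [hτφ]; exact hφ _ (hφ x hx)
  have hττ : ∀ x, u ^ 2 * (u ^ 2 * x * (u ^ 2)⁻¹) * (u ^ 2)⁻¹ = x := by
    intro x
    have h : u ^ 2 * (u ^ 2 * x * (u ^ 2)⁻¹) * (u ^ 2)⁻¹ = u ^ 4 * x * (u ^ 4)⁻¹ := by group
    rw [h, hu4, one_mul, inv_one, mul_one]
  have hτmul : ∀ x y, u ^ 2 * (x * y) * (u ^ 2)⁻¹ =
      (u ^ 2 * x * (u ^ 2)⁻¹) * (u ^ 2 * y * (u ^ 2)⁻¹) := by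
    intro x y; group
  have hτinv : ∀ x, u ^ 2 * x⁻¹ * (u ^ 2)⁻¹ = (u ^ 2 * x * (u ^ 2)⁻¹)⁻¹ := by
    intro x; group
  -- an element of `P` equal to its inverse is trivial
  have hself : ∀ x ∈ P, x = x⁻¹ → x = 1 := by
    intro x hx h
    have h2 : x * x = 1 := by
      nth_rewrite 2 [h]
      exact mul_inv_cancel x
    have h3 := hexp x hx
    rw [pow_succ, pow_two, h2, one_mul] at h3
    exact h3
  -- `u ^ 2` does not centralise `P`
  have hu2 : u ^ 2 ∉ P := by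
    intro h
    have h6 := hexp _ h
    have h2 : u ^ 2 = 1 := by
      have : (u ^ 2) ^ 3 = u ^ 4 * u ^ 2 := by rw [← pow_mul, ← pow_add]
      rw [this, hu4, one_mul] at h6
      exact h6
    have := orderOf_dvd_of_pow_eq_one h2
    rw [hu] at this
    omega
  have hnc : ∃ c ∈ P, u ^ 2 * c * (u ^ 2)⁻¹ ≠ c := by
    by_contra hcon
    push Not at hcon
    apply hu2
    rw [← hC, Subgroup.mem_centralizer_iff]
    intro c hc
    have := hcon c hc
    calc c * u ^ 2 = (u ^ 2 * c * (u ^ 2)⁻¹) * u ^ 2 := by rw [this]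
      _ = u ^ 2 * c := by group
  -- the subgroup of inverted elements
  let I : Subgroup G :=
    { carrier := {x | x ∈ P ∧ u ^ 2 * x * (u ^ 2)⁻¹ = x⁻¹}
      mul_mem' := by
        rintro a b ⟨ha, ha'⟩ ⟨hb, hb'⟩
        refine ⟨P.mul_mem ha hb, ?_⟩
        rw [hτmul, ha', hb', mul_inv_rev]
        exact hcomm _ (P.inv_mem ha) _ (P.inv_mem hb)
      one_mem' := ⟨P.one_mem, by group⟩
      inv_mem' := by
        rintro a ⟨ha, ha'⟩
        exact ⟨P.inv_mem ha, by rw [hτinv, ha']⟩ }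
  have hIP : I ≤ P := fun x hx => hx.1
  have hImem : ∀ x, x ∈ I ↔ x ∈ P ∧ u ^ 2 * x * (u ^ 2)⁻¹ = x⁻¹ := fun x => Iff.rfl
  intro x hx
  by_contra hne
  -- a nontrivial fixed element
  set a := x * (u ^ 2 * x * (u ^ 2)⁻¹) with ha
  have haP : a ∈ P := P.mul_mem hx (hτP x hx)
  have hafix : u ^ 2 * a * (u ^ 2)⁻¹ = a := by
    rw [ha, hτmul, hττ]
    exact hcomm _ (hτP x hx) _ hx
  have ha1 : a ≠ 1 := by
    intro h
    apply hne
    rw [ha] at h
    exact (eq_inv_of_mul_eq_one_right h)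
  have haI : a ∉ I := by
    intro h
    have h1 := ((hImem a).1 h).2
    rw [hafix] at h1
    exact ha1 (hself a haP h1)
  -- a nontrivial inverted element
  obtain ⟨c, hcP, hc⟩ := hnc
  set b := c⁻¹ * (u ^ 2 * c * (u ^ 2)⁻¹) with hb
  have hbP : b ∈ P := P.mul_mem (P.inv_mem hcP) (hτP c hcP)
  have hbI : b ∈ I := by
    refine (hImem b).2 ⟨hbP, ?_⟩
    have h1 : u ^ 2 * b * (u ^ 2)⁻¹ = (u ^ 2 * c * (u ^ 2)⁻¹)⁻¹ * c := by
      rw [hb, hτmul, hττ, hτinv]
    have h2 : b⁻¹ = (u ^ 2 * c * (u ^ 2)⁻¹)⁻¹ * c := by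
      rw [hb, mul_inv_rev, inv_inv]
    rw [h1, h2]
  have hb1 : b ≠ 1 := by
    intro h
    apply hc
    rw [hb] at h
    have := inv_mul_eq_one.1 h
    exact this.symm
  -- `I` has order 3
  have hI3 : Nat.card I = 3 := by
    have hdvd : Nat.card I ∣ 3 ^ 2 := by
      have := Subgroup.card_dvd_of_le hIP
      rwa [hP] at this
    obtain ⟨k, hk, hk'⟩ := (Nat.dvd_prime_pow Nat.prime_three).1 hdvd
    interval_cases k
    · exfalso
      rw [pow_zero] at hk'
      have hbot : I = ⊥ := Subgroup.card_eq_one.1 hk'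
      rw [hbot, Subgroup.mem_bot] at hbI
      exact hb1 hbI
    · rw [hk', pow_one]
    · exfalso
      have hIeq : I = P := Subgroup.eq_of_le_of_card_ge hIP (by rw [hP, hk']; norm_num)
      apply haI
      rw [hIeq]
      exact haP
  -- `I = ⟨b⟩`
  have hb3 : b ^ 3 = 1 := hexp b hbP
  have hordb : orderOf b = 3 := orderOf_eq_prime hb3 hb1
  have hfinI : Finite I := Nat.finite_of_card_ne_zero (by rw [hI3]; norm_num)
  have hzI : Subgroup.zpowers b = I :=
    Subgroup.eq_of_le_of_card_ge (Subgroup.zpowers_le.2 hbI) (by rw [Nat.card_zpowers, hordb, hI3])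
  -- `u b u⁻¹ ∈ I`
  have hφbI : u * b * u⁻¹ ∈ I := by
    refine (hImem _).2 ⟨hφ b hbP, ?_⟩
    have h1 : u ^ 2 * (u * b * u⁻¹) * (u ^ 2)⁻¹ = u * (u ^ 2 * b * (u ^ 2)⁻¹) * u⁻¹ := by group
    rw [h1, ((hImem b).1 hbI).2]
    group
  rw [← hzI, Subgroup.mem_zpowers_iff] at hφbI
  obtain ⟨k, hk⟩ := hφbI
  -- reduce the exponent mod 3
  have hk3 : ∃ j : ℕ, j < 3 ∧ u * b * u⁻¹ = b ^ j := by
    refine ⟨(k % 3).toNat, ?_, ?_⟩
    · omega
    · rw [← hk, ← zpow_natCast, Int.toNat_of_nonneg (by omega)]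
      have := zpow_mod_orderOf b k
      rw [hordb] at this
      exact this.symm
  obtain ⟨j, hj, hφb⟩ := hk3
  -- `τ b = b`
  have hτb : u ^ 2 * b * (u ^ 2)⁻¹ = b ^ (j * j) := by
    rw [hτφ, hφb, hφpow, hφb, ← pow_mul]
  have hbinv : b⁻¹ = b ^ (j * j) := by
    rw [← hτb, ((hImem b).1 hbI).2]
  interval_cases j
  · -- `u b u⁻¹ = 1`
    rw [pow_zero] at hφb
    apply hb1
    have : u * b * u⁻¹ = u * 1 * u⁻¹ := by rw [hφb]; group
    exact (mul_left_cancel (mul_right_cancel this))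
  · rw [one_mul, pow_one] at hbinv
    exact hb1 (hself b hbP hbinv.symm)
  · have h4 : b ^ (2 * 2) = b := by
      rw [show 2 * 2 = 3 + 1 from rfl, pow_add, hb3, one_mul, pow_one]
    rw [h4] at hbinv
    exact hb1 (hself b hbP hbinv.symm)

end Cfsg.Agent.Helper57.O2520
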