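import Mathlib
import Cfsg.Agent.Lib.Helper18.O3K0
import Cfsg.Agent.S0243

/-!
# O3K (PSL) for helper18's lemma server (S2363): the bounds `|G| < p^(3k)`, `|G|^3 < p^(8k)` for
`G = PSL_n(q)`

`concl_psl`, name and statement verbatim from `tools/o3k_sigs_helper18.lean.txt`.
-/

set_option autoImplicit false

namespace Cfsg.Agent.Helper57.O3K

open Cfsg Cfsg.Agent.Helper18.O3K

/-- `∏_{i<n} (q^n - q^i) = q^(∑_{j<n} j) * ∏_{j<n} (q^(j+1) - 1)` -/
theorem h57_prod_psl (q n : ℕ) :
    ∏ i : Fin n, (q ^ n - q ^ (i : ℕ)) =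
      q ^ (∑ j ∈ Finset.range n, j) * ∏ j ∈ Finset.range n, (q ^ (j + 1) - 1) := by
  rw [Fin.prod_univ_eq_prod_range (fun i => q ^ n - q ^ i) n,
    ← Finset.prod_range_reflect (fun i => q ^ n - q ^ i) n,
    ← Finset.prod_pow_eq_pow_sum, ← Finset.prod_range_reflect (fun j => q ^ j) n,
    ← Finset.prod_mul_distrib]
  apply Finset.prod_congr rfl
  intro j hj
  have hj' : j < n := Finset.mem_range.1 hj
  have h1 : q ^ n = q ^ (n - 1 - j) * q ^ (j + 1) := by
    rw [← pow_add]
    congr 1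
    omega
  rw [Nat.mul_sub, mul_one, ← h1]

variable {p : ℕ}

/-- (PSL) -/
theorem concl_psl (hp : p.Prime) (F : Type) [Field F] [Fintype F] [CharP F p] (n : ℕ) (hn : 2 ≤ n)
    (h2 : n = 2 → 4 ≤ Fintype.card F) : Concl p (Matrix.ProjectiveSpecialLinearGroup (Fin n) F) := by
  obtain ⟨f, hf, hq⟩ := card_eq_pow hp F
  set q := Fintype.card F with hqdef
  have hq2 : 2 ≤ q := by
    rw [hq]
    calc 2 ≤ p := hp.two_le
      _ = p ^ 1 := (pow_one p).symm
      _ ≤ p ^ f := Nat.pow_le_pow_right hp.pos hf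
  have hcard := Cfsg.Agent.S0243.result (F := F) (q := q) rfl n hn
  rw [h57_prod_psl] at hcard
  set G := Matrix.ProjectiveSpecialLinearGroup (Fin n) F with hG
  have hfin : Finite G := inferInstance
  set g := Nat.gcd n (q - 1) with hg
  have hgpos : 0 < g := Nat.gcd_pos_of_pos_left _ (by omega)
  have hq1 : ¬ p ∣ q - 1 := by
    have h := not_dvd_pow_sub_one hp hq hf (e := 1) le_rfl
    rwa [pow_one] at h
  have hgd : ¬ p ∣ g := fun h => hq1 (h.trans (Nat.gcd_dvd_right _ _))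
  have hd : ¬ p ∣ g * (q - 1) := by
    intro h
    rcases (Nat.Prime.dvd_mul hp).1 h with h | h
    · exact hgd h
    · exact hq1 h
  have hP : ¬ p ∣ ∏ j ∈ Finset.range n, (q ^ (j + 1) - 1) :=
    not_dvd_prod_sub_one hp hq hf (fun j => j + 1) (fun j => by omega) n
  have hpa : q ^ (∑ j ∈ Finset.range n, j) = p ^ (f * ∑ j ∈ Finset.range n, j) := by
    rw [hq, ← pow_mul]
  have hmul : g * (q - 1) * Nat.card G =
      p ^ (f * ∑ j ∈ Finset.range n, j) * ∏ j ∈ Finset.range n, (q ^ (j + 1) - 1) := by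
    rw [← hpa, ← hcard, mul_assoc]
  by_cases hn2 : n = 2
  · -- the exceptional case `n = 2`
    subst hn2
    have hsum : (∑ j ∈ Finset.range 2, j) = 1 := by decide
    have hfac : (Nat.card G).factorization p = f := by
      have h := factorization_of_mul hp (Nat.card_pos (α := G)).ne' hmul hd hP
      rw [hsum, mul_one] at h
      exact h
    have hprod : ∏ j ∈ Finset.range 2, (q ^ (j + 1) - 1) = (q - 1) * (q ^ 2 - 1) := by
      rw [Finset.prod_range_succ, Finset.prod_range_one]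
      norm_num
    rw [hsum, mul_one, hprod, ← hq] at hmul
    have hq1pos : 0 < q - 1 := by omega
    -- `g * |G| = q * (q^2 - 1)`
    have hmul' : g * Nat.card G = q * (q ^ 2 - 1) := by
      have h : (q - 1) * (g * Nat.card G) = (q - 1) * (q * (q ^ 2 - 1)) := by
        calc (q - 1) * (g * Nat.card G) = g * (q - 1) * Nat.card G := by ring
          _ = q * ((q - 1) * (q ^ 2 - 1)) := hmul
          _ = (q - 1) * (q * (q ^ 2 - 1)) := by ring
      exact Nat.eq_of_mul_eq_mul_left hq1pos h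
    have hlt : Nat.card G < q ^ 3 := by
      have h1 : Nat.card G ≤ g * Nat.card G := Nat.le_mul_of_pos_left _ hgpos
      have h2' : q * (q ^ 2 - 1) < q ^ 3 := by
        have h3 : q ^ 2 - 1 < q ^ 2 := Nat.sub_lt (by positivity) one_pos
        calc q * (q ^ 2 - 1) < q * q ^ 2 := Nat.mul_lt_mul_of_pos_left h3 (by omega)
          _ = q ^ 3 := by ring
      omega
    refine ⟨?_, fun hne => ?_⟩
    · rw [hfac, mul_comm, pow_mul, ← hq]
      exact hlt
    · exfalso
      apply hne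
      refine ⟨F, inferInstance, inferInstance, ?_, ⟨MulEquiv.refl _⟩⟩
      rw [hfac]
      exact hq
  · -- `n ≥ 3`
    obtain ⟨k, rfl⟩ : ∃ k, n = k + 3 := ⟨n - 3, by omega⟩
    refine concl_of_mul hp (g * (q - 1)) (f * ∑ j ∈ Finset.range (k + 3), j)
      (∏ j ∈ Finset.range (k + 3), (q ^ (j + 1) - 1)) hmul hd hP ?_
    -- split off the factor `q - 1`
    have hsplit : ∏ j ∈ Finset.range (k + 3), (q ^ (j + 1) - 1) =
        (∏ j ∈ Finset.range (k + 2), (q ^ (j + 2) - 1)) * (q - 1) := by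
      rw [Finset.prod_range_succ']
      simp
    have hP' : ∏ j ∈ Finset.range (k + 2), (q ^ (j + 2) - 1) <
        q ^ ∑ j ∈ Finset.range (k + 2), (j + 2) :=
      prod_sub_one_lt (by omega) (fun j => j + 2) (by omega)
    have hS : ∑ j ∈ Finset.range (k + 2), (j + 2) =
        (∑ j ∈ Finset.range (k + 2), j) + 2 * (k + 2) := by
      rw [Finset.sum_add_distrib, Finset.sum_const, Finset.card_range, smul_eq_mul, mul_comm]
    have hT : (∑ j ∈ Finset.range (k + 2), j) * 2 = (k + 2) * (k + 1) := by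
      have h := Finset.sum_range_id_mul_two (k + 2)
      simpa using h
    have hN : ∑ j ∈ Finset.range (k + 3), j = (∑ j ∈ Finset.range (k + 2), j) + (k + 2) := by
      rw [Finset.sum_range_succ]
    have hexp : 3 * ∑ j ∈ Finset.range (k + 2), (j + 2) ≤ 5 * ∑ j ∈ Finset.range (k + 3), j := by
      rw [hS, hN]
      nlinarith [hT, Nat.zero_le (k * k)]
    have hq1pos : 0 < q - 1 := by omega
    rw [hsplit, mul_pow, mul_pow]
    have hpq : p ^ (5 * (f * ∑ j ∈ Finset.range (k + 3), j)) =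
        q ^ (5 * ∑ j ∈ Finset.range (k + 3), j) := by
      rw [hq, ← pow_mul]
      congr 1
      ring
    rw [hpq]
    calc (∏ j ∈ Finset.range (k + 2), (q ^ (j + 2) - 1)) ^ 3 * (q - 1) ^ 3
        < (q ^ ∑ j ∈ Finset.range (k + 2), (j + 2)) ^ 3 * (q - 1) ^ 3 := by
          apply Nat.mul_lt_mul_of_pos_right _ (pow_pos hq1pos 3)
          exact Nat.pow_lt_pow_left hP' (by norm_num)
      _ = q ^ (3 * ∑ j ∈ Finset.range (k + 2), (j + 2)) * (q - 1) ^ 3 := by
          rw [← pow_mul, mul_comm 3]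
      _ ≤ q ^ (5 * ∑ j ∈ Finset.range (k + 3), j) * (q - 1) ^ 3 :=
          Nat.mul_le_mul_right _ (Nat.pow_le_pow_right (by omega) hexp)
      _ ≤ q ^ (5 * ∑ j ∈ Finset.range (k + 3), j) * (g ^ 3 * (q - 1) ^ 3) := by
          apply Nat.mul_le_mul_left
          exact Nat.le_mul_of_pos_left _ (pow_pos hgpos 3)
      _ = g ^ 3 * (q - 1) ^ 3 * q ^ (5 * ∑ j ∈ Finset.range (k + 3), j) := by ring

end Cfsg.Agent.Helper57.O3K
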