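import Mathlib

/-!
# O4320 (B2f2) for helper50's lemma server (S0977): the arithmetic of the four degree patterns

`b2_numeric`, name and statement verbatim from `tools/o4320_sigs_helper50.lean.txt`.
-/

set_option autoImplicit false

namespace Cfsg.Agent.Helper57.O4320

/-- the possible pairs `(d, c)` -/
def b2DC : List (ℤ × ℤ) := [(4, -1), (6, 1), (9, -1), (16, 1), (24, -1), (36, 1), (54, -1)]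

/-- the possible values of `s ^ 2`, given `d` -/
def b2Q (d : ℤ) : List ℤ :=
  if d = 4 then [0] else if d = 6 then [0, 4] else if d = 9 then [1]
  else if d = 16 then [0, 4, 16] else if d = 24 then [0, 4, 16]
  else if d = 36 then [0, 4, 16, 36, 64] else [0, 4, 16, 36, 64, 100]

set_option maxRecDepth 100000 in
/-- the finite search -/
theorem b2_core : ∀ p1 ∈ b2DC, ∀ p2 ∈ b2DC, ∀ p3 ∈ b2DC, ∀ p4 ∈ b2DC,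
    1 + p1.1 * p1.2 + p2.1 * p2.2 + p3.1 * p3.2 + p4.1 * p4.2 = 0 →
    1 + p1.1 * p1.1 + p2.1 * p2.1 + p3.1 * p3.1 + p4.1 * p4.1 ≤ 4320 →
    ∀ q1 ∈ b2Q p1.1, ∀ q2 ∈ b2Q p2.1, ∀ q3 ∈ b2Q p3.1, ∀ q4 ∈ b2Q p4.1,
    ∀ T ∈ List.range 84,
      5 * ((T : ℤ) * (T : ℤ)) * (p1.1 * p2.1 * p3.1 * p4.1) =
        4320 * (p1.1 * p2.1 * p3.1 * p4.1 + q1 * p1.2 * (p2.1 * p3.1 * p4.1) +
          q2 * p2.2 * (p1.1 * p3.1 * p4.1) + q3 * p3.2 * (p1.1 * p2.1 * p4.1) +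
          q4 * p4.2 * (p1.1 * p2.1 * p3.1)) →
      1 + q1 + q2 + q3 + q4 ≤ (T : ℤ) → False := by
  decide +kernel

/-- the per-index analysis -/
theorem b2_index (d : ℕ) (c s : ℤ) (hd : d ∣ 4320) (h1 : 1 < d) (hle : d ≤ 65)
    (hc : c = 1 ∨ c = -1) (h5 : (5 : ℤ) ∣ (d : ℤ) - c)
    (hm : ∃ m₁ m₂ : ℕ, 10 * (m₁ : ℤ) = (d : ℤ) + 4 * c + 5 * s ∧
      10 * (m₂ : ℤ) = (d : ℤ) + 4 * c - 5 * s) :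
    ((d : ℤ), c) ∈ b2DC ∧ s ^ 2 ∈ b2Q (d : ℤ) ∧ 9 * (s ^ 2 * c) ≤ 16 * (d : ℤ) := by
  obtain ⟨m₁, m₂, e1, e2⟩ := hm
  interval_cases d <;> rcases hc with rfl | rfl <;>
    first
    | omega
    | (have hs : -10 ≤ s ∧ s ≤ 10 := by omega
       obtain ⟨hs1, hs2⟩ := hs
       interval_cases s <;> first | omega | decide)

theorem b2_numeric (d1 d2 d3 d4 : ℕ) (c1 c2 c3 c4 s1 s2 s3 s4 : ℤ) (T : ℕ)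
    (hd1 : d1 ∣ 4320) (hd2 : d2 ∣ 4320) (hd3 : d3 ∣ 4320) (hd4 : d4 ∣ 4320)
    (h1 : 1 < d1) (h2 : 1 < d2) (h3 : 1 < d3) (h4 : 1 < d4)
    (hc1 : c1 = 1 ∨ c1 = -1) (hc2 : c2 = 1 ∨ c2 = -1) (hc3 : c3 = 1 ∨ c3 = -1) (hc4 : c4 = 1 ∨ c4 = -1)
    (h51 : (5 : ℤ) ∣ (d1 : ℤ) - c1) (h52 : (5 : ℤ) ∣ (d2 : ℤ) - c2) (h53 : (5 : ℤ) ∣ (d3 : ℤ) - c3)
    (h54 : (5 : ℤ) ∣ (d4 : ℤ) - c4)
    (hdc : 1 + (d1 : ℤ) * c1 + (d2 : ℤ) * c2 + (d3 : ℤ) * c3 + (d4 : ℤ) * c4 = 0)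
    (hsq : 1 + d1 ^ 2 + d2 ^ 2 + d3 ^ 2 + d4 ^ 2 ≤ 4320)
    (hm1 : ∃ m₁ m₂ : ℕ, 10 * (m₁ : ℤ) = (d1 : ℤ) + 4 * c1 + 5 * s1 ∧ 10 * (m₂ : ℤ) = (d1 : ℤ) + 4 * c1 - 5 * s1)
    (hm2 : ∃ m₁ m₂ : ℕ, 10 * (m₁ : ℤ) = (d2 : ℤ) + 4 * c2 + 5 * s2 ∧ 10 * (m₂ : ℤ) = (d2 : ℤ) + 4 * c2 - 5 * s2)
    (hm3 : ∃ m₁ m₂ : ℕ, 10 * (m₁ : ℤ) = (d3 : ℤ) + 4 * c3 + 5 * s3 ∧ 10 * (m₂ : ℤ) = (d3 : ℤ) + 4 * c3 - 5 * s3)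
    (hm4 : ∃ m₁ m₂ : ℕ, 10 * (m₁ : ℤ) = (d4 : ℤ) + 4 * c4 + 5 * s4 ∧ 10 * (m₂ : ℤ) = (d4 : ℤ) + 4 * c4 - 5 * s4)
    (hT : 1 + s1 ^ 2 + s2 ^ 2 + s3 ^ 2 + s4 ^ 2 ≤ (T : ℤ))
    (hmul : 5 * (T : ℚ) ^ 2 = 4320 * (1 + (s1 : ℚ) ^ 2 * c1 / d1 + (s2 : ℚ) ^ 2 * c2 / d2 +
      (s3 : ℚ) ^ 2 * c3 / d3 + (s4 : ℚ) ^ 2 * c4 / d4)) : False := by
  have hl1 : d1 ≤ 65 := by nlinarith
  have hl2 : d2 ≤ 65 := by nlinarith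
  have hl3 : d3 ≤ 65 := by nlinarith
  have hl4 : d4 ≤ 65 := by nlinarith
  obtain ⟨m1, q1, b1⟩ := b2_index d1 c1 s1 hd1 h1 hl1 hc1 h51 hm1
  obtain ⟨m2, q2, b2⟩ := b2_index d2 c2 s2 hd2 h2 hl2 hc2 h52 hm2
  obtain ⟨m3, q3, b3⟩ := b2_index d3 c3 s3 hd3 h3 hl3 hc3 h53 hm3
  obtain ⟨m4, q4, b4⟩ := b2_index d4 c4 s4 hd4 h4 hl4 hc4 h54 hm4
  have hp1 : (0 : ℚ) < d1 := by exact_mod_cast (by omega : 0 < d1)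
  have hp2 : (0 : ℚ) < d2 := by exact_mod_cast (by omega : 0 < d2)
  have hp3 : (0 : ℚ) < d3 := by exact_mod_cast (by omega : 0 < d3)
  have hp4 : (0 : ℚ) < d4 := by exact_mod_cast (by omega : 0 < d4)
  -- the integer form of `hmul`
  have hQ : 5 * ((T : ℚ) * (T : ℚ)) * ((d1 : ℚ) * d2 * d3 * d4) =
      4320 * ((d1 : ℚ) * d2 * d3 * d4 + (s1 : ℚ) ^ 2 * c1 * ((d2 : ℚ) * d3 * d4) +
        (s2 : ℚ) ^ 2 * c2 * ((d1 : ℚ) * d3 * d4) + (s3 : ℚ) ^ 2 * c3 * ((d1 : ℚ) * d2 * d4) +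
        (s4 : ℚ) ^ 2 * c4 * ((d1 : ℚ) * d2 * d3)) := by
    have : (T : ℚ) * (T : ℚ) = (T : ℚ) ^ 2 := by ring
    rw [this, hmul]
    field_simp
  have hZ : 5 * ((T : ℤ) * (T : ℤ)) * ((d1 : ℤ) * d2 * d3 * d4) =
      4320 * ((d1 : ℤ) * d2 * d3 * d4 + s1 ^ 2 * c1 * ((d2 : ℤ) * d3 * d4) +
        s2 ^ 2 * c2 * ((d1 : ℤ) * d3 * d4) + s3 ^ 2 * c3 * ((d1 : ℤ) * d2 * d4) +
        s4 ^ 2 * c4 * ((d1 : ℤ) * d2 * d3)) := by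
    exact_mod_cast hQ
  -- the bound on `T`
  have hb : ∀ (d : ℕ) (c s : ℤ), (0 : ℚ) < d → 9 * (s ^ 2 * c) ≤ 16 * (d : ℤ) →
      (s : ℚ) ^ 2 * c / d ≤ 16 / 9 := by
    intro d c s hd hb
    rw [div_le_div_iff₀ hd (by norm_num)]
    have : ((9 * (s ^ 2 * c) : ℤ) : ℚ) ≤ ((16 * (d : ℤ) : ℤ) : ℚ) := by exact_mod_cast hb
    push_cast at this
    linarith
  have hT84 : T < 84 := by
    by_contra hcon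
    push Not at hcon
    have hTq : (84 : ℚ) ≤ T := by exact_mod_cast hcon
    have e1 := hb d1 c1 s1 hp1 b1
    have e2 := hb d2 c2 s2 hp2 b2
    have e3 := hb d3 c3 s3 hp3 b3
    have e4 := hb d4 c4 s4 hp4 b4
    nlinarith
  have hsqZ : 1 + (d1 : ℤ) * d1 + (d2 : ℤ) * d2 + (d3 : ℤ) * d3 + (d4 : ℤ) * d4 ≤ 4320 := by
    have : 1 + d1 * d1 + d2 * d2 + d3 * d3 + d4 * d4 ≤ 4320 := by nlinarith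
    exact_mod_cast this
  exact b2_core ((d1 : ℤ), c1) m1 ((d2 : ℤ), c2) m2 ((d3 : ℤ), c3) m3 ((d4 : ℤ), c4) m4 hdc hsqZ
    (s1 ^ 2) q1 (s2 ^ 2) q2 (s3 ^ 2) q3 (s4 ^ 2) q4 T (List.mem_range.2 hT84) hZ hT

end Cfsg.Agent.Helper57.O4320
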