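import Mathlib

set_option autoImplicit false

namespace Cfsg.Agent.Helper57

/-- An element whose order is coprime to the index of a normal subgroup lies in it. -/
theorem mem_normal_of_coprime_order {H : Type*} [Group H] (N : Subgroup H) [N.Normal]
    (x : H) (m : ℕ) (hx : x ^ m = 1) (hcop : Nat.Coprime m N.index) : x ∈ N := by
  rw [← QuotientGroup.eq_one_iff]
  have h1 : orderOf (x : H ⧸ N) ∣ m := by
    apply orderOf_dvd_of_pow_eq_one
    rw [← QuotientGroup.mk_pow, hx]; rfl
  have h2 : orderOf (x : H ⧸ N) ∣ N.index := by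
    rw [Subgroup.index_eq_card]
    exact orderOf_dvd_natCard _
  have := Nat.dvd_gcd h1 h2
  rw [hcop.gcd_eq_one] at this
  exact orderOf_eq_one_iff.mp (Nat.dvd_one.mp this)

/-- A criterion for simplicity of a group of order `168`. -/
theorem isSimpleGroup_of_card_168 {H : Type*} [Group H] [Finite H] (hcard : Nat.card H = 168)
    (c a u v : H) (hc7 : c ^ 7 = 1) (hc1 : c ≠ 1)
    (hcent : ∀ x : H, x * c = c * x → x ∈ Subgroup.zpowers c)
    (ha2 : a ^ 2 = 1) (hac : (a * c) ^ 3 = 1)
    (hgen : Subgroup.closure {a, c} = ⊤)
    (hu : u ^ 2 = 1) (hv : v ^ 2 = 1) (huv : (u * v) ^ 3 = 1) (huv1 : u * v ≠ 1) :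
    IsSimpleGroup H := by
  haveI : Nontrivial H := ⟨⟨c, 1, hc1⟩⟩
  haveI : Fact (Nat.Prime 7) := ⟨by norm_num⟩
  have hoc : orderOf c = 7 := orderOf_eq_prime hc7 hc1
  refine ⟨fun N hN => ?_⟩
  haveI := hN
  have hidx : N.index * Nat.card N = 168 := by rw [← hcard]; exact N.index_mul_card
  by_cases h7 : 7 ∣ Nat.card N
  · right
    have hi : N.index ∣ 24 := by
      obtain ⟨m, hm⟩ := h7
      rw [hm] at hidx
      have : 7 * (N.index * m) = 7 * 24 := by
        have h24 : 7 * 24 = 168 := by norm_num
        rw [h24, ← hidx]; ring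
      exact Dvd.intro _ (Nat.eq_of_mul_eq_mul_left (by norm_num) this)
    have hcN : c ∈ N := mem_normal_of_coprime_order N c 7 hc7
      (Nat.Coprime.coprime_dvd_right hi (by norm_num))
    have haN : a ∈ N := by
      rw [← QuotientGroup.eq_one_iff]
      have h1 : ((a * c : H) : H ⧸ N) = (a : H ⧸ N) := by
        rw [QuotientGroup.mk_mul, (QuotientGroup.eq_one_iff c).mpr hcN, mul_one]
      have h3 : (a : H ⧸ N) ^ 3 = 1 := by
        rw [← h1, ← QuotientGroup.mk_pow, hac]; rfl
      have h2 : (a : H ⧸ N) ^ 2 = 1 := by
        rw [← QuotientGroup.mk_pow, ha2]; rfl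
      calc (a : H ⧸ N) = (a : H ⧸ N) ^ 3 * ((a : H ⧸ N) ^ 2)⁻¹ := by group
        _ = 1 := by rw [h3, h2]; simp
    rw [eq_top_iff, ← hgen, Subgroup.closure_le]
    rintro x (rfl | rfl)
    · exact haN
    · exact hcN
  · have hmod : Nat.card N ≡ 1 [MOD 7] := by
      haveI : Fact (Nat.Prime 7) := ⟨by norm_num⟩
      letI : MulAction (Subgroup.zpowers c) N :=
        MulAction.compHom N ((MulAut.conjNormal (H := N)).comp (Subgroup.zpowers c).subtype)
      have hP : IsPGroup 7 (Subgroup.zpowers c) := by
        apply IsPGroup.of_card (n := 1)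
        rw [Nat.card_zpowers, pow_one]
        exact hoc
      have h := hP.card_modEq_card_fixedPoints N
      have hfix : MulAction.fixedPoints (Subgroup.zpowers c) N = {1} := by
        ext n
        simp only [MulAction.mem_fixedPoints, Set.mem_singleton_iff]
        constructor
        · intro hn
          have h1 := hn ⟨c, Subgroup.mem_zpowers c⟩
          have h2 : c * (n : H) * c⁻¹ = n := by
            have := congrArg Subtype.val h1
            exact this
          have h3 : (n : H) ∈ Subgroup.zpowers c := hcent n (by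
            conv_lhs => rw [← h2]
            group)
          have o1 : orderOf (n : H) ∣ 7 := by
            have := Subgroup.orderOf_dvd_natCard _ h3
            rwa [Nat.card_zpowers, hoc] at this
          have o2 : orderOf (n : H) ∣ Nat.card N := Subgroup.orderOf_dvd_natCard N n.2
          have : orderOf (n : H) = 1 := by
            rcases (Nat.dvd_prime (by norm_num : Nat.Prime 7)).mp o1 with h | h
            · exact h
            · exact absurd (h ▸ o2) h7
          exact Subtype.ext (orderOf_eq_one_iff.mp this)
        · rintro rfl g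
          show (MulAut.conjNormal (g : H)) (1 : N) = 1
          exact map_one _
      rw [hfix] at h
      simpa using h
    have hd : Nat.card N ∣ 24 := by
      have h1 : Nat.card N ∣ 7 * 24 := ⟨N.index, by rw [mul_comm (Nat.card N), hidx]⟩
      have hcop : Nat.Coprime (Nat.card N) 7 :=
        ((Nat.Prime.coprime_iff_not_dvd (by norm_num)).mpr h7).symm
      exact hcop.dvd_of_dvd_mul_left h1
    have hcases : Nat.card N = 1 ∨ Nat.card N = 8 := by
      have := Nat.mem_divisors.mpr ⟨hd, by norm_num⟩
      have h24 : Nat.divisors 24 = {1, 2, 3, 4, 6, 8, 12, 24} := by decide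
      rw [h24] at this
      simp only [Finset.mem_insert, Finset.mem_singleton] at this
      have hm : Nat.card N % 7 = 1 := hmod
      omega
    rcases hcases with h1 | h8
    · left; exact Subgroup.card_eq_one.mp h1
    · exfalso
      have hi : N.index = 21 := by rw [h8] at hidx; omega
      have huN := mem_normal_of_coprime_order N u 2 hu (by rw [hi]; norm_num)
      have hvN := mem_normal_of_coprime_order N v 2 hv (by rw [hi]; norm_num)
      have huvN : u * v ∈ N := N.mul_mem huN hvN
      have o1 : orderOf (u * v) ∣ 3 := orderOf_dvd_of_pow_eq_one huv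
      have o2 : orderOf (u * v) ∣ 8 := by
        have := Subgroup.orderOf_dvd_natCard N huvN
        rwa [h8] at this
      have := Nat.dvd_gcd o1 o2
      norm_num at this
      exact huv1 this

end Cfsg.Agent.Helper57
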