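import Mathlib

set_option autoImplicit false

namespace Cfsg.Agent.Helper57

section Table

variable {G R R₀ : Type*} [Group G] [Monoid R] [Monoid R₀]
  (val : G →* R) (φ : R₀ →* R)

/-- `x` is represented by `p` through the two homomorphisms. -/
def Rep (x : G) (p : R₀) : Prop := val x = φ p

variable {val φ}

theorem Rep.mul {x y : G} {p q : R₀} (h1 : Rep val φ x p) (h2 : Rep val φ y q) :
    Rep val φ (x * y) (p * q) := by
  unfold Rep at *
  rw [map_mul, map_mul, h1, h2]

theorem Rep.pow {x : G} {p : R₀} (h1 : Rep val φ x p) (n : ℕ) :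
    Rep val φ (x ^ n) (p ^ n) := by
  unfold Rep at *
  rw [map_pow, map_pow, h1]

theorem Rep.one : Rep val φ (1 : G) (1 : R₀) := by
  unfold Rep
  rw [map_one, map_one]

theorem Rep.eq_one (hval : Function.Injective val) {x : G} {p : R₀} (h1 : Rep val φ x p)
    (hp : p = 1) : x = 1 := by
  apply hval
  rw [h1, hp, map_one, map_one]

theorem Rep.ne_one (hφ : Function.Injective φ) {x : G} {p : R₀} (h1 : Rep val φ x p)
    (hp : p ≠ 1) : x ≠ 1 := by
  rintro rfl
  apply hp
  apply hφ
  rw [← h1, map_one, map_one]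

theorem Rep.eq (hval : Function.Injective val) {x y : G} {p : R₀} (h1 : Rep val φ x p)
    (h2 : Rep val φ y p) : x = y := by
  apply hval
  rw [h1, h2]

theorem Rep.eq' (hφ : Function.Injective φ) {x : G} {p q : R₀} (h1 : Rep val φ x p)
    (h2 : Rep val φ x q) : p = q := by
  apply hφ
  rw [← h1, ← h2]

variable (hval : Function.Injective val) (hφ : Function.Injective φ)
  {m : ℕ} [NeZero m] (Lm : Fin m → R₀) (a c : R₀) (wa wc par : Fin m → Fin m)
  (A C : G) (hA : Rep val φ A a) (hC : Rep val φ C c)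
  (h0 : Lm 0 = 1) (hwa : ∀ k, a * Lm k = Lm (wa k)) (hwc : ∀ k, c * Lm k = Lm (wc k))
  (hpar : ∀ k, k ≠ 0 → par k < k ∧ (wa (par k) = k ∨ wc (par k) = k))
  (ha2 : a * a = 1) (hc7 : c ^ 7 = 1)

include hval hA hC h0 hwa hwc ha2 hc7 in
theorem table_A : ∀ x ∈ Subgroup.closure ({A, C} : Set G), ∃ k, Rep val φ x (Lm k) := by
  have hAA : A * A = 1 := (hA.mul hA).eq_one hval ha2
  have hC7 : C ^ 7 = 1 := (hC.pow 7).eq_one hval hc7
  have hAinv : A⁻¹ = A := inv_eq_of_mul_eq_one_right hAA
  have hCinv : C⁻¹ = C ^ 6 := inv_eq_of_mul_eq_one_right (by rw [← pow_succ', hC7])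
  have stepA : ∀ y : G, (∃ k, Rep val φ y (Lm k)) → ∃ k, Rep val φ (A * y) (Lm k) := by
    rintro y ⟨k, hk⟩
    exact ⟨wa k, by rw [← hwa]; exact hA.mul hk⟩
  have stepC : ∀ y : G, (∃ k, Rep val φ y (Lm k)) → ∃ k, Rep val φ (C * y) (Lm k) := by
    rintro y ⟨k, hk⟩
    exact ⟨wc k, by rw [← hwc]; exact hC.mul hk⟩
  have stepCn : ∀ (j : ℕ) (y : G), (∃ k, Rep val φ y (Lm k)) →
      ∃ k, Rep val φ (C ^ j * y) (Lm k) := by
    intro j
    induction j with
    | zero => intro y hy; simpa using hy
    | succ j ih => intro y hy; rw [pow_succ', mul_assoc]; exact stepC _ (ih y hy)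
  intro x hx
  induction hx using Subgroup.closure_induction_left with
  | one => exact ⟨0, by rw [h0]; exact Rep.one⟩
  | mul_left g hg y hy ih =>
    rcases hg with rfl | rfl
    · exact stepA y ih
    · exact stepC y ih
  | inv_mul_cancel g hg y hy ih =>
    rcases hg with rfl | rfl
    · rw [hAinv]; exact stepA y ih
    · rw [hCinv]; exact stepCn 6 y ih

include hA hC h0 hwa hwc hpar in
theorem table_B : ∀ k : Fin m, ∃ x ∈ Subgroup.closure ({A, C} : Set G), Rep val φ x (Lm k) := by
  have key : ∀ (j : ℕ) (k : Fin m), k.val = j →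
      ∃ x ∈ Subgroup.closure ({A, C} : Set G), Rep val φ x (Lm k) := by
    intro j
    induction j using Nat.strong_induction_on with
    | _ j ih =>
      intro k hk
      by_cases h0' : k = 0
      · subst h0'
        exact ⟨1, one_mem _, by rw [h0]; exact Rep.one⟩
      · obtain ⟨hlt, hor⟩ := hpar k h0'
        obtain ⟨y, hy, hyv⟩ := ih (par k).val (by rw [← hk]; exact hlt) (par k) rfl
        rcases hor with h | h
        · exact ⟨A * y, mul_mem (Subgroup.subset_closure (by simp)) hy, by
            rw [← h, ← hwa]; exact hA.mul hyv⟩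
        · exact ⟨C * y, mul_mem (Subgroup.subset_closure (by simp)) hy, by
            rw [← h, ← hwc]; exact hC.mul hyv⟩
  intro k
  exact key k.val k rfl

include hval hφ hA hC h0 hwa hwc hpar ha2 hc7 in
theorem table_card (hinj : Function.Injective Lm) :
    Nat.card (Subgroup.closure ({A, C} : Set G)) = m := by
  classical
  have hA' := table_A hval Lm a c wa wc A C hA hC h0 hwa hwc ha2 hc7
  have hB' := table_B Lm a c wa wc par A C hA hC h0 hwa hwc hpar
  choose f hf using (fun x : Subgroup.closure ({A, C} : Set G) => hA' x.1 x.2)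
  have hbij : Function.Bijective f := by
    constructor
    · intro x y hxy
      apply Subtype.ext
      have h1 := hf x
      have h2 := hf y
      rw [hxy] at h1
      exact h1.eq hval h2
    · intro k
      obtain ⟨x, hx, hxv⟩ := hB' k
      refine ⟨⟨x, hx⟩, ?_⟩
      apply hinj
      exact (hf ⟨x, hx⟩).eq' hφ hxv
  rw [Nat.card_eq_of_bijective f hbij, Nat.card_eq_fintype_card, Fintype.card_fin]

end Table

end Cfsg.Agent.Helper57
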