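import Cfsg.Agent.Lib.Helper57.PSL27Tab
import Cfsg.Agent.Lib.Helper57.TableGrp
import Cfsg.Agent.Lib.Helper57.Simple168

set_option autoImplicit false

namespace Cfsg.Agent.Helper57
namespace P27
open Matrix

theorem v_sq : (g7 ^ 2 * a2 * g7 ^ 5) ^ 2 = 1 := by decide

section Main

variable {F : Type*} [Field F] [Fintype F] (hF : Fintype.card F = 9)

/-- The matrix of an element of `SU₃(3)`, as a monoid homomorphism. -/
def valSU : Cfsg.SU 3 F 3 →* Matrix (Fin 3) (Fin 3) F where
  toFun x := ((x : SpecialLinearGroup (Fin 3) F) : Matrix (Fin 3) (Fin 3) F)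
  map_one' := rfl
  map_mul' _ _ := rfl

theorem valSU_injective : Function.Injective (valSU (F := F)) := by
  intro x y h
  apply Subtype.ext
  exact Matrix.SpecialLinearGroup.ext _ _ (fun i j => congrFun (congrFun h i) j)

/-- Base change of matrices from the concrete field with nine elements. -/
noncomputable def phi9 : Matrix (Fin 3) (Fin 3) K9 →* Matrix (Fin 3) (Fin 3) F :=
  (((eK9 hF : K9 ≃+* F) : K9 →+* F).mapMatrix : Matrix (Fin 3) (Fin 3) K9 →+* _).toMonoidHom

theorem phi9_injective : Function.Injective (phi9 hF) := mapK9_injective hF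

/-- The involution in `SU₃(3)`. -/
noncomputable def elA : Cfsg.SU 3 F 3 := suOfK9 hF a2 a2_det a2_unit

/-- The element of order seven in `SU₃(3)`. -/
noncomputable def elC : Cfsg.SU 3 F 3 := suOfK9 hF g7 g7_det g7_unit

theorem rep_A : Rep valSU (phi9 hF) (elA hF) a2 := rfl

theorem rep_C : Rep valSU (phi9 hF) (elC hF) g7 := rfl

/-- The subgroup of order 168. -/
noncomputable def H168 : Subgroup (Cfsg.SU 3 F 3) := Subgroup.closure {elA hF, elC hF}

theorem card_H168 : Nat.card (H168 hF) = 168 :=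
  table_card valSU_injective (phi9_injective hF) Lm a2 g7 wa wc par (elA hF) (elC hF)
    (rep_A hF) (rep_C hF) Lm_zero a2_mul_Lm g7_mul_Lm par_spec a2_sq g7_pow Lm_injective

theorem simple_H168 : IsSimpleGroup (H168 hF) := by
  haveI : Finite (H168 hF) := Nat.finite_of_card_ne_zero (by rw [card_H168]; norm_num)
  have hAm : elA hF ∈ H168 hF := Subgroup.subset_closure (by simp)
  have hCm : elC hF ∈ H168 hF := Subgroup.subset_closure (by simp)
  have hinj := valSU_injective (F := F)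
  have hφ := phi9_injective hF
  have rA := rep_A hF
  have rC := rep_C hF
  have rV : Rep valSU (phi9 hF) (elC hF ^ 2 * elA hF * elC hF ^ 5) (g7 ^ 2 * a2 * g7 ^ 5) :=
    ((rC.pow 2).mul rA).mul (rC.pow 5)
  refine isSimpleGroup_of_card_168 (card_H168 hF) ⟨elC hF, hCm⟩ ⟨elA hF, hAm⟩ ⟨elA hF, hAm⟩
    ⟨elC hF ^ 2 * elA hF * elC hF ^ 5, mul_mem (mul_mem (pow_mem hCm 2) hAm) (pow_mem hCm 5)⟩
    ?_ ?_ ?_ ?_ ?_ ?_ ?_ ?_ ?_ ?_
  · exact Subtype.ext ((rC.pow 7).eq_one hinj g7_pow)
  · intro h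
    exact rC.ne_one hφ g7_ne_one (congrArg Subtype.val h)
  · intro x hx
    obtain ⟨k, hk⟩ := table_A hinj Lm a2 g7 wa wc (elA hF) (elC hF) rA rC Lm_zero a2_mul_Lm
      g7_mul_Lm a2_sq g7_pow x.1 x.2
    have hx' : (x : Cfsg.SU 3 F 3) * elC hF = elC hF * x := congrArg Subtype.val hx
    have h1 : Lm k * g7 = g7 * Lm k := by
      have r1 := hk.mul rC
      rw [hx'] at r1
      exact (r1.eq' hφ (rC.mul hk))
    obtain ⟨i, hi⟩ := cent_g7 k h1
    rw [hi] at hk
    have h2 : (x : Cfsg.SU 3 F 3) = elC hF ^ (i : ℕ) := hk.eq hinj (rC.pow i)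
    rw [Subgroup.mem_zpowers_iff]
    exact ⟨(i : ℕ), Subtype.ext (by rw [zpow_natCast, Subgroup.coe_pow]; exact h2.symm)⟩
  · exact Subtype.ext ((rA.pow 2).eq_one hinj (by rw [sq]; exact a2_sq))
  · exact Subtype.ext (((rA.mul rC).pow 3).eq_one hinj a2_g7_cube)
  · have h := Subgroup.closure_closure_coe_preimage (k := ({elA hF, elC hF} : Set (Cfsg.SU 3 F 3)))
    have hset : ({⟨elA hF, hAm⟩, ⟨elC hF, hCm⟩} : Set (H168 hF)) =
        ((↑) : H168 hF → Cfsg.SU 3 F 3) ⁻¹' {elA hF, elC hF} := by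
      ext x
      simp only [Set.mem_insert_iff, Set.mem_singleton_iff, Set.mem_preimage]
      constructor
      · rintro (rfl | rfl)
        · left; rfl
        · right; rfl
      · rintro (h | h)
        · left; exact Subtype.ext h
        · right; exact Subtype.ext h
    rw [hset]
    exact h
  · exact Subtype.ext ((rA.pow 2).eq_one hinj (by rw [sq]; exact a2_sq))
  · exact Subtype.ext ((rV.pow 2).eq_one hinj v_sq)
  · exact Subtype.ext (((rA.mul rV).pow 3).eq_one hinj uv_cube)
  · intro h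
    exact (rA.mul rV).ne_one hφ uv_ne_one (congrArg Subtype.val h)

end Main

end P27
end Cfsg.Agent.Helper57
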