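import Cfsg.Agent.Lib.Helper57.SpecPSU33c

set_option autoImplicit false

namespace Cfsg.Agent.Helper57
namespace P27
open Matrix

/-- An involution of `SU₃(3)` generating a group of order 168 together with `g7`. -/
def a2 : Matrix (Fin 3) (Fin 3) K9 := !![⟨1, 0⟩, ⟨2, 2⟩, ⟨0, 1⟩; ⟨2, 1⟩, ⟨0, 0⟩, ⟨1, 1⟩; ⟨0, 2⟩, ⟨1, 2⟩, ⟨1, 0⟩]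

/-- The 168 elements of the group generated by `a2` and `g7`. -/
def Lm : Fin 168 → Matrix (Fin 3) (Fin 3) K9 := ![
  !![⟨1, 0⟩, ⟨0, 0⟩, ⟨0, 0⟩; ⟨0, 0⟩, ⟨1, 0⟩, ⟨0, 0⟩; ⟨0, 0⟩, ⟨0, 0⟩, ⟨1, 0⟩],
  !![⟨1, 0⟩, ⟨2, 2⟩, ⟨0, 1⟩; ⟨2, 1⟩, ⟨0, 0⟩, ⟨1, 1⟩; ⟨0, 2⟩, ⟨1, 2⟩, ⟨1, 0⟩],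
  !![⟨0, 0⟩, ⟨0, 0⟩, ⟨0, 1⟩; ⟨1, 1⟩, ⟨1, 1⟩, ⟨0, 0⟩; ⟨1, 1⟩, ⟨2, 2⟩, ⟨0, 0⟩],
  !![⟨1, 0⟩, ⟨1, 1⟩, ⟨0, 1⟩; ⟨2, 1⟩, ⟨0, 1⟩, ⟨2, 0⟩; ⟨0, 1⟩, ⟨0, 1⟩, ⟨2, 2⟩],
  !![⟨2, 2⟩, ⟨1, 0⟩, ⟨0, 1⟩; ⟨0, 2⟩, ⟨0, 1⟩, ⟨2, 2⟩; ⟨0, 1⟩, ⟨1, 2⟩, ⟨1, 0⟩],
  !![⟨2, 1⟩, ⟨1, 2⟩, ⟨0, 0⟩; ⟨0, 2⟩, ⟨0, 2⟩, ⟨2, 1⟩; ⟨0, 1⟩, ⟨0, 1⟩, ⟨2, 1⟩],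
  !![⟨2, 0⟩, ⟨1, 0⟩, ⟨2, 1⟩; ⟨1, 2⟩, ⟨0, 1⟩, ⟨2, 0⟩; ⟨0, 2⟩, ⟨2, 1⟩, ⟨2, 0⟩],
  !![⟨2, 0⟩, ⟨2, 0⟩, ⟨1, 2⟩; ⟨2, 1⟩, ⟨2, 0⟩, ⟨1, 0⟩; ⟨0, 1⟩, ⟨1, 1⟩, ⟨0, 2⟩],
  !![⟨2, 0⟩, ⟨1, 1⟩, ⟨0, 1⟩; ⟨1, 0⟩, ⟨0, 2⟩, ⟨2, 2⟩; ⟨2, 2⟩, ⟨2, 0⟩, ⟨2, 0⟩],
  !![⟨0, 2⟩, ⟨2, 0⟩, ⟨1, 2⟩; ⟨2, 2⟩, ⟨2, 0⟩, ⟨1, 0⟩; ⟨0, 1⟩, ⟨1, 2⟩, ⟨2, 0⟩],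
  !![⟨2, 0⟩, ⟨2, 0⟩, ⟨2, 2⟩; ⟨2, 2⟩, ⟨0, 2⟩, ⟨1, 0⟩; ⟨0, 1⟩, ⟨1, 1⟩, ⟨2, 0⟩],
  !![⟨1, 0⟩, ⟨2, 2⟩, ⟨0, 2⟩; ⟨1, 2⟩, ⟨0, 2⟩, ⟨0, 2⟩; ⟨0, 2⟩, ⟨2, 0⟩, ⟨2, 1⟩],
  !![⟨0, 0⟩, ⟨2, 2⟩, ⟨1, 1⟩; ⟨0, 0⟩, ⟨1, 1⟩, ⟨1, 1⟩; ⟨0, 1⟩, ⟨0, 0⟩, ⟨0, 0⟩],
  !![⟨2, 0⟩, ⟨2, 1⟩, ⟨1, 0⟩; ⟨0, 2⟩, ⟨1, 1⟩, ⟨0, 1⟩; ⟨1, 2⟩, ⟨0, 0⟩, ⟨1, 2⟩],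
  !![⟨2, 1⟩, ⟨0, 1⟩, ⟨0, 2⟩; ⟨1, 0⟩, ⟨0, 2⟩, ⟨1, 1⟩; ⟨0, 2⟩, ⟨2, 1⟩, ⟨1, 0⟩],
  !![⟨1, 2⟩, ⟨0, 2⟩, ⟨0, 2⟩; ⟨0, 0⟩, ⟨1, 1⟩, ⟨2, 2⟩; ⟨1, 1⟩, ⟨2, 0⟩, ⟨2, 0⟩],
  !![⟨2, 0⟩, ⟨1, 1⟩, ⟨0, 2⟩; ⟨1, 0⟩, ⟨1, 1⟩, ⟨0, 1⟩; ⟨1, 1⟩, ⟨0, 0⟩, ⟨1, 2⟩],
  !![⟨1, 2⟩, ⟨0, 2⟩, ⟨1, 0⟩; ⟨0, 0⟩, ⟨1, 1⟩, ⟨1, 2⟩; ⟨1, 2⟩, ⟨0, 1⟩, ⟨2, 0⟩],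
  !![⟨2, 0⟩, ⟨2, 1⟩, ⟨0, 2⟩; ⟨2, 0⟩, ⟨0, 1⟩, ⟨1, 2⟩; ⟨2, 1⟩, ⟨1, 0⟩, ⟨2, 0⟩],
  !![⟨0, 0⟩, ⟨1, 2⟩, ⟨1, 2⟩; ⟨0, 0⟩, ⟨1, 2⟩, ⟨2, 1⟩; ⟨0, 2⟩, ⟨0, 0⟩, ⟨0, 0⟩],
  !![⟨1, 0⟩, ⟨0, 2⟩, ⟨2, 2⟩; ⟨0, 1⟩, ⟨1, 0⟩, ⟨2, 1⟩; ⟨2, 1⟩, ⟨2, 2⟩, ⟨0, 0⟩],
  !![⟨2, 0⟩, ⟨0, 0⟩, ⟨0, 0⟩; ⟨0, 0⟩, ⟨0, 0⟩, ⟨0, 1⟩; ⟨0, 0⟩, ⟨0, 2⟩, ⟨0, 0⟩],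
  !![⟨2, 2⟩, ⟨2, 2⟩, ⟨0, 0⟩; ⟨0, 2⟩, ⟨0, 1⟩, ⟨1, 1⟩; ⟨0, 2⟩, ⟨0, 1⟩, ⟨2, 2⟩],
  !![⟨1, 1⟩, ⟨0, 0⟩, ⟨1, 1⟩; ⟨0, 1⟩, ⟨1, 2⟩, ⟨0, 2⟩; ⟨1, 0⟩, ⟨1, 1⟩, ⟨2, 0⟩],
  !![⟨0, 0⟩, ⟨0, 2⟩, ⟨0, 0⟩; ⟨0, 1⟩, ⟨0, 0⟩, ⟨0, 0⟩; ⟨0, 0⟩, ⟨0, 0⟩, ⟨2, 0⟩],
  !![⟨2, 1⟩, ⟨0, 2⟩, ⟨0, 2⟩; ⟨2, 0⟩, ⟨1, 1⟩, ⟨1, 0⟩; ⟨2, 0⟩, ⟨1, 0⟩, ⟨1, 1⟩],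
  !![⟨0, 0⟩, ⟨1, 2⟩, ⟨2, 2⟩; ⟨1, 1⟩, ⟨1, 0⟩, ⟨0, 1⟩; ⟨2, 1⟩, ⟨0, 2⟩, ⟨1, 0⟩],
  !![⟨2, 1⟩, ⟨0, 0⟩, ⟨1, 1⟩; ⟨0, 0⟩, ⟨0, 1⟩, ⟨0, 0⟩; ⟨1, 1⟩, ⟨0, 0⟩, ⟨2, 1⟩],
  !![⟨1, 1⟩, ⟨2, 0⟩, ⟨0, 2⟩; ⟨2, 0⟩, ⟨1, 1⟩, ⟨0, 1⟩; ⟨2, 0⟩, ⟨1, 0⟩, ⟨2, 1⟩],
  !![⟨2, 0⟩, ⟨0, 1⟩, ⟨1, 1⟩; ⟨2, 2⟩, ⟨1, 2⟩, ⟨0, 0⟩; ⟨1, 0⟩, ⟨0, 2⟩, ⟨1, 1⟩],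
  !![⟨2, 2⟩, ⟨0, 1⟩, ⟨0, 2⟩; ⟨1, 1⟩, ⟨0, 1⟩, ⟨0, 2⟩; ⟨0, 0⟩, ⟨2, 2⟩, ⟨2, 2⟩],
  !![⟨1, 1⟩, ⟨0, 0⟩, ⟨1, 2⟩; ⟨0, 1⟩, ⟨1, 2⟩, ⟨2, 0⟩; ⟨0, 1⟩, ⟨2, 1⟩, ⟨2, 0⟩],
  !![⟨2, 2⟩, ⟨1, 2⟩, ⟨0, 0⟩; ⟨0, 2⟩, ⟨2, 0⟩, ⟨1, 1⟩; ⟨2, 0⟩, ⟨0, 1⟩, ⟨2, 1⟩],
  !![⟨2, 0⟩, ⟨1, 0⟩, ⟨1, 2⟩; ⟨1, 2⟩, ⟨1, 2⟩, ⟨0, 0⟩; ⟨0, 1⟩, ⟨0, 2⟩, ⟨1, 1⟩],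
  !![⟨0, 0⟩, ⟨1, 0⟩, ⟨0, 0⟩; ⟨2, 2⟩, ⟨0, 0⟩, ⟨2, 1⟩; ⟨2, 2⟩, ⟨0, 0⟩, ⟨1, 2⟩],
  !![⟨1, 0⟩, ⟨2, 0⟩, ⟨1, 2⟩; ⟨1, 0⟩, ⟨2, 2⟩, ⟨0, 2⟩; ⟨2, 2⟩, ⟨1, 0⟩, ⟨0, 1⟩],
  !![⟨2, 1⟩, ⟨0, 1⟩, ⟨0, 1⟩; ⟨2, 1⟩, ⟨0, 2⟩, ⟨0, 2⟩; ⟨0, 0⟩, ⟨1, 2⟩, ⟨2, 1⟩],
  !![⟨0, 1⟩, ⟨2, 1⟩, ⟨0, 2⟩; ⟨2, 0⟩, ⟨2, 0⟩, ⟨1, 1⟩; ⟨1, 1⟩, ⟨1, 0⟩, ⟨2, 0⟩],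
  !![⟨0, 0⟩, ⟨0, 0⟩, ⟨0, 2⟩; ⟨2, 1⟩, ⟨1, 2⟩, ⟨0, 0⟩; ⟨1, 2⟩, ⟨1, 2⟩, ⟨0, 0⟩],
  !![⟨0, 1⟩, ⟨0, 1⟩, ⟨1, 2⟩; ⟨2, 0⟩, ⟨2, 2⟩, ⟨1, 0⟩; ⟨2, 2⟩, ⟨2, 0⟩, ⟨1, 0⟩],
  !![⟨0, 2⟩, ⟨0, 1⟩, ⟨2, 1⟩; ⟨0, 2⟩, ⟨1, 1⟩, ⟨2, 0⟩; ⟨2, 1⟩, ⟨1, 0⟩, ⟨0, 1⟩],
  !![⟨1, 2⟩, ⟨1, 2⟩, ⟨0, 0⟩; ⟨0, 0⟩, ⟨0, 0⟩, ⟨2, 0⟩; ⟨2, 2⟩, ⟨1, 1⟩, ⟨0, 0⟩],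
  !![⟨2, 1⟩, ⟨0, 0⟩, ⟨2, 2⟩; ⟨1, 0⟩, ⟨2, 1⟩, ⟨0, 2⟩; ⟨1, 0⟩, ⟨1, 2⟩, ⟨0, 2⟩],
  !![⟨2, 1⟩, ⟨2, 2⟩, ⟨0, 0⟩; ⟨0, 2⟩, ⟨2, 0⟩, ⟨2, 1⟩; ⟨2, 0⟩, ⟨0, 1⟩, ⟨2, 2⟩],
  !![⟨0, 2⟩, ⟨0, 1⟩, ⟨2, 2⟩; ⟨2, 1⟩, ⟨2, 1⟩, ⟨0, 0⟩; ⟨1, 0⟩, ⟨2, 0⟩, ⟨2, 1⟩],
  !![⟨0, 1⟩, ⟨1, 0⟩, ⟨2, 1⟩; ⟨2, 0⟩, ⟨1, 1⟩, ⟨0, 2⟩; ⟨2, 1⟩, ⟨0, 1⟩, ⟨0, 2⟩],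
  !![⟨2, 0⟩, ⟨2, 2⟩, ⟨0, 2⟩; ⟨2, 0⟩, ⟨2, 0⟩, ⟨1, 2⟩; ⟨1, 1⟩, ⟨1, 0⟩, ⟨0, 1⟩],
  !![⟨1, 2⟩, ⟨1, 0⟩, ⟨2, 0⟩; ⟨1, 2⟩, ⟨2, 0⟩, ⟨1, 0⟩; ⟨0, 0⟩, ⟨1, 1⟩, ⟨1, 1⟩],
  !![⟨0, 2⟩, ⟨2, 0⟩, ⟨2, 2⟩; ⟨1, 0⟩, ⟨1, 2⟩, ⟨0, 2⟩; ⟨2, 2⟩, ⟨0, 1⟩, ⟨0, 1⟩],
  !![⟨1, 1⟩, ⟨1, 0⟩, ⟨0, 1⟩; ⟨0, 1⟩, ⟨2, 1⟩, ⟨2, 0⟩; ⟨0, 2⟩, ⟨0, 2⟩, ⟨1, 1⟩],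
  !![⟨1, 2⟩, ⟨0, 0⟩, ⟨1, 1⟩; ⟨0, 1⟩, ⟨1, 1⟩, ⟨1, 0⟩; ⟨0, 2⟩, ⟨1, 1⟩, ⟨2, 0⟩],
  !![⟨1, 1⟩, ⟨2, 0⟩, ⟨2, 0⟩; ⟨2, 2⟩, ⟨2, 0⟩, ⟨2, 0⟩; ⟨0, 0⟩, ⟨2, 1⟩, ⟨1, 2⟩],
  !![⟨1, 2⟩, ⟨0, 1⟩, ⟨2, 0⟩; ⟨2, 2⟩, ⟨2, 0⟩, ⟨0, 2⟩; ⟨0, 0⟩, ⟨2, 1⟩, ⟨1, 1⟩],
  !![⟨0, 0⟩, ⟨1, 1⟩, ⟨2, 2⟩; ⟨2, 0⟩, ⟨0, 0⟩, ⟨0, 0⟩; ⟨0, 0⟩, ⟨1, 2⟩, ⟨1, 2⟩],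
  !![⟨1, 1⟩, ⟨1, 1⟩, ⟨0, 0⟩; ⟨1, 0⟩, ⟨2, 0⟩, ⟨1, 2⟩; ⟨2, 0⟩, ⟨1, 0⟩, ⟨1, 2⟩],
  !![⟨1, 2⟩, ⟨0, 2⟩, ⟨0, 1⟩; ⟨1, 0⟩, ⟨2, 2⟩, ⟨0, 1⟩; ⟨0, 2⟩, ⟨2, 0⟩, ⟨1, 2⟩],
  !![⟨1, 2⟩, ⟨0, 0⟩, ⟨2, 2⟩; ⟨2, 1⟩, ⟨0, 0⟩, ⟨2, 2⟩; ⟨0, 0⟩, ⟨1, 0⟩, ⟨0, 0⟩],
  !![⟨2, 2⟩, ⟨0, 1⟩, ⟨2, 0⟩; ⟨2, 1⟩, ⟨2, 0⟩, ⟨0, 2⟩; ⟨0, 0⟩, ⟨2, 2⟩, ⟨2, 1⟩],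
  !![⟨1, 2⟩, ⟨2, 1⟩, ⟨0, 0⟩; ⟨2, 0⟩, ⟨2, 0⟩, ⟨2, 2⟩; ⟨2, 0⟩, ⟨2, 0⟩, ⟨1, 1⟩],
  !![⟨1, 1⟩, ⟨0, 1⟩, ⟨2, 0⟩; ⟨1, 2⟩, ⟨2, 0⟩, ⟨0, 2⟩; ⟨0, 0⟩, ⟨1, 1⟩, ⟨1, 2⟩],
  !![⟨0, 1⟩, ⟨1, 1⟩, ⟨1, 0⟩; ⟨2, 1⟩, ⟨1, 0⟩, ⟨1, 0⟩; ⟨0, 2⟩, ⟨2, 0⟩, ⟨2, 2⟩],
  !![⟨2, 0⟩, ⟨2, 0⟩, ⟨1, 1⟩; ⟨2, 2⟩, ⟨1, 1⟩, ⟨0, 0⟩; ⟨0, 2⟩, ⟨0, 2⟩, ⟨1, 2⟩],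
  !![⟨0, 1⟩, ⟨0, 2⟩, ⟨2, 2⟩; ⟨2, 2⟩, ⟨0, 1⟩, ⟨0, 1⟩; ⟨0, 2⟩, ⟨1, 1⟩, ⟨0, 1⟩],
  !![⟨0, 1⟩, ⟨0, 1⟩, ⟨2, 2⟩; ⟨0, 2⟩, ⟨1, 2⟩, ⟨1, 0⟩; ⟨2, 2⟩, ⟨2, 0⟩, ⟨0, 2⟩],
  !![⟨2, 2⟩, ⟨2, 0⟩, ⟨1, 0⟩; ⟨1, 0⟩, ⟨1, 0⟩, ⟨2, 2⟩; ⟨0, 2⟩, ⟨1, 2⟩, ⟨0, 1⟩],
  !![⟨2, 1⟩, ⟨0, 1⟩, ⟨2, 0⟩; ⟨1, 1⟩, ⟨2, 0⟩, ⟨0, 2⟩; ⟨0, 0⟩, ⟨1, 2⟩, ⟨2, 2⟩],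
  !![⟨0, 0⟩, ⟨2, 1⟩, ⟨2, 1⟩; ⟨1, 0⟩, ⟨0, 0⟩, ⟨0, 0⟩; ⟨0, 0⟩, ⟨2, 2⟩, ⟨1, 1⟩],
  !![⟨0, 0⟩, ⟨2, 0⟩, ⟨0, 0⟩; ⟨1, 2⟩, ⟨0, 0⟩, ⟨1, 1⟩; ⟨2, 1⟩, ⟨0, 0⟩, ⟨1, 1⟩],
  !![⟨1, 2⟩, ⟨2, 0⟩, ⟨2, 0⟩; ⟨2, 0⟩, ⟨1, 2⟩, ⟨1, 0⟩; ⟨0, 1⟩, ⟨0, 2⟩, ⟨2, 2⟩],
  !![⟨1, 0⟩, ⟨1, 0⟩, ⟨2, 1⟩; ⟨2, 0⟩, ⟨2, 1⟩, ⟨1, 0⟩; ⟨1, 1⟩, ⟨0, 1⟩, ⟨0, 2⟩],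
  !![⟨0, 1⟩, ⟨2, 2⟩, ⟨0, 2⟩; ⟨1, 1⟩, ⟨0, 2⟩, ⟨0, 2⟩; ⟨0, 2⟩, ⟨0, 1⟩, ⟨1, 1⟩],
  !![⟨1, 0⟩, ⟨2, 1⟩, ⟨0, 2⟩; ⟨1, 1⟩, ⟨0, 2⟩, ⟨1, 0⟩; ⟨0, 2⟩, ⟨0, 1⟩, ⟨2, 1⟩],
  !![⟨1, 1⟩, ⟨0, 1⟩, ⟨0, 2⟩; ⟨0, 2⟩, ⟨0, 2⟩, ⟨1, 1⟩; ⟨0, 2⟩, ⟨2, 2⟩, ⟨0, 1⟩],
  !![⟨0, 0⟩, ⟨2, 2⟩, ⟨2, 1⟩; ⟨2, 1⟩, ⟨1, 0⟩, ⟨0, 1⟩; ⟨2, 2⟩, ⟨0, 2⟩, ⟨1, 0⟩],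
  !![⟨1, 1⟩, ⟨2, 2⟩, ⟨0, 0⟩; ⟨0, 0⟩, ⟨0, 0⟩, ⟨1, 0⟩; ⟨2, 1⟩, ⟨2, 1⟩, ⟨0, 0⟩],
  !![⟨0, 0⟩, ⟨1, 1⟩, ⟨1, 1⟩; ⟨2, 2⟩, ⟨0, 2⟩, ⟨0, 1⟩; ⟨1, 1⟩, ⟨0, 2⟩, ⟨0, 1⟩],
  !![⟨0, 2⟩, ⟨2, 0⟩, ⟨2, 1⟩; ⟨0, 2⟩, ⟨2, 1⟩, ⟨2, 0⟩; ⟨1, 1⟩, ⟨1, 0⟩, ⟨1, 0⟩],
  !![⟨0, 2⟩, ⟨0, 1⟩, ⟨1, 1⟩; ⟨1, 0⟩, ⟨2, 1⟩, ⟨2, 0⟩; ⟨2, 1⟩, ⟨1, 0⟩, ⟨1, 0⟩],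
  !![⟨1, 1⟩, ⟨0, 0⟩, ⟨2, 1⟩; ⟨1, 1⟩, ⟨0, 0⟩, ⟨1, 2⟩; ⟨0, 0⟩, ⟨2, 0⟩, ⟨0, 0⟩],
  !![⟨1, 0⟩, ⟨0, 2⟩, ⟨1, 1⟩; ⟨0, 1⟩, ⟨1, 0⟩, ⟨1, 2⟩; ⟨1, 2⟩, ⟨1, 1⟩, ⟨0, 0⟩],
  !![⟨0, 0⟩, ⟨0, 1⟩, ⟨0, 0⟩; ⟨0, 0⟩, ⟨0, 0⟩, ⟨0, 2⟩; ⟨1, 0⟩, ⟨0, 0⟩, ⟨0, 0⟩],
  !![⟨0, 2⟩, ⟨0, 2⟩, ⟨2, 1⟩; ⟨1, 2⟩, ⟨0, 2⟩, ⟨0, 1⟩; ⟨0, 1⟩, ⟨2, 1⟩, ⟨0, 2⟩],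
  !![⟨0, 0⟩, ⟨2, 1⟩, ⟨1, 1⟩; ⟨2, 2⟩, ⟨1, 0⟩, ⟨0, 1⟩; ⟨1, 2⟩, ⟨0, 2⟩, ⟨1, 0⟩],
  !![⟨0, 1⟩, ⟨0, 2⟩, ⟨1, 1⟩; ⟨0, 1⟩, ⟨0, 2⟩, ⟨2, 2⟩; ⟨1, 1⟩, ⟨1, 1⟩, ⟨0, 0⟩],
  !![⟨1, 0⟩, ⟨0, 2⟩, ⟨1, 2⟩; ⟨0, 1⟩, ⟨1, 0⟩, ⟨2, 2⟩; ⟨1, 1⟩, ⟨2, 1⟩, ⟨0, 0⟩],
  !![⟨1, 0⟩, ⟨1, 0⟩, ⟨1, 1⟩; ⟨2, 0⟩, ⟨2, 1⟩, ⟨0, 2⟩; ⟨2, 1⟩, ⟨2, 0⟩, ⟨0, 2⟩],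
  !![⟨1, 0⟩, ⟨0, 2⟩, ⟨2, 1⟩; ⟨0, 1⟩, ⟨1, 0⟩, ⟨1, 1⟩; ⟨2, 2⟩, ⟨1, 2⟩, ⟨0, 0⟩],
  !![⟨1, 0⟩, ⟨2, 1⟩, ⟨2, 0⟩; ⟨2, 2⟩, ⟨0, 0⟩, ⟨2, 2⟩; ⟨2, 0⟩, ⟨2, 1⟩, ⟨1, 0⟩],
  !![⟨2, 1⟩, ⟨2, 0⟩, ⟨0, 2⟩; ⟨0, 2⟩, ⟨0, 2⟩, ⟨1, 2⟩; ⟨0, 2⟩, ⟨2, 2⟩, ⟨1, 0⟩],
  !![⟨1, 0⟩, ⟨1, 1⟩, ⟨2, 0⟩; ⟨1, 2⟩, ⟨0, 0⟩, ⟨1, 2⟩; ⟨2, 0⟩, ⟨1, 1⟩, ⟨1, 0⟩],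
  !![⟨2, 2⟩, ⟨2, 0⟩, ⟨2, 0⟩; ⟨0, 1⟩, ⟨1, 2⟩, ⟨1, 0⟩; ⟨0, 1⟩, ⟨1, 0⟩, ⟨1, 2⟩],
  !![⟨0, 0⟩, ⟨1, 1⟩, ⟨1, 2⟩; ⟨1, 2⟩, ⟨1, 0⟩, ⟨0, 1⟩; ⟨1, 1⟩, ⟨0, 2⟩, ⟨1, 0⟩],
  !![⟨2, 2⟩, ⟨0, 0⟩, ⟨1, 2⟩; ⟨0, 0⟩, ⟨0, 2⟩, ⟨0, 0⟩; ⟨1, 2⟩, ⟨0, 0⟩, ⟨2, 2⟩],
  !![⟨0, 0⟩, ⟨1, 2⟩, ⟨2, 1⟩; ⟨1, 1⟩, ⟨1, 0⟩, ⟨1, 0⟩; ⟨2, 2⟩, ⟨1, 0⟩, ⟨1, 0⟩],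
  !![⟨2, 2⟩, ⟨0, 0⟩, ⟨2, 1⟩; ⟨2, 0⟩, ⟨2, 2⟩, ⟨0, 2⟩; ⟨1, 0⟩, ⟨2, 2⟩, ⟨0, 1⟩],
  !![⟨2, 1⟩, ⟨2, 0⟩, ⟨1, 0⟩; ⟨0, 0⟩, ⟨2, 1⟩, ⟨2, 1⟩; ⟨2, 2⟩, ⟨0, 1⟩, ⟨0, 2⟩],
  !![⟨1, 0⟩, ⟨2, 0⟩, ⟨2, 1⟩; ⟨2, 0⟩, ⟨1, 0⟩, ⟨2, 1⟩; ⟨2, 2⟩, ⟨2, 2⟩, ⟨0, 0⟩],
  !![⟨2, 1⟩, ⟨0, 2⟩, ⟨1, 0⟩; ⟨0, 0⟩, ⟨2, 2⟩, ⟨2, 1⟩; ⟨2, 1⟩, ⟨0, 1⟩, ⟨2, 0⟩],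
  !![⟨1, 0⟩, ⟨2, 0⟩, ⟨2, 2⟩; ⟨1, 0⟩, ⟨2, 2⟩, ⟨2, 0⟩; ⟨1, 2⟩, ⟨0, 1⟩, ⟨0, 1⟩],
  !![⟨1, 0⟩, ⟨1, 2⟩, ⟨2, 0⟩; ⟨1, 1⟩, ⟨0, 0⟩, ⟨1, 1⟩; ⟨2, 0⟩, ⟨1, 2⟩, ⟨1, 0⟩],
  !![⟨0, 2⟩, ⟨2, 1⟩, ⟨0, 1⟩; ⟨0, 1⟩, ⟨0, 2⟩, ⟨1, 2⟩; ⟨2, 1⟩, ⟨0, 2⟩, ⟨0, 2⟩],
  !![⟨1, 2⟩, ⟨1, 0⟩, ⟨0, 1⟩; ⟨1, 0⟩, ⟨1, 2⟩, ⟨0, 1⟩; ⟨2, 0⟩, ⟨2, 0⟩, ⟨2, 2⟩],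
  !![⟨2, 0⟩, ⟨1, 2⟩, ⟨1, 0⟩; ⟨0, 2⟩, ⟨2, 2⟩, ⟨0, 1⟩; ⟨2, 1⟩, ⟨0, 0⟩, ⟨2, 1⟩],
  !![⟨2, 1⟩, ⟨1, 0⟩, ⟨2, 0⟩; ⟨0, 1⟩, ⟨1, 1⟩, ⟨2, 0⟩; ⟨0, 2⟩, ⟨2, 0⟩, ⟨1, 1⟩],
  !![⟨1, 0⟩, ⟨2, 2⟩, ⟨2, 0⟩; ⟨2, 1⟩, ⟨0, 0⟩, ⟨2, 1⟩; ⟨2, 0⟩, ⟨2, 2⟩, ⟨1, 0⟩],
  !![⟨2, 2⟩, ⟨0, 1⟩, ⟨0, 1⟩; ⟨2, 0⟩, ⟨0, 1⟩, ⟨2, 1⟩; ⟨0, 1⟩, ⟨1, 1⟩, ⟨1, 0⟩],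
  !![⟨1, 1⟩, ⟨2, 1⟩, ⟨0, 0⟩; ⟨0, 2⟩, ⟨2, 0⟩, ⟨2, 2⟩; ⟨2, 0⟩, ⟨0, 1⟩, ⟨1, 2⟩],
  !![⟨0, 1⟩, ⟨0, 1⟩, ⟨2, 1⟩; ⟨1, 1⟩, ⟨2, 2⟩, ⟨0, 0⟩; ⟨1, 0⟩, ⟨1, 0⟩, ⟨2, 2⟩],
  !![⟨0, 1⟩, ⟨0, 0⟩, ⟨0, 0⟩; ⟨0, 0⟩, ⟨2, 1⟩, ⟨1, 2⟩; ⟨0, 0⟩, ⟨2, 1⟩, ⟨2, 1⟩],
  !![⟨0, 2⟩, ⟨1, 2⟩, ⟨1, 0⟩; ⟨0, 2⟩, ⟨2, 1⟩, ⟨1, 0⟩; ⟨2, 2⟩, ⟨0, 0⟩, ⟨2, 1⟩],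
  !![⟨2, 0⟩, ⟨2, 2⟩, ⟨1, 0⟩; ⟨0, 2⟩, ⟨2, 1⟩, ⟨0, 1⟩; ⟨2, 2⟩, ⟨0, 0⟩, ⟨2, 2⟩],
  !![⟨2, 1⟩, ⟨2, 1⟩, ⟨0, 0⟩; ⟨1, 2⟩, ⟨2, 1⟩, ⟨0, 0⟩; ⟨0, 0⟩, ⟨0, 0⟩, ⟨0, 1⟩],
  !![⟨2, 2⟩, ⟨0, 2⟩, ⟨1, 0⟩; ⟨0, 0⟩, ⟨2, 1⟩, ⟨1, 1⟩; ⟨2, 2⟩, ⟨0, 1⟩, ⟨2, 0⟩],
  !![⟨1, 2⟩, ⟨1, 1⟩, ⟨0, 0⟩; ⟨0, 2⟩, ⟨2, 0⟩, ⟨1, 2⟩; ⟨2, 0⟩, ⟨0, 1⟩, ⟨1, 1⟩],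
  !![⟨1, 1⟩, ⟨1, 0⟩, ⟨2, 0⟩; ⟨1, 0⟩, ⟨1, 1⟩, ⟨2, 0⟩; ⟨0, 2⟩, ⟨0, 2⟩, ⟨2, 1⟩],
  !![⟨0, 2⟩, ⟨2, 2⟩, ⟨0, 1⟩; ⟨1, 2⟩, ⟨1, 0⟩, ⟨2, 0⟩; ⟨1, 0⟩, ⟨1, 0⟩, ⟨2, 1⟩],
  !![⟨1, 0⟩, ⟨1, 2⟩, ⟨0, 1⟩; ⟨2, 2⟩, ⟨0, 1⟩, ⟨0, 2⟩; ⟨0, 1⟩, ⟨1, 0⟩, ⟨2, 2⟩],
  !![⟨2, 2⟩, ⟨0, 2⟩, ⟨0, 1⟩; ⟨1, 0⟩, ⟨1, 2⟩, ⟨2, 0⟩; ⟨2, 0⟩, ⟨2, 0⟩, ⟨1, 2⟩],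
  !![⟨0, 1⟩, ⟨1, 0⟩, ⟨2, 2⟩; ⟨0, 2⟩, ⟨2, 2⟩, ⟨1, 0⟩; ⟨1, 2⟩, ⟨2, 0⟩, ⟨1, 0⟩],
  !![⟨2, 1⟩, ⟨1, 0⟩, ⟨0, 1⟩; ⟨2, 0⟩, ⟨1, 0⟩, ⟨1, 1⟩; ⟨1, 0⟩, ⟨2, 1⟩, ⟨0, 2⟩],
  !![⟨1, 2⟩, ⟨0, 1⟩, ⟨0, 1⟩; ⟨0, 2⟩, ⟨0, 1⟩, ⟨2, 1⟩; ⟨0, 1⟩, ⟨1, 2⟩, ⟨0, 2⟩],
  !![⟨0, 1⟩, ⟨1, 1⟩, ⟨0, 2⟩; ⟨0, 1⟩, ⟨0, 1⟩, ⟨2, 2⟩; ⟨2, 2⟩, ⟨0, 2⟩, ⟨0, 1⟩],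
  !![⟨0, 1⟩, ⟨1, 2⟩, ⟨2, 0⟩; ⟨2, 0⟩, ⟨0, 1⟩, ⟨2, 2⟩; ⟨1, 2⟩, ⟨0, 2⟩, ⟨0, 1⟩],
  !![⟨0, 0⟩, ⟨0, 0⟩, ⟨1, 0⟩; ⟨0, 2⟩, ⟨0, 0⟩, ⟨0, 0⟩; ⟨0, 0⟩, ⟨0, 1⟩, ⟨0, 0⟩],
  !![⟨1, 2⟩, ⟨2, 0⟩, ⟨1, 0⟩; ⟨1, 0⟩, ⟨0, 2⟩, ⟨2, 1⟩; ⟨1, 0⟩, ⟨1, 2⟩, ⟨0, 1⟩],
  !![⟨2, 2⟩, ⟨2, 0⟩, ⟨0, 2⟩; ⟨1, 0⟩, ⟨1, 0⟩, ⟨2, 1⟩; ⟨1, 0⟩, ⟨1, 1⟩, ⟨0, 1⟩],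
  !![⟨0, 2⟩, ⟨1, 1⟩, ⟨0, 1⟩; ⟨1, 0⟩, ⟨2, 0⟩, ⟨2, 1⟩; ⟨1, 2⟩, ⟨2, 0⟩, ⟨2, 0⟩],
  !![⟨2, 2⟩, ⟨1, 0⟩, ⟨1, 0⟩; ⟨0, 0⟩, ⟨2, 2⟩, ⟨1, 1⟩; ⟨2, 1⟩, ⟨0, 1⟩, ⟨0, 1⟩],
  !![⟨0, 0⟩, ⟨2, 2⟩, ⟨2, 2⟩; ⟨2, 1⟩, ⟨1, 0⟩, ⟨2, 0⟩; ⟨2, 1⟩, ⟨2, 0⟩, ⟨1, 0⟩],
  !![⟨0, 2⟩, ⟨0, 2⟩, ⟨1, 2⟩; ⟨0, 1⟩, ⟨0, 1⟩, ⟨1, 2⟩; ⟨1, 2⟩, ⟨2, 1⟩, ⟨0, 0⟩],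
  !![⟨2, 2⟩, ⟨0, 0⟩, ⟨2, 2⟩; ⟨0, 1⟩, ⟨2, 1⟩, ⟨0, 2⟩; ⟨1, 0⟩, ⟨2, 2⟩, ⟨2, 0⟩],
  !![⟨1, 0⟩, ⟨1, 0⟩, ⟨2, 2⟩; ⟨1, 0⟩, ⟨1, 0⟩, ⟨1, 1⟩; ⟨2, 1⟩, ⟨1, 2⟩, ⟨0, 0⟩],
  !![⟨0, 2⟩, ⟨1, 2⟩, ⟨0, 1⟩; ⟨2, 1⟩, ⟨0, 1⟩, ⟨0, 2⟩; ⟨0, 1⟩, ⟨0, 1⟩, ⟨1, 2⟩],
  !![⟨2, 0⟩, ⟨0, 1⟩, ⟨2, 2⟩; ⟨1, 1⟩, ⟨2, 1⟩, ⟨0, 0⟩; ⟨1, 0⟩, ⟨0, 2⟩, ⟨2, 2⟩],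
  !![⟨2, 0⟩, ⟨2, 1⟩, ⟨0, 1⟩; ⟨2, 0⟩, ⟨1, 2⟩, ⟨0, 1⟩; ⟨1, 2⟩, ⟨0, 0⟩, ⟨1, 1⟩],
  !![⟨0, 1⟩, ⟨2, 2⟩, ⟨1, 0⟩; ⟨0, 2⟩, ⟨2, 2⟩, ⟨2, 0⟩; ⟨2, 1⟩, ⟨0, 0⟩, ⟨2, 2⟩],
  !![⟨0, 2⟩, ⟨2, 0⟩, ⟨1, 1⟩; ⟨1, 1⟩, ⟨0, 2⟩, ⟨0, 1⟩; ⟨2, 0⟩, ⟨2, 1⟩, ⟨0, 2⟩],
  !![⟨0, 1⟩, ⟨1, 2⟩, ⟨0, 2⟩; ⟨2, 2⟩, ⟨1, 0⟩, ⟨1, 0⟩; ⟨1, 0⟩, ⟨2, 0⟩, ⟨2, 2⟩],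
  !![⟨2, 0⟩, ⟨1, 2⟩, ⟨0, 1⟩; ⟨1, 0⟩, ⟨2, 0⟩, ⟨2, 2⟩; ⟨1, 2⟩, ⟨2, 0⟩, ⟨0, 2⟩],
  !![⟨1, 2⟩, ⟨0, 0⟩, ⟨1, 2⟩; ⟨0, 1⟩, ⟨1, 1⟩, ⟨0, 2⟩; ⟨1, 0⟩, ⟨2, 1⟩, ⟨2, 0⟩],
  !![⟨0, 1⟩, ⟨1, 1⟩, ⟨2, 0⟩; ⟨0, 1⟩, ⟨0, 1⟩, ⟨2, 1⟩; ⟨1, 2⟩, ⟨1, 0⟩, ⟨0, 1⟩],
  !![⟨0, 0⟩, ⟨0, 0⟩, ⟨2, 0⟩; ⟨0, 0⟩, ⟨2, 0⟩, ⟨0, 0⟩; ⟨2, 0⟩, ⟨0, 0⟩, ⟨0, 0⟩],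
  !![⟨0, 1⟩, ⟨1, 2⟩, ⟨1, 0⟩; ⟨2, 1⟩, ⟨0, 2⟩, ⟨1, 0⟩; ⟨1, 0⟩, ⟨2, 0⟩, ⟨1, 2⟩],
  !![⟨1, 2⟩, ⟨2, 0⟩, ⟨0, 2⟩; ⟨0, 1⟩, ⟨2, 2⟩, ⟨1, 0⟩; ⟨0, 1⟩, ⟨0, 2⟩, ⟨1, 2⟩],
  !![⟨2, 0⟩, ⟨0, 1⟩, ⟨1, 2⟩; ⟨1, 2⟩, ⟨1, 1⟩, ⟨0, 0⟩; ⟨1, 0⟩, ⟨0, 2⟩, ⟨1, 2⟩],
  !![⟨0, 2⟩, ⟨0, 2⟩, ⟨1, 1⟩; ⟨1, 2⟩, ⟨0, 2⟩, ⟨1, 0⟩; ⟨2, 0⟩, ⟨2, 2⟩, ⟨0, 2⟩],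
  !![⟨1, 1⟩, ⟨0, 2⟩, ⟨0, 1⟩; ⟨0, 0⟩, ⟨1, 2⟩, ⟨1, 2⟩; ⟨1, 2⟩, ⟨1, 0⟩, ⟨2, 0⟩],
  !![⟨0, 0⟩, ⟨2, 1⟩, ⟨1, 2⟩; ⟨1, 2⟩, ⟨0, 1⟩, ⟨0, 1⟩; ⟨1, 2⟩, ⟨0, 2⟩, ⟨0, 2⟩],
  !![⟨2, 0⟩, ⟨1, 1⟩, ⟨1, 0⟩; ⟨0, 2⟩, ⟨1, 2⟩, ⟨0, 1⟩; ⟨1, 1⟩, ⟨0, 0⟩, ⟨1, 1⟩],
  !![⟨0, 2⟩, ⟨2, 2⟩, ⟨2, 0⟩; ⟨1, 0⟩, ⟨0, 2⟩, ⟨1, 2⟩; ⟨1, 1⟩, ⟨0, 2⟩, ⟨0, 2⟩],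
  !![⟨0, 1⟩, ⟨2, 1⟩, ⟨2, 0⟩; ⟨1, 2⟩, ⟨0, 0⟩, ⟨2, 2⟩; ⟨2, 0⟩, ⟨1, 1⟩, ⟨0, 2⟩],
  !![⟨0, 2⟩, ⟨2, 1⟩, ⟨2, 0⟩; ⟨0, 1⟩, ⟨0, 2⟩, ⟨1, 1⟩; ⟨1, 1⟩, ⟨2, 0⟩, ⟨0, 2⟩],
  !![⟨1, 1⟩, ⟨0, 2⟩, ⟨0, 2⟩; ⟨2, 0⟩, ⟨2, 1⟩, ⟨0, 1⟩; ⟨0, 1⟩, ⟨1, 0⟩, ⟨1, 1⟩],
  !![⟨2, 2⟩, ⟨1, 1⟩, ⟨0, 0⟩; ⟨2, 2⟩, ⟨2, 2⟩, ⟨0, 0⟩; ⟨0, 0⟩, ⟨0, 0⟩, ⟨0, 2⟩],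
  !![⟨0, 1⟩, ⟨1, 0⟩, ⟨1, 2⟩; ⟨2, 1⟩, ⟨0, 1⟩, ⟨0, 1⟩; ⟨2, 0⟩, ⟨1, 1⟩, ⟨0, 1⟩],
  !![⟨0, 2⟩, ⟨0, 0⟩, ⟨0, 0⟩; ⟨0, 0⟩, ⟨2, 2⟩, ⟨2, 2⟩; ⟨0, 0⟩, ⟨1, 1⟩, ⟨2, 2⟩],
  !![⟨0, 2⟩, ⟨2, 2⟩, ⟨1, 0⟩; ⟨1, 1⟩, ⟨0, 1⟩, ⟨2, 0⟩; ⟨1, 0⟩, ⟨1, 0⟩, ⟨1, 1⟩],
  !![⟨0, 1⟩, ⟨0, 2⟩, ⟨1, 2⟩; ⟨2, 2⟩, ⟨0, 1⟩, ⟨2, 0⟩; ⟨2, 0⟩, ⟨1, 2⟩, ⟨0, 1⟩],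
  !![⟨1, 1⟩, ⟨0, 2⟩, ⟨1, 0⟩; ⟨0, 0⟩, ⟨1, 2⟩, ⟨2, 2⟩; ⟨1, 1⟩, ⟨0, 1⟩, ⟨2, 0⟩],
  !![⟨0, 2⟩, ⟨1, 1⟩, ⟨2, 0⟩; ⟨2, 2⟩, ⟨0, 0⟩, ⟨1, 2⟩; ⟨2, 0⟩, ⟨2, 1⟩, ⟨0, 1⟩],
  !![⟨2, 0⟩, ⟨1, 0⟩, ⟨1, 1⟩; ⟨1, 1⟩, ⟨2, 0⟩, ⟨2, 0⟩; ⟨0, 2⟩, ⟨2, 1⟩, ⟨0, 1⟩],
  !![⟨0, 1⟩, ⟨1, 0⟩, ⟨1, 1⟩; ⟨1, 2⟩, ⟨2, 0⟩, ⟨2, 0⟩; ⟨0, 2⟩, ⟨2, 2⟩, ⟨2, 0⟩],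
  !![⟨1, 1⟩, ⟨1, 0⟩, ⟨1, 0⟩; ⟨2, 0⟩, ⟨0, 1⟩, ⟨1, 1⟩; ⟨1, 0⟩, ⟨2, 2⟩, ⟨0, 2⟩],
  !![⟨0, 2⟩, ⟨2, 1⟩, ⟨1, 0⟩; ⟨1, 1⟩, ⟨1, 0⟩, ⟨2, 0⟩; ⟨0, 1⟩, ⟨1, 0⟩, ⟨2, 1⟩],
  !![⟨2, 1⟩, ⟨0, 0⟩, ⟨2, 1⟩; ⟨0, 1⟩, ⟨2, 2⟩, ⟨0, 2⟩; ⟨1, 0⟩, ⟨1, 2⟩, ⟨2, 0⟩],
  !![⟨2, 1⟩, ⟨1, 0⟩, ⟨1, 0⟩; ⟨2, 0⟩, ⟨1, 0⟩, ⟨1, 2⟩; ⟨0, 1⟩, ⟨2, 2⟩, ⟨0, 2⟩],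
  !![⟨1, 0⟩, ⟨1, 2⟩, ⟨0, 2⟩; ⟨1, 1⟩, ⟨0, 0⟩, ⟨2, 1⟩; ⟨0, 1⟩, ⟨2, 2⟩, ⟨1, 0⟩],
  !![⟨2, 0⟩, ⟨0, 1⟩, ⟨2, 1⟩; ⟨2, 1⟩, ⟨2, 2⟩, ⟨0, 0⟩; ⟨1, 0⟩, ⟨0, 2⟩, ⟨2, 1⟩]]

def wa : Fin 168 → Fin 168 := ![
  1, 0, 4, 6, 2, 9, 3, 12, 14, 5, 17, 19, 7, 22, 8, 24, 26, 10, 29, 11, 31, 33, 13, 36, 15, 39, 16, 41, 43, 18, 46, 20, 47, 21, 49, 51, 23, 38, 37, 25, 56, 27, 59, 28, 61, 63, 30, 32, 67, 34, 70, 35, 72, 74, 76, 78, 40, 58, 57, 42, 83, 44, 86, 45, 88, 90, 92, 48, 69, 68, 50, 97, 52, 100,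 53, 102, 54, 104, 55, 93, 107, 109, 96, 60, 85, 84, 62, 114, 64, 117, 65, 118, 66, 79, 121, 123, 82, 71, 99, 98, 73, 128, 75, 131, 77, 133, 135, 80, 137, 81, 138, 140, 142, 132, 87, 116, 115, 89, 91, 147, 134, 94, 144, 95, 149, 139, 151, 146, 101, 130, 129, 103, 113, 105, 120, 106, 155, 108, 110, 125, 111, 159, 112, 152, 122, 158, 127, 119, 163, 124, 166, 126, 143, 165, 160, 136, 157, 156, 145, 141, 154, 164, 167, 148, 161, 153, 150, 162]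

def wc : Fin 168 → Fin 168 := ![
  2, 3, 5, 7, 8, 10, 11, 13, 15, 16, 18, 20, 21, 23, 1, 25, 27, 28, 30, 0, 32, 34, 35, 37, 38, 40, 4, 42, 44, 45, 19, 46, 48, 6, 50, 52, 53, 14, 54, 55, 57, 58, 60, 9, 62, 64, 65, 66, 68, 69, 71, 12, 73, 75, 77, 79, 80, 26, 81, 82, 84, 85, 87, 17, 89, 91, 93, 94, 33, 95, 96, 98, 99, 101, 22, 103, 36, 105, 24, 106, 108, 110, 49, 111, 43, 112, 113, 115, 116, 100, 29, 119, 31, 120, 122, 124, 41, 125, 51, 126, 127, 129, 130, 86, 132, 134, 136,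 39, 128, 56, 139, 141, 143, 76, 131, 63, 144, 145, 146, 135, 148, 47, 114, 67, 140, 150, 152, 90, 117, 74, 137, 153, 61, 154, 78, 92, 156, 157, 158, 70, 59, 155, 83, 160, 161, 109, 72, 162, 164, 165, 163, 97, 167, 123, 151, 147, 107, 159, 88, 149, 104, 166, 142, 133, 121, 102, 138, 118]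

def par : Fin 168 → Fin 168 := ![
  0, 0, 0, 1, 2, 2, 3, 3, 4, 5, 5, 6, 7, 7, 8, 8, 9, 10, 10, 11, 11, 12, 13, 13, 15, 15, 16, 16, 17, 18, 18, 20, 20, 21, 21, 22, 23, 23, 24, 25, 25, 27, 27, 28, 28, 29, 30, 32, 32, 34, 34, 35, 35, 36, 38, 39, 40, 40, 41, 42, 42, 44, 44, 45, 45, 46, 47, 48, 48, 49, 50, 50, 52, 52, 53, 53, 54, 54, 55, 55, 56, 58, 59, 60, 60, 61, 62, 62, 64, 64, 65, 65, 66, 66, 67, 69, 70, 71, 71, 72, 73, 73, 75, 75, 77, 77, 79, 80, 80, 81, 81, 83, 85, 86, 87,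 87, 88, 89, 91, 91, 93, 94, 94, 95, 95, 97, 99, 100, 101, 101, 102, 103, 104, 105, 105, 106, 106, 108, 110, 110, 111, 111, 112, 112, 116, 117, 118, 119, 120, 124, 125, 126, 126, 131, 133, 136, 136, 137, 138, 141, 143, 144, 147, 148, 148, 149, 150, 152]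

theorem a2_det : a2.det = 1 := by decide
theorem a2_unit : a2ᵀ * a2.map (· ^ 3) = 1 := by decide
theorem Lm_zero : Lm 0 = 1 := by decide
theorem a2_mul_Lm : ∀ k, a2 * Lm k = Lm (wa k) := by decide +kernel
theorem g7_mul_Lm : ∀ k, g7 * Lm k = Lm (wc k) := by decide +kernel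
theorem par_spec : ∀ k, k ≠ 0 → par k < k ∧ (wa (par k) = k ∨ wc (par k) = k) := by decide +kernel
theorem Lm_injective : Function.Injective Lm := by
  have h : ∀ i j, Lm i = Lm j → i = j := by decide +kernel
  exact fun i j hij => h i j hij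
theorem a2_sq : a2 * a2 = 1 := by decide
theorem g7_pow : g7 ^ 7 = 1 := by decide
theorem g7_ne_one : g7 ≠ 1 := by decide
theorem a2_g7_cube : (a2 * g7) ^ 3 = 1 := by decide
theorem cent_g7 : ∀ k, Lm k * g7 = g7 * Lm k → ∃ i : Fin 7, Lm k = g7 ^ (i : ℕ) := by decide +kernel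
theorem uv_cube : (a2 * (g7 ^ 2 * a2 * g7 ^ 5)) ^ 3 = 1 := by decide
theorem uv_ne_one : a2 * (g7 ^ 2 * a2 * g7 ^ 5) ≠ 1 := by decide
theorem g7_two_five : g7 ^ 2 * g7 ^ 5 = 1 := by decide

end P27
end Cfsg.Agent.Helper57
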