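import Mathlib
import Cfsg.Agent.Lib.Helper87.Psl3Defs

/-!
# PSL3F piece (CHAR) `normalizer_S2_le` for helper87's server (S5318), plus a few local API facts
about `tau`, `P2`, `S2` (reused by piece (N1)).
-/

set_option autoImplicit false

namespace Cfsg.Agent.Helper57.Psl3

open Matrix Cfsg.Agent.Helper87.Psl3

variable {F : Type*} [Field F]

local notation "GL2" => GL (Fin 2) F

theorem h57_tau_mul_tau : (tau : GL2) * tau = 1 := by
  apply Units.ext
  rw [Units.val_mul, tau_val, Units.val_one]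
  ext i j
  fin_cases i <;> fin_cases j <;> simp [Matrix.mul_apply, Fin.sum_univ_two]

theorem h57_tau_inv : (tau : GL2)⁻¹ = tau := inv_eq_of_mul_eq_one_left h57_tau_mul_tau

theorem h57_tt (x : GL2) : tau * (tau * x) = x := by
  rw [← mul_assoc, h57_tau_mul_tau, one_mul]

theorem h57_tau_conj_val (X : GL2) (a b : F) (h : (X : Matrix (Fin 2) (Fin 2) F) = rot a b) :
    ((tau * X * tau⁻¹ : GL2) : Matrix (Fin 2) (Fin 2) F) = rot a (-b) := by
  rw [h57_tau_inv, Units.val_mul, Units.val_mul, h, tau_val]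
  ext i j
  fin_cases i <;> fin_cases j <;> simp [rot, Matrix.mul_apply, Fin.sum_univ_two]

theorem h57_tau_conj_mem_P2 {X : GL2} (h : X ∈ P2) : tau * X * tau⁻¹ ∈ P2 := by
  obtain ⟨hE, m, hm⟩ := (mem_P2_iff X).1 h
  obtain ⟨a, b, hab⟩ := (mem_Eu_iff X).1 hE
  refine (mem_P2_iff _).2 ⟨(mem_Eu_iff _).2 ⟨a, -b, h57_tau_conj_val X a b hab⟩, m, ?_⟩
  rw [conj_pow, hm, mul_one, mul_inv_cancel]

theorem h57_P2_le_S2 : (P2 : Subgroup GL2) ≤ S2 := le_sup_left

theorem h57_tau_mem_S2 : (tau : GL2) ∈ S2 :=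
  (le_sup_right : Subgroup.zpowers (tau : GL2) ≤ S2) (Subgroup.mem_zpowers tau)

/-- elements of `S2` lie in `P2` or in `P2 * tau` -/
theorem h57_S2_cases : ∀ s ∈ (S2 : Subgroup GL2), s ∈ P2 ∨ s * tau ∈ P2 := by
  let K : Subgroup GL2 :=
    { carrier := {s | s ∈ P2 ∨ s * tau ∈ P2}
      one_mem' := Or.inl P2.one_mem
      mul_mem' := by
        rintro s t (hs | hs) (ht | ht)
        · exact Or.inl (P2.mul_mem hs ht)
        · right
          rw [mul_assoc]
          exact P2.mul_mem hs ht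
        · right
          have e : s * t * tau = (s * tau) * (tau * t * tau⁻¹) := by
            simp only [h57_tau_inv, mul_assoc, h57_tt]
          rw [e]
          exact P2.mul_mem hs (h57_tau_conj_mem_P2 ht)
        · left
          have e : s * t = (s * tau) * (tau * (t * tau) * tau⁻¹) := by
            simp only [h57_tau_inv, mul_assoc, h57_tt, h57_tau_mul_tau, mul_one]
          rw [e]
          exact P2.mul_mem hs (h57_tau_conj_mem_P2 ht)
      inv_mem' := by
        rintro s (hs | hs)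
        · exact Or.inl (P2.inv_mem hs)
        · right
          have e : s⁻¹ * tau = tau * (s * tau)⁻¹ * tau⁻¹ := by
            simp only [h57_tau_inv, _root_.mul_inv_rev, h57_tt]
          rw [e]
          exact h57_tau_conj_mem_P2 (P2.inv_mem hs) }
  have hle : (S2 : Subgroup GL2) ≤ K := by
    refine sup_le (fun s hs => Or.inl hs) ?_
    rw [Subgroup.zpowers_le]
    exact Or.inr (by rw [h57_tau_mul_tau]; exact P2.one_mem)
  exact fun s hs => hle hs

/-- squares of elements of `S2` lie in `P2` -/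
theorem h57_sq_mem_P2 {s : GL2} (hs : s ∈ S2) : s * s ∈ P2 := by
  rcases h57_S2_cases s hs with h | h
  · exact P2.mul_mem h h
  · have e : s * s = (s * tau) * (tau * (s * tau) * tau⁻¹) := by
      simp only [h57_tau_inv, mul_assoc, h57_tt, h57_tau_mul_tau, mul_one]
    rw [e]
    exact P2.mul_mem h (h57_tau_conj_mem_P2 h)

/-- an element of `S2 \ P2` does not commute with the square of the witness -/
theorem h57_not_comm (h2 : (2 : F) ≠ 0) {a b : F} (ha : a ≠ 0) (hb : b ≠ 0) {W : GL2}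
    (hWP : W ∈ P2) (hWv : (W : Matrix (Fin 2) (Fin 2) F) = rot a b) {s : GL2} (hs : s ∈ S2)
    (hn : s ∉ P2) : s * (W * W) ≠ (W * W) * s := by
  rcases h57_S2_cases s hs with h | h
  · exact absurd h hn
  intro hc
  have hWW : ((W * W : GL2) : Matrix (Fin 2) (Fin 2) F) = rot (a * a - b * b) (a * b + b * a) := by
    rw [Units.val_mul, hWv, rot_mul]
  have hWWP : W * W ∈ P2 := P2.mul_mem hWP hWP
  have hcomm : (s * tau) * (W * W) = (W * W) * (s * tau) :=
    Eu_comm ((mem_P2_iff _).1 h).1 ((mem_P2_iff _).1 hWWP).1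
  have h7 : tau * (W * W) * tau⁻¹ = W * W := by
    rw [h57_tau_inv]
    have e1 : (s * tau) * (tau * (W * W) * tau) = (s * tau) * (W * W) := by
      calc (s * tau) * (tau * (W * W) * tau) = s * (W * W) * tau := by
            simp only [mul_assoc, h57_tt]
        _ = (W * W) * s * tau := by rw [hc]
        _ = (W * W) * (s * tau) := by rw [mul_assoc]
        _ = (s * tau) * (W * W) := hcomm.symm
    exact mul_left_cancel e1
  have h8 := h57_tau_conj_val (W * W) _ _ hWW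
  rw [h7, hWW] at h8
  have h9 := congrFun (congrFun h8 0) 1
  simp [rot] at h9
  have h10 : (2 * 2 : F) * (a * b) = 0 := by linear_combination h9
  exact (mul_ne_zero (mul_ne_zero h2 h2) (mul_ne_zero ha hb)) h10

/-- (CHAR) `N(S2) ≤ N(P2)` -/
theorem normalizer_S2_le (h2 : (2 : F) ≠ 0)
    (hW : ∃ a b : F, a ≠ 0 ∧ b ≠ 0 ∧ ∃ W : GL2, W ∈ P2 ∧ (W : Matrix (Fin 2) (Fin 2) F) = rot a b)
    (X : GL2) (hX : X ∈ Subgroup.normalizer ((S2 : Subgroup GL2) : Set GL2)) :
    X ∈ Subgroup.normalizer ((P2 : Subgroup GL2) : Set GL2) := by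
  obtain ⟨a, b, ha, hb, W, hWP, hWv⟩ := hW
  have key : ∀ Y : GL2, Y ∈ Subgroup.normalizer ((S2 : Subgroup GL2) : Set GL2) →
      ∀ M ∈ (P2 : Subgroup GL2), Y * M * Y⁻¹ ∈ (P2 : Subgroup GL2) := by
    intro Y hY M hM
    have hMS : M ∈ S2 := h57_P2_le_S2 hM
    have h1 : Y * M * Y⁻¹ ∈ S2 := (Subgroup.mem_normalizer_iff.mp hY M).mp hMS
    by_contra hn
    have hYinv : Y⁻¹ ∈ Subgroup.normalizer ((S2 : Subgroup GL2) : Set GL2) :=
      Subgroup.inv_mem _ hY
    have hWS : W ∈ S2 := h57_P2_le_S2 hWP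
    have h3 : Y⁻¹ * W * Y ∈ S2 := by
      have h0 := (Subgroup.mem_normalizer_iff.mp hYinv W).mp hWS
      rwa [inv_inv] at h0
    have h4 : (Y⁻¹ * W * Y) * (Y⁻¹ * W * Y) ∈ P2 := h57_sq_mem_P2 h3
    have h5 : M * ((Y⁻¹ * W * Y) * (Y⁻¹ * W * Y)) = ((Y⁻¹ * W * Y) * (Y⁻¹ * W * Y)) * M :=
      Eu_comm ((mem_P2_iff _).1 hM).1 ((mem_P2_iff _).1 h4).1
    have h6 : (Y * M * Y⁻¹) * (W * W) = (W * W) * (Y * M * Y⁻¹) := by
      calc (Y * M * Y⁻¹) * (W * W)
          = Y * (M * ((Y⁻¹ * W * Y) * (Y⁻¹ * W * Y))) * Y⁻¹ := by group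
        _ = Y * (((Y⁻¹ * W * Y) * (Y⁻¹ * W * Y)) * M) * Y⁻¹ := by rw [h5]
        _ = (W * W) * (Y * M * Y⁻¹) := by group
    exact h57_not_comm h2 ha hb hWP hWv h1 hn h6
  rw [Subgroup.mem_normalizer_iff]
  intro M
  constructor
  · exact key X hX M
  · intro h
    have h0 := key X⁻¹ (Subgroup.inv_mem _ hX) _ h
    have e : X⁻¹ * (X * M * X⁻¹) * X⁻¹⁻¹ = M := by group
    rwa [e] at h0

end Cfsg.Agent.Helper57.Psl3
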