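import Mathlib
import Cfsg.Agent.Lib.Helper87.Psl3Defs
import Cfsg.Agent.Lib.Helper57.Psl3CHAR

/-!
# PSL3F piece (N1) `normalizer_comm_zz` for helper87's server (S5318):
`zz` is the unique central involution of `S3`, so `N(S3)` centralizes it.
-/

set_option autoImplicit false

namespace Cfsg.Agent.Helper57.Psl3

open Matrix Cfsg.Agent.Helper87.Psl3

variable {F : Type*} [Field F]

local notation "SL3" => Matrix.SpecialLinearGroup (Fin 3) F
local notation "GL2" => GL (Fin 2) F

theorem h57_iota_injective : Function.Injective (iota : GL2 →* SL3) := by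
  intro X Y h
  have h1 : iotaMat X = iotaMat Y := congrArg Subtype.val h
  apply Units.ext
  ext i j
  fin_cases i <;> fin_cases j
  · have h0 := congrFun (congrFun h1 0) 0
    simpa [iotaMat] using h0
  · have h0 := congrFun (congrFun h1 0) 1
    simpa [iotaMat] using h0
  · have h0 := congrFun (congrFun h1 1) 0
    simpa [iotaMat] using h0
  · have h0 := congrFun (congrFun h1 1) 1
    simpa [iotaMat] using h0

theorem h57_sc_val (c : Fˣ) : ((sc c : GL2) : Matrix (Fin 2) (Fin 2) F) = rot (c : F) 0 := by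
  show Matrix.scalar (Fin 2) (c : F) = rot (c : F) 0
  ext i j
  fin_cases i <;> fin_cases j <;> simp [rot]

theorem h57_sc_comm (c : Fˣ) (X : GL2) : sc c * X = X * sc c := by
  apply Units.ext
  rw [Units.val_mul, Units.val_mul]
  show Matrix.scalar (Fin 2) (c : F) * (X : Matrix (Fin 2) (Fin 2) F) =
    (X : Matrix (Fin 2) (Fin 2) F) * Matrix.scalar (Fin 2) (c : F)
  exact (Matrix.scalar_commute (c : F) (fun r => Commute.all _ _) _).eq

theorem h57_sc_neg_one_mem_P2 : (sc (-1) : GL2) ∈ P2 := by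
  refine (mem_P2_iff _).2 ⟨(mem_Eu_iff _).2 ⟨((-1 : Fˣ) : F), 0, h57_sc_val (-1)⟩, 1, ?_⟩
  rw [pow_one, ← map_pow, neg_one_sq, map_one]

theorem h57_M0_mem_P2 : (M0 : GL2) ∈ P2 := by
  refine (mem_P2_iff _).2 ⟨(mem_Eu_iff _).2 ⟨0, 1, rfl⟩, 2, ?_⟩
  apply Units.ext
  rw [Units.val_pow_eq_pow_val, M0_val, Units.val_one]
  have e : (2 ^ 2 : ℕ) = 2 + 2 := rfl
  rw [e, pow_add, pow_two, rot_mul, rot_mul, ← rot_one]
  congr 1 <;> ring

/-- a central involution of `S2` is `-1` -/
theorem h57_central_invol (h2 : (2 : F) ≠ 0) (X : GL2) (hXS : X ∈ S2)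
    (hXc : ∀ Y ∈ (S2 : Subgroup GL2), X * Y = Y * X) (hXX : X * X = 1) (hX1 : X ≠ 1) :
    X = sc (-1) := by
  rcases h57_S2_cases X hXS with h | h
  · obtain ⟨a, b, hab⟩ := (mem_Eu_iff X).1 ((mem_P2_iff _).1 h).1
    have hc := hXc tau h57_tau_mem_S2
    have h3 : tau * X * tau⁻¹ = X := by rw [← hc, mul_inv_cancel_right]
    have h4 := h57_tau_conj_val X a b hab
    rw [h3, hab] at h4
    have h5 := congrFun (congrFun h4 0) 1
    simp [rot] at h5
    have hb : b = 0 := by
      have h6 : (2 : F) * b = 0 := by linear_combination h5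
      exact (mul_eq_zero.mp h6).resolve_left h2
    subst hb
    have h6 : (X : Matrix (Fin 2) (Fin 2) F) * (X : Matrix (Fin 2) (Fin 2) F) = 1 := by
      rw [← Units.val_mul, hXX, Units.val_one]
    rw [hab, rot_mul, ← rot_one] at h6
    have h7 := congrFun (congrFun h6 0) 0
    simp [rot] at h7
    rcases mul_self_eq_one_iff.mp h7 with rfl | rfl
    · exfalso
      apply hX1
      apply Units.ext
      rw [hab, rot_one, Units.val_one]
    · apply Units.ext
      rw [hab, h57_sc_val, Units.val_neg, Units.val_one]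
  · exfalso
    have hM0P : (M0 : GL2) ∈ P2 := h57_M0_mem_P2
    have hc := hXc M0 (h57_P2_le_S2 hM0P)
    have hcomm : (X * tau) * M0 = M0 * (X * tau) :=
      Eu_comm ((mem_P2_iff _).1 h).1 ((mem_P2_iff _).1 hM0P).1
    have h3 : (tau : GL2) * M0 = M0 * tau := by
      apply mul_left_cancel (a := X)
      calc X * (tau * M0) = (X * tau) * M0 := (mul_assoc _ _ _).symm
        _ = M0 * (X * tau) := hcomm
        _ = (M0 * X) * tau := (mul_assoc _ _ _).symm
        _ = (X * M0) * tau := by rw [hc]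
        _ = X * (M0 * tau) := mul_assoc _ _ _
    have h4 := congrArg (fun Z : GL2 => (Z : Matrix (Fin 2) (Fin 2) F)) h3
    simp only [Units.val_mul, tau_val, M0_val] at h4
    have h5 := congrFun (congrFun h4 0) 1
    simp [rot, Matrix.mul_apply, Fin.sum_univ_two] at h5
    apply h2
    linear_combination h5

/-- (N1) `N(S3)` centralizes `zz` -/
theorem normalizer_comm_zz (h2 : (2 : F) ≠ 0) (g : SL3)
    (hg : g ∈ Subgroup.normalizer ((S3 : Subgroup SL3) : Set SL3)) : g * zz = zz * g := by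
  have hzzS : (zz : SL3) ∈ S3 :=
    Subgroup.mem_map_of_mem iota (h57_P2_le_S2 h57_sc_neg_one_mem_P2)
  have hzz2 : (zz : SL3) * zz = 1 := by
    show iota (sc (-1)) * iota (sc (-1)) = 1
    rw [← map_mul, ← map_mul, neg_mul_neg, one_mul, map_one, map_one]
  have h1 : g * zz * g⁻¹ ∈ S3 := (Subgroup.mem_normalizer_iff.mp hg zz).mp hzzS
  obtain ⟨X, hXS, hX⟩ := Subgroup.mem_map.mp h1
  have hXc : ∀ Y ∈ (S2 : Subgroup GL2), X * Y = Y * X := by
    intro Y hY
    apply h57_iota_injective
    rw [map_mul, map_mul, hX]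
    have hs : iota Y ∈ S3 := Subgroup.mem_map_of_mem iota hY
    have hs' : g⁻¹ * iota Y * g ∈ S3 := by
      have h0 := (Subgroup.mem_normalizer_iff.mp (Subgroup.inv_mem _ hg) (iota Y)).mp hs
      rwa [inv_inv] at h0
    obtain ⟨Y', _, hY'⟩ := Subgroup.mem_map.mp hs'
    have hzc : zz * iota Y' = iota Y' * zz := by
      show iota (sc (-1)) * iota Y' = iota Y' * iota (sc (-1))
      rw [← map_mul, ← map_mul, h57_sc_comm]
    rw [hY'] at hzc
    calc g * zz * g⁻¹ * iota Y = g * (zz * (g⁻¹ * iota Y * g)) * g⁻¹ := by group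
      _ = g * ((g⁻¹ * iota Y * g) * zz) * g⁻¹ := by rw [hzc]
      _ = iota Y * (g * zz * g⁻¹) := by group
  have hXX : X * X = 1 := by
    apply h57_iota_injective
    rw [map_mul, hX, map_one]
    calc g * zz * g⁻¹ * (g * zz * g⁻¹) = g * (zz * zz) * g⁻¹ := by group
      _ = 1 := by rw [hzz2]; group
  have hX1 : X ≠ 1 := by
    intro h
    rw [h, map_one] at hX
    have hzz1 : (zz : SL3) = 1 := by
      have e : (zz : SL3) = g⁻¹ * (g * zz * g⁻¹) * g := by group
      rw [e, ← hX]; group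
    have h3 : (sc (-1) : GL2) = 1 := h57_iota_injective (by rw [map_one]; exact hzz1)
    have h4 := congrArg (fun Z : GL2 => (Z : Matrix (Fin 2) (Fin 2) F)) h3
    simp only [h57_sc_val, Units.val_one, Units.val_neg] at h4
    rw [← rot_one] at h4
    have h5 := congrFun (congrFun h4 0) 0
    simp [rot] at h5
    apply h2
    linear_combination -h5
  have hXsc : X = sc (-1) := h57_central_invol h2 X hXS hXc hXX hX1
  rw [hXsc] at hX
  have h5 : g * zz * g⁻¹ = zz := hX.symm
  exact mul_inv_eq_iff_eq_mul.mp h5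

end Cfsg.Agent.Helper57.Psl3
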