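import Mathlib
import Cfsg.Agent.Lib.Helper87.Psu3Defs
import Cfsg.Agent.Lib.Helper57.Psl3CHAR

/-!
# PSU3F piece (CHARU) `normalizer_S2U_le` for helper87's server (S5319): the unitary twin of
PSL3F (CHAR).  Same proof: `P2U = C_{S2U}(squares)`.
-/

set_option autoImplicit false

namespace Cfsg.Agent.Helper57.Psu3

open Matrix Cfsg Cfsg.Agent.Helper87.Psl3 Cfsg.Agent.Helper87.Psu3 Cfsg.Agent.Helper57.Psl3

variable {K : Type*} [Field K] {q : ℕ}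

local notation "GL2" => GL (Fin 2) K

/-- (CHARU) `N(S2U) ≤ N(P2U)` -/
theorem normalizer_S2U_le (h2 : (2 : K) ≠ 0) (_hodd : q % 2 = 1)
    (hW : ∃ a b : K, a ≠ 0 ∧ b ≠ 0 ∧
      ∃ W : GL2, W ∈ P2U q ∧ (W : Matrix (Fin 2) (Fin 2) K) = rot a b)
    (X : GL2) (hX : X ∈ Subgroup.normalizer ((S2U q : Subgroup GL2) : Set GL2)) :
    X ∈ Subgroup.normalizer ((P2U q : Subgroup GL2) : Set GL2) := by
  obtain ⟨a, b, ha, hb, W, hWPU, hWv⟩ := hW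
  have hWP : W ∈ (P2 : Subgroup GL2) := (Subgroup.mem_inf.mp hWPU).1
  have hPS : (P2U q : Subgroup GL2) ≤ S2U q := inf_le_inf_right _ h57_P2_le_S2
  have key : ∀ Y : GL2, Y ∈ Subgroup.normalizer ((S2U q : Subgroup GL2) : Set GL2) →
      ∀ M ∈ (P2U q : Subgroup GL2), Y * M * Y⁻¹ ∈ (P2U q : Subgroup GL2) := by
    intro Y hY M hM
    have hMP : M ∈ (P2 : Subgroup GL2) := (Subgroup.mem_inf.mp hM).1
    have hMS : M ∈ S2U q := hPS hM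
    have h1 : Y * M * Y⁻¹ ∈ S2U q := (Subgroup.mem_normalizer_iff.mp hY M).mp hMS
    have h1S : Y * M * Y⁻¹ ∈ (S2 : Subgroup GL2) := (Subgroup.mem_inf.mp h1).1
    have h1U : Y * M * Y⁻¹ ∈ U2 q := (Subgroup.mem_inf.mp h1).2
    refine Subgroup.mem_inf.mpr ⟨?_, h1U⟩
    by_contra hn
    have hYinv : Y⁻¹ ∈ Subgroup.normalizer ((S2U q : Subgroup GL2) : Set GL2) :=
      Subgroup.inv_mem _ hY
    have hWS : W ∈ S2U q := hPS hWPU
    have h3 : Y⁻¹ * W * Y ∈ (S2 : Subgroup GL2) := by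
      have h0 := (Subgroup.mem_normalizer_iff.mp hYinv W).mp hWS
      rw [inv_inv] at h0
      exact (Subgroup.mem_inf.mp h0).1
    have h4 : (Y⁻¹ * W * Y) * (Y⁻¹ * W * Y) ∈ (P2 : Subgroup GL2) := h57_sq_mem_P2 h3
    have h5 : M * ((Y⁻¹ * W * Y) * (Y⁻¹ * W * Y)) = ((Y⁻¹ * W * Y) * (Y⁻¹ * W * Y)) * M :=
      Eu_comm ((mem_P2_iff _).1 hMP).1 ((mem_P2_iff _).1 h4).1
    have h6 : (Y * M * Y⁻¹) * (W * W) = (W * W) * (Y * M * Y⁻¹) := by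
      calc (Y * M * Y⁻¹) * (W * W)
          = Y * (M * ((Y⁻¹ * W * Y) * (Y⁻¹ * W * Y))) * Y⁻¹ := by group
        _ = Y * (((Y⁻¹ * W * Y) * (Y⁻¹ * W * Y)) * M) * Y⁻¹ := by rw [h5]
        _ = (W * W) * (Y * M * Y⁻¹) := by group
    exact h57_not_comm h2 ha hb hWP hWv h1S hn h6
  rw [Subgroup.mem_normalizer_iff]
  intro M
  constructor
  · exact key X hX M
  · intro h
    have h0 := key X⁻¹ (Subgroup.inv_mem _ hX) _ h
    have e : X⁻¹ * (X * M * X⁻¹) * X⁻¹⁻¹ = M := by group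
    rwa [e] at h0

end Cfsg.Agent.Helper57.Psu3
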