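import Mathlib
import Cfsg.Agent.Lib.Helper93.RU0
import Cfsg.Agent.Lib.Helper57.RUC1

/-!
# RU (C7) for helper93's lemma server (S2280): `e₀` is a full centre

`e0_mem_W`, name and statement verbatim from `tools/ru_sigs_helper93.lean.txt`.
-/

set_option autoImplicit false

namespace Cfsg.Agent.Helper57.RU

open Matrix Cfsg.Agent.Helper93.RU

variable {F : Type*} [Field F] {m : ℕ}

/-- the shift of `a • e_{k+1}` is `a • e_{k+2}` -/
theorem c7_shR_single (a : F) (k : ℕ) (hk : k + 1 < m + 3) (hk' : k + 1 + 1 < m + 3) :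
    shR (a • (eV ⟨k + 1, hk⟩ : Fin (m + 3) → F)) = a • eV ⟨k + 1 + 1, hk'⟩ := by
  funext j
  unfold shR eV
  by_cases hj : j.val = 0
  · have : j ≠ ⟨k + 1 + 1, hk'⟩ := by
      intro h; rw [h] at hj; simp at hj
    simp [hj, this]
  · simp only [hj, dite_false, Pi.smul_apply, Pi.single_apply, smul_eq_mul]
    by_cases hjk : j = ⟨k + 1 + 1, hk'⟩
    · subst hjk
      simp
    · have : (⟨j.val - 1, by have := j.isLt; omega⟩ : Fin (m + 3)) ≠ ⟨k + 1, hk⟩ := by
        intro h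
        apply hjk
        have := congrArg Fin.val h
        simp only at this
        apply Fin.ext
        simp only
        omega
      simp [hjk, this]

/-- all `1 + a e₀ e_jᵀ`, `j ≥ 1`, lie in `H` -/
theorem c7_single_mem (H : Subgroup (SLm m F)) (hu : uEl m F ∈ H) (h12 : ∀ a : F, t12 a ∈ H)
    (a : F) : ∀ (k : ℕ) (hk : k + 1 < m + 3), tvS (eV 0) (a • (eV ⟨k + 1, hk⟩ : Fin (m + 3) → F)) ∈ H := by
  intro k
  induction k with
  | zero =>
    intro hk
    have h1 : (⟨0 + 1, hk⟩ : Fin (m + 3)) = 1 := by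
      apply Fin.ext
      simp
    rw [h1]
    exact h12 a
  | succ k ih =>
    intro hk
    have hk0 : k + 1 < m + 3 := by omega
    have h := ih hk0
    have h0 : (a • (eV ⟨k + 1, hk0⟩ : Fin (m + 3) → F)) 0 = 0 := by
      have : (0 : Fin (m + 3)) ≠ ⟨k + 1, hk0⟩ := by
        intro h; have := congrArg Fin.val h; simp at this
      simp [eV, this]
    have := shift_mem H hu _ h0 h
    rwa [c7_shR_single a k hk0 hk] at this

/-- all `1 + a e₀ e_jᵀ`, `j ≠ 0`, lie in `H` -/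
theorem c7_single_mem' (H : Subgroup (SLm m F)) (hu : uEl m F ∈ H) (h12 : ∀ a : F, t12 a ∈ H)
    (a : F) (j : Fin (m + 3)) (hj : j.val ≠ 0) : tvS (eV 0) (a • (eV j : Fin (m + 3) → F)) ∈ H := by
  obtain ⟨k, hk⟩ : ∃ k, j.val = k + 1 := ⟨j.val - 1, by omega⟩
  have hlt : k + 1 < m + 3 := hk ▸ j.isLt
  have hjk : j = ⟨k + 1, hlt⟩ := Fin.ext hk
  rw [hjk]
  exact c7_single_mem H hu h12 a k hlt

theorem e0_mem_W (H : Subgroup (SLm m F)) (hu : uEl m F ∈ H) (h12 : ∀ a : F, t12 a ∈ H) :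
    eV 0 ∈ Wset H := by
  intro φ hφ
  have hφ0 : φ 0 = 0 := by simpa [eV] using hφ
  -- the predicate
  have hzero : tvS (eV 0 : Fin (m + 3) → F) 0 = 1 := h57_tvS_zero _
  have hsum : φ = ∑ j : Fin (m + 3), φ j • (eV j : Fin (m + 3) → F) := by
    funext i
    simp [eV, Finset.sum_apply, Pi.single_apply]
  have key : (∑ j : Fin (m + 3), φ j • (eV j : Fin (m + 3) → F)) 0 = 0 ∧
      tvS (eV 0) (∑ j : Fin (m + 3), φ j • (eV j : Fin (m + 3) → F)) ∈ H := by
    apply Finset.sum_induction (fun j => φ j • (eV j : Fin (m + 3) → F))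
      (fun ψ : Fin (m + 3) → F => ψ 0 = 0 ∧ tvS (eV 0) ψ ∈ H)
    · rintro ψ χ ⟨h1, h2⟩ ⟨h3, h4⟩
      refine ⟨by simp [h1, h3], ?_⟩
      rw [← h57_tvS_mul (eV 0) ψ χ (by simp [eV, h1]) (by simp [eV, h3])]
      exact H.mul_mem h2 h4
    · refine ⟨rfl, ?_⟩
      rw [hzero]; exact H.one_mem
    · intro j _
      by_cases hj : j = 0
      · subst hj
        rw [hφ0, zero_smul]
        refine ⟨rfl, ?_⟩
        rw [hzero]; exact H.one_mem
      · have hjv : j.val ≠ 0 := fun h => hj (Fin.ext h)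
        refine ⟨?_, ?_⟩
        · have : (0 : Fin (m + 3)) ≠ j := fun h => hj h.symm
          simp [eV, this]
        · exact c7_single_mem' H hu h12 (φ j) j hjv
  rw [hsum]
  exact key.2

end Cfsg.Agent.Helper57.RU
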