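import Mathlib
import Cfsg.Agent.Lib.Helper93.RU0
import Cfsg.Agent.Lib.Helper5.SL
import Cfsg.Agent.Lib.Helper57.RUBase

/-!
# RU (E1) for helper93's lemma server (S2280): if every `e_k` is a full centre then `H = ⊤`

`eq_top_of_W`, name and statement verbatim from `tools/ru_sigs_helper93.lean.txt`.
-/

set_option autoImplicit false

namespace Cfsg.Agent.Helper57.RU

open Matrix Cfsg.Agent.Helper93.RU

variable {F : Type*} [Field F] {m : ℕ}

theorem eq_top_of_W (H : Subgroup (SLm m F)) (h : ∀ k : Fin (m + 3), eV k ∈ Wset H) : H = ⊤ := by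
  rw [eq_top_iff]
  intro A _
  refine Cfsg.Agent.Helper5.transvection_induction (fun A => A ∈ H) ?_
    (fun A B hA hB => H.mul_mem hA hB) A
  intro i j hij c
  rw [h57_transvection_eq i j hij c]
  apply h i
  have : j ≠ i := fun hh => hij hh.symm
  simp [eV, this]

end Cfsg.Agent.Helper57.RU
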