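import Cfsg.Agent.Lib.Helper57.Ree3Data

set_option autoImplicit false

namespace Cfsg.Agent.Helper57
namespace Ree3

/-- Left multiplication by a word in `a`, `b`, on table indices. -/
def act (l : List Bool) (k : ℕ) : ℕ := l.foldr (fun β k => wN β k) k

/-- The table index of a word. -/
def idx (l : List Bool) : ℕ := act l 0

/-- `n` copies of a word. -/
def rep : ℕ → List Bool → List Bool
  | 0, _ => []
  | n + 1, l => l ++ rep n l

def la : List Bool := [true]
def lb : List Bool := [false]
def lai : List Bool := List.replicate 8 true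
def lbi : List Bool := List.replicate 8 false

theorem F1a : idx (rep 9 la) = 0 := by decide +kernel
theorem F1b : idx (rep 9 lb) = 0 := by decide +kernel
theorem F1ai : idx (la ++ lai) = 0 := by decide +kernel
theorem F1bi : idx (lb ++ lbi) = 0 := by decide +kernel

theorem F2_1 : idx (lk1 ++ lk1i) = 0 := by decide +kernel
theorem F2_2 : idx (lk2 ++ lk2i) = 0 := by decide +kernel
theorem F2_3 : idx (lk3 ++ lk3i) = 0 := by decide +kernel
theorem F2_4 : idx (lk4 ++ lk4i) = 0 := by decide +kernel

/-- Closure of the first 504 indices under `x` and `y`, and reachability. -/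
def check5 : Bool :=
  (List.range 504).all fun k =>
    decide (act lx k < 504) && decide (act ly k < 504) &&
      (decide (k = 0) || (decide ((parN k).1 < k) &&
        decide (act (if (parN k).2 then lx else ly) (parN k).1 = k)))

theorem check5_true : check5 = true := by decide +kernel

theorem F3 (k : ℕ) (hk : k < 504) : act lx k < 504 ∧ act ly k < 504 := by
  have h := check5_true
  unfold check5 at h
  rw [List.all_eq_true] at h
  have h1 := h k (List.mem_range.mpr hk)
  simp only [Bool.and_eq_true, Bool.or_eq_true, decide_eq_true_eq] at h1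
  exact h1.1

theorem F4 (k : ℕ) (hk : k < 504) (h0 : k ≠ 0) :
    (parN k).1 < k ∧ act (if (parN k).2 then lx else ly) (parN k).1 = k := by
  have h := check5_true
  unfold check5 at h
  rw [List.all_eq_true] at h
  have h1 := h k (List.mem_range.mpr hk)
  simp only [Bool.and_eq_true, Bool.or_eq_true, decide_eq_true_eq] at h1
  rcases h1.2 with h2 | h2
  · exact absurd h2 h0
  · exact h2

theorem F5x : idx (rep 7 lx) = 0 := by decide +kernel
theorem F5y : idx (rep 7 ly) = 0 := by decide +kernel

theorem F6_1 : idx (la ++ lx ++ lai) < 504 := by decide +kernel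
theorem F6_2 : idx (lai ++ lx ++ la) < 504 := by decide +kernel
theorem F6_3 : idx (la ++ ly ++ lai) < 504 := by decide +kernel
theorem F6_4 : idx (lai ++ ly ++ la) < 504 := by decide +kernel
theorem F6_5 : idx (lb ++ lx ++ lbi) < 504 := by decide +kernel
theorem F6_6 : idx (lbi ++ lx ++ lb) < 504 := by decide +kernel
theorem F6_7 : idx (lb ++ ly ++ lbi) < 504 := by decide +kernel
theorem F6_8 : idx (lbi ++ ly ++ lb) < 504 := by decide +kernel

theorem F7 : idx (la ++ lb ++ lai ++ lbi) < 504 := by decide +kernel

theorem F8_1 : idx lk1 < 504 := by decide +kernel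
theorem F8_2 : idx lk2 < 504 := by decide +kernel
theorem F8_3 : idx lk3 < 504 := by decide +kernel
theorem F8_4 : idx lk4 < 504 := by decide +kernel

theorem F9_s : idx ls < 504 := by decide +kernel
theorem F9_t : idx lt < 504 := by decide +kernel
theorem F9_u : idx lu < 504 := by decide +kernel
theorem F9_v : idx lv < 504 := by decide +kernel
theorem F9_e1 : idx le1 < 504 := by decide +kernel
theorem F9_e2 : idx le2 < 504 := by decide +kernel
theorem F9_e3 : idx le3 < 504 := by decide +kernel
theorem F9_s2 : idx (rep 2 ls) = 0 := by decide +kernel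
theorem F9_t2 : idx (rep 2 lt) = 0 := by decide +kernel
theorem F9_st7 : idx (rep 7 (ls ++ lt)) = 0 := by decide +kernel
theorem F9_st : idx (ls ++ lt) < 504 ∧ idx (ls ++ lt) ≠ 0 := by decide +kernel
theorem F9_u9 : idx (rep 9 lu) = 0 := by decide +kernel
theorem F9_v9 : idx (rep 9 lv) = 0 := by decide +kernel
theorem F9_uv7 : idx (rep 7 (lu ++ lv)) = 0 := by decide +kernel
theorem F9_uv : idx (lu ++ lv) < 504 ∧ idx (lu ++ lv) ≠ 0 := by decide +kernel
theorem F9_e1sq : idx (rep 2 le1) = 0 := by decide +kernel
theorem F9_e2sq : idx (rep 2 le2) = 0 := by decide +kernel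
theorem F9_e3sq : idx (rep 2 le3) = 0 := by decide +kernel
theorem F9_c12 : idx (le1 ++ le2) = idx (le2 ++ le1) := by decide +kernel
theorem F9_c13 : idx (le1 ++ le3) = idx (le3 ++ le1) := by decide +kernel
theorem F9_c23 : idx (le2 ++ le3) = idx (le3 ++ le2) := by decide +kernel

/-- The eight elements of the elementary abelian subgroup. -/
def eWords : List (List Bool) :=
  [[], le1, le2, le3, le1 ++ le2, le1 ++ le3, le2 ++ le3, le1 ++ le2 ++ le3]

theorem F9_E : (eWords.map idx).Nodup ∧ ∀ k ∈ eWords.map idx, k < 504 := by decide +kernel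

theorem F10 : ∀ t < 3, ∀ u < 3, ∀ v < 3,
    idx (WU t u v) = kU t u v ∧ idx (WV t u v) = kV t u v := by decide +kernel

end Ree3
end Cfsg.Agent.Helper57
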