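import Cfsg.Agent.Lib.Helper57.Ree3Data

set_option autoImplicit false

namespace Cfsg.Agent.Helper57
namespace Ree3

open Cfsg.Lie TriMat Matrix

/-- Entries of the root elements. -/
def entX (p : Fin 12 × Fin 3 × I14 × I14) : ZMod 3 :=
  chevG2.xMat (ZMod 3) p.1 ((p.2.1.val : ℕ) : ZMod 3) p.2.2.1 p.2.2.2

/-- Entries of the matrices described by the position lists. -/
def entE (p : Fin 12 × Fin 3 × I14 × I14) : ZMod 3 :=
  (matOf (ERI p.1.val p.2.1.val) : Matrix I14 I14 (ZMod 3)) p.2.2.1 p.2.2.2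

/-- All indices. -/
def I14list : List I14 :=
  [Sum.inl 0, Sum.inl 1, Sum.inr 0, Sum.inr 1, Sum.inr 2, Sum.inr 3, Sum.inr 4, Sum.inr 5,
    Sum.inr 6, Sum.inr 7, Sum.inr 8, Sum.inr 9, Sum.inr 10, Sum.inr 11]

theorem mem_I14list : ∀ a : I14, a ∈ I14list := by
  rintro (a | a) <;> fin_cases a <;> simp [I14list]

/-- The entrywise check of the root elements. -/
def checkX : Bool :=
  (List.finRange 12).all fun r => (List.finRange 3).all fun c =>
    I14list.all fun a => I14list.all fun b => decide (entX (r, c, a, b) = entE (r, c, a, b))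

theorem checkX_true : checkX = true := by decide +kernel

theorem entX_eq : ∀ p, entX p = entE p := by
  rintro ⟨r, c, a, b⟩
  have h := checkX_true
  unfold checkX at h
  rw [List.all_eq_true] at h
  have h1 := h r (List.mem_finRange r)
  rw [List.all_eq_true] at h1
  have h2 := h1 c (List.mem_finRange c)
  rw [List.all_eq_true] at h2
  have h3 := h2 a (mem_I14list a)
  rw [List.all_eq_true] at h3
  have h4 := h3 b (mem_I14list b)
  rw [decide_eq_true_eq] at h4
  exact h4

theorem xMat_eq (r : ℕ) (hr : r < 12) (c : ℕ) (hc : c < 3) :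
    (chevG2.xMat (ZMod 3) ⟨r, hr⟩ ((c : ℕ) : ZMod 3) : Matrix I14 I14 (ZMod 3)) =
      matOf (ERI r c) := by
  ext a b
  exact entX_eq (⟨r, hr⟩, ⟨c, hc⟩, a, b)

theorem posList_ERI : ∀ r < 12, ∀ c < 3, posList pos (ERI r c) = ERN r c := by decide

/-- Entries of the decoded first table entry. -/
def entT0 (p : I14 × I14) : ZMod 3 := (dec 14 pos (T 0) : Matrix I14 I14 (ZMod 3)) p.1 p.2

/-- Entries of the identity matrix. -/
def entI (p : I14 × I14) : ZMod 3 := (1 : Matrix I14 I14 (ZMod 3)) p.1 p.2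

theorem entT0_eq : ∀ p, entT0 p = entI p := by decide +kernel

theorem dec_T0 : (dec 14 pos (T 0) : Matrix I14 I14 (ZMod 3)) = 1 := by
  ext a b
  exact entT0_eq (a, b)

/-- Cast a word with natural-number coefficients to a word over the field. -/
def castWord (wd : List (ℕ × ℕ)) : List (ℕ × ZMod 3) := wd.map fun p => (p.1, ((p.2 : ℕ) : ZMod 3))

theorem reeWordU_eq : ∀ t u v : ZMod 3,
    reeWordU 1 t u v = castWord (wordUN t.val u.val v.val) := by decide

theorem reeWordV_eq : ∀ t u v : ZMod 3,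
    reeWordV 1 t u v = castWord (wordVN t.val u.val v.val) := by decide

theorem wordUN_ok : ∀ t < 3, ∀ u < 3, ∀ v < 3, ∀ p ∈ wordUN t u v, p.1 < 12 ∧ p.2 < 3 := by
  decide

theorem wordVN_ok : ∀ t < 3, ∀ u < 3, ∀ v < 3, ∀ p ∈ wordVN t u v, p.1 < 12 ∧ p.2 < 3 := by
  decide

end Ree3
end Cfsg.Agent.Helper57
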