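import Cfsg.Agent.Lib.Helper57.Ree3Tab
import Cfsg.Agent.Lib.Helper57.Ree3Mat
import Cfsg.Agent.Lib.Helper57.Ree3Idx

set_option autoImplicit false

namespace Cfsg.Agent.Helper57
namespace Ree3

open Cfsg.Lie TriMat Matrix

/-- Square matrices on the index type `I14`. -/
abbrev Mat : Type := Matrix I14 I14 (ZMod 3)

/-- The ambient general linear group. -/
abbrev GLn : Type := GL I14 (ZMod 3)

/-- The decoded table entries. -/
def D (k : ℕ) : Mat := dec 14 pos (T k)

/-- Root elements, typed on the index type `I14`. -/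
def xI (r : ℕ) (t : ZMod 3) : Mat := chevG2.x (ZMod 3) r t

/-- Matrices of words, typed on the index type `I14`. -/
def wordMatI (w : List (ℕ × ZMod 3)) : Mat := chevG2.wordMat (ZMod 3) w

theorem x_eq (r c : ℕ) (hr : r < 12) (hc : c < 3) :
    xI r ((c : ℕ) : ZMod 3) = matOf (ERI r c) := by
  unfold xI ChevalleyDatum.x
  rw [dif_pos (show r < chevG2.nroots from hr)]
  exact xMat_eq r hr c hc

theorem wordMatI_nil : wordMatI [] = 1 := rfl

theorem wordMatI_cons (p : ℕ × ZMod 3) (w : List (ℕ × ZMod 3)) :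
    wordMatI (p :: w) = xI p.1 p.2 * wordMatI w := rfl

theorem wordMat_mul_dec (wd : List (ℕ × ℕ)) (hwd : ∀ p ∈ wd, p.1 < 12 ∧ p.2 < 3) (c : ℕ × ℕ) :
    wordMatI (castWord wd) * dec 14 pos c = dec 14 pos (applyWord wd c) := by
  induction wd with
  | nil =>
    have : castWord [] = [] := rfl
    rw [this, wordMatI_nil, one_mul]
    rfl
  | cons p wd ih =>
    have h1 : castWord (p :: wd) = (p.1, ((p.2 : ℕ) : ZMod 3)) :: castWord wd := rfl
    rw [h1, wordMatI_cons, mul_assoc, ih (fun q hq => hwd q (List.mem_cons_of_mem _ hq))]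
    obtain ⟨hr, hc⟩ := hwd p List.mem_cons_self
    rw [x_eq _ _ hr hc, ← dec_mulCode 14 pos pos_inj pos_lt, posList_ERI _ hr _ hc]
    rfl

/-- The matrices of the two generators. -/
def A (β : Bool) : Mat := wordMatI (castWord (genWord β))

theorem genWord_ok (β : Bool) : ∀ p ∈ genWord β, p.1 < 12 ∧ p.2 < 3 := by
  cases β
  · exact wordVN_ok 1 (by norm_num) 0 (by norm_num) 0 (by norm_num)
  · exact wordUN_ok 1 (by norm_num) 0 (by norm_num) 0 (by norm_num)

theorem hA (β : Bool) (k : ℕ) (hk : k < 1512) : wN β k < 1512 ∧ A β * D k = D (wN β k) := by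
  obtain ⟨h1, h2⟩ := hw β k hk
  refine ⟨h1, ?_⟩
  unfold A D
  rw [wordMat_mul_dec _ (genWord_ok β), h2]

theorem prodA (l : List Bool) (k : ℕ) (hk : k < 1512) :
    act l k < 1512 ∧ (l.map A).prod * D k = D (act l k) := by
  induction l with
  | nil => exact ⟨hk, by simp [act]⟩
  | cons β l ih =>
    obtain ⟨h1, h2⟩ := ih
    obtain ⟨h3, h4⟩ := hA β (act l k) h1
    refine ⟨h3, ?_⟩
    rw [List.map_cons, List.prod_cons, mul_assoc, h2, h4]
    rfl

theorem D0 : D 0 = 1 := dec_T0

theorem prodA_eq (l : List Bool) : (l.map A).prod = D (idx l) := by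
  have h := (prodA l 0 (by norm_num)).2
  rw [D0, mul_one] at h
  exact h

theorem idx_lt (l : List Bool) : idx l < 1512 := (prodA l 0 (by norm_num)).1

theorem map_rep (n : ℕ) (l : List Bool) : ((rep n l).map A).prod = ((l.map A).prod) ^ n := by
  induction n with
  | zero => simp [rep]
  | succ n ih => rw [rep, List.map_append, List.prod_append, ih, pow_succ']

theorem A_pow9 (β : Bool) : A β ^ 9 = 1 := by
  have h : (([β].map A).prod) ^ 9 = 1 := by
    rw [← map_rep, prodA_eq]
    have : idx (rep 9 [β]) = 0 := by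
      cases β
      · exact F1b
      · exact F1a
    rw [this, D0]
  simpa using h

/-- The two generators as elements of the general linear group. -/
def a (β : Bool) : GLn :=
  ⟨A β, A β ^ 8, by rw [← pow_succ']; exact A_pow9 β, by rw [← pow_succ]; exact A_pow9 β⟩

/-- The element of the general linear group defined by a word. -/
def gl (l : List Bool) : GLn := (l.map a).prod

theorem gl_val (l : List Bool) : ((gl l : GLn) : Mat) = (l.map A).prod := by
  induction l with
  | nil => simp [gl]
  | cons β l ih =>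
    have : gl (β :: l) = a β * gl l := by simp [gl]
    rw [this, Units.val_mul, ih, List.map_cons, List.prod_cons]
    rfl

theorem gl_valD (l : List Bool) : ((gl l : GLn) : Mat) = D (idx l) := by
  rw [gl_val, prodA_eq]

theorem gl_append (l₁ l₂ : List Bool) : gl (l₁ ++ l₂) = gl l₁ * gl l₂ := by
  simp [gl]

theorem gl_rep (n : ℕ) (l : List Bool) : gl (rep n l) = gl l ^ n := by
  induction n with
  | zero => simp [rep, gl]
  | succ n ih => rw [rep, gl_append, ih, pow_succ']

theorem gl_eq {l₁ l₂ : List Bool} (h : idx l₁ = idx l₂) : gl l₁ = gl l₂ := by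
  apply Units.ext
  rw [gl_valD, gl_valD, h]

theorem gl_eq_one {l : List Bool} (h : idx l = 0) : gl l = 1 := by
  apply Units.ext
  rw [gl_valD, h, D0]
  rfl

theorem D_inj (i j : ℕ) (hi : i < 504) (hj : j < 504) (h : D i = D j) : i = j := by
  have h1 : T i = T j := dec_injOn 14 pos pos_surj _ _ (T_norm i hi) (T_norm j hj) h
  exact T_inj i j hi hj h1

theorem gl_ne {l₁ l₂ : List Bool} (h1 : idx l₁ < 504) (h2 : idx l₂ < 504)
    (h : idx l₁ ≠ idx l₂) : gl l₁ ≠ gl l₂ := by
  intro heq
  apply h
  apply D_inj _ _ h1 h2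
  rw [← gl_valD, ← gl_valD, heq]

end Ree3
end Cfsg.Agent.Helper57
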