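import Cfsg.Agent.Lib.Helper57.Ree3Grp

set_option autoImplicit false

namespace Cfsg.Agent.Helper57
namespace Ree3

open Cfsg.Lie TriMat Matrix

/-- The generating set of the frozen definition, typed on `I14`. -/
def S54 : Set GLn := {g | ∃ w ∈ g2Words (ZMod 3) 1, (g : Mat) = wordMatI w}

/-- The Ree group over the field with three elements. -/
abbrev G3 : Subgroup GLn := twistedG2 (ZMod 3) 1

theorem G3_eq : G3 = Subgroup.closure S54 := rfl

/-- The subgroup generated by the two chosen generators. -/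
def G2 : Subgroup GLn := Subgroup.closure {gl la, gl lb}

theorem a_mem (β : Bool) : a β ∈ G2 := by
  cases β
  · exact Subgroup.subset_closure (Or.inr (by simp [gl, lb]))
  · exact Subgroup.subset_closure (Or.inl (by simp [gl, la]))

theorem gl_mem_G2 (l : List Bool) : gl l ∈ G2 := by
  unfold gl
  apply Subgroup.list_prod_mem
  intro x hx
  obtain ⟨β, _, rfl⟩ := List.mem_map.mp hx
  exact a_mem β

theorem val_lt (t : ZMod 3) : t.val < 3 := ZMod.val_lt t

theorem wordU_val (t u v : ZMod 3) :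
    wordMatI (reeWordU 1 t u v) = D (idx (WU t.val u.val v.val)) := by
  rw [reeWordU_eq, (F10 _ (val_lt t) _ (val_lt u) _ (val_lt v)).1]
  have h := wordMat_mul_dec _ (wordUN_ok _ (val_lt t) _ (val_lt u) _ (val_lt v)) (T 0)
  rw [(hgenU _ _ _ (val_lt t) (val_lt u) (val_lt v)).1] at h
  unfold D
  rw [← h]
  have : dec 14 pos (T 0) = (1 : Mat) := dec_T0
  rw [this, mul_one]

theorem wordV_val (t u v : ZMod 3) :
    wordMatI (reeWordV 1 t u v) = D (idx (WV t.val u.val v.val)) := by
  rw [reeWordV_eq, (F10 _ (val_lt t) _ (val_lt u) _ (val_lt v)).2]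
  have h := wordMat_mul_dec _ (wordVN_ok _ (val_lt t) _ (val_lt u) _ (val_lt v)) (T 0)
  rw [(hgenU _ _ _ (val_lt t) (val_lt u) (val_lt v)).2] at h
  unfold D
  rw [← h]
  have : dec 14 pos (T 0) = (1 : Mat) := dec_T0
  rw [this, mul_one]

theorem S54_le : S54 ⊆ (G2 : Set GLn) := by
  rintro g ⟨w, ⟨t, u, v, rfl | rfl⟩, hg⟩
  · have : g = gl (WU t.val u.val v.val) := by
      apply Units.ext
      rw [hg, wordU_val, gl_valD]
    rw [this]
    exact gl_mem_G2 _
  · have : g = gl (WV t.val u.val v.val) := by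
      apply Units.ext
      rw [hg, wordV_val, gl_valD]
    rw [this]
    exact gl_mem_G2 _

theorem gl_la_mem : gl la ∈ S54 := by
  refine ⟨reeWordU 1 1 0 0, ⟨1, 0, 0, Or.inl rfl⟩, ?_⟩
  rw [gl_val, reeWordU_eq]
  simp [la, A, genWord]
  rfl

theorem gl_lb_mem : gl lb ∈ S54 := by
  refine ⟨reeWordV 1 1 0 0, ⟨1, 0, 0, Or.inr rfl⟩, ?_⟩
  rw [gl_val, reeWordV_eq]
  simp [lb, A, genWord]
  rfl

theorem G3_eq_G2 : G3 = G2 := by
  rw [G3_eq]
  apply le_antisymm
  · rw [Subgroup.closure_le]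
    exact S54_le
  · unfold G2
    rw [Subgroup.closure_le]
    rintro g (rfl | rfl)
    · exact Subgroup.subset_closure gl_la_mem
    · exact Subgroup.subset_closure gl_lb_mem

end Ree3
end Cfsg.Agent.Helper57
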