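import Cfsg.Agent.Lib.Helper57.Ree3Grp2

set_option autoImplicit false

namespace Cfsg.Agent.Helper57
namespace Ree3

open Cfsg.Lie TriMat Matrix

/-- The subgroup generated by the two chosen elements of order seven. -/
def K : Subgroup GLn := Subgroup.closure {gl lx, gl ly}

theorem X7 : gl lx ^ 7 = 1 := by
  rw [← gl_rep]
  exact gl_eq_one F5x

theorem Y7 : gl ly ^ 7 = 1 := by
  rw [← gl_rep]
  exact gl_eq_one F5y

theorem gl_mul_val (l : List Bool) (g : GLn) (k : ℕ) (hk : k < 1512) (hg : (g : Mat) = D k) :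
    ((gl l * g : GLn) : Mat) = D (act l k) := by
  rw [Units.val_mul, gl_val, hg]
  exact (prodA l k hk).2

/-- The set of table-represented elements. -/
def P (g : GLn) : Prop := ∃ k, k < 504 ∧ (g : Mat) = D k

theorem P_one : P 1 := ⟨0, by norm_num, by rw [D0]; rfl⟩

theorem P_x (g : GLn) (hg : P g) : P (gl lx * g) := by
  obtain ⟨k, hk, hg⟩ := hg
  exact ⟨act lx k, (F3 k hk).1, gl_mul_val lx g k (by omega) hg⟩

theorem P_y (g : GLn) (hg : P g) : P (gl ly * g) := by
  obtain ⟨k, hk, hg⟩ := hg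
  exact ⟨act ly k, (F3 k hk).2, gl_mul_val ly g k (by omega) hg⟩

theorem inv_eq_pow6 (z : GLn) (hz : z ^ 7 = 1) : z⁻¹ = z * (z * (z * (z * (z * z)))) := by
  rw [inv_eq_iff_eq_inv]
  symm
  rw [inv_eq_iff_mul_eq_one]
  rw [← hz]
  simp only [pow_succ, pow_zero, one_mul, mul_assoc]

theorem K_sub (g : GLn) (hg : g ∈ K) : P g := by
  unfold K at hg
  induction hg using Subgroup.closure_induction_left with
  | one => exact P_one
  | mul_left x hx y hy ih =>
    rcases hx with rfl | rfl
    · exact P_x y ih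
    · exact P_y y ih
  | inv_mul_cancel x hx y hy ih =>
    rcases hx with rfl | rfl
    · rw [inv_eq_pow6 _ X7]
      simp only [mul_assoc]
      exact P_x _ (P_x _ (P_x _ (P_x _ (P_x _ (P_x _ ih)))))
    · rw [inv_eq_pow6 _ Y7]
      simp only [mul_assoc]
      exact P_y _ (P_y _ (P_y _ (P_y _ (P_y _ (P_y _ ih)))))

theorem K_sup (k : ℕ) (hk : k < 504) : ∃ g ∈ K, (g : Mat) = D k := by
  induction k using Nat.strong_induction_on with
  | _ k ih =>
    by_cases h0 : k = 0
    · subst h0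
      exact ⟨1, K.one_mem, by rw [D0]; rfl⟩
    · obtain ⟨h1, h2⟩ := F4 k hk h0
      obtain ⟨g, hgK, hg⟩ := ih (parN k).1 h1 (by omega)
      by_cases hb : (parN k).2 = true
      · rw [if_pos hb] at h2
        refine ⟨gl lx * g, K.mul_mem (Subgroup.subset_closure (Or.inl rfl)) hgK, ?_⟩
        rw [gl_mul_val lx g _ (by omega) hg, h2]
      · rw [if_neg hb] at h2
        refine ⟨gl ly * g, K.mul_mem (Subgroup.subset_closure (Or.inr rfl)) hgK, ?_⟩
        rw [gl_mul_val ly g _ (by omega) hg, h2]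

theorem mem_K_of_idx {l : List Bool} (h : idx l < 504) : gl l ∈ K := by
  obtain ⟨g, hgK, hg⟩ := K_sup (idx l) h
  have : g = gl l := by
    apply Units.ext
    rw [hg, gl_valD]
  rw [← this]
  exact hgK

theorem card_K : Nat.card K = 504 := by
  have hex : ∀ k : Fin 504, ∃ g : K, ((g : GLn) : Mat) = D k := by
    intro k
    obtain ⟨g, hgK, hg⟩ := K_sup k k.2
    exact ⟨⟨g, hgK⟩, hg⟩
  choose f hf using hex
  have hinj : Function.Injective f := by
    intro i j hij
    apply Fin.ext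
    apply D_inj _ _ i.2 j.2
    rw [← hf i, ← hf j, hij]
  have hsurj : Function.Surjective f := by
    intro g
    obtain ⟨k, hk, hg⟩ := K_sub g g.2
    refine ⟨⟨k, hk⟩, ?_⟩
    apply Subtype.ext
    apply Units.ext
    rw [hf, hg]
  rw [← Nat.card_congr (Equiv.ofBijective f ⟨hinj, hsurj⟩), Nat.card_fin]

end Ree3
end Cfsg.Agent.Helper57
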