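import Mathlib
import Cfsg.Agent.Lib.Helper57.Simple168

set_option autoImplicit false

namespace Cfsg.Agent.Helper57

open Subgroup

/-- In a perfect finite group, a central element of prime order `p` cannot exist if some abelian
subgroup has index prime to `p` (transfer into that subgroup). -/
theorem no_central_of_perfect {H : Type*} [Group H] [Finite H] (hperf : commutator H = ⊤)
    (A : Subgroup H) (hA : ∀ a ∈ A, ∀ b ∈ A, a * b = b * a) (z : H)
    (hz : z ∈ Subgroup.center H) (p : ℕ) (hzp : orderOf z = p) (hidx : ¬ p ∣ A.index) :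
    False := by
  let _ : CommGroup A :=
    { (inferInstance : Group A) with mul_comm := fun a b => Subtype.ext (hA a a.2 b b.2) }
  have key : ∀ (k : ℕ) (g₀ : H), g₀⁻¹ * z ^ k * g₀ ∈ A → g₀⁻¹ * z ^ k * g₀ = z ^ k := by
    intro k g₀ _
    have hc : z ^ k ∈ Subgroup.center H := Subgroup.pow_mem _ hz k
    rw [Subgroup.mem_center_iff] at hc
    rw [mul_assoc, ← hc g₀, ← mul_assoc, inv_mul_cancel, one_mul]
  have h := MonoidHom.transfer_eq_pow (MonoidHom.id A) z key
  have h1 : MonoidHom.transfer (MonoidHom.id A) z = 1 := by
    have hk := Abelianization.commutator_subset_ker (MonoidHom.transfer (MonoidHom.id A))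
    rw [hperf] at hk
    exact hk (Subgroup.mem_top z)
  rw [h1] at h
  have h2 : z ^ A.index = 1 := by
    have := congrArg Subtype.val h
    simpa using this.symm
  have h3 : orderOf z ∣ A.index := orderOf_dvd_of_pow_eq_one h2
  rw [hzp] at h3
  exact hidx h3

/-- An element of order dividing `7` centralizes every normal subgroup of order
`2, 3, 4, 6` or `12`. -/
theorem commute_of_small_normal {H : Type*} [Group H] [Finite H] (N : Subgroup H) [N.Normal]
    (z : H) (hz : z ^ 7 = 1)
    (hN : Nat.card N = 2 ∨ Nat.card N = 3 ∨ Nat.card N = 4 ∨ Nat.card N = 6 ∨ Nat.card N = 12) :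
    ∀ n ∈ N, z * n = n * z := by
  have : Fact (Nat.Prime 7) := ⟨by norm_num⟩
  let K := Subgroup.zpowers z
  have hK : IsPGroup 7 K := by
    have h1 : orderOf z ∣ 7 := orderOf_dvd_of_pow_eq_one hz
    have h2 : Nat.card K = orderOf z := Nat.card_zpowers z
    rcases (Nat.dvd_prime (by norm_num : Nat.Prime 7)).mp h1 with h | h
    · exact IsPGroup.of_card (n := 0) (by rw [h2, h]; rfl)
    · exact IsPGroup.of_card (n := 1) (by rw [h2, h]; rfl)
  let _ : MulAction K N := MulAction.compHom N ((MulAut.conjNormal (H := N)).comp K.subtype)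
  have hsmul : ∀ (k : K) (n : N), ((k • n : N) : H) = (k : H) * n * (k : H)⁻¹ := by
    intro k n
    rfl
  have hmod := hK.card_modEq_card_fixedPoints N
  -- the fixed points form a subgroup
  let C : Subgroup N :=
    { carrier := {n | z * (n : H) * z⁻¹ = n}
      one_mem' := by simp
      mul_mem' := by
        intro a b ha hb
        simp only [Set.mem_ofPred_eq] at ha hb ⊢
        rw [Subgroup.coe_mul]
        calc z * ((a : H) * b) * z⁻¹ = (z * a * z⁻¹) * (z * b * z⁻¹) := by group
          _ = a * b := by rw [ha, hb]
      inv_mem' := by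
        intro a ha
        simp only [Set.mem_ofPred_eq] at ha ⊢
        rw [Subgroup.coe_inv]
        calc z * (a : H)⁻¹ * z⁻¹ = (z * a * z⁻¹)⁻¹ := by group
          _ = (a : H)⁻¹ := by rw [ha] }
  have hfix : (MulAction.fixedPoints K N) = (C : Set N) := by
    ext n
    constructor
    · intro hn
      have h1 := hn ⟨z, Subgroup.mem_zpowers z⟩
      have h2 := congrArg Subtype.val h1
      rw [hsmul] at h2
      exact h2
    · intro hn k
      have hn' : z * (n : H) * z⁻¹ = n := hn
      obtain ⟨i, hi⟩ := Subgroup.mem_zpowers_iff.mp k.2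
      apply Subtype.ext
      rw [hsmul, ← hi]
      have hcomm : Commute z (n : H) := by
        have : z * (n : H) = n * z := by
          calc z * (n : H) = z * n * z⁻¹ * z := by group
            _ = n * z := by rw [hn']
        exact this
      have := (hcomm.zpow_left i).eq
      rw [this, mul_assoc, mul_inv_cancel, mul_one]
  have hcardfix : Nat.card (MulAction.fixedPoints K N) = Nat.card C := by
    rw [hfix]
    rfl
  rw [hcardfix] at hmod
  have hdvd : Nat.card C ∣ Nat.card N := Subgroup.card_subgroup_dvd_card C
  have hCtop : Nat.card C = Nat.card N := by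
    have hpos : 0 < Nat.card C := Nat.card_pos
    have hle : Nat.card C ≤ Nat.card N := Nat.le_of_dvd Nat.card_pos hdvd
    unfold Nat.ModEq at hmod
    rcases hN with h | h | h | h | h <;> rw [h] at hmod hdvd hle ⊢ <;>
      · generalize Nat.card C = c at *
        interval_cases c <;> omega
  have hC : C = ⊤ := Subgroup.eq_top_of_card_eq C hCtop
  intro n hn
  have h1 : (⟨n, hn⟩ : N) ∈ C := by rw [hC]; exact Subgroup.mem_top _
  have h2 : z * n * z⁻¹ = n := h1
  calc z * n = z * n * z⁻¹ * z := by group
    _ = n * z := by rw [h2]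

/-- A criterion for simplicity of a group of order `504`. -/
theorem isSimpleGroup_of_card_504 {H : Type*} [Group H] [Finite H] (hcard : Nat.card H = 504)
    (x y : H) (hx : x ^ 7 = 1) (hy : y ^ 7 = 1) (hgen : Subgroup.closure {x, y} = ⊤)
    (hperf : commutator H = ⊤)
    (s t : H) (hs : s ^ 2 = 1) (ht : t ^ 2 = 1) (hst : (s * t) ^ 7 = 1) (hst1 : s * t ≠ 1)
    (u v : H) (hu : u ^ 9 = 1) (hv : v ^ 9 = 1) (huv : (u * v) ^ 7 = 1) (huv1 : u * v ≠ 1)
    (E : Subgroup H) (hE : Nat.card E = 8) (hEc : ∀ a ∈ E, ∀ b ∈ E, a * b = b * a) :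
    IsSimpleGroup H := by
  have hnt : Nontrivial H := by
    rw [← Finite.one_lt_card_iff_nontrivial, hcard]
    norm_num
  have h7p : Fact (Nat.Prime 7) := ⟨by norm_num⟩
  refine ⟨fun N hN => ?_⟩
  have hidx : N.index * Nat.card N = 504 := by rw [← hcard]; exact N.index_mul_card
  have hNdvd : Nat.card N ∣ 504 := Dvd.intro_left _ hidx
  by_cases h7 : 7 ∣ Nat.card N
  · right
    have hi : N.index ∣ 72 := by
      obtain ⟨m, hm⟩ := h7
      rw [hm] at hidx
      have : 7 * (N.index * m) = 7 * 72 := by
        have h72 : 7 * 72 = 504 := by norm_num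
        rw [h72, ← hidx]; ring
      exact Dvd.intro _ (Nat.eq_of_mul_eq_mul_left (by norm_num) this)
    have hcop : Nat.Coprime 7 N.index := Nat.Coprime.coprime_dvd_right hi (by norm_num)
    have hxN : x ∈ N := mem_normal_of_coprime_order N x 7 hx hcop
    have hyN : y ∈ N := mem_normal_of_coprime_order N y 7 hy hcop
    rw [eq_top_iff, ← hgen, Subgroup.closure_le]
    rintro g (rfl | rfl)
    · exact hxN
    · exact hyN
  · have hcop7 : Nat.Coprime (Nat.card N) 7 :=
      (Nat.Coprime.symm ((Nat.Prime.coprime_iff_not_dvd (by norm_num)).mpr h7))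
    have h72 : Nat.card N ∣ 72 := by
      have : Nat.card N ∣ 72 * 7 := by norm_num; exact hNdvd
      exact hcop7.dvd_of_dvd_mul_right this
    -- no element of order 7 in N
    have hno7 : ∀ g ∈ N, g ^ 7 = 1 → g = 1 := by
      intro g hg hg7
      by_contra hg1
      have ho : orderOf g = 7 := orderOf_eq_prime hg7 hg1
      have : orderOf (⟨g, hg⟩ : N) ∣ Nat.card N := orderOf_dvd_natCard _
      rw [Subgroup.orderOf_mk, ho] at this
      exact h7 this
    by_cases h8 : 8 ∣ Nat.card N
    · exfalso
      have hi : N.index ∣ 63 := by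
        obtain ⟨m, hm⟩ := h8
        rw [hm] at hidx
        have : 8 * (N.index * m) = 8 * 63 := by
          have h63 : 8 * 63 = 504 := by norm_num
          rw [h63, ← hidx]; ring
        exact Dvd.intro _ (Nat.eq_of_mul_eq_mul_left (by norm_num) this)
      have hcop : Nat.Coprime 2 N.index := Nat.Coprime.coprime_dvd_right hi (by norm_num)
      have hsN : s ∈ N := mem_normal_of_coprime_order N s 2 hs hcop
      have htN : t ∈ N := mem_normal_of_coprime_order N t 2 ht hcop
      exact hst1 (hno7 _ (N.mul_mem hsN htN) hst)
    by_cases h9 : 9 ∣ Nat.card N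
    · exfalso
      have hi : N.index ∣ 56 := by
        obtain ⟨m, hm⟩ := h9
        rw [hm] at hidx
        have : 9 * (N.index * m) = 9 * 56 := by
          have h56 : 9 * 56 = 504 := by norm_num
          rw [h56, ← hidx]; ring
        exact Dvd.intro _ (Nat.eq_of_mul_eq_mul_left (by norm_num) this)
      have hcop : Nat.Coprime 9 N.index := Nat.Coprime.coprime_dvd_right hi (by norm_num)
      have huN : u ∈ N := mem_normal_of_coprime_order N u 9 hu hcop
      have hvN : v ∈ N := mem_normal_of_coprime_order N v 9 hv hcop
      exact huv1 (hno7 _ (N.mul_mem huN hvN) huv)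
    -- now the order of N is 1, 2, 3, 4, 6 or 12
    have hsmall : Nat.card N = 1 ∨ Nat.card N = 2 ∨ Nat.card N = 3 ∨ Nat.card N = 4 ∨
        Nat.card N = 6 ∨ Nat.card N = 12 := by
      have hle : Nat.card N ≤ 72 := Nat.le_of_dvd (by norm_num) h72
      have hpos : 0 < Nat.card N := Nat.card_pos
      generalize Nat.card N = n at *
      interval_cases n <;> omega
    rcases hsmall with h1 | hrest
    · left
      exact Subgroup.eq_bot_of_card_eq N h1
    · exfalso
      have hxc := commute_of_small_normal N x hx hrest
      have hyc := commute_of_small_normal N y hy hrest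
      -- N is central
      have hcen : N ≤ Subgroup.center H := by
        intro n hn
        rw [Subgroup.mem_center_iff]
        intro g
        have hg : g ∈ Subgroup.closure {x, y} := by rw [hgen]; exact Subgroup.mem_top g
        induction hg using Subgroup.closure_induction with
        | mem g hg =>
          rcases hg with rfl | rfl
          · exact hxc n hn
          · exact hyc n hn
        | one => simp
        | mul a b _ _ ha hb =>
          rw [mul_assoc, hb, ← mul_assoc, ha, mul_assoc]
        | inv a _ ha =>
          have : a⁻¹ * n = a⁻¹ * (n * a) * a⁻¹ := by group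
          rw [this, ← ha]
          group
      -- pick a prime p dividing the order of N
      have hp : ∃ p, Nat.Prime p ∧ p ∣ Nat.card N ∧ (p = 2 ∨ p = 3) := by
        rcases hrest with h | h | h | h | h <;> rw [h]
        · exact ⟨2, by norm_num, by norm_num, Or.inl rfl⟩
        · exact ⟨3, by norm_num, by norm_num, Or.inr rfl⟩
        · exact ⟨2, by norm_num, by norm_num, Or.inl rfl⟩
        · exact ⟨2, by norm_num, by norm_num, Or.inl rfl⟩
        · exact ⟨2, by norm_num, by norm_num, Or.inl rfl⟩
      obtain ⟨p, hpp, hpd, hp23⟩ := hp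
      have : Fact p.Prime := ⟨hpp⟩
      obtain ⟨z, hz⟩ := exists_prime_orderOf_dvd_card' p hpd
      have hzc : (z : H) ∈ Subgroup.center H := hcen z.2
      have hzo : orderOf (z : H) = p := by rw [Subgroup.orderOf_coe]; exact hz
      rcases hp23 with rfl | rfl
      · -- p = 2: use E
        refine no_central_of_perfect hperf E hEc z hzc 2 hzo ?_
        have hEi : E.index * Nat.card E = 504 := by rw [← hcard]; exact E.index_mul_card
        rw [hE] at hEi
        have : E.index = 63 := by omega
        rw [this]
        norm_num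
      · -- p = 3: use a Sylow 3-subgroup
        have P : Sylow 3 H := default
        have hPcard : Nat.card (P : Subgroup H) = 3 ^ 2 := by
          rw [Sylow.card_eq_multiplicity, hcard]
          have : Nat.factorization 504 3 = 2 := by
            rw [Nat.factorization_def _ (by norm_num : Nat.Prime 3)]
            have h504 : (504 : ℕ) = 3 ^ 2 * 56 := by norm_num
            rw [h504, padicValNat.mul (by norm_num) (by norm_num), padicValNat.prime_pow,
              padicValNat.eq_zero_of_not_dvd (by norm_num)]
          rw [this]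
        have hPc : ∀ a ∈ (P : Subgroup H), ∀ b ∈ (P : Subgroup H), a * b = b * a := by
          intro a ha b hb
          have hc := IsPGroup.isMulCommutative_of_card_eq_prime_sq hPcard
          have := hc.is_comm.comm ⟨a, ha⟩ ⟨b, hb⟩
          exact congrArg Subtype.val this
        refine no_central_of_perfect hperf (P : Subgroup H) hPc z hzc 3 hzo ?_
        have hPi : (P : Subgroup H).index * Nat.card (P : Subgroup H) = 504 := by
          rw [← hcard]; exact (P : Subgroup H).index_mul_card
        rw [hPcard] at hPi
        have : (P : Subgroup H).index = 56 := by omega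
        rw [this]
        norm_num

end Cfsg.Agent.Helper57
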