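import Cfsg.Agent.Lib.Helper57.Ree3Grp3
import Cfsg.Agent.Lib.Helper57.Simple504

set_option autoImplicit false

namespace Cfsg.Agent.Helper57

open scoped commutatorElement

/-- If the generators of `N` pairwise commute modulo a subgroup `K` normalized by `N`, then all
commutators of elements of `N` lie in `K`. -/
theorem commutator_mem_of_generators {G : Type*} [Group G] (K : Subgroup G) (S : Set G)
    (hN : ∀ x ∈ Subgroup.closure S, ∀ k ∈ K, x * k * x⁻¹ ∈ K)
    (hS : ∀ s ∈ S, ∀ t ∈ S, ⁅s, t⁆ ∈ K) :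
    ∀ g ∈ Subgroup.closure S, ∀ h ∈ Subgroup.closure S, ⁅g, h⁆ ∈ K := by
  have step1 : ∀ t ∈ S, ∀ g ∈ Subgroup.closure S, ⁅g, t⁆ ∈ K := by
    intro t ht g hg
    induction hg using Subgroup.closure_induction with
    | mem x hx => exact hS x hx t ht
    | one => rw [commutatorElement_one_left]; exact K.one_mem
    | mul x y hx hy ihx ihy =>
      have : ⁅x * y, t⁆ = x * ⁅y, t⁆ * x⁻¹ * ⁅x, t⁆ := by
        simp only [commutatorElement_def]; group
      rw [this]
      exact K.mul_mem (hN x hx _ ihy) ihx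
    | inv x hx ih =>
      have : ⁅x⁻¹, t⁆ = x⁻¹ * ⁅x, t⁆⁻¹ * x⁻¹⁻¹ := by
        simp only [commutatorElement_def]; group
      rw [this]
      exact hN _ (Subgroup.inv_mem _ hx) _ (K.inv_mem ih)
  intro g hg h hh
  induction hh using Subgroup.closure_induction with
  | mem x hx => exact step1 x hx g hg
  | one => rw [commutatorElement_one_right]; exact K.one_mem
  | mul y z hy hz ihy ihz =>
    have : ⁅g, y * z⁆ = ⁅g, y⁆ * (y * ⁅g, z⁆ * y⁻¹) := by
      simp only [commutatorElement_def]; group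
    rw [this]
    exact K.mul_mem ihy (hN y hy _ ihz)
  | inv z hz ih =>
    have : ⁅g, z⁻¹⁆ = z⁻¹ * ⁅g, z⁆⁻¹ * z⁻¹⁻¹ := by
      simp only [commutatorElement_def]; group
    rw [this]
    exact hN _ (Subgroup.inv_mem _ hz) _ (K.inv_mem ih)

namespace Ree3

open Cfsg.Lie TriMat Matrix

theorem gl_inv {l li : List Bool} (h : idx (l ++ li) = 0) : (gl l)⁻¹ = gl li := by
  have h1 : gl l * gl li = 1 := by
    rw [← gl_append]
    exact gl_eq_one h
  exact inv_eq_of_mul_eq_one_right h1

theorem gl_inv' {l li : List Bool} (h : idx (l ++ li) = 0) : (gl li)⁻¹ = gl l := by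
  rw [← gl_inv h, inv_inv]

/-- Conjugation by `z` maps `K` into `K` as soon as it does so on the two generators. -/
theorem conj_mem_gen (z : GLn) (hx : z * gl lx * z⁻¹ ∈ K) (hy : z * gl ly * z⁻¹ ∈ K) :
    ∀ k ∈ K, z * k * z⁻¹ ∈ K := by
  intro k hk
  unfold K at hk
  induction hk using Subgroup.closure_induction with
  | mem g hg =>
    rcases hg with rfl | rfl
    · exact hx
    · exact hy
  | one =>
    have : z * 1 * z⁻¹ = 1 := by group
    rw [this]
    exact K.one_mem
  | mul x y _ _ ihx ihy =>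
    have : z * (x * y) * z⁻¹ = (z * x * z⁻¹) * (z * y * z⁻¹) := by group
    rw [this]
    exact K.mul_mem ihx ihy
  | inv x _ ih =>
    have : z * x⁻¹ * z⁻¹ = (z * x * z⁻¹)⁻¹ := by group
    rw [this]
    exact K.inv_mem ih

theorem conj_mem {l li : List Bool} (h : idx (l ++ li) = 0)
    (hx : idx (l ++ lx ++ li) < 504) (hy : idx (l ++ ly ++ li) < 504) :
    ∀ k ∈ K, gl l * k * (gl l)⁻¹ ∈ K := by
  apply conj_mem_gen
  · rw [gl_inv h, ← gl_append, ← gl_append]
    exact mem_K_of_idx hx
  · rw [gl_inv h, ← gl_append, ← gl_append]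
    exact mem_K_of_idx hy

theorem lai_la : idx (lai ++ la) = 0 := by decide +kernel
theorem lbi_lb : idx (lbi ++ lb) = 0 := by decide +kernel

theorem G2_normalizes : ∀ x ∈ G2, ∀ k ∈ K, x * k * x⁻¹ ∈ K := by
  intro x hx
  unfold G2 at hx
  induction hx using Subgroup.closure_induction_left with
  | one => intro k hk; simpa using hk
  | mul_left x hx y hy ih =>
    intro k hk
    have : x * y * k * (x * y)⁻¹ = x * (y * k * y⁻¹) * x⁻¹ := by group
    rw [this]
    rcases hx with rfl | rfl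
    · exact conj_mem F1ai F6_1 F6_3 _ (ih k hk)
    · exact conj_mem F1bi F6_5 F6_7 _ (ih k hk)
  | inv_mul_cancel x hx y hy ih =>
    intro k hk
    have : x⁻¹ * y * k * (x⁻¹ * y)⁻¹ = x⁻¹ * (y * k * y⁻¹) * x⁻¹⁻¹ := by group
    rw [this]
    rcases hx with rfl | rfl
    · rw [gl_inv F1ai]; exact conj_mem lai_la F6_2 F6_4 _ (ih k hk)
    · rw [gl_inv F1bi]; exact conj_mem lbi_lb F6_6 F6_8 _ (ih k hk)

theorem comm_mem_K : ∀ g ∈ G2, ∀ h ∈ G2, ⁅g, h⁆ ∈ K := by
  apply commutator_mem_of_generators K {gl la, gl lb} G2_normalizes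
  have hab : ⁅gl la, gl lb⁆ ∈ K := by
    rw [commutatorElement_def, gl_inv F1ai, gl_inv F1bi, ← gl_append, ← gl_append, ← gl_append]
    exact mem_K_of_idx F7
  have hba : ⁅gl lb, gl la⁆ ∈ K := by
    rw [← commutatorElement_inv]
    exact K.inv_mem hab
  rintro s (rfl | rfl) t (rfl | rfl)
  · rw [commutatorElement_self]; exact K.one_mem
  · exact hab
  · exact hba
  · rw [commutatorElement_self]; exact K.one_mem

theorem lx_comm : gl lx = ⁅gl lk1, gl lk2⁆ := by
  rw [commutatorElement_def, gl_inv F2_1, gl_inv F2_2, ← gl_append, ← gl_append, ← gl_append]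
  rfl

theorem ly_comm : gl ly = ⁅gl lk3, gl lk4⁆ := by
  rw [commutatorElement_def, gl_inv F2_3, gl_inv F2_4, ← gl_append, ← gl_append, ← gl_append]
  rfl

theorem commutator_G2 : ⁅G2, G2⁆ = K := by
  apply le_antisymm
  · rw [Subgroup.commutator_le]
    exact comm_mem_K
  · unfold K
    rw [Subgroup.closure_le]
    rintro g (rfl | rfl)
    · rw [lx_comm]
      exact Subgroup.commutator_mem_commutator (gl_mem_G2 _) (gl_mem_G2 _)
    · rw [ly_comm]
      exact Subgroup.commutator_mem_commutator (gl_mem_G2 _) (gl_mem_G2 _)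

theorem commutator_K : ⁅K, K⁆ = K := by
  apply le_antisymm (Subgroup.commutator_le_self K)
  conv_lhs => unfold K
  rw [Subgroup.closure_le]
  rintro g (rfl | rfl)
  · rw [lx_comm]
    exact Subgroup.commutator_mem_commutator (mem_K_of_idx F8_1) (mem_K_of_idx F8_2)
  · rw [ly_comm]
    exact Subgroup.commutator_mem_commutator (mem_K_of_idx F8_3) (mem_K_of_idx F8_4)

theorem perfect_K : commutator K = ⊤ := by
  apply Subgroup.map_injective (Subgroup.subtype_injective K)
  rw [Subgroup.map_subtype_commutator, commutator_K, ← MonoidHom.range_eq_map,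
    Subgroup.range_subtype]

end Ree3
end Cfsg.Agent.Helper57
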