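import Cfsg.Agent.Lib.Helper57.Ree3Grp4
import Cfsg.Agent.Lib.Helper57.ElemAb

set_option autoImplicit false

namespace Cfsg.Agent.Helper57
namespace Ree3

open Cfsg.Lie TriMat Matrix

/-- The generators of the elementary abelian subgroup. -/
def SE : Set GLn := {gl le1, gl le2, gl le3}

/-- The elementary abelian subgroup of order eight. -/
def E0 : Subgroup GLn := Subgroup.closure SE

theorem E0_le : E0 ≤ K := by
  unfold E0
  rw [Subgroup.closure_le]
  rintro g (rfl | rfl | rfl)
  · exact mem_K_of_idx F9_e1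
  · exact mem_K_of_idx F9_e2
  · exact mem_K_of_idx F9_e3

theorem gl_comm {l₁ l₂ : List Bool} (h : idx (l₁ ++ l₂) = idx (l₂ ++ l₁)) :
    gl l₁ * gl l₂ = gl l₂ * gl l₁ := by
  rw [← gl_append, ← gl_append]
  exact gl_eq h

theorem gens_comm : ∀ s ∈ SE, ∀ t ∈ SE, s * t = t * s := by
  rintro s (rfl | rfl | rfl) t (rfl | rfl | rfl)
  · rfl
  · exact gl_comm F9_c12
  · exact gl_comm F9_c13
  · exact (gl_comm F9_c12).symm
  · rfl
  · exact gl_comm F9_c23
  · exact (gl_comm F9_c13).symm
  · exact (gl_comm F9_c23).symm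
  · rfl

theorem E0_comm : ∀ g ∈ E0, ∀ h ∈ E0, g * h = h * g :=
  closure_comm_of_gens SE gens_comm

theorem gl_sq {l : List Bool} (h : idx (rep 2 l) = 0) : gl l ^ 2 = 1 := by
  rw [← gl_rep]
  exact gl_eq_one h

theorem gens_sq : ∀ s ∈ SE, s ^ 2 = 1 := by
  rintro s (rfl | rfl | rfl)
  · exact gl_sq F9_e1sq
  · exact gl_sq F9_e2sq
  · exact gl_sq F9_e3sq

theorem E0_exp : ∀ g ∈ E0, g ^ 2 = 1 := closure_exp_two SE gens_comm gens_sq

theorem eWords_mem : ∀ w ∈ eWords, gl w ∈ E0 := by
  have h1 : gl le1 ∈ E0 := Subgroup.subset_closure (Or.inl rfl)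
  have h2 : gl le2 ∈ E0 := Subgroup.subset_closure (Or.inr (Or.inl rfl))
  have h3 : gl le3 ∈ E0 := Subgroup.subset_closure (Or.inr (Or.inr rfl))
  intro w hw
  simp only [eWords, List.mem_cons, List.not_mem_nil, or_false] at hw
  rcases hw with rfl | rfl | rfl | rfl | rfl | rfl | rfl | rfl
  · rw [gl_eq_one (l := []) rfl]; exact E0.one_mem
  · exact h1
  · exact h2
  · exact h3
  · rw [gl_append]; exact E0.mul_mem h1 h2
  · rw [gl_append]; exact E0.mul_mem h1 h3
  · rw [gl_append]; exact E0.mul_mem h2 h3
  · rw [gl_append, gl_append]; exact E0.mul_mem (E0.mul_mem h1 h2) h3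

theorem eWords_length : eWords.length = 8 := rfl

theorem card_E0_ge : 8 ≤ Nat.card E0 := by
  have hfin : Finite GLn := inferInstance
  let f : Fin 8 → E0 := fun i => ⟨gl (eWords.get (i.cast eWords_length.symm)),
    eWords_mem _ (List.get_mem _ _)⟩
  have hinj : Function.Injective f := by
    intro i j hij
    have h1 : gl (eWords.get (i.cast eWords_length.symm)) =
        gl (eWords.get (j.cast eWords_length.symm)) := congrArg Subtype.val hij
    obtain ⟨hnd, hlt⟩ := F9_E
    have hi : idx (eWords.get (i.cast eWords_length.symm)) < 504 :=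
      hlt _ (List.mem_map_of_mem (List.get_mem _ _))
    have hj : idx (eWords.get (j.cast eWords_length.symm)) < 504 :=
      hlt _ (List.mem_map_of_mem (List.get_mem _ _))
    by_contra hne
    have hne' : idx (eWords.get (i.cast eWords_length.symm)) ≠
        idx (eWords.get (j.cast eWords_length.symm)) := by
      intro heq
      apply hne
      have h2 : (i : ℕ) < (eWords.map idx).length := by
        rw [List.length_map, eWords_length]; exact i.2
      have h3 : (j : ℕ) < (eWords.map idx).length := by
        rw [List.length_map, eWords_length]; exact j.2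
      have h4 : (eWords.map idx)[(i : ℕ)] = (eWords.map idx)[(j : ℕ)] := by
        rw [List.getElem_map, List.getElem_map]
        exact heq
      exact Fin.ext ((List.Nodup.getElem_inj_iff hnd).mp h4)
    exact gl_ne hi hj hne' h1
  have := Nat.card_le_card_of_injective f hinj
  rwa [Nat.card_fin] at this

theorem card_E0 : Nat.card E0 = 8 := by
  have hfin : Finite K := inferInstance
  exact le_antisymm (card_le_eight_of_exp_two K E0 card_K E0_le E0_exp) card_E0_ge

end Ree3
end Cfsg.Agent.Helper57
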