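import Cfsg.Agent.Lib.Helper57.Ree3Grp5

set_option autoImplicit false

namespace Cfsg.Agent.Helper57
namespace Ree3

open Cfsg.Lie TriMat Matrix

/-- Elements of `K` given by words. -/
def mk (l : List Bool) (h : idx l < 504) : K := ⟨gl l, mem_K_of_idx h⟩

theorem lx_lt : idx lx < 504 := by decide +kernel
theorem ly_lt : idx ly < 504 := by decide +kernel

theorem mk_pow_eq_one {l : List Bool} (h : idx l < 504) (n : ℕ) (hn : idx (rep n l) = 0) :
    mk l h ^ n = 1 := by
  apply Subtype.ext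
  rw [Subgroup.coe_pow]
  show gl l ^ n = 1
  rw [← gl_rep]
  exact gl_eq_one hn

theorem mk_mul {l₁ l₂ : List Bool} (h₁ : idx l₁ < 504) (h₂ : idx l₂ < 504)
    (h : idx (l₁ ++ l₂) < 504) : mk l₁ h₁ * mk l₂ h₂ = mk (l₁ ++ l₂) h := by
  apply Subtype.ext
  show gl l₁ * gl l₂ = gl (l₁ ++ l₂)
  rw [gl_append]

theorem mk_ne_one {l : List Bool} (h : idx l < 504) (h0 : idx l ≠ 0) : mk l h ≠ 1 := by
  intro heq
  have h1 : gl l = 1 := congrArg Subtype.val heq
  have h2 : gl l ≠ gl [] := gl_ne h (by decide) h0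
  apply h2
  rw [h1]
  exact (gl_eq_one (l := []) rfl).symm

theorem gen_K : Subgroup.closure {mk lx lx_lt, mk ly ly_lt} = (⊤ : Subgroup K) := by
  have h := Subgroup.closure_closure_coe_preimage (k := ({gl lx, gl ly} : Set GLn))
  have hset : (((↑) : Subgroup.closure ({gl lx, gl ly} : Set GLn) → GLn) ⁻¹' {gl lx, gl ly}) =
      ({mk lx lx_lt, mk ly ly_lt} : Set K) := by
    ext g
    constructor
    · rintro (hg | hg)
      · left; exact Subtype.ext hg
      · right; exact Subtype.ext hg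
    · rintro (hg | hg)
      · exact Or.inl (by rw [hg]; rfl)
      · exact Or.inr (by rw [hg]; rfl)
  rw [hset] at h
  exact h

theorem simple_K : IsSimpleGroup K := by
  have hfin : Finite K := inferInstance
  have hst := F9_st
  have huv := F9_uv
  refine isSimpleGroup_of_card_504 card_K (mk lx lx_lt) (mk ly ly_lt)
    (mk_pow_eq_one _ 7 F5x) (mk_pow_eq_one _ 7 F5y) gen_K perfect_K
    (mk ls F9_s) (mk lt F9_t) (mk_pow_eq_one _ 2 F9_s2) (mk_pow_eq_one _ 2 F9_t2) ?_ ?_
    (mk lu F9_u) (mk lv F9_v) (mk_pow_eq_one _ 9 F9_u9) (mk_pow_eq_one _ 9 F9_v9) ?_ ?_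
    (E0.subgroupOf K) ?_ ?_
  · rw [mk_mul _ _ hst.1]
    exact mk_pow_eq_one _ 7 F9_st7
  · rw [mk_mul _ _ hst.1]
    exact mk_ne_one _ hst.2
  · rw [mk_mul _ _ huv.1]
    exact mk_pow_eq_one _ 7 F9_uv7
  · rw [mk_mul _ _ huv.1]
    exact mk_ne_one _ huv.2
  · rw [Nat.card_congr (Subgroup.subgroupOfEquivOfLe E0_le).toEquiv]
    exact card_E0
  · intro a ha b hb
    apply Subtype.ext
    exact E0_comm a.1 ha b.1 hb

/-- The derived subgroup of the Ree group is `K`. -/
theorem commutator_G3 : ⁅G3, G3⁆ = K := by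
  rw [G3_eq_G2]
  exact commutator_G2

theorem card_derived : Nat.card (commutator G3) = 504 := by
  rw [derived_card_of_eq G3 K commutator_G3]
  exact card_K

theorem simple_derived : IsSimpleGroup (commutator G3) :=
  derived_simple_of_eq G3 K commutator_G3 simple_K

end Ree3
end Cfsg.Agent.Helper57
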