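import Cfsg.Agent.Lib.Helper57.Ree3Data

set_option autoImplicit false

namespace Cfsg.Agent.Helper57
namespace Ree3

open Cfsg.Lie TriMat Matrix

theorem pos_inj : Function.Injective pos := by decide

theorem pos_lt : ∀ b, pos b < 14 := by decide

theorem pos_surj : ∀ j < 14, ∃ a, pos a = j := by decide

/-- Apply a word in root elements to a coded matrix (left multiplication). -/
def applyWord (wd : List (ℕ × ℕ)) (c : ℕ × ℕ) : ℕ × ℕ :=
  wd.foldr (fun p acc => mulCode 14 (ERN p.1 p.2) acc) c

/-- The word of the generator `a` (`true`) or `b` (`false`). -/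
def genWord (β : Bool) : List (ℕ × ℕ) := if β then wordUN 1 0 0 else wordVN 1 0 0

/-- The main table check. -/
def check1 : Bool :=
  [true, false].all fun β => (List.range 1512).all fun k =>
    decide (wN β k < 1512) && decide (applyWord (genWord β) (T k) = T (wN β k))

theorem check1_true : check1 = true := by decide +kernel

theorem hw (β : Bool) (k : ℕ) (hk : k < 1512) :
    wN β k < 1512 ∧ applyWord (genWord β) (T k) = T (wN β k) := by
  have h := check1_true
  unfold check1 at h
  rw [List.all_eq_true] at h
  have h1 := h β (by cases β <;> simp)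
  rw [List.all_eq_true] at h1
  have h2 := h1 k (List.mem_range.mpr hk)
  rw [Bool.and_eq_true, decide_eq_true_eq, decide_eq_true_eq] at h2
  exact h2

/-- The generators of the frozen definition are table entries. -/
def check3 : Bool :=
  (List.range 3).all fun t => (List.range 3).all fun u => (List.range 3).all fun v =>
    decide (applyWord (wordUN t u v) (T 0) = T (kU t u v)) &&
    decide (applyWord (wordVN t u v) (T 0) = T (kV t u v))

theorem check3_true : check3 = true := by decide +kernel

theorem hgenU (t u v : ℕ) (ht : t < 3) (hu : u < 3) (hv : v < 3) :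
    applyWord (wordUN t u v) (T 0) = T (kU t u v) ∧
      applyWord (wordVN t u v) (T 0) = T (kV t u v) := by
  have h := check3_true
  unfold check3 at h
  rw [List.all_eq_true] at h
  have h1 := h t (List.mem_range.mpr ht)
  rw [List.all_eq_true] at h1
  have h2 := h1 u (List.mem_range.mpr hu)
  rw [List.all_eq_true] at h2
  have h3 := h2 v (List.mem_range.mpr hv)
  rw [Bool.and_eq_true, decide_eq_true_eq, decide_eq_true_eq] at h3
  exact h3

/-- Injectivity and normalization on the first 504 entries. -/
def check4 : Bool :=
  (List.range 504).all fun i =>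
    decide (Normalized 14 (T i)) && (List.range i).all fun j => decide (T i ≠ T j)

theorem check4_true : check4 = true := by decide +kernel

theorem T_norm (i : ℕ) (hi : i < 504) : Normalized 14 (T i) := by
  have h := check4_true
  unfold check4 at h
  rw [List.all_eq_true] at h
  have h1 := h i (List.mem_range.mpr hi)
  rw [Bool.and_eq_true, decide_eq_true_eq] at h1
  exact h1.1

theorem T_ne (i j : ℕ) (hi : i < 504) (hj : j < i) : T i ≠ T j := by
  have h := check4_true
  unfold check4 at h
  rw [List.all_eq_true] at h
  have h1 := h i (List.mem_range.mpr hi)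
  rw [Bool.and_eq_true, List.all_eq_true] at h1
  have h2 := h1.2 j (List.mem_range.mpr hj)
  rw [decide_eq_true_eq] at h2
  exact h2

theorem T_inj (i j : ℕ) (hi : i < 504) (hj : j < 504) (h : T i = T j) : i = j := by
  rcases Nat.lt_trichotomy i j with hlt | heq | hgt
  · exact absurd h.symm (T_ne j i hj hlt)
  · exact heq
  · exact absurd h (T_ne i j hi hgt)

end Ree3
end Cfsg.Agent.Helper57
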