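import Cfsg.Agent.Lib.Helper64.S4017Defs

set_option autoImplicit false

/-!
# S4017M (HGEN): generic Lemma H

A solvable `{2, p}`-group `H` with abelian Sylow `p`-subgroups, a Sylow `2`-subgroup `Q` of order
`2 ^ a ≥ 4` and a `p`-element `x` normalising `Q` and transitive on `Q \ {1}`: then `Q ⊴ H`.
-/

namespace Cfsg.Agent.Helper57.S4017M

open Cfsg.Agent.Helper64.S4017

universe u

/-- The hypotheses of (HGEN), bundled. -/
structure HG (H : Type u) [Group H] (a p : ℕ) (Q : Subgroup H) (x : H) : Prop where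
  card : Nat.card Q = 2 ^ a
  syl : ¬ 2 ^ (a + 1) ∣ Nat.card H
  ord : ∀ r : ℕ, r.Prime → r ∣ Nat.card H → r = 2 ∨ r = p
  abel : ∀ P : Sylow p H, ∀ g ∈ P, ∀ h ∈ P, g * h = h * g
  norm : ∀ s ∈ Q, x * s * x⁻¹ ∈ Q
  pel : IsPel p x
  trans : ∀ t ∈ Q, t ≠ 1 → ∀ s ∈ Q, s ≠ 1 → ∃ i : ℕ, x ^ i * t * (x ^ i)⁻¹ = s

variable {H : Type u} [Group H] {a p : ℕ} {Q : Subgroup H} {x : H}

/-- An `x`-invariant subgroup meeting `Q` nontrivially contains `Q`. -/
theorem HG.le_of_mem (h : HG H a p Q x) (N : Subgroup H) (hN : ∀ n ∈ N, x * n * x⁻¹ ∈ N)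
    {t : H} (htQ : t ∈ Q) (ht1 : t ≠ 1) (htN : t ∈ N) : Q ≤ N := by
  have hpow : ∀ i : ℕ, ∀ n ∈ N, x ^ i * n * (x ^ i)⁻¹ ∈ N := by
    intro i
    induction i with
    | zero => intro n hn; simpa using hn
    | succ i ih =>
      intro n hn
      have := hN _ (ih n hn)
      have e : x ^ (i + 1) * n * (x ^ (i + 1))⁻¹ = x * (x ^ i * n * (x ^ i)⁻¹) * x⁻¹ := by
        rw [pow_succ']; group
      rw [e]; exact this
  intro s hs
  by_cases hs1 : s = 1
  · rw [hs1]; exact N.one_mem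
  · obtain ⟨i, hi⟩ := h.trans t htQ ht1 s hs hs1
    rw [← hi]; exact hpow i t htN

variable [Finite H]

/-- `Q` as a Sylow `2`-subgroup. -/
theorem HG.exists_sylow (h : HG H a p Q x) : ∃ S : Sylow 2 H, (S : Subgroup H) = Q := by
  have : Fact (Nat.Prime 2) := ⟨Nat.prime_two⟩
  have hpos : Nat.card H ≠ 0 := Nat.card_pos.ne'
  have h1 : 2 ^ a ∣ Nat.card H := h.card ▸ Subgroup.card_subgroup_dvd_card Q
  have h2 : a ≤ (Nat.card H).factorization 2 :=
    (Nat.Prime.pow_dvd_iff_le_factorization Nat.prime_two hpos).1 h1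
  have h3 : ¬ a + 1 ≤ (Nat.card H).factorization 2 := fun hle =>
    h.syl ((Nat.Prime.pow_dvd_iff_le_factorization Nat.prime_two hpos).2 hle)
  have h4 : (Nat.card H).factorization 2 = a := by omega
  refine ⟨Sylow.ofCard Q (by rw [h4, h.card]), ?_⟩
  simp

/-- A `2`-subgroup is conjugate into `Q`. -/
theorem HG.exists_conj_le (h : HG H a p Q x) (N : Subgroup H) (hN : IsPGroup 2 N) :
    ∃ g : H, ∀ n ∈ N, g * n * g⁻¹ ∈ Q := by
  have : Fact (Nat.Prime 2) := ⟨Nat.prime_two⟩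
  obtain ⟨S, hS⟩ := h.exists_sylow
  obtain ⟨S', hS'⟩ := hN.exists_le_sylow
  obtain ⟨g, hg⟩ := MulAction.exists_smul_eq H S' S
  refine ⟨g, fun n hn => ?_⟩
  have h1 : n ∈ S' := hS' hn
  have h2 : g * n * g⁻¹ ∈ ((g • S' : Sylow 2 H) : Subgroup H) := by
    rw [Sylow.coe_subgroup_smul]
    exact ⟨n, h1, rfl⟩
  rw [hg] at h2
  rw [← hS]; exact h2

/-- If `H` has a nontrivial normal `2`-subgroup then `Q ⊴ H`. -/
theorem HG.normal_of_normal_two (h : HG H a p Q x) (N : Subgroup H) (hNn : N.Normal)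
    (hN : IsPGroup 2 N) (hN1 : N ≠ ⊥) : Q.Normal := by
  obtain ⟨g, hg⟩ := h.exists_conj_le N hN
  have hNQ : N ≤ Q := by
    intro n hn
    have h1 : g⁻¹ * n * g ∈ N := by simpa using hNn.conj_mem n hn g⁻¹
    have := hg _ h1
    simpa [mul_assoc] using this
  obtain ⟨⟨t, htN⟩, ht1⟩ := (Subgroup.ne_bot_iff_exists_ne_one).1 hN1
  have ht1' : t ≠ 1 := fun e => ht1 (Subtype.ext e)
  have hQN : Q ≤ N :=
    h.le_of_mem N (fun n hn => hNn.conj_mem n hn x) (hNQ htN) ht1' htN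
  have : Q = N := le_antisymm hQN hNQ
  rw [this]; exact hNn

omit [Finite H] in
/-- A nontrivial solvable group has a nontrivial abelian normal subgroup. -/
theorem exists_abelian_normal [Nontrivial H] (hsolv : Group.IsSolvable H) :
    ∃ A : Subgroup H, A.Normal ∧ A ≠ ⊥ ∧ ∀ g ∈ A, ∀ h ∈ A, g * h = h * g := by
  classical
  have hex : ∃ n, derivedSeries H n = ⊥ := hsolv.solvable
  have hm_spec : derivedSeries H (Nat.find hex) = ⊥ := Nat.find_spec hex
  have hm0 : Nat.find hex ≠ 0 := by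
    intro h0
    rw [h0, derivedSeries_zero] at hm_spec
    exact top_ne_bot hm_spec
  obtain ⟨k, hk⟩ := Nat.exists_eq_succ_of_ne_zero hm0
  have hk1 : derivedSeries H k ≠ ⊥ := Nat.find_min hex (by omega)
  refine ⟨derivedSeries H k, inferInstance, hk1, ?_⟩
  have hc : ⁅derivedSeries H k, derivedSeries H k⁆ = ⊥ := by
    rw [← derivedSeries_succ, ← Nat.succ_eq_add_one, ← hk]; exact hm_spec
  intro g hg h' hh'
  have h1 := Subgroup.commutator_mem_commutator hg hh'
  rw [hc, Subgroup.mem_bot] at h1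
  exact commutatorElement_eq_one_iff_mul_comm.1 h1

/-- The `n`-torsion of an abelian subgroup. -/
def torOf (A : Subgroup H) (hA : ∀ g ∈ A, ∀ h ∈ A, g * h = h * g) (n : ℕ) : Subgroup H where
  carrier := {g | g ∈ A ∧ g ^ n = 1}
  one_mem' := ⟨A.one_mem, one_pow _⟩
  mul_mem' := by
    rintro g h ⟨hg, hg1⟩ ⟨hh, hh1⟩
    have hc : Commute g h := hA g hg h hh
    exact ⟨A.mul_mem hg hh, by rw [hc.mul_pow, hg1, hh1, one_mul]⟩
  inv_mem' := by
    rintro g ⟨hg, hg1⟩
    exact ⟨A.inv_mem hg, by rw [inv_pow, hg1, inv_one]⟩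

omit [Finite H] in
theorem mem_torOf (A : Subgroup H) (hA : ∀ g ∈ A, ∀ h ∈ A, g * h = h * g) (n : ℕ) (g : H) :
    g ∈ torOf A hA n ↔ g ∈ A ∧ g ^ n = 1 := Iff.rfl

omit [Finite H] in
theorem torOf_normal (A : Subgroup H) (hAn : A.Normal) (hA : ∀ g ∈ A, ∀ h ∈ A, g * h = h * g)
    (n : ℕ) : (torOf A hA n).Normal := by
  constructor
  intro g hg c
  rw [mem_torOf] at hg ⊢
  exact ⟨hAn.conj_mem g hg.1 c, by rw [conj_pow, hg.2]; group⟩

omit [Finite H] in
theorem torOf_isPGroup (A : Subgroup H) (hA : ∀ g ∈ A, ∀ h ∈ A, g * h = h * g) (k : ℕ) :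
    IsPGroup 2 (torOf A hA (2 ^ k)) := by
  rintro ⟨g, hg⟩
  refine ⟨k, Subtype.ext ?_⟩
  rw [mem_torOf] at hg
  simpa using hg.2

/-- A normal `p`-subgroup lies in every Sylow `p`-subgroup. -/
theorem le_sylow_of_normal [Fact p.Prime] (A : Subgroup H) (hAn : A.Normal) (hA : IsPGroup p A)
    (P : Sylow p H) : A ≤ P := by
  obtain ⟨P', hP'⟩ := hA.exists_le_sylow
  obtain ⟨g, hg⟩ := MulAction.exists_smul_eq H P' P
  intro c hc
  have h1 : g⁻¹ * c * g ∈ A := by simpa using hAn.conj_mem c hc g⁻¹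
  have h2 : g * (g⁻¹ * c * g) * g⁻¹ ∈ ((g • P' : Sylow p H) : Subgroup H) := by
    rw [Sylow.coe_subgroup_smul]; exact ⟨_, hP' h1, rfl⟩
  rw [hg] at h2
  simpa [mul_assoc] using h2

/-- No `2`-torsion in a `{2, p}`-group: a `p`-group. -/
theorem HG.isPGroup_of_no_two (h : HG H a p Q x) (hp : p.Prime) (ha : 1 ≤ a) (A : Subgroup H)
    (hA2 : ∀ c ∈ A, c ^ 2 ^ a = 1 → c = 1) : IsPGroup p A := by
  have : Fact p.Prime := ⟨hp⟩
  rw [IsPGroup.iff_orderOf]
  rintro ⟨c, hc⟩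
  rw [Subgroup.orderOf_mk]
  have ho : 0 < orderOf c := orderOf_pos c
  have hodd : ¬ 2 ∣ orderOf c := by
    intro h2
    have h3 : orderOf (c ^ (orderOf c / 2)) = 2 := by
      rw [orderOf_pow_of_dvd (by have := Nat.le_of_dvd ho h2; omega) (Nat.div_dvd_of_dvd h2)]
      exact Nat.div_div_self h2 ho.ne'
    have h4 : (c ^ (orderOf c / 2)) ^ 2 = 1 := by
      have h4' := pow_orderOf_eq_one (c ^ (orderOf c / 2))
      rwa [h3] at h4'
    have h5 : (c ^ (orderOf c / 2)) ^ 2 ^ a = 1 := by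
      obtain ⟨b, rfl⟩ : ∃ b, a = b + 1 := ⟨a - 1, by omega⟩
      rw [pow_succ', pow_mul, h4, one_pow]
    have h6 := hA2 _ (A.pow_mem hc _) h5
    rw [h6, orderOf_one] at h3; omega
  refine ⟨(orderOf c).primeFactorsList.length,
    Nat.eq_prime_pow_of_unique_prime_dvd ho.ne' ?_⟩
  intro d hd hdvd
  rcases h.ord d hd (hdvd.trans (orderOf_dvd_natCard c)) with rfl | rfl
  · exact absurd hdvd hodd
  · rfl

omit [Finite H] in
theorem HG.pow_eq_one (h : HG H a p Q x) {s : H} (hs : s ∈ Q) : s ^ 2 ^ a = 1 := by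
  have h1 : (⟨s, hs⟩ : Q) ^ Nat.card Q = 1 := pow_card_eq_one'
  rw [h.card] at h1
  simpa using congrArg Subtype.val h1

/-- The quotient step: `A` central, a `p`-group without `2`-torsion; induct on `H ⧸ A`. -/
theorem HG.quotient_step (hp : p.Prime) (h : HG H a p Q x)
    (hsolv : Group.IsSolvable H)
    (A : Subgroup H) (hAn : A.Normal) (hA1 : A ≠ ⊥) (hA2 : ∀ c ∈ A, c ^ 2 ^ a = 1 → c = 1)
    (hAp : IsPGroup p A) (hAc : ∀ c ∈ A, ∀ g : H, c * g = g * c)
    (IH : ∀ (H' : Type u) [Group H'] [Finite H'], Nat.card H' < Nat.card H →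
      Group.IsSolvable H' → ∀ (Q' : Subgroup H') (x' : H'), HG H' a p Q' x' → Q'.Normal) :
    Q.Normal := by
  have : Fact p.Prime := ⟨hp⟩
  have hπs : Function.Surjective (QuotientGroup.mk' A) := QuotientGroup.mk'_surjective A
  have hker : (QuotientGroup.mk' A).ker = A := QuotientGroup.ker_mk' A
  obtain ⟨π, hπ⟩ : ∃ π : H →* H ⧸ A, π = QuotientGroup.mk' A := ⟨_, rfl⟩
  rw [← hπ] at hπs hker
  have hQA : ∀ q ∈ Q, q ∈ A → q = 1 := fun q hq hqA => hA2 q hqA (h.pow_eq_one hq)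
  have hcardlt : Nat.card (H ⧸ A) < Nat.card H := by
    have h1 := Subgroup.card_eq_card_quotient_mul_card_subgroup A
    have h2 : 1 < Nat.card A := by
      rw [Finite.one_lt_card_iff_nontrivial]
      exact (Subgroup.nontrivial_iff_ne_bot A).2 hA1
    have h3 : 0 < Nat.card (H ⧸ A) := Nat.card_pos
    nlinarith
  have hdvd : Nat.card (H ⧸ A) ∣ Nat.card H := Subgroup.card_quotient_dvd_card A
  have hG' : HG (H ⧸ A) a p (Q.map π) (π x) := by
    refine ⟨?_, fun hd => h.syl (hd.trans hdvd), fun r hr hrd => h.ord r hr (hrd.trans hdvd),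
      ?_, ?_, ?_, ?_⟩
    · have hinj : Function.Injective (π.comp Q.subtype) := by
        rw [injective_iff_map_eq_one]
        rintro ⟨q, hq⟩ hq1
        have : q ∈ A := by rw [← hker, MonoidHom.mem_ker]; simpa using hq1
        exact Subtype.ext (hQA q hq this)
      have e := Nat.card_congr (MonoidHom.ofInjective hinj).toEquiv
      rw [MonoidHom.range_comp, Subgroup.range_subtype] at e
      rw [← e, h.card]
    · intro P' g' hg' h' hh'
      obtain ⟨g, rfl⟩ := hπs g'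
      obtain ⟨k, rfl⟩ := hπs h'
      have hcom : IsPGroup p ((P' : Subgroup (H ⧸ A)).comap π) :=
        P'.isPGroup'.comap_of_ker_isPGroup π (by rw [hker]; exact hAp)
      obtain ⟨P, hP⟩ := hcom.exists_le_sylow
      have := h.abel P g (hP (Subgroup.mem_comap.2 hg')) k (hP (Subgroup.mem_comap.2 hh'))
      rw [← map_mul, ← map_mul, this]
    · rintro s ⟨s₀, hs₀, rfl⟩
      exact ⟨x * s₀ * x⁻¹, h.norm s₀ hs₀, by simp⟩
    · obtain ⟨j, hj⟩ := h.pel
      have h1 := orderOf_map_dvd π x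
      rw [hj] at h1
      obtain ⟨k, -, hk⟩ := (Nat.dvd_prime_pow hp).1 h1
      exact ⟨k, hk⟩
    · rintro t ⟨t₀, ht₀, rfl⟩ ht1 s ⟨s₀, hs₀, rfl⟩ hs1
      have ht₀1 : t₀ ≠ 1 := by rintro rfl; exact ht1 (map_one π)
      have hs₀1 : s₀ ≠ 1 := by rintro rfl; exact hs1 (map_one π)
      obtain ⟨i, hi⟩ := h.trans t₀ ht₀ ht₀1 s₀ hs₀ hs₀1
      exact ⟨i, by rw [← hi]; simp⟩
  have hsolv' : Group.IsSolvable (H ⧸ A) := Group.isSolvable_of_surjective hπs
  have hQn' : (Q.map π).Normal := IH (H ⧸ A) hcardlt hsolv' _ _ hG'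
  constructor
  intro s hs g
  have h1 : π (g * s * g⁻¹) ∈ Q.map π := by
    have := hQn'.conj_mem (π s) ⟨s, hs, rfl⟩ (π g)
    simpa using this
  obtain ⟨q, hq, hqe⟩ := h1
  have h2 : q⁻¹ * (g * s * g⁻¹) ∈ A := by
    rw [← hker, MonoidHom.mem_ker, map_mul, map_inv, hqe]; exact inv_mul_cancel _
  obtain ⟨c, hc⟩ : ∃ c, c = q⁻¹ * (g * s * g⁻¹) := ⟨_, rfl⟩
  rw [← hc] at h2
  have h3 : g * s * g⁻¹ = q * c := by rw [hc]; group
  have hcq : Commute q c := (hAc c h2 q).symm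
  have h4 : (g * s * g⁻¹) ^ 2 ^ a = 1 := by
    rw [conj_pow, h.pow_eq_one hs]; group
  have h6 : c ^ 2 ^ a = 1 := by
    rw [h3, hcq.mul_pow, h.pow_eq_one hq, one_mul] at h4; exact h4
  have h7 : c = 1 := hA2 c h2 h6
  rw [h3, h7, mul_one]; exact hq

omit [Finite H] in
theorem isPGroup_zpowers {x : H} (hx : IsPel p x) :
    IsPGroup p (Subgroup.zpowers x) := by
  obtain ⟨j, hj⟩ := hx
  rintro ⟨g, hg⟩
  obtain ⟨k, rfl⟩ := Subgroup.mem_zpowers_iff.1 hg
  refine ⟨j, Subtype.ext ?_⟩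
  have h1 : (x ^ k) ^ p ^ j = 1 := by
    rw [← zpow_natCast, ← zpow_mul, mul_comm, zpow_mul, zpow_natCast, ← hj, pow_orderOf_eq_one,
      one_zpow]
  simpa using h1

/-- The inductive step. -/
theorem HG.step (hp : p.Prime) (ha : 2 ≤ a) (h : HG H a p Q x) (hsolv : Group.IsSolvable H)
    (IH : ∀ (H' : Type u) [Group H'] [Finite H'], Nat.card H' < Nat.card H →
      Group.IsSolvable H' → ∀ (Q' : Subgroup H') (x' : H'), HG H' a p Q' x' → Q'.Normal) :
    Q.Normal := by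
  classical
  have : Fact p.Prime := ⟨hp⟩
  have hQ4 : 4 ≤ Nat.card Q := by
    rw [h.card]
    calc 4 = 2 ^ 2 := rfl
      _ ≤ 2 ^ a := Nat.pow_le_pow_right (by norm_num) ha
  have hnt : Nontrivial H := by
    rw [← Finite.one_lt_card_iff_nontrivial]
    have := Nat.le_of_dvd Nat.card_pos (Subgroup.card_subgroup_dvd_card Q)
    omega
  obtain ⟨A, hAn, hA1, hAab⟩ := exists_abelian_normal hsolv
  by_cases hT : torOf A hAab (2 ^ a) = ⊥
  swap
  · exact h.normal_of_normal_two _ (torOf_normal A hAn hAab _) (torOf_isPGroup A hAab a) hT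
  have hA2 : ∀ c ∈ A, c ^ 2 ^ a = 1 → c = 1 := by
    intro c hc hc1
    have hm : c ∈ torOf A hAab (2 ^ a) := ⟨hc, hc1⟩
    rw [hT, Subgroup.mem_bot] at hm; exact hm
  have hAp : IsPGroup p A := h.isPGroup_of_no_two hp (by omega) A hA2
  have hKn : (Subgroup.centralizer (A : Set H)).Normal := by
    have := hAn
    infer_instance
  have hPK : ∀ P : Sylow p H, (P : Subgroup H) ≤ Subgroup.centralizer (A : Set H) := by
    intro P g hg
    rw [Subgroup.mem_centralizer_iff]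
    intro c hc
    exact h.abel P c (le_sylow_of_normal A hAn hAp P hc) g hg
  by_cases hcase : ∃ t ∈ Q, t ≠ 1 ∧ t ∈ Subgroup.centralizer (A : Set H)
  · obtain ⟨t, htQ, ht1, htK⟩ := hcase
    have hQK : Q ≤ Subgroup.centralizer (A : Set H) :=
      h.le_of_mem _ (fun n hn => hKn.conj_mem n hn x) htQ ht1 htK
    have hKtop : Subgroup.centralizer (A : Set H) = ⊤ := by
      rw [← Subgroup.index_eq_one]
      by_contra hne
      obtain ⟨r, hr, hrd⟩ := Nat.exists_prime_and_dvd hne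
      have hrH : r ∣ Nat.card H := hrd.trans (Subgroup.index_dvd_card _)
      obtain ⟨S, hS⟩ := h.exists_sylow
      rcases h.ord r hr hrH with rfl | rfl
      · have : Fact (Nat.Prime 2) := ⟨Nat.prime_two⟩
        have h1 : (Subgroup.centralizer (A : Set H)).index ∣ (S : Subgroup H).index :=
          Subgroup.index_dvd_of_le (hS ▸ hQK)
        exact S.not_dvd_index (hrd.trans h1)
      · obtain ⟨P⟩ : Nonempty (Sylow r H) := inferInstance
        have h1 : (Subgroup.centralizer (A : Set H)).index ∣ (P : Subgroup H).index :=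
          Subgroup.index_dvd_of_le (hPK P)
        exact P.not_dvd_index (hrd.trans h1)
    have hAc : ∀ c ∈ A, ∀ g : H, c * g = g * c := by
      intro c hc g
      have hg : g ∈ Subgroup.centralizer (A : Set H) := by rw [hKtop]; trivial
      exact Subgroup.mem_centralizer_iff.1 hg c hc
    exact HG.quotient_step hp h hsolv A hAn hA1 hA2 hAp hAc IH
  · exfalso
    push Not at hcase
    obtain ⟨P, hP⟩ := (isPGroup_zpowers h.pel).exists_le_sylow
    have hxK : x ∈ Subgroup.centralizer (A : Set H) := hPK P (hP (Subgroup.mem_zpowers x))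
    have hfix : ∀ s ∈ Q, x * s * x⁻¹ = s := by
      intro s hs
      have h1 : x * s * x⁻¹ * s⁻¹ ∈ Q := Q.mul_mem (h.norm s hs) (Q.inv_mem hs)
      have h2 : x * s * x⁻¹ * s⁻¹ ∈ Subgroup.centralizer (A : Set H) := by
        have h3 := hKn.conj_mem x⁻¹ (Subgroup.inv_mem _ hxK) s
        have h4 := Subgroup.mul_mem _ hxK h3
        have e : x * (s * x⁻¹ * s⁻¹) = x * s * x⁻¹ * s⁻¹ := by group
        rwa [e] at h4
      by_contra hne
      exact hcase _ h1 (fun e => hne (by rw [mul_inv_eq_one] at e; exact e)) h2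
    have hfixi : ∀ i : ℕ, ∀ s ∈ Q, x ^ i * s * (x ^ i)⁻¹ = s := by
      intro i s hs
      have hc : Commute x s := by
        have := hfix s hs
        rw [mul_inv_eq_iff_eq_mul] at this
        exact this
      have := hc.pow_left i
      rw [mul_inv_eq_iff_eq_mul]; exact this
    -- two distinct nontrivial elements of `Q`
    have : Fintype Q := Fintype.ofFinite Q
    have h3 : 2 < Fintype.card Q := by rw [← Nat.card_eq_fintype_card]; omega
    obtain ⟨u, v, w, huv, huw, hvw⟩ := Fintype.two_lt_card_iff.1 h3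
    have key : ∀ t s : Q, t ≠ 1 → s ≠ 1 → t ≠ s → False := by
      intro t s ht hs hts
      obtain ⟨i, hi⟩ := h.trans t t.2 (fun e => ht (Subtype.ext e)) s s.2
        (fun e => hs (Subtype.ext e))
      rw [hfixi i t t.2] at hi
      exact hts (Subtype.ext hi)
    by_cases hu : u = 1
    · exact key v w (fun e => huv (hu.trans e.symm)) (fun e => huw (hu.trans e.symm)) hvw
    · by_cases hv : v = 1
      · exact key u w hu (fun e => hvw (hv.trans e.symm)) huw
      · exact key u v hu hv huv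

/-- Strong induction on `|H|`. -/
theorem HG.normal_aux (hp : p.Prime) (ha : 2 ≤ a) (n : ℕ) :
    ∀ (H : Type u) [Group H] [Finite H], Nat.card H = n → Group.IsSolvable H →
      ∀ (Q : Subgroup H) (x : H), HG H a p Q x → Q.Normal := by
  induction n using Nat.strong_induction_on with
  | _ n ih =>
    intro H _ _ hn hsolv Q x h
    refine HG.step hp ha h hsolv ?_
    intro H' _ _ hlt hsolv' Q' x' h'
    exact ih (Nat.card H') (hn ▸ hlt) H' rfl hsolv' Q' x' h'

end Cfsg.Agent.Helper57.S4017M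

namespace Cfsg.Agent.Helper57.S4017M

open Cfsg.Agent.Helper64.S4017

set_option linter.unusedVariables false in
/-- (HGEN) generic Lemma H. -/
theorem normal_of_transitive {H : Type*} [Group H] [Finite H] (hsolv : Group.IsSolvable H)
    {a p : ℕ} (hp : p.Prime) (hp2 : p ≠ 2) (ha : 2 ≤ a)
    (Q : Subgroup H) (hcard : Nat.card Q = 2 ^ a) (hsyl : ¬ 2 ^ (a + 1) ∣ Nat.card H)
    (hord : ∀ r : ℕ, r.Prime → r ∣ Nat.card H → r = 2 ∨ r = p)
    (habel : ∀ P : Sylow p H, ∀ g ∈ P, ∀ h ∈ P, g * h = h * g)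
    (x : H) (hx : ∀ s ∈ Q, x * s * x⁻¹ ∈ Q) (hxp : IsPel p x)
    (htrans : ∀ t ∈ Q, t ≠ 1 → ∀ s ∈ Q, s ≠ 1 → ∃ i : ℕ, x ^ i * t * (x ^ i)⁻¹ = s) :
    Q.Normal :=
  HG.normal_aux hp ha (Nat.card H) H rfl hsolv Q x ⟨hcard, hsyl, hord, habel, hx, hxp, htrans⟩

end Cfsg.Agent.Helper57.S4017M
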