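import Mathlib
import Cfsg.Agent.Lib.Helper57.GLSylowA
import Cfsg.Agent.Lib.Helper57.GLSylowF

set_option autoImplicit false

namespace Cfsg.Agent.Helper57

open Equiv Matrix

/-- determinant of a coordinate permutation -/
theorem det_funLeft_perm {R : Type*} [CommRing R] {n : ℕ} (σ : Perm (Fin n)) :
    LinearMap.det (LinearMap.funLeft R R σ) = (((Perm.sign σ : ℤˣ) : ℤ) : R) := by
  have h : LinearMap.funLeft R R σ = Matrix.toLin' (σ.permMatrix R) := by
    apply LinearMap.ext
    intro a
    rw [Matrix.toLin'_apply]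
    unfold Equiv.Perm.permMatrix
    rw [PEquiv.toMatrix_toPEquiv_mulVec]
    rfl
  rw [h, LinearMap.det_toLin', Matrix.det_permutation]

theorem intCast_sign_sq {R : Type*} [CommRing R] {n : ℕ} (σ : Perm (Fin n)) :
    ((((Perm.sign σ : ℤˣ) : ℤ) : R)) ^ 2 = 1 := by
  rcases Int.units_eq_one_or (Perm.sign σ) with h | h <;> rw [h] <;> simp

section gl
variable {F : Type*} [Field F] {V : Type*} [AddCommGroup V] [Module F V]

/-- the determinant of the matrix of a linear automorphism -/
theorem det_toGLEquiv {n : ℕ} (b : Module.Basis (Fin n) F V) (x : V ≃ₗ[F] V) :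
    ((Matrix.GeneralLinearGroup.det (toGLEquiv b x) : Fˣ) : F) =
      LinearMap.det (x : V →ₗ[F] V) := by
  change (LinearMap.toMatrix b b (x : V →ₗ[F] V)).det = _
  exact LinearMap.det_toMatrix b _

end gl

section linU
variable {F : Type*} [Field F] (E : Type*) [Field E] [Algebra F E] [Module.Finite F E] (w s : ℕ)

/-- determinant of the base group acting on `E^w × F^s` -/
theorem det_baseLinU (f : Fin w → (E ≃ₗ[F] E)) :
    LinearMap.det ((baseLinU (F := F) E w s f : WU (F := F) E w s ≃ₗ[F] WU (F := F) E w s) :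
      WU (F := F) E w s →ₗ[F] WU (F := F) E w s) =
      ∏ i, LinearMap.det ((f i : E ≃ₗ[F] E) : E →ₗ[F] E) := by
  have h : ((baseLinU (F := F) E w s f : WU (F := F) E w s ≃ₗ[F] WU (F := F) E w s) :
      WU (F := F) E w s →ₗ[F] WU (F := F) E w s) =
      LinearMap.prodMap (LinearMap.pi fun i => ((f i : E ≃ₗ[F] E) : E →ₗ[F] E) ∘ₗ
        LinearMap.proj i) LinearMap.id := by
    apply LinearMap.ext
    intro v
    rfl
  rw [h, LinearMap.det_prodMap, LinearMap.det_pi, LinearMap.det_id, mul_one]

/-- determinant of the block permutations acting on `E^w × F^s`, `[E:F] = 2` -/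
theorem det_topLinU (h2 : Module.finrank F E = 2) (σ : Perm (Fin w)) :
    LinearMap.det ((topLinU (F := F) E w s σ : WU (F := F) E w s ≃ₗ[F] WU (F := F) E w s) :
      WU (F := F) E w s →ₗ[F] WU (F := F) E w s) = 1 := by
  have h : ((topLinU (F := F) E w s σ : WU (F := F) E w s ≃ₗ[F] WU (F := F) E w s) :
      WU (F := F) E w s →ₗ[F] WU (F := F) E w s) =
      LinearMap.prodMap ((LinearMap.funLeft E E (σ⁻¹ : Perm (Fin w))).restrictScalars F)
        LinearMap.id := by
    apply LinearMap.ext
    intro v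
    rfl
  rw [h, LinearMap.det_prodMap, LinearMap.det_id, mul_one, LinearMap.det_restrictScalars,
    det_funLeft_perm]
  have : ((((Perm.sign (σ⁻¹ : Perm (Fin w)) : ℤˣ) : ℤ) : E)) =
      algebraMap F E ((((Perm.sign (σ⁻¹ : Perm (Fin w)) : ℤˣ) : ℤ) : F)) := by
    rw [map_intCast]
  rw [this, Algebra.norm_algebraMap, h2, intCast_sign_sq]

/-- determinant of the monomial group acting on `E^w × F^s`, `[E:F] = 2` -/
theorem det_monoLinU (h2 : Module.finrank F E = 2)
    (x : (Fin w → (E ≃ₗ[F] E)) ⋊[piAct w (E ≃ₗ[F] E)] Perm (Fin w)) :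
    LinearMap.det ((monoLinU (F := F) E w s x : WU (F := F) E w s ≃ₗ[F] WU (F := F) E w s) :
      WU (F := F) E w s →ₗ[F] WU (F := F) E w s) =
      ∏ i, LinearMap.det ((x.left i : E ≃ₗ[F] E) : E →ₗ[F] E) := by
  have h : ((monoLinU (F := F) E w s x : WU (F := F) E w s ≃ₗ[F] WU (F := F) E w s) :
      WU (F := F) E w s →ₗ[F] WU (F := F) E w s) =
      ((baseLinU (F := F) E w s x.left : WU (F := F) E w s ≃ₗ[F] WU (F := F) E w s) :
        WU (F := F) E w s →ₗ[F] WU (F := F) E w s) ∘ₗ
      ((topLinU (F := F) E w s x.right : WU (F := F) E w s ≃ₗ[F] WU (F := F) E w s) :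
        WU (F := F) E w s →ₗ[F] WU (F := F) E w s) := by
    apply LinearMap.ext
    intro v
    rfl
  rw [h, LinearMap.det_comp, det_baseLinU, det_topLinU E w s h2, mul_one]

theorem monoLinU_injective : Function.Injective (monoLinU (F := F) E w s) := by
  intro x y hxy
  have h1 : fullLinU (F := F) E w s (x, 1) = fullLinU (F := F) E w s (y, 1) := by
    change monoLinU (F := F) E w s x * diagLinU (F := F) E w s 1 =
      monoLinU (F := F) E w s y * diagLinU (F := F) E w s 1
    rw [hxy]
  have h3 := fullLinU_injective (F := F) E w s h1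
  exact congrArg Prod.fst h3

end linU

section lin1
variable {F : Type*} [Field F] (w s : ℕ)

/-- determinant of the diagonal group acting on `F^w × F^s` -/
theorem det_baseLin (f : Fin w → Fˣ) :
    LinearMap.det ((baseLin (F := F) F w s f : WV (F := F) F w s ≃ₗ[F] WV (F := F) F w s) :
      WV (F := F) F w s →ₗ[F] WV (F := F) F w s) = ∏ i, (f i : F) := by
  have h : ((baseLin (F := F) F w s f : WV (F := F) F w s ≃ₗ[F] WV (F := F) F w s) :
      WV (F := F) F w s →ₗ[F] WV (F := F) F w s) =
      LinearMap.prodMap (LinearMap.pi fun i => (LinearMap.mulLeft F (f i : F)) ∘ₗ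
        LinearMap.proj i) LinearMap.id := by
    apply LinearMap.ext
    intro v
    rfl
  rw [h, LinearMap.det_prodMap, LinearMap.det_pi, LinearMap.det_id, mul_one]
  apply Finset.prod_congr rfl
  intro i _
  exact LinearMap.det_mulLeft _

/-- determinant of the permutations acting on `F^w × F^s` -/
theorem det_topLin (σ : Perm (Fin w)) :
    LinearMap.det ((topLin (F := F) F w s σ : WV (F := F) F w s ≃ₗ[F] WV (F := F) F w s) :
      WV (F := F) F w s →ₗ[F] WV (F := F) F w s) =
      (((Perm.sign σ : ℤˣ) : ℤ) : F) := by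
  have h : ((topLin (F := F) F w s σ : WV (F := F) F w s ≃ₗ[F] WV (F := F) F w s) :
      WV (F := F) F w s →ₗ[F] WV (F := F) F w s) =
      LinearMap.prodMap (LinearMap.funLeft F F (σ⁻¹ : Perm (Fin w))) LinearMap.id := by
    apply LinearMap.ext
    intro v
    rfl
  rw [h, LinearMap.det_prodMap, LinearMap.det_id, mul_one, det_funLeft_perm, Perm.sign_inv]

/-- determinant of the monomial group acting on `F^w × F^s` -/
theorem det_monoLin (x : (Fin w → Fˣ) ⋊[piAct w Fˣ] Perm (Fin w)) :
    LinearMap.det ((monoLin (F := F) F w s x : WV (F := F) F w s ≃ₗ[F] WV (F := F) F w s) :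
      WV (F := F) F w s →ₗ[F] WV (F := F) F w s) =
      (∏ i, (x.left i : F)) * (((Perm.sign x.right : ℤˣ) : ℤ) : F) := by
  have h : ((monoLin (F := F) F w s x : WV (F := F) F w s ≃ₗ[F] WV (F := F) F w s) :
      WV (F := F) F w s →ₗ[F] WV (F := F) F w s) =
      ((baseLin (F := F) F w s x.left : WV (F := F) F w s ≃ₗ[F] WV (F := F) F w s) :
        WV (F := F) F w s →ₗ[F] WV (F := F) F w s) ∘ₗ
      ((topLin (F := F) F w s x.right : WV (F := F) F w s ≃ₗ[F] WV (F := F) F w s) :
        WV (F := F) F w s →ₗ[F] WV (F := F) F w s) := by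
    rw [monoLin_apply]
    rfl
  rw [h, LinearMap.det_comp, det_baseLin, det_topLin]

end lin1

end Cfsg.Agent.Helper57
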