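import Mathlib
import Cfsg.Agent.Lib.Helper57.SLOddA

set_option autoImplicit false

namespace Cfsg.Agent.Helper57

open Equiv
open scoped commutatorElement

/-- a subgroup generated by elements whose squares lie in its derived subgroup -/
theorem sq_mem_commutator_of_gen_sub {G : Type*} [Group G] (K : Subgroup G) (S : Set G)
    (hSK : S ⊆ K) (hK : K ≤ Subgroup.closure S) (hS : ∀ g ∈ S, g ^ 2 ∈ ⁅K, K⁆) :
    ∀ x ∈ K, x ^ 2 ∈ ⁅K, K⁆ := by
  intro x hx
  have key : x ∈ K ∧ x ^ 2 ∈ ⁅K, K⁆ := by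
    refine Subgroup.closure_induction (p := fun x _ => x ∈ K ∧ x ^ 2 ∈ ⁅K, K⁆) ?_ ?_ ?_ ?_
      (hK hx)
    · intro g hg
      exact ⟨hSK hg, hS g hg⟩
    · exact ⟨K.one_mem, by rw [one_pow]; exact Subgroup.one_mem _⟩
    · rintro a b _ _ ⟨ha, ha2⟩ ⟨hb, hb2⟩
      refine ⟨K.mul_mem ha hb, ?_⟩
      have h1 : (a * b) ^ 2 = a ^ 2 * ⁅a⁻¹, b⁆ * b ^ 2 := by
        rw [commutatorElement_def, sq, sq, sq]
        group
      rw [h1]
      exact Subgroup.mul_mem _ (Subgroup.mul_mem _ ha2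
        (Subgroup.commutator_mem_commutator (K.inv_mem ha) hb)) hb2
    · rintro a _ ⟨ha, ha2⟩
      refine ⟨K.inv_mem ha, ?_⟩
      rw [inv_pow]
      exact Subgroup.inv_mem _ ha2
  exact key.2

theorem piAct_mulSingle {w : ℕ} (C : Type*) [Group C] (σ : Perm (Fin w)) (i : Fin w) (u : C) :
    piAct w C σ (Pi.mulSingle i u) = Pi.mulSingle (σ i) u := by
  funext l
  rw [piAct_apply]
  by_cases hl : l = σ i
  · subst hl
    have h0 : σ⁻¹ (σ i) = i := by simp
    rw [h0, Pi.mulSingle_eq_same, Pi.mulSingle_eq_same]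
  · have h1 : σ⁻¹ l ≠ i := by
      intro h
      apply hl
      rw [← h]
      simp
    rw [Pi.mulSingle_eq_of_ne h1, Pi.mulSingle_eq_of_ne hl]

/-- kernel of a "determinant" on a wreath product, case where the base group has a
complement of its kernel generated by an involution -/
theorem sq_mem_ker_wr_a {w : ℕ} {X H A : Type*} [Group X] [Group H] [CommGroup A]
    (ι : H →* Perm (Fin w)) (χ : X →* A) (s : X) (hs2 : s * s = 1)
    (hcov : ∀ x : X, χ x = 1 ∨ χ (x * s) = 1)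
    (hsq : ∀ x ∈ χ.ker, x ^ 2 ∈ ⁅χ.ker, χ.ker⁆)
    (hH : Subgroup.closure {h : H | h ^ 2 = 1} = ⊤)
    (K : Subgroup ((Fin w → X) ⋊[(piAct w X).comp ι] H))
    (hK : ∀ y, y ∈ K ↔ ∏ i, χ (y.left i) = 1) :
    ∀ y ∈ K, y ^ 2 ∈ ⁅K, K⁆ := by
  classical
  let inlW : (Fin w → X) →* (Fin w → X) ⋊[(piAct w X).comp ι] H := SemidirectProduct.inl
  let inrW : H →* (Fin w → X) ⋊[(piAct w X).comp ι] H := SemidirectProduct.inr
  have hinl : ∀ f : Fin w → X, inlW f ∈ K ↔ ∏ i, χ (f i) = 1 := by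
    intro f
    rw [hK]
    rfl
  have hinr : ∀ h : H, inrW h ∈ K := by
    intro h
    rw [hK]
    apply Finset.prod_eq_one
    intro i _
    change χ ((1 : Fin w → X) i) = 1
    rw [Pi.one_apply, map_one]
  -- elements of the base group with entries in the derived subgroup of `ker χ`
  have hbase : ∀ g : Fin w → X, (∀ i, g i ∈ ⁅χ.ker, χ.ker⁆) → inlW g ∈ ⁅K, K⁆ := by
    intro g hg
    have hle : ∀ i, (⁅χ.ker, χ.ker⁆).map (inlW.comp (MonoidHom.mulSingle (fun _ => X) i)) ≤
        ⁅K, K⁆ := by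
      intro i
      have hi : (χ.ker).map (inlW.comp (MonoidHom.mulSingle (fun _ => X) i)) ≤ K := by
        rintro _ ⟨x, hx, rfl⟩
        change inlW (Pi.mulSingle i x) ∈ K
        rw [hinl]
        apply Finset.prod_eq_one
        intro j _
        by_cases hj : j = i
        · subst hj
          rw [Pi.mulSingle_eq_same]
          exact MonoidHom.mem_ker.mp hx
        · rw [Pi.mulSingle_eq_of_ne hj, map_one]
      rw [Subgroup.map_commutator]
      exact Subgroup.commutator_mono hi hi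
    have hmem : g ∈ (⁅K, K⁆).comap inlW := by
      rw [← Finset.noncommProd_mulSingle g]
      apply Subgroup.noncommProd_mem
      intro i _
      exact hle i ⟨g i, hg i, rfl⟩
    exact hmem
  apply sq_mem_commutator_of_gen_sub K
    (({y | ∃ f : Fin w → X, (∀ i, χ (f i) = 1) ∧ y = inlW f} ∪
      {y | ∃ f : Fin w → X, (∀ i, f i = 1 ∨ f i = s) ∧ ∏ i, χ (f i) = 1 ∧ y = inlW f}) ∪
      inrW '' {h : H | h ^ 2 = 1})
  · rintro y ((⟨f, hf, rfl⟩ | ⟨f, _, hp, rfl⟩) | ⟨h, _, rfl⟩)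
    · rw [SetLike.mem_coe, hinl]
      exact Finset.prod_eq_one (fun i _ => hf i)
    · rw [SetLike.mem_coe, hinl]
      exact hp
    · exact hinr h
  · intro y hy
    rw [← SemidirectProduct.inl_left_mul_inr_right y]
    apply Subgroup.mul_mem
    · -- the base part
      have hy' : ∏ i, χ (y.left i) = 1 := (hK y).mp hy
      have hex : ∀ i, ∃ t : X, (t = 1 ∨ t = s) ∧ t * t = 1 ∧ χ (y.left i * t) = 1 := by
        intro i
        by_cases h : χ (y.left i) = 1
        · exact ⟨1, Or.inl rfl, mul_one 1, by rw [mul_one]; exact h⟩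
        · exact ⟨s, Or.inr rfl, hs2, (hcov (y.left i)).resolve_left h⟩
      choose f₂ hf₂a hf₂b hf₂c using hex
      have hdec : y.left = (fun i => y.left i * f₂ i) * f₂ := by
        funext i
        rw [Pi.mul_apply, mul_assoc, hf₂b, mul_one]
      have hχ : ∀ i, χ (f₂ i) = χ (y.left i) := by
        intro i
        have h1 : χ (y.left i) = χ (y.left i * f₂ i * f₂ i) := by
          rw [mul_assoc, hf₂b, mul_one]
        rw [h1, map_mul, hf₂c, one_mul]
      rw [hdec, map_mul]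
      apply Subgroup.mul_mem
      · apply Subgroup.subset_closure
        left
        left
        exact ⟨_, hf₂c, rfl⟩
      · apply Subgroup.subset_closure
        left
        right
        refine ⟨f₂, hf₂a, ?_, rfl⟩
        rw [← hy']
        exact Finset.prod_congr rfl (fun i _ => hχ i)
    · have hle : (Subgroup.closure {h : H | h ^ 2 = 1}).map inrW ≤
          Subgroup.closure
            (({y | ∃ f : Fin w → X, (∀ i, χ (f i) = 1) ∧ y = inlW f} ∪
              {y | ∃ f : Fin w → X, (∀ i, f i = 1 ∨ f i = s) ∧ ∏ i, χ (f i) = 1 ∧ y = inlW f}) ∪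
              inrW '' {h : H | h ^ 2 = 1}) := by
        rw [MonoidHom.map_closure]
        apply Subgroup.closure_mono
        exact Set.subset_union_right
      apply hle
      rw [hH]
      exact ⟨y.right, Subgroup.mem_top _, rfl⟩
  · rintro g ((⟨f, hf, rfl⟩ | ⟨f, hf, _, rfl⟩) | ⟨h, hh, rfl⟩)
    · rw [← map_pow]
      apply hbase
      intro i
      rw [Pi.pow_apply]
      exact hsq (f i) (MonoidHom.mem_ker.mpr (hf i))
    · rw [← map_pow]
      have h1 : f ^ 2 = 1 := by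
        funext i
        rw [Pi.pow_apply, Pi.one_apply, sq]
        rcases hf i with h | h <;> rw [h]
        · rw [mul_one]
        · exact hs2
      rw [h1, map_one]
      exact Subgroup.one_mem _
    · rw [← map_pow]
      have hh' : h ^ 2 = 1 := hh
      rw [hh', map_one]
      exact Subgroup.one_mem _

/-- kernel of a "determinant" on a wreath product with abelian base group and transitive top
group generated by involutions -/
theorem sq_mem_ker_wr_b {n : ℕ} {Y H : Type*} [CommGroup Y] [Group H]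
    (ι : H →* Perm (Fin n)) (ε : H →* Y) (i₀ : Fin n)
    (hroot : ∀ h : H, ∃ c : Y, c ^ 2 = ε h ∧ c ^ 4 = 1)
    (hH : Subgroup.closure {h : H | h ^ 2 = 1} = ⊤)
    (htrans : ∀ i j : Fin n, ∃ h : H, ι h i = j)
    (K : Subgroup ((Fin n → Y) ⋊[(piAct n Y).comp ι] H))
    (hK : ∀ y, y ∈ K ↔ (∏ i, y.left i) * ε y.right = 1) :
    ∀ y ∈ K, y ^ 2 ∈ ⁅K, K⁆ := by
  classical
  let inlW : (Fin n → Y) →* (Fin n → Y) ⋊[(piAct n Y).comp ι] H := SemidirectProduct.inl
  have hinl : ∀ f : Fin n → Y, inlW f ∈ K ↔ ∏ i, f i = 1 := by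
    intro f
    rw [hK]
    change (∏ i, f i) * ε 1 = 1 ↔ _
    rw [map_one, mul_one]
  -- the elements `k_h`
  let kk : H → (Fin n → Y) ⋊[(piAct n Y).comp ι] H := fun h => ⟨Pi.mulSingle i₀ (ε h)⁻¹, h⟩
  have hkk : ∀ h, kk h ∈ K := by
    intro h
    rw [hK]
    change (∏ i, (Pi.mulSingle i₀ (ε h)⁻¹ : Fin n → Y) i) * ε h = 1
    rw [Fintype.prod_pi_mulSingle', inv_mul_cancel]
  -- the subgroup of the base group of elements whose square lies in the derived subgroup
  let M : Subgroup (Fin n → Y) := ((⁅K, K⁆).comap inlW).comap (powMonoidHom 2)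
  have hM : ∀ f, f ∈ M ↔ inlW (f ^ 2) ∈ ⁅K, K⁆ := fun f => Iff.rfl
  obtain ⟨dd, hdd⟩ : ∃ dd : Fin n → Fin n → Y → (Fin n → Y), ∀ i j u,
      dd i j u = (Pi.mulSingle i u : Fin n → Y) * (Pi.mulSingle j u : Fin n → Y)⁻¹ :=
    ⟨_, fun _ _ _ => rfl⟩
  have hdd_prod : ∀ i j u, ∏ l, dd i j u l = 1 := by
    intro i j u
    rw [hdd]
    simp only [Pi.mul_apply, Pi.inv_apply, Finset.prod_mul_distrib, Finset.prod_inv_distrib,
      Fintype.prod_pi_mulSingle', mul_inv_cancel]
  have hdd_refl : ∀ i u, dd i i u = 1 := by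
    intro i u
    rw [hdd]
    exact mul_inv_cancel _
  have hdd_trans : ∀ i j k u, dd i k u = dd i j u * dd j k u := by
    intro i j k u
    rw [hdd, hdd, hdd, mul_assoc, inv_mul_cancel_left]
  have hdd_symm : ∀ i j u, dd j i u = (dd i j u)⁻¹ := by
    intro i j u
    rw [hdd, hdd, mul_inv_rev, inv_inv]
  have hgen : ∀ a d : Fin n → Y, a * d⁻¹ = (d ^ 2)⁻¹ * (d * a) := by
    intro a d
    rw [sq, mul_inv_rev, mul_assoc, inv_mul_cancel_left, mul_comm]
  -- involutions of `H`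
  have hstep : ∀ h : H, h ^ 2 = 1 → ∀ i u, dd i (ι h i) u ∈ M := by
    intro h hh i u
    rw [hM]
    have hb : inlW (dd i (ι h i) u) ∈ K := (hinl _).mpr (hdd_prod _ _ _)
    have hc := Subgroup.commutator_mem_commutator (hkk h) hb
    have hιh : ι h (ι h i) = i := by
      have h1 : ι h * ι h = 1 := by rw [← map_mul, ← sq, hh, map_one]
      have h2 := congrArg (fun σ : Perm (Fin n) => σ i) h1
      exact h2
    have hφ : (piAct n Y) (ι h) (dd i (ι h i) u) = (dd i (ι h i) u)⁻¹ := by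
      rw [← hdd_symm, hdd, hdd, map_mul, map_inv, piAct_mulSingle, piAct_mulSingle, hιh]
    have heq : kk h * inlW (dd i (ι h i) u) =
        (inlW (dd i (ι h i) u ^ 2))⁻¹ * (inlW (dd i (ι h i) u) * kk h) := by
      rw [← map_inv]
      apply SemidirectProduct.ext
      · change Pi.mulSingle i₀ (ε h)⁻¹ * (piAct n Y) (ι h) (dd i (ι h i) u) =
          (dd i (ι h i) u ^ 2)⁻¹ * (piAct n Y) (ι 1)
            (dd i (ι h i) u * (piAct n Y) (ι 1) (Pi.mulSingle i₀ (ε h)⁻¹))
        rw [hφ, map_one, map_one, MulAut.one_apply, MulAut.one_apply]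
        exact hgen _ _
      · change h * 1 = 1 * (1 * h)
        rw [mul_one, one_mul, one_mul]
    have hcomm : ⁅kk h, inlW (dd i (ι h i) u)⁆ = (inlW (dd i (ι h i) u ^ 2))⁻¹ := by
      rw [commutatorElement_def, heq]
      group
    rw [hcomm] at hc
    have := Subgroup.inv_mem _ hc
    rwa [inv_inv] at this
  have hall : ∀ h : H, ∀ i u, dd i (ι h i) u ∈ M := by
    intro h
    have hh : h ∈ Subgroup.closure {h : H | h ^ 2 = 1} := by
      rw [hH]
      exact Subgroup.mem_top _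
    refine Subgroup.closure_induction (p := fun h _ => ∀ i u, dd i (ι h i) u ∈ M) ?_ ?_ ?_ ?_ hh
    · intro g hg
      exact hstep g hg
    · intro i u
      rw [map_one, Perm.one_apply, hdd_refl]
      exact Subgroup.one_mem _
    · intro a b _ _ ha hb i u
      rw [map_mul, Perm.mul_apply, hdd_trans i (ι b i) (ι a (ι b i)) u]
      exact Subgroup.mul_mem _ (hb i u) (ha (ι b i) u)
    · intro a _ ha i u
      have h1 := ha (ι a⁻¹ i) u
      have h2 : ι a (ι a⁻¹ i) = i := by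
        rw [map_inv]
        simp
      rw [h2, hdd_symm] at h1
      have := Subgroup.inv_mem _ h1
      rwa [inv_inv] at this
  have hpair : ∀ i j u, dd i j u ∈ M := by
    intro i j u
    obtain ⟨h, rfl⟩ := htrans i j
    exact hall h i u
  have hprod1 : ∀ f : Fin n → Y, ∏ i, f i = 1 → f ∈ M := by
    intro f hf
    have h1 : f = ∏ i, dd i i₀ (f i) := by
      simp only [hdd]
      rw [Finset.prod_mul_distrib, Finset.prod_inv_distrib, Finset.univ_prod_mulSingle]
      have h2 : ∏ i, (Pi.mulSingle i₀ (f i) : Fin n → Y) = Pi.mulSingle i₀ (∏ i, f i) :=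
        (map_prod (MonoidHom.mulSingle (fun _ => Y) i₀) f Finset.univ).symm
      rw [h2, hf, Pi.mulSingle_one, inv_one, mul_one]
    rw [h1]
    exact Subgroup.prod_mem _ (fun i _ => hpair i i₀ (f i))
  have hsqbase : ∀ f : Fin n → Y, ∏ i, f i = 1 → (inlW f) ^ 2 ∈ ⁅K, K⁆ := by
    intro f hf
    rw [← map_pow]
    exact (hM f).mp (hprod1 f hf)
  -- generation
  have hSK : ({y | ∃ f : Fin n → Y, ∏ i, f i = 1 ∧ y = inlW f} ∪
      {y | ∃ h : H, h ^ 2 = 1 ∧ y = kk h} :
        Set ((Fin n → Y) ⋊[(piAct n Y).comp ι] H)) ⊆ K := by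
    rintro y (⟨f, hf, rfl⟩ | ⟨h, _, rfl⟩)
    · exact (hinl f).mpr hf
    · exact hkk h
  apply sq_mem_commutator_of_gen_sub K
    ({y | ∃ f : Fin n → Y, ∏ i, f i = 1 ∧ y = inlW f} ∪ {y | ∃ h : H, h ^ 2 = 1 ∧ y = kk h}) hSK
  · intro y hy
    have hCK : Subgroup.closure ({y | ∃ f : Fin n → Y, ∏ i, f i = 1 ∧ y = inlW f} ∪
        {y | ∃ h : H, h ^ 2 = 1 ∧ y = kk h} :
          Set ((Fin n → Y) ⋊[(piAct n Y).comp ι] H)) ≤ K := (Subgroup.closure_le K).mpr hSK
    have hright : ∀ h : H, ∃ y' ∈ Subgroup.closure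
        ({y | ∃ f : Fin n → Y, ∏ i, f i = 1 ∧ y = inlW f} ∪
          {y | ∃ h : H, h ^ 2 = 1 ∧ y = kk h} :
            Set ((Fin n → Y) ⋊[(piAct n Y).comp ι] H)), y'.right = h := by
      intro h
      have hh : h ∈ Subgroup.closure {h : H | h ^ 2 = 1} := by
        rw [hH]
        exact Subgroup.mem_top _
      refine Subgroup.closure_induction (p := fun h _ => ∃ y' ∈ Subgroup.closure
        ({y | ∃ f : Fin n → Y, ∏ i, f i = 1 ∧ y = inlW f} ∪
          {y | ∃ h : H, h ^ 2 = 1 ∧ y = kk h} :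
            Set ((Fin n → Y) ⋊[(piAct n Y).comp ι] H)), y'.right = h) ?_ ?_ ?_ ?_ hh
      · intro g hg
        exact ⟨kk g, Subgroup.subset_closure (Or.inr ⟨g, hg, rfl⟩), rfl⟩
      · exact ⟨1, Subgroup.one_mem _, rfl⟩
      · rintro a b _ _ ⟨ya, hya, rfl⟩ ⟨yb, hyb, rfl⟩
        exact ⟨ya * yb, Subgroup.mul_mem _ hya hyb, rfl⟩
      · rintro a _ ⟨ya, hya, rfl⟩
        exact ⟨ya⁻¹, Subgroup.inv_mem _ hya, rfl⟩
    obtain ⟨y', hy', hr⟩ := hright y.right
    have h1 : y = (y * y'⁻¹) * y' := by rw [inv_mul_cancel_right]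
    rw [h1]
    apply Subgroup.mul_mem _ _ hy'
    have h2 : y * y'⁻¹ ∈ K := K.mul_mem hy (K.inv_mem (hCK hy'))
    have h3 : y * y'⁻¹ = inlW (y * y'⁻¹).left := by
      apply SemidirectProduct.ext
      · rfl
      · change y.right * y'.right⁻¹ = 1
        rw [hr, mul_inv_cancel]
    rw [h3] at h2 ⊢
    apply Subgroup.subset_closure
    left
    exact ⟨_, (hinl _).mp h2, rfl⟩
  · rintro g (⟨f, hf, rfl⟩ | ⟨h, hh, rfl⟩)
    · exact hsqbase f hf
    · obtain ⟨c, hc2, hc4⟩ := hroot h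
      have hv : ((ε h)⁻¹) ^ 2 = 1 := by
        rw [← hc2, inv_pow, ← pow_mul, hc4, inv_one]
      have hιh : ι h * ι h = 1 := by rw [← map_mul, ← sq, hh, map_one]
      have h1 : kk h ^ 2 = (inlW (dd i₀ (ι h i₀) c⁻¹)) ^ 2 := by
        rw [← map_pow, sq]
        apply SemidirectProduct.ext
        · change Pi.mulSingle i₀ (ε h)⁻¹ * (piAct n Y) (ι h) (Pi.mulSingle i₀ (ε h)⁻¹) =
            (dd i₀ (ι h i₀) c⁻¹) ^ 2
          have h5 : (ε h)⁻¹ = ε h := by
            have h6 : ε h * ε h = 1 := by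
              rw [← sq, ← inv_inj, ← inv_pow, hv, inv_one]
            exact (eq_inv_of_mul_eq_one_left h6).symm
          rw [hdd, piAct_mulSingle, ← Pi.mulSingle_inv, inv_inv, mul_pow, ← Pi.mulSingle_pow,
            ← Pi.mulSingle_pow, inv_pow, hc2, h5]
        · change h * h = 1
          rw [← sq, hh]
      rw [h1]
      exact hsqbase _ (hdd_prod _ _ _)

end Cfsg.Agent.Helper57
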