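import Mathlib
import Cfsg.Agent.Lib.Helper57.SLOddA

set_option autoImplicit false

namespace Cfsg.Agent.Helper57

open Equiv Matrix
open scoped commutatorElement Pointwise

variable {F : Type*} [Field F] [Fintype F]

/-- descent from an explicit Sylow `2`-subgroup of `GL_n(F)` to the Sylow `2`-subgroups of
`SL_n(F)` -/
theorem sl_sylow_sq_of_embedding {n : ℕ} {W : Type*} [Group W]
    (Φ : W →* GL (Fin n) F) (hΦ : Function.Injective Φ)
    (hcard : Nat.card W = 2 ^ (Nat.card (GL (Fin n) F)).factorization 2)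
    (hker : ∀ k ∈ (GeneralLinearGroup.det.comp Φ).ker,
      k ^ 2 ∈ ⁅(GeneralLinearGroup.det.comp Φ).ker, (GeneralLinearGroup.det.comp Φ).ker⁆)
    (P : Sylow 2 (SpecialLinearGroup (Fin n) F))
    (x : (P : Subgroup (SpecialLinearGroup (Fin n) F))) :
    x ^ 2 ∈ commutator (P : Subgroup (SpecialLinearGroup (Fin n) F)) := by
  classical
  let toGL : SpecialLinearGroup (Fin n) F →* GL (Fin n) F := SpecialLinearGroup.toGL
  have hinj : Function.Injective toGL := SpecialLinearGroup.toGL_injective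
  let P₁ : Subgroup (GL (Fin n) F) := (P : Subgroup (SpecialLinearGroup (Fin n) F)).map toGL
  have hP₁ : IsPGroup 2 P₁ := P.isPGroup'.map toGL
  obtain ⟨S, hS⟩ := hP₁.exists_le_sylow
  -- the explicit Sylow subgroup and its conjugate `S`
  have hR : Nat.card Φ.range = 2 ^ (Nat.card (GL (Fin n) F)).factorization 2 := by
    rw [← hcard]
    exact (Nat.card_congr (MonoidHom.ofInjective hΦ).toEquiv).symm
  let T : Sylow 2 (GL (Fin n) F) := Sylow.ofCard Φ.range hR
  obtain ⟨g, hg⟩ := MulAction.exists_smul_eq (GL (Fin n) F) T S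
  let Ψ : W →* GL (Fin n) F := (MulAut.conj g).toMonoidHom.comp Φ
  have hΨapp : ∀ w, Ψ w = g * Φ w * g⁻¹ := fun w => rfl
  have hΨdet : ∀ w, GeneralLinearGroup.det (Ψ w) = GeneralLinearGroup.det (Φ w) := by
    intro w
    rw [hΨapp, map_mul, map_mul, map_inv, mul_comm, inv_mul_cancel_left]
  have hSeq : (S : Subgroup (GL (Fin n) F)) = MulAut.conj g • (T : Subgroup (GL (Fin n) F)) := by
    rw [← hg, Sylow.coe_subgroup_smul]
  have hΨS : ∀ y, y ∈ (S : Subgroup (GL (Fin n) F)) ↔ ∃ w, Ψ w = y := by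
    intro y
    rw [hSeq, Subgroup.mem_smul_pointwise_iff_exists]
    constructor
    · rintro ⟨s, hs, rfl⟩
      obtain ⟨w, rfl⟩ : s ∈ Φ.range := hs
      exact ⟨w, rfl⟩
    · rintro ⟨w, rfl⟩
      exact ⟨Φ w, ⟨w, rfl⟩, rfl⟩
  -- elements of determinant one in `S` come from `P`
  have hmem : ∀ y ∈ (S : Subgroup (GL (Fin n) F)), GeneralLinearGroup.det y = 1 → y ∈ P₁ := by
    intro y hy hy1
    have hK : IsPGroup 2 ((S : Subgroup (GL (Fin n) F)).comap toGL) :=
      S.isPGroup'.comap_of_injective toGL hinj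
    have hPK : (P : Subgroup (SpecialLinearGroup (Fin n) F)) ≤
        (S : Subgroup (GL (Fin n) F)).comap toGL := Subgroup.map_le_iff_le_comap.mp hS
    have hKP := P.is_maximal' hK hPK
    have hd : (y : Matrix (Fin n) (Fin n) F).det = 1 := by
      have := congrArg Units.val hy1
      exact this
    let x₀ : SpecialLinearGroup (Fin n) F := ⟨(y : Matrix (Fin n) (Fin n) F), hd⟩
    have hx₀ : toGL x₀ = y := by
      apply Units.ext
      rfl
    have hx₀K : x₀ ∈ (S : Subgroup (GL (Fin n) F)).comap toGL := by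
      rw [Subgroup.mem_comap, hx₀]
      exact hy
    rw [hKP] at hx₀K
    exact ⟨x₀, hx₀K, hx₀⟩
  have hdetP₁ : ∀ y ∈ P₁, GeneralLinearGroup.det y = 1 := by
    rintro _ ⟨x', _, rfl⟩
    apply Units.ext
    exact x'.2
  have hP₁eq : ((GeneralLinearGroup.det.comp Φ).ker).map Ψ = P₁ := by
    ext y
    constructor
    · rintro ⟨k, hk, rfl⟩
      apply hmem
      · exact (hΨS _).mpr ⟨k, rfl⟩
      · rw [hΨdet]
        exact MonoidHom.mem_ker.mp hk
    · intro hy
      obtain ⟨w, rfl⟩ := (hΨS y).mp (hS hy)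
      refine ⟨w, ?_, rfl⟩
      rw [SetLike.mem_coe, MonoidHom.mem_ker]
      change GeneralLinearGroup.det (Φ w) = 1
      rw [← hΨdet]
      exact hdetP₁ _ hy
  -- conclusion
  have hxP₁ : toGL x ∈ P₁ := ⟨x, x.2, rfl⟩
  have h3 : (toGL x) ^ 2 ∈ ⁅P₁, P₁⁆ := by
    have hx' := hxP₁
    rw [← hP₁eq] at hx'
    obtain ⟨k, hk, hkx⟩ := hx'
    rw [← hP₁eq, ← Subgroup.map_commutator, ← hkx, ← map_pow]
    exact ⟨k ^ 2, hker k hk, rfl⟩
  change (toGL x) ^ 2 ∈ ⁅(P : Subgroup (SpecialLinearGroup (Fin n) F)).map toGL,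
    (P : Subgroup (SpecialLinearGroup (Fin n) F)).map toGL⁆ at h3
  rw [← Subgroup.map_commutator, ← Subgroup.map_subtype_commutator] at h3
  obtain ⟨_, ⟨u, hu, rfl⟩, hu2⟩ := h3
  rw [← map_pow] at hu2
  have h4 : (u : SpecialLinearGroup (Fin n) F) =
      ((x ^ 2 : (P : Subgroup (SpecialLinearGroup (Fin n) F))) :
        SpecialLinearGroup (Fin n) F) := by
    rw [Subgroup.coe_pow]
    exact hinj hu2
  have h5 : u = x ^ 2 := Subtype.ext h4
  rw [← h5]
  exact hu

end Cfsg.Agent.Helper57
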