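import Mathlib
import Cfsg.Agent.Lib.Helper57.SLOddC
import Cfsg.Agent.Lib.Helper57.SLEvenA

set_option autoImplicit false

namespace Cfsg.Agent.Helper57

open Equiv Matrix
open scoped commutatorElement Pointwise

variable {F : Type*} [Field F] [Fintype F] (E : Type*) [Field E] [Algebra F E] [Fintype E]

/-- an explicit Sylow `2`-subgroup of `GL_F(E)`, `[E:F] = 2`, `|F| ≡ 3 mod 4`, with the
structure of its determinant-one part -/
theorem exists_gl2_sylow_det (hq4 : Fintype.card F % 4 = 3) (h2 : Module.finrank F E = 2) :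
    ∃ (X : Subgroup (E ≃ₗ[F] E)) (s : X),
      Nat.card X = 2 ^ (2 + padicValNat 2 (Fintype.card F + 1)) ∧ s * s = 1 ∧
      (∀ x : X, (LinearEquiv.det.comp X.subtype) x = 1 ∨
        (LinearEquiv.det.comp X.subtype) (x * s) = 1) ∧
      ∀ x ∈ (LinearEquiv.det.comp X.subtype).ker,
        x ^ 2 ∈ ⁅(LinearEquiv.det.comp X.subtype).ker, (LinearEquiv.det.comp X.subtype).ker⁆ := by
  classical
  obtain ⟨X, hXcard, _⟩ := exists_gl2_sylow E hq4 h2
  obtain ⟨q, hq⟩ : ∃ q, q = Fintype.card F := ⟨_, rfl⟩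
  have hodd' : Odd (Fintype.card F) := Nat.odd_iff.mpr (by omega)
  rw [← hq] at hq4 hXcard ⊢
  have hodd : Odd q := Nat.odd_iff.mpr (by omega)
  have hq3 : 3 ≤ q := by omega
  obtain ⟨r, hr⟩ : ∃ r, q = 2 * r + 1 := ⟨q / 2, by omega⟩
  have hrodd : Odd r := Nat.odd_iff.mpr (by omega)
  have hv1 : padicValNat 2 (q - 1) = 1 := padicValNat_two_of_mod_four (by omega)
  have h2F : (2 : F) ≠ 0 := two_ne_zero_of_odd_card hodd'
  have hneg : (-1 : Fˣ) ≠ 1 := by
    intro h
    have h4 := congrArg Units.val h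
    rw [Units.val_neg, Units.val_one] at h4
    apply h2F
    linear_combination (-1 : F) * h4
  let b2 : Module.Basis (Fin 2) F E := Module.finBasisOfFinrankEq F E h2
  let e2 : (E ≃ₗ[F] E) ≃* GL (Fin 2) F := toGLEquiv b2
  have hfin : Finite (E ≃ₗ[F] E) := Finite.of_equiv _ e2.symm.toEquiv
  have hdetG : ∀ x : E ≃ₗ[F] E, GeneralLinearGroup.det (e2 x) = LinearEquiv.det x := by
    intro x
    apply Units.ext
    rw [LinearEquiv.coe_det]
    exact det_toGLEquiv b2 x
  have hGL : padicValNat 2 (Nat.card (E ≃ₗ[F] E)) = 2 + padicValNat 2 (q + 1) := by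
    rw [Nat.card_congr e2.toEquiv, card_GL_two, ← hq, padicValNat_two_card_GL hq3 hodd, hv1]
    simp
  have hXcard' : Nat.card X = 2 ^ (Nat.card (E ≃ₗ[F] E)).factorization 2 := by
    rw [Nat.factorization_def _ Nat.prime_two, hGL, hXcard]
  have hXp : IsPGroup 2 X := IsPGroup.of_card hXcard
  -- determinants on `X`
  have hdet : ∀ g ∈ X, LinearEquiv.det g = 1 ∨ LinearEquiv.det g = -1 := by
    intro g hg
    obtain ⟨k, hk⟩ := hXp ⟨g, hg⟩
    have hk' : g ^ 2 ^ k = 1 := by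
      have := congrArg Subtype.val hk
      rwa [Subgroup.coe_pow, Subgroup.coe_one] at this
    have h1 : (LinearEquiv.det g) ^ 2 ^ k = 1 := by rw [← map_pow, hk', map_one]
    have h3 : (LinearEquiv.det g) ^ (2 * r) = 1 := by
      apply Units.ext
      rw [Units.val_pow_eq_pow_val, Units.val_one]
      have h3 := FiniteField.pow_card_sub_one_eq_one ((LinearEquiv.det g : Fˣ) : F)
        (Units.ne_zero _)
      rw [← hq, hr, Nat.add_sub_cancel] at h3
      exact h3
    have h4 := sq_eq_one_of_two_pow _ k r hrodd h1 h3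
    have h5 : ((LinearEquiv.det g : Fˣ) : F) ^ 2 = 1 := by
      rw [← Units.val_pow_eq_pow_val, h4, Units.val_one]
    rcases sq_eq_one_iff.mp h5 with h6 | h6
    · left
      exact Units.ext h6
    · right
      apply Units.ext
      rw [h6, Units.val_neg, Units.val_one]
  -- an involution of determinant `-1`
  obtain ⟨s, hsX, hss, hsdet⟩ : ∃ s ∈ X, s * s = 1 ∧ LinearEquiv.det s = -1 := by
    let A : Matrix (Fin 2) (Fin 2) F := !![1, 0; 0, -1]
    have hAA : A * A = 1 := by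
      ext i j
      fin_cases i <;> fin_cases j <;> simp [A, Matrix.mul_apply, Fin.sum_univ_two]
    let t₀ : GL (Fin 2) F := ⟨A, A, hAA, hAA⟩
    have ht₀ : t₀ * t₀ = 1 := Units.ext hAA
    have hdet₀ : GeneralLinearGroup.det t₀ = -1 := by
      apply Units.ext
      change A.det = ((-1 : Fˣ) : F)
      rw [Matrix.det_fin_two_of]
      simp
    let t : E ≃ₗ[F] E := e2.symm t₀
    have htt : t * t = 1 := by
      change e2.symm t₀ * e2.symm t₀ = 1
      rw [← map_mul, ht₀, map_one]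
    have htdet : LinearEquiv.det t = -1 := by
      rw [← hdetG]
      change GeneralLinearGroup.det (e2 (e2.symm t₀)) = -1
      rw [MulEquiv.apply_symm_apply, hdet₀]
    let XS : Sylow 2 (E ≃ₗ[F] E) := Sylow.ofCard X hXcard'
    have hZ : IsPGroup 2 (Subgroup.zpowers t) :=
      isPGroup_zpowers t 1 (by rw [pow_one, sq]; exact htt)
    obtain ⟨S', hS'⟩ := hZ.exists_le_sylow
    obtain ⟨g, hg⟩ := MulAction.exists_smul_eq (E ≃ₗ[F] E) S' XS
    have h1 : MulAut.conj g • t ∈ MulAut.conj g • (S' : Subgroup (E ≃ₗ[F] E)) :=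
      Subgroup.smul_mem_pointwise_smul _ _ _ (hS' (Subgroup.mem_zpowers t))
    rw [← Sylow.coe_subgroup_smul, hg] at h1
    refine ⟨g * t * g⁻¹, h1, ?_, ?_⟩
    · have : g * t * g⁻¹ * (g * t * g⁻¹) = g * (t * t) * g⁻¹ := by group
      rw [this, htt, mul_one, mul_inv_cancel]
    · rw [map_mul, map_mul, map_inv, mul_comm, inv_mul_cancel_left, htdet]
  -- the determinant one part
  let toGL : SpecialLinearGroup (Fin 2) F →* GL (Fin 2) F := SpecialLinearGroup.toGL
  let ψ : SpecialLinearGroup (Fin 2) F →* (E ≃ₗ[F] E) := e2.symm.toMonoidHom.comp toGL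
  have hψinj : Function.Injective ψ :=
    e2.symm.injective.comp SpecialLinearGroup.toGL_injective
  have hψdet : ∀ y, LinearEquiv.det (ψ y) = 1 := by
    intro y
    rw [← hdetG]
    change GeneralLinearGroup.det (e2 (e2.symm (toGL y))) = 1
    rw [MulEquiv.apply_symm_apply]
    exact Units.ext y.2
  have hψrange : ∀ x : E ≃ₗ[F] E, LinearEquiv.det x = 1 → ∃ y, ψ y = x := by
    intro x hx
    have hd : ((e2 x : GL (Fin 2) F) : Matrix (Fin 2) (Fin 2) F).det = 1 := by
      have := congrArg Units.val ((hdetG x).trans hx)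
      exact this
    refine ⟨⟨_, hd⟩, ?_⟩
    change e2.symm (toGL ⟨_, hd⟩) = x
    rw [MulEquiv.symm_apply_eq]
    apply Units.ext
    rfl
  let X₁ : Subgroup (E ≃ₗ[F] E) := X ⊓ (LinearEquiv.det : (E ≃ₗ[F] E) →* Fˣ).ker
  let D : Subgroup (SpecialLinearGroup (Fin 2) F) := X.comap ψ
  have hDmap : D.map ψ = X₁ := by
    ext x
    constructor
    · rintro ⟨y, hy, rfl⟩
      exact ⟨hy, MonoidHom.mem_ker.mpr (hψdet y)⟩
    · rintro ⟨hx1, hx2⟩
      obtain ⟨y, rfl⟩ := hψrange x (MonoidHom.mem_ker.mp hx2)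
      exact ⟨y, hx1, rfl⟩
  let χ : X →* Fˣ := LinearEquiv.det.comp X.subtype
  have hχmap : χ.ker.map X.subtype = X₁ := by
    ext x
    constructor
    · rintro ⟨y, hy, rfl⟩
      exact ⟨y.2, MonoidHom.mem_ker.mpr (MonoidHom.mem_ker.mp hy)⟩
    · rintro ⟨hx1, hx2⟩
      exact ⟨⟨x, hx1⟩, MonoidHom.mem_ker.mpr (MonoidHom.mem_ker.mp hx2), rfl⟩
  have hindex : χ.ker.index = 2 := by
    rw [Subgroup.index_eq_two_iff]
    refine ⟨⟨s, hsX⟩, ?_⟩
    intro b
    have hb2 : χ (b * ⟨s, hsX⟩) = χ b * -1 := by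
      rw [map_mul]
      congr 1
    rcases hdet b b.2 with hb | hb
    · right
      refine ⟨MonoidHom.mem_ker.mpr hb, ?_⟩
      rw [MonoidHom.mem_ker, hb2]
      change ¬ (LinearEquiv.det (b : E ≃ₗ[F] E) * -1 = 1)
      rw [hb, one_mul]
      exact hneg
    · left
      refine ⟨?_, ?_⟩
      · rw [MonoidHom.mem_ker, hb2]
        change LinearEquiv.det (b : E ≃ₗ[F] E) * -1 = 1
        rw [hb]
        simp
      · rw [MonoidHom.mem_ker]
        change ¬ (LinearEquiv.det (b : E ≃ₗ[F] E) = 1)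
        rw [hb]
        exact hneg
  have hkercard : Nat.card χ.ker = 2 ^ (1 + padicValNat 2 (q + 1)) := by
    have h1 := Subgroup.card_mul_index χ.ker
    rw [hindex, hXcard] at h1
    have h3 : 2 ^ (2 + padicValNat 2 (q + 1)) = 2 ^ (1 + padicValNat 2 (q + 1)) * 2 := by
      rw [← pow_succ]
      congr 1
      omega
    rw [h3] at h1
    exact Nat.eq_of_mul_eq_mul_right (by norm_num) h1
  have hDcard : Nat.card D =
      2 ^ (Nat.card (SpecialLinearGroup (Fin 2) F)).factorization 2 := by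
    rw [← Subgroup.card_map_of_injective hψinj, hDmap, ← hχmap,
      Subgroup.card_map_of_injective X.subtype_injective, hkercard,
      Nat.factorization_def _ Nat.prime_two, Cfsg.Agent.Helper5.card_SL2 hq.symm,
      padicValNat_two_card_sl2 hq3 hodd, hv1]
  let D₀ : Sylow 2 (SpecialLinearGroup (Fin 2) F) := Sylow.ofCard D hDcard
  have hDsq : ∀ y ∈ D, y ^ 2 ∈ ⁅D, D⁆ := by
    intro y hy
    have h1 := sl2_sylow_sq_mem hodd' D₀ ⟨y, hy⟩
    rw [← Subgroup.map_subtype_commutator]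
    exact ⟨_, h1, rfl⟩
  have hX₁sq : ∀ x ∈ X₁, x ^ 2 ∈ ⁅X₁, X₁⁆ := by
    intro x hx
    rw [← hDmap] at hx
    obtain ⟨y, hy, rfl⟩ := hx
    rw [← hDmap, ← Subgroup.map_commutator, ← map_pow]
    exact ⟨y ^ 2, hDsq y hy, rfl⟩
  refine ⟨X, ⟨s, hsX⟩, hXcard, Subtype.ext hss, ?_, ?_⟩
  · intro x
    rcases hdet x x.2 with hx | hx
    · left
      exact hx
    · right
      change LinearEquiv.det ((x : E ≃ₗ[F] E) * s) = 1
      rw [map_mul, hx, hsdet]
      simp
  · intro x hx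
    have hx1 : (x : E ≃ₗ[F] E) ∈ X₁ := by
      rw [← hχmap]
      exact ⟨x, hx, rfl⟩
    have h1 := hX₁sq _ hx1
    rw [← hχmap, ← Subgroup.map_commutator] at h1
    obtain ⟨u, hu, hux⟩ := h1
    have h3 : u = x ^ 2 := by
      apply Subtype.ext
      rw [Subgroup.coe_pow]
      exact hux
    rw [← h3]
    exact hu

end Cfsg.Agent.Helper57
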