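import Mathlib
import Cfsg.Agent.Lib.Helper57.SymSylowB
import Cfsg.Agent.Lib.Helper57.SLEvenB
import Cfsg.Agent.Lib.Helper57.SLEvenC
import Cfsg.Agent.Lib.Helper57.SLEvenD

set_option autoImplicit false

namespace Cfsg.Agent.Helper57

open Equiv Matrix
open scoped commutatorElement Pointwise

/-- a Sylow `2`-subgroup of the symmetric group of degree `2^k` is transitive -/
theorem sylow_two_pow_transitive {H : Type*} [Group H] {n : ℕ} (k : ℕ) (hn : n = 2 ^ k)
    (ι : H →* Perm (Fin n)) (hι : Function.Injective ι)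
    (hcard : Nat.card H = 2 ^ padicValNat 2 n.factorial) (i j : Fin n) :
    ∃ h : H, ι h i = j := by
  classical
  rcases Nat.lt_or_ge n 2 with h1 | h2
  · have hij : i = j := by
      apply Fin.ext
      have := i.2
      have := j.2
      omega
    exact ⟨1, by rw [map_one, Perm.one_apply, hij]⟩
  · have hcardP : Nat.card (Perm (Fin n)) = n.factorial := by
      rw [Nat.card_eq_fintype_card, Fintype.card_perm, Fintype.card_fin]
    have hR : Nat.card ι.range = 2 ^ (Nat.card (Perm (Fin n))).factorization 2 := by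
      rw [hcardP, Nat.factorization_def _ Nat.prime_two, ← hcard]
      exact (Nat.card_congr (MonoidHom.ofInjective hι).toEquiv).symm
    let T : Sylow 2 (Perm (Fin n)) := Sylow.ofCard ι.range hR
    let c : Perm (Fin n) := finRotate n
    have hcyc : c.IsCycle := isCycle_finRotate_of_le h2
    have hsupp : c.support = Finset.univ := support_finRotate_of_le h2
    have hord : c ^ 2 ^ k = 1 := by
      have h3 : orderOf c = n := by
        rw [hcyc.orderOf, hsupp, Finset.card_univ, Fintype.card_fin]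
      rw [← hn]
      have h4 := pow_orderOf_eq_one c
      rw [h3] at h4
      exact h4
    have hZ : IsPGroup 2 (Subgroup.zpowers c) := isPGroup_zpowers c k hord
    obtain ⟨S', hS'⟩ := hZ.exists_le_sylow
    obtain ⟨g, hg⟩ := MulAction.exists_smul_eq (Perm (Fin n)) S' T
    have hmem : ∀ r : ℕ, g * c ^ r * g⁻¹ ∈ ι.range := by
      intro r
      have h1 : MulAut.conj g • (c ^ r) ∈ MulAut.conj g • (S' : Subgroup (Perm (Fin n))) :=
        Subgroup.smul_mem_pointwise_smul _ _ _
          (hS' (Subgroup.pow_mem _ (Subgroup.mem_zpowers c) r))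
      rw [← Sylow.coe_subgroup_smul, hg] at h1
      exact h1
    have hx : ∀ x : Fin n, c x ≠ x := by
      intro x
      rw [← Perm.mem_support, hsupp]
      exact Finset.mem_univ _
    obtain ⟨r, hr⟩ := hcyc.exists_pow_eq (hx (g⁻¹ i)) (hx (g⁻¹ j))
    obtain ⟨h, hh⟩ := hmem r
    refine ⟨h, ?_⟩
    rw [hh, Perm.mul_apply, Perm.mul_apply, hr]
    simp

variable {F : Type*} [Field F] [Fintype F]

/-- squares in Sylow `2`-subgroups of `SL_{2m}(F)`, `|F| ≡ 3 mod 4`, lie in the derived
subgroup -/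
theorem sl_even_sylow_sq_mem_three_aux (E : Type*) [Field E] [Algebra F E] [Fintype E]
    (h2 : Module.finrank F E = 2) (hq4 : Fintype.card F % 4 = 3) (m : ℕ)
    (P : Sylow 2 (SpecialLinearGroup (Fin (2 * m)) F))
    (x : (P : Subgroup (SpecialLinearGroup (Fin (2 * m)) F))) :
    x ^ 2 ∈ commutator (P : Subgroup (SpecialLinearGroup (Fin (2 * m)) F)) := by
  classical
  obtain ⟨X, s, hXcard, hss, hcov, hsq⟩ := exists_gl2_sylow_det E hq4 h2
  obtain ⟨q, hq⟩ : ∃ q, q = Fintype.card F := ⟨_, rfl⟩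
  have hq4' : q % 4 = 3 := by rw [hq]; exact hq4
  have hodd : Odd q := Nat.odd_iff.mpr (by omega)
  have hq3 : 3 ≤ q := by omega
  have hv1 : padicValNat 2 (q - 1) = 1 := padicValNat_two_of_mod_four (by omega)
  rw [← hq] at hXcard
  obtain ⟨H, _, ι, hfin, hι, hcard, hgen, _, _⟩ := sylData 2 m
  let b2 : Module.Basis (Fin 2) F E := Module.finBasisOfFinrankEq F E h2
  have hfinE : Finite (E ≃ₗ[F] E) := Finite.of_equiv _ (toGLEquiv b2).symm.toEquiv
  have hfinX : Finite X := inferInstance
  have hfr : Module.finrank F (WU (F := F) E m 0) = 2 * m := by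
    rw [Module.finrank_prod, Module.finrank_pi_fintype, Module.finrank_fin_fun]
    simp only [h2, Finset.sum_const, Finset.card_univ, Fintype.card_fin, smul_eq_mul]
    omega
  let b : Module.Basis (Fin (2 * m)) F (WU (F := F) E m 0) :=
    Module.finBasisOfFinrankEq F _ hfr
  let Φ₀ : (Fin m → X) ⋊[(piAct m X).comp ι] H →*
      (WU (F := F) E m 0 ≃ₗ[F] WU (F := F) E m 0) :=
    (monoLinU (F := F) E m 0).comp (wrMapG X.subtype ι)
  let Φ : (Fin m → X) ⋊[(piAct m X).comp ι] H →* GL (Fin (2 * m)) F :=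
    (toGLEquiv b).toMonoidHom.comp Φ₀
  have hΦ : Function.Injective Φ :=
    (toGLEquiv b).injective.comp ((monoLinU_injective (F := F) E m 0).comp
      (wrMapG_injective _ _ (Subgroup.subtype_injective _) hι))
  have hcardW : Nat.card ((Fin m → X) ⋊[(piAct m X).comp ι] H) =
      2 ^ (Nat.card (GL (Fin (2 * m)) F)).factorization 2 := by
    rw [SemidirectProduct.card, Nat.card_fun, Nat.card_eq_fintype_card (α := Fin m),
      Fintype.card_fin, hXcard, hcard, ← pow_mul, ← pow_add,
      Nat.factorization_def _ Nat.prime_two, Matrix.card_GL_field, ← hq,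
      padicValNat_two_card_GL hq3 hodd (2 * m), hv1]
    congr 1
    have h5 : 2 * m / 2 = m := by omega
    have h6 : 2 * m % 2 = 0 := by omega
    rw [h5, h6]
    ring
  apply sl_sylow_sq_of_embedding Φ hΦ hcardW _ P x
  apply sq_mem_ker_wr_a ι (LinearEquiv.det.comp X.subtype) s hss hcov hsq hgen
  intro y
  rw [MonoidHom.mem_ker]
  have key : GeneralLinearGroup.det (Φ y) =
      ∏ i, (LinearEquiv.det.comp X.subtype) (y.left i) := by
    apply Units.ext
    rw [Units.coe_prod]
    change ((GeneralLinearGroup.det (toGLEquiv b (Φ₀ y)) : Fˣ) : F) = _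
    rw [det_toGLEquiv]
    change LinearMap.det ((monoLinU (F := F) E m 0 (wrMapG X.subtype ι y) :
      WU (F := F) E m 0 ≃ₗ[F] WU (F := F) E m 0) :
        WU (F := F) E m 0 →ₗ[F] WU (F := F) E m 0) = _
    rw [det_monoLinU E m 0 h2]
    apply Finset.prod_congr rfl
    intro i _
    have h5 : ((wrMapG X.subtype ι) y).left i = X.subtype (y.left i) := rfl
    rw [h5, MonoidHom.comp_apply, LinearEquiv.coe_det]
  rw [← key]
  rfl

/-- squares in Sylow `2`-subgroups of `SL_{2m}(F)`, `|F| ≡ 3 mod 4`, lie in the derived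
subgroup -/
theorem sl_even_sylow_sq_mem_three (hq4 : Fintype.card F % 4 = 3) (m : ℕ)
    (P : Sylow 2 (SpecialLinearGroup (Fin (2 * m)) F))
    (x : (P : Subgroup (SpecialLinearGroup (Fin (2 * m)) F))) :
    x ^ 2 ∈ commutator (P : Subgroup (SpecialLinearGroup (Fin (2 * m)) F)) := by
  have hchar : CharP F (ringChar F) := ringChar.charP F
  have hprime : Fact (ringChar F).Prime := ⟨CharP.char_is_prime F (ringChar F)⟩
  have hfr : Module.finrank F (FiniteField.Extension F (ringChar F) 2) = 2 :=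
    FiniteField.finrank_extension F (ringChar F) 2
  have hfin : Finite (FiniteField.Extension F (ringChar F) 2) := Module.finite_of_finite F
  have : Fintype (FiniteField.Extension F (ringChar F) 2) := Fintype.ofFinite _
  exact sl_even_sylow_sq_mem_three_aux (FiniteField.Extension F (ringChar F) 2) hfr hq4 m P x

/-- squares in Sylow `2`-subgroups of `SL_n(F)`, `n` a power of two, `|F| ≡ 1 mod 4`, lie in the
derived subgroup -/
theorem sl_even_sylow_sq_mem_one (hq4 : Fintype.card F % 4 = 1) (n k : ℕ) (hn : n = 2 ^ k)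
    (P : Sylow 2 (SpecialLinearGroup (Fin n) F))
    (x : (P : Subgroup (SpecialLinearGroup (Fin n) F))) :
    x ^ 2 ∈ commutator (P : Subgroup (SpecialLinearGroup (Fin n) F)) := by
  classical
  obtain ⟨q, hq⟩ : ∃ q, q = Fintype.card F := ⟨_, rfl⟩
  have hq4' : q % 4 = 1 := by rw [hq]; exact hq4
  have hq2 : 2 ≤ q := hq ▸ Fintype.one_lt_card
  have hodd : Odd q := Nat.odd_iff.mpr (by omega)
  have hq3 : 3 ≤ q := by omega
  have hv1 : padicValNat 2 (q + 1) = 1 := padicValNat_two_of_mod_four (by omega)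
  let Y₁ : Sylow 2 Fˣ := default
  obtain ⟨H, _, ι, hfin, hι, hcard, hgen, _, _⟩ := sylData 2 n
  have hfr : Module.finrank F (WV (F := F) F n 0) = n := by
    rw [Module.finrank_prod, Module.finrank_fin_fun, Module.finrank_fin_fun, add_zero]
  let b : Module.Basis (Fin n) F (WV (F := F) F n 0) := Module.finBasisOfFinrankEq F _ hfr
  let Φ : (Fin n → (Y₁ : Subgroup Fˣ)) ⋊[(piAct n (Y₁ : Subgroup Fˣ)).comp ι] H →*
      GL (Fin n) F :=
    ((toGLEquiv b).toMonoidHom.comp (monoLin (F := F) F n 0)).comp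
      (wrMapG (Y₁ : Subgroup Fˣ).subtype ι)
  have hΦ : Function.Injective Φ :=
    ((toGLEquiv b).injective.comp (monoLin_injective (F := F) F n 0)).comp
      (wrMapG_injective _ _ (Subgroup.subtype_injective _) hι)
  have hY₁card : Nat.card (Y₁ : Subgroup Fˣ) = 2 ^ padicValNat 2 (q - 1) := by
    rw [Sylow.card_eq_multiplicity, Nat.card_units, Nat.card_eq_fintype_card (α := F), ← hq,
      Nat.factorization_def _ Nat.prime_two]
  have hfact : padicValNat 2 n.factorial = padicValNat 2 (n / 2).factorial + n / 2 := by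
    have h1 : n = 2 * (n / 2) + n % 2 := by omega
    conv_lhs => rw [h1]
    rw [padicValNat_factorial_mul_add (n / 2) (Nat.mod_lt n (by norm_num)),
      padicValNat_factorial_mul]
  have harith : ∀ a V : ℕ, a * n + (V + n / 2) =
      n / 2 * (2 * a + 1) + n % 2 * a + V := by
    intro a V
    obtain ⟨m, hm⟩ : ∃ m, m = n / 2 := ⟨_, rfl⟩
    obtain ⟨s, hs⟩ : ∃ s, s = n % 2 := ⟨_, rfl⟩
    have h1 : n = 2 * m + s := by omega
    rw [← hm, ← hs, h1]
    ring
  have hcardA : Nat.card ((Fin n → (Y₁ : Subgroup Fˣ)) ⋊[(piAct n (Y₁ : Subgroup Fˣ)).comp ι]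
      H) = 2 ^ (Nat.card (GL (Fin n) F)).factorization 2 := by
    rw [SemidirectProduct.card, Nat.card_fun, Nat.card_eq_fintype_card (α := Fin n),
      Fintype.card_fin, hY₁card, hcard, ← pow_mul, ← pow_add,
      Nat.factorization_def _ Nat.prime_two, Matrix.card_GL_field, ← hq,
      padicValNat_two_card_GL hq3 hodd n, hv1, hfact]
    congr 1
    exact harith _ _
  apply sl_sylow_sq_of_embedding Φ hΦ hcardA _ P x
  -- the sign character
  have hneg1 : (-1 : Fˣ) ∈ (Y₁ : Subgroup Fˣ) := by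
    apply central_mem_sylow Y₁ (-1) _ 1
    · rw [pow_one, neg_one_sq]
    · rw [Subgroup.mem_center_iff]
      intro g
      rw [mul_comm]
  let sgn : H →* Fˣ := (Units.map (Int.castRingHom F).toMonoidHom).comp (Perm.sign.comp ι)
  have hsgnval : ∀ h : H, ((sgn h : Fˣ) : F) = (((Perm.sign (ι h) : ℤˣ) : ℤ) : F) := fun h => rfl
  have hsgn : ∀ h : H, sgn h = 1 ∨ sgn h = -1 := by
    intro h
    rcases Int.units_eq_one_or (Perm.sign (ι h)) with h1 | h1
    · left
      apply Units.ext
      rw [hsgnval, h1]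
      simp
    · right
      apply Units.ext
      rw [hsgnval, h1]
      simp
  let ε : H →* (Y₁ : Subgroup Fˣ) := sgn.codRestrict (Y₁ : Subgroup Fˣ) (fun h => by
    rcases hsgn h with h1 | h1
    · rw [h1]
      exact Subgroup.one_mem _
    · rw [h1]
      exact hneg1)
  have hεval : ∀ h : H, ((ε h : (Y₁ : Subgroup Fˣ)) : Fˣ) = sgn h := fun h => rfl
  -- a fourth root of unity
  obtain ⟨a, ha⟩ : IsSquare (-1 : F) := FiniteField.isSquare_neg_one_iff.mpr (by omega)
  have ha0 : a ≠ 0 := by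
    rintro rfl
    rw [mul_zero] at ha
    exact one_ne_zero (neg_eq_zero.mp ha)
  let c₀ : Fˣ := Units.mk0 a ha0
  have hc₀2 : c₀ ^ 2 = -1 := by
    apply Units.ext
    rw [Units.val_pow_eq_pow_val, Units.val_neg, Units.val_one, sq]
    exact ha.symm
  have hc₀4 : c₀ ^ 4 = 1 := by
    have : c₀ ^ 4 = (c₀ ^ 2) ^ 2 := by rw [← pow_mul]
    rw [this, hc₀2, neg_one_sq]
  have hc₀ : c₀ ∈ (Y₁ : Subgroup Fˣ) := by
    apply central_mem_sylow Y₁ c₀ _ 2
    · exact hc₀4
    · rw [Subgroup.mem_center_iff]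
      intro g
      rw [mul_comm]
  have hroot : ∀ h : H, ∃ c : (Y₁ : Subgroup Fˣ), c ^ 2 = ε h ∧ c ^ 4 = 1 := by
    intro h
    rcases hsgn h with h1 | h1
    · refine ⟨1, ?_, one_pow 4⟩
      apply Subtype.ext
      rw [hεval, h1, one_pow]
      rfl
    · refine ⟨⟨c₀, hc₀⟩, ?_, ?_⟩
      · apply Subtype.ext
        rw [hεval, h1, Subgroup.coe_pow]
        exact hc₀2
      · apply Subtype.ext
        rw [Subgroup.coe_pow]
        exact hc₀4
  have htrans := sylow_two_pow_transitive k hn ι hι hcard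
  have hnpos : 0 < n := by
    rw [hn]
    positivity
  apply sq_mem_ker_wr_b ι ε ⟨0, hnpos⟩ hroot hgen htrans
  intro y
  rw [MonoidHom.mem_ker]
  have key : GeneralLinearGroup.det (Φ y) =
      (((∏ i, y.left i) * ε y.right : (Y₁ : Subgroup Fˣ)) : Fˣ) := by
    apply Units.ext
    change ((GeneralLinearGroup.det (toGLEquiv b (monoLin (F := F) F n 0
      (wrMapG (Y₁ : Subgroup Fˣ).subtype ι y))) : Fˣ) : F) = _
    rw [det_toGLEquiv, det_monoLin, Subgroup.coe_mul, Units.val_mul, hεval, hsgnval,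
      SubmonoidClass.coe_finsetProd, Units.coe_prod]
    rfl
  constructor
  · intro h
    apply Subtype.ext
    rw [← key]
    exact h
  · intro h
    change GeneralLinearGroup.det (Φ y) = 1
    rw [key, h]
    rfl

end Cfsg.Agent.Helper57
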