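import Mathlib
import Cfsg.Agent.Lib.Helper62.SLN0
import Cfsg.Agent.Lib.Helper57.SLN_K1a
import Cfsg.Agent.Lib.Helper78.SLN_G12
import Cfsg.Agent.Lib.Helper25.SLN_G13

/-!
# SLN (K1b) for helper62's lemma server (S2332): the stabiliser in `Q` of a weight `w ∉ F e_j`
acts trivially on the weight line of `w`

`k1b`, name and statement verbatim from `tools/sln_sigs_helper62.lean.txt`
(`h57_k1_core` of `SLN_K1a` + G12 for `|κ| ≥ 4` / G13 for `|κ| = 3`, `q ≥ 4`).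
-/

set_option autoImplicit false

namespace Cfsg.Agent.Helper57.SLN

open Matrix Module Cfsg.Agent.Helper93.U2 Cfsg.Agent.Helper62.SLN

section SLN

variable {F : Type*} [Field F] [Fintype F] [DecidableEq F] {κ : Type} [Fintype κ] [DecidableEq κ]
  {V : Type*} [AddCommGroup V] [Module ℂ V] [FiniteDimensional ℂ V]
  (ψ : AddChar F ℂ) (pr : Pairing (κ → F)) (hpr : ∀ w u, pr.β w u = ψ (w ⬝ᵥ u))
  (ρ : Representation ℂ (SpecialLinearGroup (Unit ⊕ κ) F) V)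

include hpr

omit [DecidableEq F] in
/-- piece K1b (R4 + S1 + G2 + G12 / G13), `n ≥ 5`, or `n = 4` and `q ≥ 4` -/
theorem k1b (hκ : 3 ≤ Fintype.card κ) (hq : Fintype.card κ = 3 → 4 ≤ Fintype.card F)
    (hd1 : ∀ w : κ → F, w ≠ 0 → finrank ℂ (wt pr ρ w) = 1)
    (j : κ) (w : κ → F) (hwj : w j = 0) (hw : w ≠ 0) (t : κ → F) (ht : t ⬝ᵥ w = 0)
    (v : V) (hv : v ∈ wt pr ρ w) : ρ (qEl j t) v = v := by
  have hex : ∃ X Y : SpecialLinearGroup κ F, X.1 *ᵥ w = w ∧ Y.1 *ᵥ w = w ∧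
      tvEl j t = X * Y * X⁻¹ * Y⁻¹ := by
    by_cases h3 : Fintype.card κ = 3
    · exact Cfsg.Agent.Helper25.SLN.tvEl_comm_fix_vec_three (F := F) h3 (hq h3) j w t hwj hw ht
    · have h4 : 4 ≤ Fintype.card κ := by omega
      exact Cfsg.Agent.Helper78.SLN.tvEl_comm_fix_vec (F := F) h4 j w t hwj ht
  obtain ⟨X, Y, hX, hY, hXY⟩ := hex
  unfold qEl
  rw [hXY]
  exact h57_k1_core ψ pr hpr ρ hd1 w hw X Y hX hY v hv

end SLN

end Cfsg.Agent.Helper57.SLN
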