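import Mathlib
import Cfsg.Agent.Lib.Helper57.SLOddC

set_option autoImplicit false

namespace Cfsg.Agent.Helper57

open Equiv Matrix

variable {F : Type*} [Field F] [Fintype F]

/-- squares in Sylow `2`-subgroups of `SL_n(F)`, `n` odd, `|F| ≡ 3 mod 4`, lie in the derived
subgroup -/
theorem sl_odd_sylow_sq_mem (hq4 : Fintype.card F % 4 = 3) (n : ℕ) (hn : Odd n)
    (P : Sylow 2 (SpecialLinearGroup (Fin n) F))
    (x : (P : Subgroup (SpecialLinearGroup (Fin n) F))) :
    x ^ 2 ∈ commutator (P : Subgroup (SpecialLinearGroup (Fin n) F)) := by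
  classical
  obtain ⟨q, hq⟩ : ∃ q, q = Fintype.card F := ⟨_, rfl⟩
  have hq4' : q % 4 = 3 := by rw [hq]; exact hq4
  obtain ⟨r, hr⟩ : ∃ r, q = 2 * r + 1 := ⟨q / 2, by omega⟩
  have hrodd : Odd r := Nat.odd_iff.mpr (by omega)
  let toGL : SpecialLinearGroup (Fin n) F →* GL (Fin n) F := SpecialLinearGroup.toGL
  have hinj : Function.Injective toGL := SpecialLinearGroup.toGL_injective
  let P₁ : Subgroup (GL (Fin n) F) := (P : Subgroup (SpecialLinearGroup (Fin n) F)).map toGL
  have hP₁ : IsPGroup 2 P₁ := P.isPGroup'.map toGL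
  obtain ⟨S, hS⟩ := hP₁.exists_le_sylow
  -- the central involution
  let z : GL (Fin n) F := -1
  have hzc : z ∈ Subgroup.center (GL (Fin n) F) := by
    rw [Subgroup.mem_center_iff]
    intro g
    change g * -1 = -1 * g
    rw [mul_neg_one, neg_one_mul]
  have hz2 : z ^ 2 ^ 1 = 1 := by
    change (-1 : GL (Fin n) F) ^ 2 ^ 1 = 1
    rw [pow_one, neg_one_sq]
  have hzS : z ∈ S := central_mem_sylow S z hzc 1 hz2
  have hdetz : GeneralLinearGroup.det z = -1 := by
    apply Units.ext
    change ((-1 : GL (Fin n) F) : Matrix (Fin n) (Fin n) F).det = ((-1 : Fˣ) : F)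
    rw [Units.val_neg, Units.val_one, Matrix.det_neg, Matrix.det_one, Fintype.card_fin,
      hn.neg_one_pow, Units.val_neg, Units.val_one, mul_one]
  -- determinants on `S`
  have hdet : ∀ g ∈ S, GeneralLinearGroup.det g = 1 ∨ GeneralLinearGroup.det g = -1 := by
    intro g hg
    obtain ⟨k, hk⟩ := S.isPGroup' ⟨g, hg⟩
    have hk' : g ^ 2 ^ k = 1 := by
      have := congrArg Subtype.val hk
      rwa [Subgroup.coe_pow, Subgroup.coe_one] at this
    have h1 : (GeneralLinearGroup.det g) ^ 2 ^ k = 1 := by rw [← map_pow, hk', map_one]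
    have h2 : (GeneralLinearGroup.det g) ^ (2 * r) = 1 := by
      apply Units.ext
      rw [Units.val_pow_eq_pow_val, Units.val_one]
      have h3 := FiniteField.pow_card_sub_one_eq_one ((GeneralLinearGroup.det g : Fˣ) : F)
        (Units.ne_zero _)
      rw [← hq, hr, Nat.add_sub_cancel] at h3
      exact h3
    have h3 := sq_eq_one_of_two_pow _ k r hrodd h1 h2
    have h4 : ((GeneralLinearGroup.det g : Fˣ) : F) ^ 2 = 1 := by
      rw [← Units.val_pow_eq_pow_val, h3, Units.val_one]
    rcases sq_eq_one_iff.mp h4 with h5 | h5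
    · left
      exact Units.ext h5
    · right
      apply Units.ext
      rw [h5, Units.val_neg, Units.val_one]
  -- elements of determinant one in `S` come from `P`
  have hmem : ∀ g ∈ S, GeneralLinearGroup.det g = 1 → g ∈ P₁ := by
    intro g hg hg1
    have hK : IsPGroup 2 ((S : Subgroup (GL (Fin n) F)).comap toGL) :=
      S.isPGroup'.comap_of_injective toGL hinj
    have hPK : (P : Subgroup (SpecialLinearGroup (Fin n) F)) ≤
        (S : Subgroup (GL (Fin n) F)).comap toGL := Subgroup.map_le_iff_le_comap.mp hS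
    have hKP := P.is_maximal' hK hPK
    have hd : (g : Matrix (Fin n) (Fin n) F).det = 1 := by
      have := congrArg Units.val hg1
      exact this
    let x₀ : SpecialLinearGroup (Fin n) F := ⟨(g : Matrix (Fin n) (Fin n) F), hd⟩
    have hx₀ : toGL x₀ = g := by
      apply Units.ext
      rfl
    have hx₀K : x₀ ∈ (S : Subgroup (GL (Fin n) F)).comap toGL := by
      rw [Subgroup.mem_comap, hx₀]
      exact hg
    rw [hKP] at hx₀K
    exact ⟨x₀, hx₀K, hx₀⟩
  have hcov : ∀ g ∈ (S : Subgroup (GL (Fin n) F)), g ∈ P₁ ∨ g * z ∈ P₁ := by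
    intro g hg
    rcases hdet g hg with h1 | h1
    · left
      exact hmem g hg h1
    · right
      apply hmem _ (S.toSubgroup.mul_mem hg hzS)
      rw [map_mul, h1, hdetz]
      simp
  have hle : ⁅(S : Subgroup (GL (Fin n) F)), (S : Subgroup (GL (Fin n) F))⁆ ≤ ⁅P₁, P₁⁆ :=
    commutator_le_of_central_cover _ P₁ z hzc hcov
  -- conclusion
  have hxP₁ : toGL x ∈ P₁ := ⟨x, x.2, rfl⟩
  have h1 := gl_sylow_sq_mem hq4 n S ⟨toGL x, hS hxP₁⟩
  have h2 : (toGL x) ^ 2 ∈ ⁅(S : Subgroup (GL (Fin n) F)), (S : Subgroup (GL (Fin n) F))⁆ := by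
    rw [← Subgroup.map_subtype_commutator]
    exact ⟨_, h1, rfl⟩
  have h3 := hle h2
  change (toGL x) ^ 2 ∈ ⁅(P : Subgroup (SpecialLinearGroup (Fin n) F)).map toGL,
    (P : Subgroup (SpecialLinearGroup (Fin n) F)).map toGL⁆ at h3
  rw [← Subgroup.map_commutator, ← Subgroup.map_subtype_commutator] at h3
  obtain ⟨_, ⟨u, hu, rfl⟩, hu2⟩ := h3
  rw [← map_pow] at hu2
  have h4 : (u : SpecialLinearGroup (Fin n) F) = ((x ^ 2 : (P : Subgroup (SpecialLinearGroup (Fin n) F))) :
      SpecialLinearGroup (Fin n) F) := by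
    rw [Subgroup.coe_pow]
    exact hinj hu2
  have h5 : u = x ^ 2 := Subtype.ext h4
  rw [← h5]
  exact hu

end Cfsg.Agent.Helper57
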