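import Mathlib
import Cfsg.Agent.Lib.Helper62.SUO0
import Cfsg.Agent.Lib.Helper57.SUOE6Core
import Cfsg.Agent.Lib.Helper78.SUOM

/-!
# SUO (E6) `core_top` for helper62's server (S2282), verbatim

(M9) `Q_le` from helper78's `SUOM`, (E5) from helper13's `SUOEnd.top_of_Qe` (through `SUOE6Core`).
-/

set_option autoImplicit false
set_option linter.unusedSectionVars false
set_option linter.unusedVariables false
set_option quotPrecheck false

namespace Cfsg.Agent.Helper57.SUO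

open Matrix Cfsg Cfsg.Agent.Helper13 Cfsg.Agent.Helper87.PsuA Cfsg.Agent.Helper62.SUO

section E
variable {F : Type*} [Field F] [Fintype F] {q n : ℕ} (hF : Fintype.card F = q ^ 2)
  {Hs : Subgroup ↥(Cfsg.SU n F q)}

local notation "V" => Fin n → F
local notation "G" => ↥(Cfsg.SU n F q)
local notation "H" => Cfsg.hermForm n F q

include hF

/-- (E5) `Helper13.SUGen.TG_top`, `PsuB0.tvSU_eq_eich` (for `u = 0` the transvection is `1`) -/
theorem top_of_Q (hn : 3 ≤ n) (h32 : ¬(n = 3 ∧ q = 2)) {e0 : V} (h00 : H e0 e0 = 0)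
    (hQ : ∀ (w : V) (a : F), H e0 w = 0 → a + a ^ q + H w w = 0 → eich hF e0 w a ∈ Hs)
    {t : G} (ht : t ∈ Hs) (hte : H (actv t e0) e0 ≠ 0) : Hs = ⊤ :=
  h57_top_of_Q hF hn h32 h00 hQ ht hte

/-- (E6) M9 + E5 with `t = l * l` (`H (l (l e0)) e0 = H (l e1) (l p) = γ`) -/
theorem core_top (hn : 3 ≤ n) (h32 : ¬(n = 3 ∧ q = 2)) {u l : G} {e0 e1 p : V} {c γ : F}
    (hyp : Hyp hF Hs u l e0 e1 p c γ) : Hs = ⊤ :=
  h57_core_top_of hF hn h32 hyp (Cfsg.Agent.Helper78.SUO.Q_le hF hyp)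

end E

end Cfsg.Agent.Helper57.SUO
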