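import Mathlib

set_option autoImplicit false

namespace Cfsg.Agent.Helper57

universe u v

/-- An element of prime order `p` lies in every normal subgroup of index prime to `p`. -/
theorem mem_of_orderOf_prime_of_index {Q : Type u} [Group Q] [Finite Q] (M : Subgroup Q)
    [M.Normal] (p : ℕ) (hp : p.Prime) (hidx : ¬ p ∣ M.index) (x : Q) (hx : orderOf x = p) :
    x ∈ M := by
  rw [← QuotientGroup.eq_one_iff, ← orderOf_eq_one_iff]
  have h1 : orderOf (x : Q ⧸ M) ∣ p := by
    rw [← hx]; exact orderOf_map_dvd (QuotientGroup.mk' M) x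
  have h2 : orderOf (x : Q ⧸ M) ∣ M.index := by
    rw [Subgroup.index_eq_card]; exact orderOf_dvd_natCard _
  rcases (Nat.dvd_prime hp).mp h1 with h | h
  · exact h
  · rw [h] at h2; exact absurd h2 hidx

theorem not_dvd_of_factorization_mul_eq_one {a b p : ℕ} (hp : p.Prime)
    (hab : (a * b).factorization p = 1) (ha : p ∣ a) : ¬ p ∣ b := by
  intro hb
  have h0 : a * b ≠ 0 := by
    intro h; rw [h] at hab; simp at hab
  have h2 : p ^ 2 ∣ a * b := by rw [sq]; exact mul_dvd_mul ha hb
  have := (hp.pow_dvd_iff_le_factorization h0).mp h2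
  omega

theorem not_dvd_card_sup {Q : Type u} [Group Q] [Finite Q] (A B : Subgroup Q) [A.Normal]
    (p : ℕ) (hp : p.Prime) (hA : ¬ p ∣ Nat.card A) (hB : ¬ p ∣ Nat.card B) :
    ¬ p ∣ Nat.card (A ⊔ B : Subgroup Q) := by
  have h1 : A.relIndex (A ⊔ B) = A.relIndex B := Subgroup.relIndex_sup_left _ _
  have h2 : Nat.card A * A.relIndex (A ⊔ B) = Nat.card (A ⊔ B : Subgroup Q) := by
    rw [← Subgroup.relIndex_bot_left A, ← Subgroup.relIndex_bot_left (A ⊔ B)]
    exact Subgroup.relIndex_mul_relIndex _ _ _ bot_le le_sup_left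
  rw [← h2, h1]
  intro h
  rcases (Nat.Prime.dvd_mul hp).mp h with h | h
  · exact hA h
  · exact hB (h.trans (Subgroup.relIndex_dvd_card _ _))

/-- If a group `Γ` acts on the finite group `Q` by automorphisms, the only `Γ`-invariant normal
subgroups of `Q` are trivial, and some prime divides `|Q|` exactly once, then `Q` is simple. -/
theorem simple_of_minimal {Q : Type u} [Group Q] [Finite Q] {Γ : Type v} [Group Γ]
    (α : Γ →* MulAut Q)
    (hmin : ∀ M : Subgroup Q, M.Normal → (∀ g : Γ, M.map (α g).toMonoidHom = M) →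
      M = ⊥ ∨ M = ⊤)
    (p : ℕ) (hp : p.Prime) (hvp : (Nat.card Q).factorization p = 1) : IsSimpleGroup Q := by
  have hpQ : p ∣ Nat.card Q := Nat.dvd_of_factorization_pos (by omega)
  have := Fact.mk hp
  obtain ⟨x, hx⟩ := exists_prime_orderOf_dvd_card' p hpQ
  have hx1 : x ≠ 1 := by
    rintro rfl
    rw [orderOf_one] at hx
    exact hp.one_lt.ne hx
  have hcomp : ∀ g h : Γ, (α h).toMonoidHom.comp (α g).toMonoidHom = (α (h * g)).toMonoidHom := by
    intro g h
    rw [map_mul]; rfl
  have hcardmap : ∀ (g : Γ) (M : Subgroup Q), Nat.card (M.map (α g).toMonoidHom) = Nat.card M :=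
    fun g M => Subgroup.card_map_of_injective (α g).injective
  refine { exists_pair_ne := ⟨x, 1, hx1⟩, eq_bot_or_eq_top_of_normal := ?_ }
  intro M hM
  by_cases hpM : p ∣ Nat.card M
  · right
    set R : Subgroup Q := ⨅ g : Γ, M.map (α g).toMonoidHom with hR
    have hRn : R.Normal := Subgroup.normal_iInf_normal (fun g => hM.map _ (α g).surjective)
    have hRinv : ∀ h : Γ, R.map (α h).toMonoidHom = R := by
      intro h
      rw [hR, Subgroup.map_iInf _ (α h).injective]
      apply le_antisymm
      · refine le_iInf fun g => ?_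
        refine (iInf_le _ (h⁻¹ * g)).trans ?_
        rw [Subgroup.map_map, hcomp, mul_inv_cancel_left]
      · refine le_iInf fun g => ?_
        refine (iInf_le _ (h * g)).trans ?_
        rw [Subgroup.map_map, hcomp]
    rcases hmin R hRn hRinv with h | h
    · exfalso
      have hxR : x ∈ R := by
        rw [hR, Subgroup.mem_iInf]
        intro g
        have : (M.map (α g).toMonoidHom).Normal := hM.map _ (α g).surjective
        apply mem_of_orderOf_prime_of_index _ p hp _ x hx
        apply not_dvd_of_factorization_mul_eq_one hp (a := Nat.card (M.map (α g).toMonoidHom))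
        · rw [Subgroup.card_mul_index]; exact hvp
        · rw [hcardmap]; exact hpM
      rw [h, Subgroup.mem_bot] at hxR
      exact hx1 hxR
    · have hRM : R ≤ M := by
        refine (iInf_le _ 1).trans ?_
        rw [map_one]
        intro y hy
        obtain ⟨z, hz, rfl⟩ := hy
        exact hz
      exact top_le_iff.mp (h ▸ hRM)
  · left
    let T := {A : Subgroup Q // A.Normal ∧ ¬ p ∣ Nat.card A}
    have : Nonempty T := ⟨⟨⊥, inferInstance, by
      rw [Subgroup.card_bot]; exact fun h => hp.one_lt.ne' (Nat.dvd_one.mp h)⟩⟩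
    obtain ⟨⟨A, hAn, hAp⟩, hAmax⟩ := Finite.exists_max (fun A : T => Nat.card A.1)
    have hle : ∀ B : Subgroup Q, B.Normal → ¬ p ∣ Nat.card B → B ≤ A := by
      intro B hBn hBp
      have := hAn
      have := hBn
      have hAB : ¬ p ∣ Nat.card (A ⊔ B : Subgroup Q) := not_dvd_card_sup A B p hp hAp hBp
      have hn : (A ⊔ B).Normal := inferInstance
      have h1 := hAmax ⟨A ⊔ B, hn, hAB⟩
      have h2 : A = A ⊔ B := Subgroup.eq_of_le_of_card_ge le_sup_left h1
      rw [h2]; exact le_sup_right
    have hAinv : ∀ g : Γ, A.map (α g).toMonoidHom = A := by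
      intro g
      apply Subgroup.eq_of_le_of_card_ge
      · apply hle _ (hAn.map _ (α g).surjective)
        rw [hcardmap]; exact hAp
      · rw [hcardmap]
    rcases hmin A hAn hAinv with h | h
    · exact le_bot_iff.mp (h ▸ hle M hM hpM)
    · exfalso
      rw [h, Subgroup.card_top] at hAp
      exact hAp hpQ

end Cfsg.Agent.Helper57
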