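import Cfsg.Agent.S3444

set_option autoImplicit false

namespace Cfsg.Agent.Helper57

universe u

theorem exists_normal_elemAb {G : Type u} [Group G] [Finite G] [Nontrivial G]
    (hs : Group.IsSolvable G) :
    ∃ (N : Subgroup G) (r : ℕ), N.Normal ∧ r.Prime ∧ N ≠ ⊥ ∧ (∀ x y : N, x * y = y * x) ∧
      (∀ x : N, x ^ r = 1) := by
  have htop : (⊤ : Subgroup G) ≠ ⊥ := by
    intro h
    obtain ⟨x, hx⟩ := exists_ne (1 : G)
    have : x ∈ (⊤ : Subgroup G) := Subgroup.mem_top x
    rw [h, Subgroup.mem_bot] at this
    exact hx this
  haveI := hs
  have hs' : Group.IsSolvable (⊤ : Subgroup G) := inferInstance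
  obtain ⟨A, hAn, hAne, hAc⟩ := Cfsg.Agent.S3444.exists_abelian_normal (⊤ : Subgroup G) htop hs'
  obtain ⟨V, p, hVn, hp, hVne, hcomm, hexp⟩ :=
    Cfsg.Agent.S3444.exists_elemAb_of_abelian A hAne hAc
  exact ⟨V, p, hVn, hp, hVne, hcomm, hexp⟩

/-- Commuting elements of distinct prime orders multiply to an element of order `p * q`. -/
theorem orderOf_mul_of_primes {G : Type u} [Group G] (x y : G) (p q : ℕ) (hp : p.Prime)
    (hq : q.Prime) (hpq : p ≠ q) (hx : orderOf x = p) (hy : orderOf y = q) (hc : Commute x y) :
    orderOf (x * y) = p * q := by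
  rw [hc.orderOf_mul_eq_mul_orderOf_of_coprime, hx, hy]
  rw [hx, hy]
  exact (Nat.coprime_primes hp hq).mpr hpq

theorem solv_pq_aux : ∀ (k : ℕ) (G : Type u) [Group G] [Finite G], Nat.card G ≤ k →
    Group.IsSolvable G → ∀ p q : ℕ, p.Prime → q.Prime → p ≠ q →
    (Nat.card G).factorization p = 1 → ¬ q ∣ p - 1 → (∀ g : G, orderOf g ≠ p * q) →
    q ^ (Nat.card G).factorization q ≡ 1 [MOD p] := by
  intro k
  induction k with
  | zero =>
    intro G _ _ hk
    have : 0 < Nat.card G := Nat.card_pos
    omega
  | succ k ih =>
    intro G _ _ hk hs p q hp hq hpq hvp hqp hno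
    haveI : Fact p.Prime := ⟨hp⟩
    have hcard1 : Nat.card G ≠ 1 := by
      intro h
      rw [h] at hvp
      simp at hvp
    haveI hnt : Nontrivial G := by
      rw [← Finite.one_lt_card_iff_nontrivial]
      have : 0 < Nat.card G := Nat.card_pos
      omega
    obtain ⟨N, r, hNn, hr, hNne, hcomm, hexp⟩ := exists_normal_elemAb hs
    haveI := hNn
    haveI : Fact r.Prime := ⟨hr⟩
    have hcard : Nat.card G = Nat.card (G ⧸ N) * Nat.card N :=
      Subgroup.card_eq_card_quotient_mul_card_subgroup N
    have hNp : IsPGroup r N := fun x => ⟨1, by rw [pow_one]; exact hexp x⟩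
    obtain ⟨j, hj⟩ := hNp.exists_card_eq
    have hj0 : j ≠ 0 := by
      intro h
      rw [h, pow_zero] at hj
      exact hNne (Subgroup.card_eq_one.mp hj)
    have hQpos : Nat.card (G ⧸ N) ≠ 0 := Nat.card_pos.ne'
    have hNpos : Nat.card N ≠ 0 := Nat.card_pos.ne'
    have hfact : ∀ s : ℕ, (Nat.card G).factorization s =
        (Nat.card (G ⧸ N)).factorization s + (Nat.card N).factorization s := by
      intro s
      rw [hcard, Nat.factorization_mul hQpos hNpos]
      rfl
    have hfN : ∀ s : ℕ, (Nat.card N).factorization s = if s = r then j else 0 := by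
      intro s
      rw [hj, Nat.Prime.factorization_pow hr]
      by_cases h : s = r
      · subst h; simp
      · simp [h, Finsupp.single_apply, Ne.symm h]
    by_cases hrp : r = p
    · -- `N` is a normal subgroup of order `p`
      subst hrp
      have hj1 : j = 1 := by
        have := hfact r
        rw [hfN r, if_pos rfl, hvp] at this
        omega
      have hNcard : Nat.card N = r := by rw [hj, hj1, pow_one]
      have hqG : ¬ q ∣ Nat.card G := by
        intro hqd
        let φ : G →* MulAut N := MulAut.conjNormal
        have h1 : Nat.card G = Nat.card (G ⧸ φ.ker) * Nat.card φ.ker :=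
          Subgroup.card_eq_card_quotient_mul_card_subgroup φ.ker
        have h2 : Nat.card (G ⧸ φ.ker) = Nat.card φ.range :=
          Nat.card_congr (QuotientGroup.quotientKerEquivRange φ).toEquiv
        haveI : IsCyclic N := isCyclic_of_prime_card hNcard
        have h3 : Nat.card φ.range ∣ r - 1 := by
          have := Subgroup.card_subgroup_dvd_card φ.range
          rwa [IsCyclic.card_mulAut, hNcard, Nat.totient_prime hr] at this
        have h4 : q ∣ Nat.card φ.ker := by
          rw [h1, h2] at hqd
          rcases (Nat.Prime.dvd_mul hq).mp hqd with h | h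
          · exact absurd (h.trans h3) hqp
          · exact h
        haveI : Fact q.Prime := ⟨hq⟩
        obtain ⟨y, hy⟩ := exists_prime_orderOf_dvd_card' (G := φ.ker) q h4
        have hrN : r ∣ Nat.card N := by rw [hNcard]
        obtain ⟨x, hx⟩ := exists_prime_orderOf_dvd_card' (G := N) r hrN
        have hyker : φ (y : G) = 1 := y.2
        have hcomm' : Commute (x : G) (y : G) := by
          have := congrArg (fun f : MulAut N => ((f x : N) : G)) hyker
          simp only [φ, MulAut.conjNormal_apply, MulAut.one_apply] at this
          -- this : y * x * y⁻¹ = x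
          have h5 : (y : G) * (x : G) = (x : G) * (y : G) := by
            calc (y : G) * (x : G) = ((y : G) * (x : G) * (y : G)⁻¹) * (y : G) := by group
              _ = (x : G) * (y : G) := by rw [this]
          exact h5.symm
        have hox : orderOf (x : G) = r := by rw [Subgroup.orderOf_coe]; exact hx
        have hoy : orderOf (y : G) = q := by rw [Subgroup.orderOf_coe]; exact hy
        exact hno _ (orderOf_mul_of_primes (x : G) (y : G) r q hr hq hpq hox hoy hcomm')
      have : (Nat.card G).factorization q = 0 := Nat.factorization_eq_zero_of_not_dvd hqG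
      rw [this, pow_zero]
    · -- pass to the quotient
      have hlt : Nat.card (G ⧸ N) ≤ k := by
        have h2 : 2 ≤ Nat.card N := by
          have hpos : 0 < Nat.card N := Nat.card_pos
          have hne1 : Nat.card N ≠ 1 := fun h => hNne (Subgroup.card_eq_one.mp h)
          omega
        have hpos : 0 < Nat.card (G ⧸ N) := Nat.card_pos
        have : 2 * Nat.card (G ⧸ N) ≤ Nat.card (G ⧸ N) * Nat.card N := by
          rw [mul_comm]; exact Nat.mul_le_mul_left _ h2
        omega
      haveI : Group.IsSolvable G := hs
      have hsQ : Group.IsSolvable (G ⧸ N) := inferInstance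
      have hvpQ : (Nat.card (G ⧸ N)).factorization p = 1 := by
        have := hfact p
        rw [hfN p, if_neg (Ne.symm hrp), hvp] at this
        omega
      have hnoQ : ∀ g : G ⧸ N, orderOf g ≠ p * q := by
        intro gbar hg
        obtain ⟨g, rfl⟩ := QuotientGroup.mk_surjective gbar
        have hdvd : orderOf (QuotientGroup.mk' N g) ∣ orderOf g := orderOf_map_dvd _ g
        rw [QuotientGroup.mk'_apply, hg] at hdvd
        obtain ⟨s, hs'⟩ := hdvd
        have hs0 : s ≠ 0 := by
          intro h
          rw [h, mul_zero] at hs'
          exact (orderOf_pos g).ne' hs'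
        have := orderOf_pow_of_dvd (x := g) hs0 ⟨p * q, by rw [hs', mul_comm]⟩
        rw [hs', Nat.mul_div_cancel _ (Nat.pos_of_ne_zero hs0)] at this
        exact hno _ this
      have hIH := ih (G ⧸ N) hlt hsQ p q hp hq hpq hvpQ hqp hnoQ
      by_cases hrq : r = q
      · subst hrq
        -- `|N| ≡ 1 mod p` by counting orbits of an element of order `p`
        have hpG : p ∣ Nat.card G := by
          have := Nat.ordProj_dvd (Nat.card G) p
          rw [hvp, pow_one] at this
          exact this
        obtain ⟨x, hx⟩ := exists_prime_orderOf_dvd_card' (G := G) p hpG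
        let P : Subgroup G := Subgroup.zpowers x
        have hPcard : Nat.card P = p := by rw [Nat.card_zpowers, hx]
        have hPp : IsPGroup p P := IsPGroup.of_card (n := 1) (by rw [hPcard, pow_one])
        letI : MulAction P N :=
          MulAction.compHom N ((MulAut.conjNormal (H := N)).comp P.subtype)
        have hmod := hPp.card_modEq_card_fixedPoints N
        have hfix : MulAction.fixedPoints P N = {1} := by
          rw [Set.eq_singleton_iff_unique_mem]
          constructor
          · intro g
            show (MulAut.conjNormal (H := N) (g : G)) 1 = 1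
            exact map_one _
          · intro y hy
            by_contra hy1
            have hxy := hy ⟨x, Subgroup.mem_zpowers x⟩
            have hxy' : (MulAut.conjNormal (H := N) x) y = y := hxy
            have h5 := congrArg (fun z : N => (z : G)) hxy'
            simp only [MulAut.conjNormal_apply] at h5
            have hcomm' : Commute x (y : G) := by
              have h6 : x * (y : G) = (y : G) * x := by
                calc x * (y : G) = (x * (y : G) * x⁻¹) * x := by group
                  _ = (y : G) * x := by rw [h5]
              exact h6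
            have hoy : orderOf (y : G) = r := by
              rw [Subgroup.orderOf_coe]
              exact orderOf_eq_prime (hexp y) hy1
            exact hno _ (orderOf_mul_of_primes x (y : G) p r hp hr hpq hx hoy hcomm')
        rw [hfix] at hmod
        have hone : Nat.card ({1} : Set N) = 1 := by simp
        rw [hone, hj] at hmod
        have := hfact r
        rw [hfN r, if_pos rfl] at this
        rw [this, pow_add]
        calc r ^ (Nat.card (G ⧸ N)).factorization r * r ^ j ≡ 1 * 1 [MOD p] :=
              Nat.ModEq.mul hIH hmod
          _ = 1 := by norm_num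
      · have := hfact q
        rw [hfN q, if_neg (Ne.symm hrq), add_zero] at this
        rw [this]
        exact hIH

/-- In a finite solvable group whose order is exactly divisible by `p`, with no element of order
`p * q` where `q ∤ p - 1`, the `q`-part of the order is `≡ 1 mod p`. -/
theorem solv_pq {G : Type u} [Group G] [Finite G] (hs : Group.IsSolvable G) (p q : ℕ)
    (hp : p.Prime) (hq : q.Prime) (hpq : p ≠ q) (hvp : (Nat.card G).factorization p = 1)
    (hqp : ¬ q ∣ p - 1) (hno : ∀ g : G, orderOf g ≠ p * q) :
    q ^ (Nat.card G).factorization q ≡ 1 [MOD p] :=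
  solv_pq_aux (Nat.card G) G le_rfl hs p q hp hq hpq hvp hqp hno

end Cfsg.Agent.Helper57
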