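import Cfsg.Agent.Lib.Helper57.Cubic

set_option autoImplicit false

namespace Cfsg.Agent.Helper57
open Matrix

theorem cubic_F3 : ∀ a b : ZMod 3,
    powX a b 1 8 = (1, 0, 0) ∨ powX a b 1 6 = (1, 0, 0) ∨ powX a b 1 13 = (1, 0, 0) := by
  decide

def m13 : SpecialLinearGroup (Fin 3) (ZMod 3) := ⟨!![0, 0, 1; 1, 0, 1; 0, 1, 0], by decide⟩
def m8 : SpecialLinearGroup (Fin 3) (ZMod 3) := ⟨!![0, 0, 1; 1, 0, 2; 0, 1, 0], by decide⟩
def m6 : SpecialLinearGroup (Fin 3) (ZMod 3) := ⟨!![0, 0, 1; 1, 0, 1; 0, 1, 2], by decide⟩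

theorem order_m13 : orderOf m13 = 13 := by
  rw [orderOf_eq_iff (by norm_num)]
  decide

theorem order_m8 : orderOf m8 = 8 := by
  rw [orderOf_eq_iff (by norm_num)]
  decide

theorem order_m6 : orderOf m6 = 6 := by
  rw [orderOf_eq_iff (by norm_num)]
  decide

variable {F : Type*} [Field F] [Fintype F]

theorem sl3_pow (hF : Fintype.card F = 3) (g : SpecialLinearGroup (Fin 3) F) :
    g ^ 8 = 1 ∨ g ^ 6 = 1 ∨ g ^ 13 = 1 := by
  have e : ZMod 3 ≃+* F := ZMod.ringEquivOfPrime F Nat.prime_three hF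
  obtain ⟨a, b, h⟩ := cayley3 (g : Matrix (Fin 3) (Fin 3) F) g.2
  obtain ⟨a', rfl⟩ := e.surjective a
  obtain ⟨b', rfl⟩ := e.surjective b
  have h' : (g : Matrix (Fin 3) (Fin 3) F) ^ 3 = e a' • (g : Matrix (Fin 3) (Fin 3) F) ^ 2 +
      e b' • (g : Matrix (Fin 3) (Fin 3) F) + e 1 • (1 : Matrix (Fin 3) (Fin 3) F) := by
    rw [map_one]; exact h
  have key : ∀ n : ℕ, powX a' b' 1 n = (1, 0, 0) → g ^ n = 1 := by
    intro n hn
    have hm : ((g ^ n : SpecialLinearGroup (Fin 3) F) : Matrix (Fin 3) (Fin 3) F) =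
        ((1 : SpecialLinearGroup (Fin 3) F) : Matrix (Fin 3) (Fin 3) F) := by
      refine (Matrix.SpecialLinearGroup.coe_pow g n).trans ?_
      refine Eq.trans ?_ (Matrix.SpecialLinearGroup.coe_one (n := Fin 3) (R := F)).symm
      exact pow_eq_one_of_powX _ (e a') (e b') (e 1) h' n
        (powX_map_eq_one (e : ZMod 3 →+* F) a' b' 1 n hn)
    exact Matrix.SpecialLinearGroup.ext _ _ (fun i j => by rw [hm])
  rcases cubic_F3 a' b' with h1 | h1 | h1
  · exact Or.inl (key 8 h1)
  · exact Or.inr (Or.inl (key 6 h1))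
  · exact Or.inr (Or.inr (key 13 h1))

theorem center_SL3_eq_bot (hF : Fintype.card F = 3) :
    Subgroup.center (SpecialLinearGroup (Fin 3) F) = ⊥ := by
  rw [Subgroup.eq_bot_iff_forall]
  intro g hg
  obtain ⟨r, hr, hs⟩ := Matrix.SpecialLinearGroup.mem_center_iff.mp hg
  have h3 : r ^ 3 = r := by
    have := FiniteField.pow_card r
    rwa [hF] at this
  have hr1 : r = 1 := by
    rw [Fintype.card_fin] at hr
    rw [← h3, hr]
  refine Matrix.SpecialLinearGroup.ext _ _ (fun i j => ?_)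
  rw [← hs, hr1]
  simp

/-- The embedding of `SL₃(𝔽₃)` into `PSL₃(F)` for a field `F` with three elements. -/
noncomputable def toPSL (hF : Fintype.card F = 3) :
    SpecialLinearGroup (Fin 3) (ZMod 3) →* ProjectiveSpecialLinearGroup (Fin 3) F :=
  (QuotientGroup.mk' _).comp
    (SpecialLinearGroup.map ((ZMod.ringEquivOfPrime F Nat.prime_three hF : ZMod 3 ≃+* F) :
      ZMod 3 →+* F))

theorem toPSL_injective (hF : Fintype.card F = 3) : Function.Injective (toPSL hF) := by
  rw [injective_iff_map_eq_one]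
  intro g hg
  unfold toPSL at hg
  rw [MonoidHom.comp_apply, QuotientGroup.mk'_apply, QuotientGroup.eq_one_iff,
    center_SL3_eq_bot hF, Subgroup.mem_bot] at hg
  refine Matrix.SpecialLinearGroup.ext _ _ (fun i j => ?_)
  have := congrArg (fun m : SpecialLinearGroup (Fin 3) F => (m : Matrix (Fin 3) (Fin 3) F) i j) hg
  simp only [SpecialLinearGroup.map_apply_coe, RingHom.mapMatrix_apply, Matrix.map_apply] at this
  have h1 : ((1 : SpecialLinearGroup (Fin 3) F) : Matrix (Fin 3) (Fin 3) F) = 1 :=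
    Matrix.SpecialLinearGroup.coe_one
  have h1' : ((1 : SpecialLinearGroup (Fin 3) (ZMod 3)) : Matrix (Fin 3) (Fin 3) (ZMod 3)) = 1 :=
    Matrix.SpecialLinearGroup.coe_one
  rw [h1] at this
  rw [h1']
  by_cases hij : i = j
  · subst hij
    rw [Matrix.one_apply_eq] at this ⊢
    exact (ZMod.ringEquivOfPrime F Nat.prime_three hF).injective (by rw [map_one]; exact this)
  · rw [Matrix.one_apply_ne hij] at this ⊢
    exact (ZMod.ringEquivOfPrime F Nat.prime_three hF).injective (by rw [map_zero]; exact this)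

theorem spec_PSL33 (hF : Fintype.card F = 3) :
    Set.range (orderOf : ProjectiveSpecialLinearGroup (Fin 3) F → ℕ) = {1, 2, 3, 4, 6, 8, 13} := by
  apply Set.Subset.antisymm
  · rintro _ ⟨x, rfl⟩
    obtain ⟨g, rfl⟩ := QuotientGroup.mk_surjective x
    have hpow : ∀ n : ℕ, g ^ n = 1 → orderOf (QuotientGroup.mk g :
        ProjectiveSpecialLinearGroup (Fin 3) F) ∣ n := by
      intro n hn
      apply orderOf_dvd_of_pow_eq_one
      rw [← QuotientGroup.mk_pow, hn]
      rfl
    rcases sl3_pow hF g with h | h | h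
    · have h2 := Nat.mem_divisors.mpr ⟨hpow 8 h, by norm_num⟩
      have h3 : Nat.divisors 8 = {1, 2, 4, 8} := by decide
      rw [h3] at h2
      simp only [Finset.mem_insert, Finset.mem_singleton] at h2
      rcases h2 with h2 | h2 | h2 | h2 <;> simp [h2]
    · have h2 := Nat.mem_divisors.mpr ⟨hpow 6 h, by norm_num⟩
      have h3 : Nat.divisors 6 = {1, 2, 3, 6} := by decide
      rw [h3] at h2
      simp only [Finset.mem_insert, Finset.mem_singleton] at h2
      rcases h2 with h2 | h2 | h2 | h2 <;> simp [h2]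
    · have h2 := Nat.mem_divisors.mpr ⟨hpow 13 h, by norm_num⟩
      have h3 : Nat.divisors 13 = {1, 13} := by decide
      rw [h3] at h2
      simp only [Finset.mem_insert, Finset.mem_singleton] at h2
      rcases h2 with h2 | h2 <;> simp [h2]
  · intro n hn
    have key : ∀ g : SpecialLinearGroup (Fin 3) (ZMod 3),
        orderOf (toPSL hF g) = orderOf g := orderOf_injective _ (toPSL_injective hF)
    simp only [Set.mem_insert_iff, Set.mem_singleton_iff] at hn
    rcases hn with rfl | rfl | rfl | rfl | rfl | rfl | rfl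
    · exact ⟨1, orderOf_one⟩
    · refine ⟨toPSL hF (m6 ^ 3), ?_⟩
      rw [key, orderOf_pow, order_m6]; rfl
    · refine ⟨toPSL hF (m6 ^ 2), ?_⟩
      rw [key, orderOf_pow, order_m6]; rfl
    · refine ⟨toPSL hF (m8 ^ 2), ?_⟩
      rw [key, orderOf_pow, order_m8]; rfl
    · exact ⟨toPSL hF m6, by rw [key, order_m6]⟩
    · exact ⟨toPSL hF m8, by rw [key, order_m8]⟩
    · exact ⟨toPSL hF m13, by rw [key, order_m13]⟩

end Cfsg.Agent.Helper57
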