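import Cfsg.Agent.Lib.Helper57.Cubic
import Cfsg.Prelude.Def_Classical

set_option autoImplicit false

namespace Cfsg.Agent.Helper57
open Matrix

/-- The field with nine elements as `𝔽₃[i]`. -/
abbrev K9 := QuadraticAlgebra (ZMod 3) (-1) 0

instance factK9 : Fact (∀ r : ZMod 3, r ^ 2 ≠ (-1 : ZMod 3) + 0 * r) := ⟨by decide⟩

instance : Fintype K9 := Fintype.ofEquiv _ (QuadraticAlgebra.equivProd (-1 : ZMod 3) 0).symm

theorem card_K9 : Fintype.card K9 = 9 := by
  rw [Fintype.card_congr (QuadraticAlgebra.equivProd (-1 : ZMod 3) 0)]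
  simp

theorem cubic_K9 : ∀ s t : ZMod 3,
    powX (⟨s, t⟩ : K9) (-((⟨s, t⟩ : K9) ^ 3)) 1 7 = (1, 0, 0) ∨
    powX (⟨s, t⟩ : K9) (-((⟨s, t⟩ : K9) ^ 3)) 1 8 = (1, 0, 0) ∨
    powX (⟨s, t⟩ : K9) (-((⟨s, t⟩ : K9) ^ 3)) 1 12 = (1, 0, 0) := by
  decide

section General

variable {F : Type*} [Field F]

theorem unitary_of_preserves (M : Matrix (Fin 3) (Fin 3) F)
    (h : ∀ u v, Cfsg.hermForm 3 F 3 (M *ᵥ u) (M *ᵥ v) = Cfsg.hermForm 3 F 3 u v) :
    Mᵀ * M.map (· ^ 3) = 1 := by
  ext i j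
  have := h (Pi.single i 1) (Pi.single j 1)
  simp only [Cfsg.hermForm, Matrix.mulVec_single_one] at this
  rw [Matrix.mul_apply]
  simp only [Matrix.transpose_apply, Matrix.map_apply]
  rw [show (∑ k, M k i * M k j ^ 3) = ∑ k, M.col i k * M.col j k ^ 3 from rfl, this]
  simp only [Pi.single_apply, Matrix.one_apply]
  by_cases hij : i = j
  · subst hij
    simp
  · simp only [hij, if_false]
    apply Finset.sum_eq_zero
    intro k _
    by_cases hk : k = i
    · subst hk
      have : ¬ k = j := hij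
      simp [this]
    · simp [hk]

theorem pow_mul_pow_cancel (M W : Matrix (Fin 3) (Fin 3) F) (h : M * W = 1) (n m : ℕ) :
    M ^ (n + m) * W ^ m = M ^ n := by
  induction m with
  | zero => simp
  | succ m ih =>
    rw [← add_assoc, pow_succ, pow_succ', mul_assoc, ← mul_assoc M W, h, one_mul, ih]

variable [CharP F 3]

theorem preserves_of_unitary (M : Matrix (Fin 3) (Fin 3) F)
    (h : Mᵀ * M.map (· ^ 3) = 1) (u v : Fin 3 → F) :
    Cfsg.hermForm 3 F 3 (M *ᵥ u) (M *ᵥ v) = Cfsg.hermForm 3 F 3 u v := by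
  haveI : Fact (Nat.Prime 3) := ⟨Nat.prime_three⟩
  have hh : ∀ x y : Fin 3 → F, Cfsg.hermForm 3 F 3 x y = x ⬝ᵥ (fun i => frobenius F 3 (y i)) := by
    intro x y
    simp [Cfsg.hermForm, dotProduct, frobenius_def]
  have hm : M.map (· ^ 3) = M.map (frobenius F 3) := by
    ext i j
    simp [frobenius_def]
  rw [hh, hh]
  have h1 : (fun i => frobenius F 3 ((M *ᵥ v) i)) =
      (M.map (frobenius F 3)) *ᵥ (fun j => frobenius F 3 (v j)) := by
    ext i
    exact RingHom.map_mulVec (frobenius F 3) M v i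
  rw [h1, ← hm]
  have h2 : ∀ (y : Fin 3 → F), (M *ᵥ u) ⬝ᵥ y = u ⬝ᵥ (Mᵀ *ᵥ y) := by
    intro y
    rw [Matrix.dotProduct_mulVec, Matrix.vecMul_transpose]
  rw [h2, Matrix.mulVec_mulVec, h, Matrix.one_mulVec]

theorem su_cubic (M : Matrix (Fin 3) (Fin 3) F) (hdet : M.det = 1)
    (hU : Mᵀ * M.map (· ^ 3) = 1) :
    M = 1 ∨ ∃ a : F, M ^ 3 = a • M ^ 2 + (-(a ^ 3)) • M + (1 : F) • (1 : Matrix (Fin 3) (Fin 3) F) := by
  haveI : Fact (Nat.Prime 3) := ⟨Nat.prime_three⟩
  obtain ⟨a, b, h⟩ := cayley3 M hdet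
  set N : Matrix (Fin 3) (Fin 3) F := M.map (· ^ 3) with hNdef
  have hmapmul : ∀ X Y : Matrix (Fin 3) (Fin 3) F,
      (X * Y).map (· ^ 3) = X.map (· ^ 3) * Y.map (· ^ 3) := by
    intro X Y
    have h1 : ∀ Z : Matrix (Fin 3) (Fin 3) F, Z.map (· ^ 3) = (frobenius F 3).mapMatrix Z := by
      intro Z; ext i j; simp [frobenius_def]
    rw [h1, h1, h1, map_mul]
  have hmappow : ∀ (X : Matrix (Fin 3) (Fin 3) F) (n : ℕ),
      (X ^ n).map (· ^ 3) = (X.map (· ^ 3)) ^ n := by
    intro X n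
    have h1 : ∀ Z : Matrix (Fin 3) (Fin 3) F, Z.map (· ^ 3) = (frobenius F 3).mapMatrix Z := by
      intro Z; ext i j; simp [frobenius_def]
    rw [h1, h1, map_pow]
  have hmapadd : ∀ X Y : Matrix (Fin 3) (Fin 3) F,
      (X + Y).map (· ^ 3) = X.map (· ^ 3) + Y.map (· ^ 3) := by
    intro X Y
    have h1 : ∀ Z : Matrix (Fin 3) (Fin 3) F, Z.map (· ^ 3) = (frobenius F 3).mapMatrix Z := by
      intro Z; ext i j; simp [frobenius_def]
    rw [h1, h1, h1, map_add]
  have hmapsmul : ∀ (c : F) (X : Matrix (Fin 3) (Fin 3) F),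
      (c • X).map (· ^ 3) = (c ^ 3) • X.map (· ^ 3) := by
    intro c X
    ext i j
    simp [mul_pow]
  have hmapone : (1 : Matrix (Fin 3) (Fin 3) F).map (· ^ 3) = 1 := by
    ext i j
    by_cases hij : i = j
    · subst hij; simp
    · simp [Matrix.one_apply_ne hij]
  have hN : N ^ 3 = (a ^ 3) • N ^ 2 + (b ^ 3) • N + (1 : Matrix (Fin 3) (Fin 3) F) := by
    have := congrArg (fun X : Matrix (Fin 3) (Fin 3) F => X.map (· ^ 3)) h
    simp only [hmappow, hmapadd, hmapsmul, hmapone, one_smul] at this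
    exact this
  set W : Matrix (Fin 3) (Fin 3) F := Nᵀ with hWdef
  have hWM : W * M = 1 := by
    have := congrArg Matrix.transpose hU
    rw [Matrix.transpose_mul, Matrix.transpose_transpose, Matrix.transpose_one] at this
    exact this
  have hMW : M * W = 1 := mul_eq_one_comm.mp hWM
  have hW : W ^ 3 = (a ^ 3) • W ^ 2 + (b ^ 3) • W + (1 : Matrix (Fin 3) (Fin 3) F) := by
    have := congrArg Matrix.transpose hN
    simp only [Matrix.transpose_pow, Matrix.transpose_add, Matrix.transpose_smul,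
      Matrix.transpose_one] at this
    exact this
  have e33 : M ^ 3 * W ^ 3 = 1 := by
    have := pow_mul_pow_cancel M W hMW 0 3
    simpa using this
  have e32 : M ^ 3 * W ^ 2 = M := by
    have := pow_mul_pow_cancel M W hMW 1 2
    simpa using this
  have e31 : M ^ 3 * W = M ^ 2 := by
    have := pow_mul_pow_cancel M W hMW 2 1
    simpa using this
  have hrel : (1 : Matrix (Fin 3) (Fin 3) F) = (a ^ 3) • M + (b ^ 3) • M ^ 2 + M ^ 3 := by
    have := congrArg (fun X => M ^ 3 * X) hW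
    simp only [mul_add, Matrix.mul_smul, e33, e32, e31, mul_one] at this
    exact this
  -- combine
  have hcomb : (a + b ^ 3) • M ^ 2 + (b + a ^ 3) • M = 0 := by
    have h' : M ^ 3 = a • M ^ 2 + b • M + (1 : Matrix (Fin 3) (Fin 3) F) := by
      rw [h, one_smul]
    have : (a + b ^ 3) • M ^ 2 + (b + a ^ 3) • M =
        (a • M ^ 2 + b • M + (1 : Matrix (Fin 3) (Fin 3) F)) - M ^ 3 +
          ((a ^ 3) • M + (b ^ 3) • M ^ 2 + M ^ 3 - 1) := by
      simp only [add_smul]
      abel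
    rw [this, ← h', ← hrel]
    simp
  have e21 : M ^ 2 * W = M := by
    have := pow_mul_pow_cancel M W hMW 1 1
    simpa using this
  have hcomb2 : (a + b ^ 3) • M + (b + a ^ 3) • (1 : Matrix (Fin 3) (Fin 3) F) = 0 := by
    have := congrArg (fun X => X * W) hcomb
    simp only [add_mul, Matrix.smul_mul, e21, hMW, zero_mul] at this
    exact this
  by_cases hc : a + b ^ 3 = 0
  · right
    refine ⟨a, ?_⟩
    rw [hc, zero_smul, zero_add] at hcomb2
    have h00 := congrFun (congrFun hcomb2 0) 0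
    simp only [Matrix.smul_apply, Matrix.one_apply_eq, smul_eq_mul, mul_one,
      Matrix.zero_apply] at h00
    have hb : b = -(a ^ 3) := eq_neg_of_add_eq_zero_left h00
    rw [h, hb]
  · left
    have hM : M = (-(b + a ^ 3) / (a + b ^ 3)) • (1 : Matrix (Fin 3) (Fin 3) F) := by
      have h1 : (a + b ^ 3) • M = (-(b + a ^ 3)) • (1 : Matrix (Fin 3) (Fin 3) F) := by
        rw [neg_smul]
        exact eq_neg_of_add_eq_zero_left hcomb2
      have h2 := congrArg (fun X => (a + b ^ 3)⁻¹ • X) h1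
      simp only [smul_smul, inv_mul_cancel₀ hc, one_smul] at h2
      rw [h2, div_eq_inv_mul]
    set l : F := -(b + a ^ 3) / (a + b ^ 3)
    have hl3 : l ^ 3 = 1 := by
      have := hdet
      rw [hM, Matrix.det_smul, Matrix.det_one, mul_one, Fintype.card_fin] at this
      exact this
    have hl1 : l = 1 := by
      have : (l - 1) ^ 3 = 0 := by
        rw [sub_pow_char (R := F) (p := 3) (x := l) (y := 1), hl3, one_pow, sub_self]
      have := pow_eq_zero_iff (n := 3) (by norm_num) |>.mp this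
      exact sub_eq_zero.mp this
    rw [hM, hl1, one_smul]

end General

end Cfsg.Agent.Helper57
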