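import Cfsg.Agent.Lib.Helper57.SpecPSU33a

set_option autoImplicit false

namespace Cfsg.Agent.Helper57
open Matrix

variable {F : Type*} [Field F] [Fintype F]

theorem charP_of_card_nine (hF : Fintype.card F = 9) : CharP F 3 := by
  obtain ⟨p, hp⟩ := CharP.exists F
  obtain ⟨n, hprime, hcard⟩ := FiniteField.card F p
  rw [hF] at hcard
  have h3 : p ∣ 3 ^ 2 := by
    have : p ∣ p ^ (n : ℕ) := dvd_pow_self p n.ne_zero
    rw [← hcard] at this
    exact this
  have : p ∣ 3 := hprime.dvd_of_dvd_pow h3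
  have : p = 3 := (Nat.prime_dvd_prime_iff_eq hprime Nat.prime_three).mp this
  subst this
  exact hp

/-- A ring isomorphism from the concrete field with nine elements. -/
noncomputable def eK9 (hF : Fintype.card F = 9) : K9 ≃+* F :=
  FiniteField.ringEquivOfCardEq (K := K9) (K' := F) (by rw [card_K9, hF])

theorem mem_SU_iff [CharP F 3] (g : SpecialLinearGroup (Fin 3) F) :
    g ∈ Cfsg.SU 3 F 3 ↔
      (g : Matrix (Fin 3) (Fin 3) F)ᵀ * (g : Matrix (Fin 3) (Fin 3) F).map (· ^ 3) = 1 := by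
  constructor
  · intro h
    exact unitary_of_preserves _ h
  · intro h u v
    exact preserves_of_unitary _ h u v

theorem su_pow (hF : Fintype.card F = 9) (g : Cfsg.SU 3 F 3) :
    g ^ 7 = 1 ∨ g ^ 8 = 1 ∨ g ^ 12 = 1 := by
  haveI := charP_of_card_nine hF
  have hU := (mem_SU_iff g.1).mp g.2
  have key : ∀ n : ℕ, ((g.1 : SpecialLinearGroup (Fin 3) F) : Matrix (Fin 3) (Fin 3) F) ^ n = 1 →
      g ^ n = 1 := by
    intro n hn
    apply Subtype.ext
    rw [Subgroup.coe_pow]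
    refine Matrix.SpecialLinearGroup.ext _ _ (fun i j => ?_)
    have h1 := Matrix.SpecialLinearGroup.coe_pow g.1 n
    have h2 : ((1 : Cfsg.SU 3 F 3) : SpecialLinearGroup (Fin 3) F) = 1 := rfl
    rw [h2, h1, hn, Matrix.SpecialLinearGroup.coe_one]
  rcases su_cubic _ g.1.2 hU with h1 | ⟨a, ha⟩
  · left
    apply key
    rw [h1, one_pow]
  · obtain ⟨a', rfl⟩ := (eK9 hF).surjective a
    have hcub := cubic_K9 a'.re a'.im
    have heta : (⟨a'.re, a'.im⟩ : K9) = a' := rfl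
    rw [heta] at hcub
    have ha' : ((g.1 : SpecialLinearGroup (Fin 3) F) : Matrix (Fin 3) (Fin 3) F) ^ 3 =
        (eK9 hF) a' • ((g.1 : SpecialLinearGroup (Fin 3) F) : Matrix (Fin 3) (Fin 3) F) ^ 2 +
        (eK9 hF) (-(a' ^ 3)) • ((g.1 : SpecialLinearGroup (Fin 3) F) : Matrix (Fin 3) (Fin 3) F) +
        (eK9 hF) 1 • (1 : Matrix (Fin 3) (Fin 3) F) := by
      rw [map_neg, map_pow, map_one]
      exact ha
    have key2 : ∀ n : ℕ, powX a' (-(a' ^ 3)) 1 n = (1, 0, 0) → g ^ n = 1 := by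
      intro n hn
      apply key
      exact pow_eq_one_of_powX _ _ _ _ ha' n
        (powX_map_eq_one ((eK9 hF : K9 ≃+* F) : K9 →+* F) a' (-(a' ^ 3)) 1 n hn)
    rcases hcub with h | h | h
    · exact Or.inl (key2 7 h)
    · exact Or.inr (Or.inl (key2 8 h))
    · exact Or.inr (Or.inr (key2 12 h))

section Elements

variable (hF : Fintype.card F = 9)

theorem mapK9_det (M0 : Matrix (Fin 3) (Fin 3) K9) (hdet : M0.det = 1) :
    (((eK9 hF : K9 ≃+* F) : K9 →+* F).mapMatrix M0).det = 1 := by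
  rw [← RingHom.map_det, hdet, map_one]

theorem mapK9_unitary (M0 : Matrix (Fin 3) (Fin 3) K9) (hU : M0ᵀ * M0.map (· ^ 3) = 1) :
    (((eK9 hF : K9 ≃+* F) : K9 →+* F).mapMatrix M0)ᵀ *
      (((eK9 hF : K9 ≃+* F) : K9 →+* F).mapMatrix M0).map (· ^ 3) = 1 := by
  have h1 : (((eK9 hF : K9 ≃+* F) : K9 →+* F).mapMatrix M0).map (· ^ 3) =
      ((eK9 hF : K9 ≃+* F) : K9 →+* F).mapMatrix (M0.map (· ^ 3)) := by
    ext i j
    simp
  have h2 : (((eK9 hF : K9 ≃+* F) : K9 →+* F).mapMatrix M0)ᵀ =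
      ((eK9 hF : K9 ≃+* F) : K9 →+* F).mapMatrix M0ᵀ := by
    ext i j
    simp
  rw [h1, h2, ← map_mul, hU, map_one]

/-- An element of `SU₃(3)` over `F` from a unitary matrix over the concrete field. -/
noncomputable def suOfK9 (M0 : Matrix (Fin 3) (Fin 3) K9) (hdet : M0.det = 1)
    (hU : M0ᵀ * M0.map (· ^ 3) = 1) : Cfsg.SU 3 F 3 :=
  haveI := charP_of_card_nine hF
  ⟨⟨((eK9 hF : K9 ≃+* F) : K9 →+* F).mapMatrix M0, mapK9_det hF M0 hdet⟩,
    (mem_SU_iff _).mpr (mapK9_unitary hF M0 hU)⟩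

theorem suOfK9_coe (M0 : Matrix (Fin 3) (Fin 3) K9) (hdet : M0.det = 1)
    (hU : M0ᵀ * M0.map (· ^ 3) = 1) :
    (((suOfK9 hF M0 hdet hU : Cfsg.SU 3 F 3) : SpecialLinearGroup (Fin 3) F) :
      Matrix (Fin 3) (Fin 3) F) = ((eK9 hF : K9 ≃+* F) : K9 →+* F).mapMatrix M0 := rfl

theorem mapK9_injective :
    Function.Injective (((eK9 hF : K9 ≃+* F) : K9 →+* F).mapMatrix :
      Matrix (Fin 3) (Fin 3) K9 → Matrix (Fin 3) (Fin 3) F) := by
  intro A B h
  refine Matrix.ext (fun i j => ?_)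
  have := congrFun (congrFun h i) j
  simp only [RingHom.mapMatrix_apply, Matrix.map_apply] at this
  exact (eK9 hF).injective this

theorem SU_coe_pow (x : Cfsg.SU 3 F 3) (n : ℕ) :
    (((x ^ n : Cfsg.SU 3 F 3) : SpecialLinearGroup (Fin 3) F) : Matrix (Fin 3) (Fin 3) F) =
      ((x : SpecialLinearGroup (Fin 3) F) : Matrix (Fin 3) (Fin 3) F) ^ n := by
  rw [Subgroup.coe_pow]
  exact Matrix.SpecialLinearGroup.coe_pow _ n

theorem SU_eq_one_iff (x : Cfsg.SU 3 F 3) :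
    x = 1 ↔ ((x : SpecialLinearGroup (Fin 3) F) : Matrix (Fin 3) (Fin 3) F) = 1 := by
  constructor
  · rintro rfl
    rfl
  · intro h
    apply Subtype.ext
    refine Matrix.SpecialLinearGroup.ext _ _ (fun i j => ?_)
    have h2 : ((1 : Cfsg.SU 3 F 3) : SpecialLinearGroup (Fin 3) F) = 1 := rfl
    rw [h2, h, Matrix.SpecialLinearGroup.coe_one]

theorem orderOf_suOfK9 (M0 : Matrix (Fin 3) (Fin 3) K9) (hdet : M0.det = 1)
    (hU : M0ᵀ * M0.map (· ^ 3) = 1) : orderOf (suOfK9 hF M0 hdet hU) = orderOf M0 := by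
  rw [orderOf_eq_orderOf_iff]
  intro n
  rw [SU_eq_one_iff, SU_coe_pow, suOfK9_coe, ← map_pow]
  constructor
  · intro h
    apply mapK9_injective hF
    rw [h, map_one]
  · intro h
    rw [h, map_one]

end Elements

end Cfsg.Agent.Helper57
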