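import Cfsg.Agent.Lib.Helper57.SpecPSU33b

set_option autoImplicit false

namespace Cfsg.Agent.Helper57
open Matrix

def g7 : Matrix (Fin 3) (Fin 3) K9 := !![0, 0, ⟨0, 1⟩; ⟨1, 1⟩, ⟨1, 1⟩, 0; ⟨1, 1⟩, ⟨2, 2⟩, 0]
def g8 : Matrix (Fin 3) (Fin 3) K9 := !![0, 0, ⟨0, 1⟩; 0, ⟨0, 1⟩, 0; 1, 0, 0]
def g12 : Matrix (Fin 3) (Fin 3) K9 := !![0, 0, ⟨0, 1⟩; ⟨1, 1⟩, ⟨2, 1⟩, 0; ⟨1, 2⟩, ⟨2, 2⟩, 0]
def d0 : Fin 3 → K9 := ![⟨0, 1⟩, ⟨0, 2⟩, 1]
def gD : Matrix (Fin 3) (Fin 3) K9 := Matrix.diagonal d0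
def gP : Matrix (Fin 3) (Fin 3) K9 := !![0, 1, 0; 0, 0, 1; 1, 0, 0]

theorem g7_det : g7.det = 1 := by decide
theorem g7_unit : g7ᵀ * g7.map (· ^ 3) = 1 := by decide
theorem g7_order : orderOf g7 = 7 := by
  rw [orderOf_eq_iff (by norm_num)]
  decide
theorem g8_det : g8.det = 1 := by decide
theorem g8_unit : g8ᵀ * g8.map (· ^ 3) = 1 := by decide
theorem g8_order : orderOf g8 = 8 := by
  rw [orderOf_eq_iff (by norm_num)]
  decide
theorem g12_det : g12.det = 1 := by decide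
theorem g12_unit : g12ᵀ * g12.map (· ^ 3) = 1 := by decide
theorem g12_order : orderOf g12 = 12 := by
  rw [orderOf_eq_iff (by norm_num)]
  decide
theorem gD_det : gD.det = 1 := by decide
theorem gD_unit : gDᵀ * gD.map (· ^ 3) = 1 := by decide
theorem gP_det : gP.det = 1 := by decide
theorem gP_unit : gPᵀ * gP.map (· ^ 3) = 1 := by decide
theorem d0_injective : Function.Injective d0 := by decide

variable {F : Type*} [Field F]

theorem scalar_of_commute (Z : Matrix (Fin 3) (Fin 3) F) (d : Fin 3 → F)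
    (hd : Function.Injective d)
    (h1 : Z * Matrix.diagonal d = Matrix.diagonal d * Z)
    (h2 : Z * !![0, 1, 0; 0, 0, 1; 1, 0, 0] = !![0, 1, 0; 0, 0, 1; 1, 0, 0] * Z) :
    Z = Z 0 0 • (1 : Matrix (Fin 3) (Fin 3) F) := by
  have hoff : ∀ j k : Fin 3, j ≠ k → Z j k = 0 := by
    intro j k hjk
    have := congrFun (congrFun h1 j) k
    rw [Matrix.mul_diagonal, Matrix.diagonal_mul] at this
    have h3 : Z j k * (d k - d j) = 0 := by
      rw [mul_sub, this, mul_comm]; ring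
    rcases mul_eq_zero.mp h3 with h4 | h4
    · exact h4
    · exfalso
      exact hjk (hd (sub_eq_zero.mp h4)).symm
  have e01 := congrFun (congrFun h2 0) 1
  have e12 := congrFun (congrFun h2 1) 2
  simp [Matrix.mul_apply, Fin.sum_univ_three] at e01 e12
  ext j k
  fin_cases j <;> fin_cases k <;> simp [hoff, e01, e12]

variable [Fintype F]

theorem mapK9_diagonal (hF : Fintype.card F = 9) :
    ((eK9 hF : K9 ≃+* F) : K9 →+* F).mapMatrix gD =
      Matrix.diagonal (fun k => (eK9 hF) (d0 k)) := by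
  unfold gD
  rw [RingHom.mapMatrix_apply, Matrix.diagonal_map (map_zero _)]
  rfl

theorem mapK9_perm (hF : Fintype.card F = 9) :
    ((eK9 hF : K9 ≃+* F) : K9 →+* F).mapMatrix gP = !![0, 1, 0; 0, 0, 1; 1, 0, 0] := by
  refine Matrix.ext (fun i j => ?_)
  fin_cases i <;> fin_cases j <;> simp [gP]

theorem center_SU_eq_bot (hF : Fintype.card F = 9) :
    Subgroup.center (Cfsg.SU 3 F 3) = ⊥ := by
  haveI := charP_of_card_nine hF
  haveI : Fact (Nat.Prime 3) := ⟨Nat.prime_three⟩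
  rw [Subgroup.eq_bot_iff_forall]
  intro z hz
  rw [Subgroup.mem_center_iff] at hz
  set Z : Matrix (Fin 3) (Fin 3) F := ((z : SpecialLinearGroup (Fin 3) F) : Matrix (Fin 3) (Fin 3) F)
    with hZ
  have coe_mul : ∀ x y : Cfsg.SU 3 F 3,
      (((x * y : Cfsg.SU 3 F 3) : SpecialLinearGroup (Fin 3) F) : Matrix (Fin 3) (Fin 3) F) =
        ((x : SpecialLinearGroup (Fin 3) F) : Matrix (Fin 3) (Fin 3) F) *
          ((y : SpecialLinearGroup (Fin 3) F) : Matrix (Fin 3) (Fin 3) F) := by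
    intro x y
    rfl
  have hD : Z * Matrix.diagonal (fun k => (eK9 hF) (d0 k)) =
      Matrix.diagonal (fun k => (eK9 hF) (d0 k)) * Z := by
    have := hz (suOfK9 hF gD gD_det gD_unit)
    have h2 := congrArg (fun x : Cfsg.SU 3 F 3 =>
      ((x : SpecialLinearGroup (Fin 3) F) : Matrix (Fin 3) (Fin 3) F)) this
    simp only [coe_mul, suOfK9_coe, mapK9_diagonal] at h2
    exact h2.symm
  have hP : Z * !![0, 1, 0; 0, 0, 1; 1, 0, 0] = !![0, 1, 0; 0, 0, 1; 1, 0, 0] * Z := by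
    have := hz (suOfK9 hF gP gP_det gP_unit)
    have h2 := congrArg (fun x : Cfsg.SU 3 F 3 =>
      ((x : SpecialLinearGroup (Fin 3) F) : Matrix (Fin 3) (Fin 3) F)) this
    simp only [coe_mul, suOfK9_coe, mapK9_perm] at h2
    exact h2.symm
  have hinj : Function.Injective (fun k => (eK9 hF) (d0 k)) :=
    (eK9 hF).injective.comp d0_injective
  have hsc := scalar_of_commute Z _ hinj hD hP
  have hdet : Z.det = 1 := z.1.2
  have hl3 : (Z 0 0) ^ 3 = 1 := by
    rw [hsc, Matrix.det_smul, Matrix.det_one, mul_one, Fintype.card_fin] at hdet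
    simpa using hdet
  have hl1 : Z 0 0 = 1 := by
    have : (Z 0 0 - 1) ^ 3 = 0 := by
      rw [sub_pow_char (R := F) (p := 3) (x := Z 0 0) (y := 1), hl3, one_pow, sub_self]
    have := pow_eq_zero_iff (n := 3) (by norm_num) |>.mp this
    exact sub_eq_zero.mp this
  rw [SU_eq_one_iff, ← hZ, hsc, hl1, one_smul]

theorem spec_PSU33 (hF : Fintype.card F = 9) :
    Set.range (orderOf : Cfsg.PSU 3 F 3 → ℕ) = {1, 2, 3, 4, 6, 7, 8, 12} := by
  apply Set.Subset.antisymm
  · rintro _ ⟨x, rfl⟩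
    obtain ⟨g, rfl⟩ := QuotientGroup.mk_surjective x
    have hpow : ∀ n : ℕ, g ^ n = 1 → orderOf (QuotientGroup.mk g : Cfsg.PSU 3 F 3) ∣ n := by
      intro n hn
      apply orderOf_dvd_of_pow_eq_one
      rw [← QuotientGroup.mk_pow, hn]
      rfl
    rcases su_pow hF g with h | h | h
    · have h2 := Nat.mem_divisors.mpr ⟨hpow 7 h, by norm_num⟩
      have h3 : Nat.divisors 7 = {1, 7} := by decide
      rw [h3] at h2
      simp only [Finset.mem_insert, Finset.mem_singleton] at h2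
      rcases h2 with h2 | h2 <;> simp [h2]
    · have h2 := Nat.mem_divisors.mpr ⟨hpow 8 h, by norm_num⟩
      have h3 : Nat.divisors 8 = {1, 2, 4, 8} := by decide
      rw [h3] at h2
      simp only [Finset.mem_insert, Finset.mem_singleton] at h2
      rcases h2 with h2 | h2 | h2 | h2 <;> simp [h2]
    · have h2 := Nat.mem_divisors.mpr ⟨hpow 12 h, by norm_num⟩
      have h3 : Nat.divisors 12 = {1, 2, 3, 4, 6, 12} := by decide
      rw [h3] at h2
      simp only [Finset.mem_insert, Finset.mem_singleton] at h2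
      rcases h2 with h2 | h2 | h2 | h2 | h2 | h2 <;> simp [h2]
  · intro n hn
    have hinj : Function.Injective (QuotientGroup.mk' (Subgroup.center (Cfsg.SU 3 F 3))) := by
      rw [← MonoidHom.ker_eq_bot_iff, QuotientGroup.ker_mk', center_SU_eq_bot hF]
    have key : ∀ g : Cfsg.SU 3 F 3,
        orderOf (QuotientGroup.mk' (Subgroup.center (Cfsg.SU 3 F 3)) g) = orderOf g :=
      orderOf_injective _ hinj
    have o7 := (orderOf_suOfK9 hF g7 g7_det g7_unit).trans g7_order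
    have o8 := (orderOf_suOfK9 hF g8 g8_det g8_unit).trans g8_order
    have o12 := (orderOf_suOfK9 hF g12 g12_det g12_unit).trans g12_order
    simp only [Set.mem_insert_iff, Set.mem_singleton_iff] at hn
    rcases hn with rfl | rfl | rfl | rfl | rfl | rfl | rfl | rfl
    · exact ⟨1, orderOf_one⟩
    · exact ⟨QuotientGroup.mk' _ ((suOfK9 hF g12 g12_det g12_unit) ^ 6), by
        rw [key, orderOf_pow, o12]; rfl⟩
    · exact ⟨QuotientGroup.mk' _ ((suOfK9 hF g12 g12_det g12_unit) ^ 4), by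
        rw [key, orderOf_pow, o12]; rfl⟩
    · exact ⟨QuotientGroup.mk' _ ((suOfK9 hF g12 g12_det g12_unit) ^ 3), by
        rw [key, orderOf_pow, o12]; rfl⟩
    · exact ⟨QuotientGroup.mk' _ ((suOfK9 hF g12 g12_det g12_unit) ^ 2), by
        rw [key, orderOf_pow, o12]; rfl⟩
    · exact ⟨QuotientGroup.mk' _ (suOfK9 hF g7 g7_det g7_unit), by rw [key, o7]⟩
    · exact ⟨QuotientGroup.mk' _ (suOfK9 hF g8 g8_det g8_unit), by rw [key, o8]⟩
    · exact ⟨QuotientGroup.mk' _ (suOfK9 hF g12 g12_det g12_unit), by rw [key, o12]⟩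

end Cfsg.Agent.Helper57
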