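import Mathlib
import Cfsg.Agent.Lib.Helper57.SymSylowC

set_option autoImplicit false

namespace Cfsg.Agent.Helper57

open Equiv

theorem alt_card_val_odd (p n : ℕ) [Fact p.Prime] (hp2 : p ≠ 2) (hn : 2 ≤ n) :
    (Nat.card (alternatingGroup (Fin n))).factorization p = padicValNat p n.factorial := by
  have hp := (Fact.out : p.Prime)
  have h := two_mul_card_alt n hn
  have hc : Nat.card (alternatingGroup (Fin n)) ≠ 0 := Nat.card_pos.ne'
  rw [Nat.factorization_def _ hp, ← h, padicValNat.mul (by norm_num) hc]
  haveI : Fact (Nat.Prime 2) := ⟨Nat.prime_two⟩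
  rw [padicValNat_primes hp2, zero_add]

theorem alt_card_val_two (n : ℕ) (hn : 2 ≤ n) :
    (Nat.card (alternatingGroup (Fin n))).factorization 2 + 1 = padicValNat 2 n.factorial := by
  have h := two_mul_card_alt n hn
  have hc : Nat.card (alternatingGroup (Fin n)) ≠ 0 := Nat.card_pos.ne'
  rw [Nat.factorization_def _ Nat.prime_two, ← h, padicValNat.mul (by norm_num) hc,
    padicValNat_self, add_comm]

theorem sylow_alt_gen_odd (p n : ℕ) [Fact p.Prime] (hp2 : p ≠ 2) (hn : 2 ≤ n)
    (Q : Sylow p (alternatingGroup (Fin n))) :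
    Subgroup.closure {x : (Q : Subgroup (alternatingGroup (Fin n))) | x ^ p = 1} = ⊤ := by
  have hp := (Fact.out : p.Prime)
  obtain ⟨H, _, f, hfin, hf, hcard, hgen, _, _⟩ := sylData p n
  have hodd : ∀ h : H, Perm.sign (f h) = 1 := by
    intro h
    apply sign_eq_one_of_odd_order
    have h1 : orderOf (f h) ∣ Nat.card H := (orderOf_map_dvd f h).trans (orderOf_dvd_natCard h)
    rw [hcard] at h1
    exact Odd.of_dvd_nat ((hp.odd_of_ne_two hp2).pow) h1
  let f' : H →* alternatingGroup (Fin n) :=
    f.codRestrict (alternatingGroup (Fin n)) (fun h => Perm.mem_alternatingGroup.mpr (hodd h))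
  have hf' : Function.Injective f' := by
    intro a b hab
    apply hf
    exact congrArg Subtype.val hab
  have hR : Nat.card f'.range = p ^ (Nat.card (alternatingGroup (Fin n))).factorization p := by
    rw [alt_card_val_odd p n hp2 hn, ← hcard]
    exact (Nat.card_congr (MonoidHom.ofInjective hf').toEquiv).symm
  let Q' : Sylow p (alternatingGroup (Fin n)) := Sylow.ofCard f'.range hR
  have e1 : (Q : Subgroup (alternatingGroup (Fin n))) ≃* (Q' : Subgroup (alternatingGroup (Fin n))) :=
    Q.equiv Q'
  have e2 : (Q' : Subgroup (alternatingGroup (Fin n))) ≃* H := (MonoidHom.ofInjective hf').symm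
  exact closure_pow_eq_top_of_equiv (e1.trans e2) p hgen

theorem sylow_alt_gen_two (n : ℕ) (hn : 2 ≤ n) (Q : Sylow 2 (alternatingGroup (Fin n))) :
    Subgroup.closure {x : (Q : Subgroup (alternatingGroup (Fin n))) | x ^ 2 = 1} = ⊤ := by
  obtain ⟨H, _, f, hfin, hf, hcard, _, _, heven⟩ := sylData 2 n
  have heven := heven rfl
  have hHp : IsPGroup 2 H := IsPGroup.of_card hcard
  let E : Subgroup H := (Perm.sign.comp f).ker
  have hE : ∀ x : H, x ∈ E ↔ Perm.sign (f x) = 1 := fun x => MonoidHom.mem_ker
  let fE : E →* alternatingGroup (Fin n) :=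
    (f.comp E.subtype).codRestrict (alternatingGroup (Fin n))
      (fun x => Perm.mem_alternatingGroup.mpr ((hE x).mp x.2))
  have hfE : Function.Injective fE := by
    intro a b hab
    apply Subtype.ext
    apply hf
    exact congrArg Subtype.val hab
  -- cardinalities
  obtain ⟨j, hj⟩ := (hHp.to_subgroup E).exists_card_eq
  have hidx : E.index ∣ 2 := by
    have h1 : E.index = Nat.card (Perm.sign.comp f).range := Subgroup.index_ker _
    rw [h1]
    have h2 := Subgroup.card_subgroup_dvd_card (Perm.sign.comp f).range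
    have h3 : Nat.card ℤˣ = 2 := by
      rw [Nat.card_eq_fintype_card]; rfl
    rwa [h3] at h2
  have hmul := Subgroup.card_mul_index E
  rw [hj, hcard] at hmul
  have hval := alt_card_val_two n hn
  have hc : Nat.card (alternatingGroup (Fin n)) ≠ 0 := Nat.card_pos.ne'
  have hcR : Nat.card fE.range = 2 ^ j := by
    rw [← hj]
    exact (Nat.card_congr (MonoidHom.ofInjective hfE).toEquiv).symm
  have hjle : j ≤ (Nat.card (alternatingGroup (Fin n))).factorization 2 := by
    have h1 := Subgroup.card_subgroup_dvd_card fE.range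
    rw [hcR] at h1
    rw [Nat.factorization_def _ Nat.prime_two]
    exact (padicValNat_dvd_iff_le hc).mp h1
  have hjeq : j = (Nat.card (alternatingGroup (Fin n))).factorization 2 := by
    rcases (Nat.dvd_prime Nat.prime_two).mp hidx with h1 | h2
    · rw [h1, mul_one] at hmul
      have := Nat.pow_right_injective (le_refl 2) hmul
      omega
    · rw [h2, ← pow_succ] at hmul
      have := Nat.pow_right_injective (le_refl 2) hmul
      omega
  have hR : Nat.card fE.range = 2 ^ (Nat.card (alternatingGroup (Fin n))).factorization 2 := by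
    rw [hcR, hjeq]
  let Q' : Sylow 2 (alternatingGroup (Fin n)) := Sylow.ofCard fE.range hR
  have e1 : (Q : Subgroup (alternatingGroup (Fin n))) ≃* (Q' : Subgroup (alternatingGroup (Fin n))) :=
    Q.equiv Q'
  have e2 : (Q' : Subgroup (alternatingGroup (Fin n))) ≃* E := (MonoidHom.ofInjective hfE).symm
  -- E is generated by involutions
  have hEgen : Subgroup.closure {e : E | e ^ 2 = 1} = ⊤ := by
    rw [eq_top_iff]
    intro e _
    have h1 := heven (e : H) ((hE _).mp e.2)
    have h2 : Subgroup.closure {x : H | x ^ 2 = 1 ∧ Perm.sign (f x) = 1} =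
        (Subgroup.closure {e : E | e ^ 2 = 1}).map E.subtype := by
      rw [MonoidHom.map_closure]
      congr 1
      ext x
      constructor
      · rintro ⟨hx2, hxs⟩
        refine ⟨⟨x, (hE x).mpr hxs⟩, ?_, rfl⟩
        apply Subtype.ext
        exact hx2
      · rintro ⟨y, hy, rfl⟩
        refine ⟨?_, (hE _).mp y.2⟩
        have hy' : y ^ 2 = 1 := hy
        have := congrArg Subtype.val hy'
        simpa using this
    rw [h2] at h1
    obtain ⟨e', he', hee⟩ := h1
    have : e' = e := Subtype.ext hee
    rwa [this] at he'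
  exact closure_pow_eq_top_of_equiv (e1.trans e2) 2 hEgen

/-- `Q/Q'` is elementary abelian for every Sylow `p`-subgroup of `A_n`. -/
theorem sylow_alt_pow_mem (p n : ℕ) [Fact p.Prime] (Q : Sylow p (alternatingGroup (Fin n)))
    (x : (Q : Subgroup (alternatingGroup (Fin n)))) :
    x ^ p ∈ commutator (Q : Subgroup (alternatingGroup (Fin n))) := by
  rcases Nat.lt_or_ge n 2 with hn | hn
  · have hsub : Subsingleton (Perm (Fin n)) := by
      have : Nat.card (Perm (Fin n)) = 1 := by
        rw [Nat.card_perm, Nat.card_eq_fintype_card, Fintype.card_fin]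
        interval_cases n <;> rfl
      exact (Nat.card_eq_one_iff_unique.mp this).1
    have : x = 1 := Subsingleton.elim _ _
    rw [this, one_pow]
    exact Subgroup.one_mem _
  · by_cases hp2 : p = 2
    · subst hp2
      exact pow_mem_commutator_of_gen 2 (sylow_alt_gen_two n hn Q) x
    · exact pow_mem_commutator_of_gen p (sylow_alt_gen_odd p n hp2 hn Q) x

end Cfsg.Agent.Helper57
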