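import Mathlib
import Cfsg.Prelude.Def_Local
import Cfsg.Agent.Lib.Helper89.TH1Defs
import Cfsg.Agent.Lib.Helper15.BGU.Solv
import Cfsg.Agent.Lib.Helper55.Cores
import Cfsg.Agent.Lib.Helper53.UniqueInvol2

/-!
# TH1 piece (HB2a) `exists_TN` for helper89's server (S3797).
-/

set_option autoImplicit false

namespace Cfsg.Agent.Helper57.TH1

open Cfsg Subgroup Cfsg.Agent.Helper89.TH1
open scoped commutatorElement

universe u

variable {G : Type u} [Group G] [Finite G]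

/-- (HB2a) -/
theorem exists_TN {W K : Subgroup G} (hB : Base G W) (hK : KData G K)
    (hKW : ∀ w ∈ W, ∀ k ∈ K, k * w = w * k)
    (hidx : Odd (pPrimePCore 2 ↥(normalizer (K : Set G))).index)
    (hnot : ¬ Odd (pCore 2 G).index) : ∃ T N : Subgroup G, TNData G W K T N := by
  have hp2 : Fact (Nat.Prime 2) := ⟨Nat.prime_two⟩
  obtain ⟨H, hH⟩ : ∃ H : Subgroup G, H = normalizer (K : Set G) := ⟨_, rfl⟩
  rw [← hH] at hidx
  obtain ⟨Q, hQ⟩ : ∃ Q : Subgroup G, Q = pCore 2 G := ⟨_, rfl⟩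
  rw [← hQ] at hnot
  have hQn : Q.Normal := by rw [hQ]; infer_instance
  have hQ2 : IsPGroup 2 Q := by rw [hQ]; exact Helper55.isPGroup_pCore
  have hWn : W.Normal := hB.W_normal
  have hWQ : W ≤ Q := hQ ▸ hB.W_le
  -- `W ≤ H`
  have hWH : W ≤ H := by
    rw [hH]
    refine le_trans ?_ (centralizer_le_normalizer _)
    intro w hw
    rw [mem_centralizer_iff]
    intro k hk
    exact hKW w hw k hk
  -- Sylow 2-subgroup of `H`
  let S : Sylow 2 ↥H := default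
  obtain ⟨T, hT⟩ : ∃ T : Subgroup G, T = (S : Subgroup ↥H).map H.subtype := ⟨_, rfl⟩
  obtain ⟨N, hN⟩ : ∃ N : Subgroup G,
    N = (normalizer ((S : Subgroup ↥H) : Set ↥H)).map H.subtype := ⟨_, rfl⟩
  have hTH : T ≤ H := by rw [hT]; exact map_subtype_le _
  have hNH : N ≤ H := by rw [hN]; exact map_subtype_le _
  have hTN : T ≤ N := by rw [hT, hN]; exact map_mono le_normalizer
  have hmemT : ∀ t : G, t ∈ T ↔ ∃ ht : t ∈ H, (⟨t, ht⟩ : ↥H) ∈ (S : Subgroup ↥H) := by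
    intro t
    rw [hT]
    constructor
    · rintro ⟨t0, ht0, rfl⟩
      exact ⟨t0.2, ht0⟩
    · rintro ⟨ht, hts⟩
      exact ⟨⟨t, ht⟩, hts, rfl⟩
  have hmemN : ∀ g : G, g ∈ N ↔
      ∃ hg : g ∈ H, (⟨g, hg⟩ : ↥H) ∈ normalizer ((S : Subgroup ↥H) : Set ↥H) := by
    intro g
    rw [hN]
    constructor
    · rintro ⟨g0, hg0, rfl⟩
      exact ⟨g0.2, hg0⟩
    · rintro ⟨hg, hgs⟩
      exact ⟨⟨g, hg⟩, hgs, rfl⟩
  have hNT : ∀ g ∈ N, ∀ t ∈ T, g * t * g⁻¹ ∈ T := by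
    intro g hg t ht
    obtain ⟨hgH, hgn⟩ := (hmemN g).mp hg
    obtain ⟨htH, hts⟩ := (hmemT t).mp ht
    rw [hmemT]
    refine ⟨H.mul_mem (H.mul_mem hgH htH) (H.inv_mem hgH), ?_⟩
    have h1 := (mem_normalizer_iff.mp hgn ⟨t, htH⟩).mp hts
    exact h1
  have hT2 : IsPGroup 2 T := by rw [hT]; exact S.2.map H.subtype
  -- `Q ⊓ H ≤ T`
  have hQ0T : Q ⊓ H ≤ T := by
    have hn : (Q.subgroupOf H).Normal := inferInstance
    have h2 : IsPGroup 2 (Q.subgroupOf H) := by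
      have : IsPGroup 2 (Q.subgroupOf H) :=
        hQ2.comap_of_injective (H.subtype) (Subtype.coe_injective)
      exact this
    have h3 : Q.subgroupOf H ≤ (S : Subgroup ↥H) :=
      (Helper55.le_pCore hn h2).trans (Helper55.pCore_le_sylow S)
    intro x hx
    rw [hmemT]
    exact ⟨hx.2, h3 (mem_subgroupOf.mpr hx.1)⟩
  have hWT : W ≤ T := (le_inf hWQ hWH).trans hQ0T
  -- `O(H)` centralizes `W`
  have hOW : ∀ c : ↥H, c ∈ pPrimeCore 2 ↥H → ∀ w ∈ W, (c : G) * w = w * (c : G) := by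
    intro c hc w hw
    have hOn : (pPrimeCore 2 ↥H).Normal := (Helper55.pPrimeCore_mem 2).1
    have hOc : (Nat.card (pPrimeCore 2 ↥H)).Coprime 2 := Helper55.pPrimeCore_coprime 2
    have hwH : w ∈ H := hWH hw
    -- x = c w c⁻¹ w⁻¹
    have hx1 : c * ⟨w, hwH⟩ * c⁻¹ * (⟨w, hwH⟩ : ↥H)⁻¹ ∈ pPrimeCore 2 ↥H := by
      have h1 : (⟨w, hwH⟩ : ↥H) * c⁻¹ * (⟨w, hwH⟩ : ↥H)⁻¹ ∈ pPrimeCore 2 ↥H :=
        hOn.conj_mem _ ((pPrimeCore 2 ↥H).inv_mem hc) _
      have h2 := (pPrimeCore 2 ↥H).mul_mem hc h1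
      have e : c * ⟨w, hwH⟩ * c⁻¹ * (⟨w, hwH⟩ : ↥H)⁻¹ =
          c * ((⟨w, hwH⟩ : ↥H) * c⁻¹ * (⟨w, hwH⟩ : ↥H)⁻¹) := by group
      rw [e]; exact h2
    have hx2 : (c : G) * w * (c : G)⁻¹ * w⁻¹ ∈ W :=
      W.mul_mem (hWn.conj_mem w hw _) (W.inv_mem hw)
    have hx3 : ((c : G) * w * (c : G)⁻¹ * w⁻¹) ^ 2 = 1 := hB.W_exp _ hx2
    obtain ⟨x, hx⟩ : ∃ x : ↥H, x = c * ⟨w, hwH⟩ * c⁻¹ * (⟨w, hwH⟩ : ↥H)⁻¹ := ⟨_, rfl⟩
    have hxv : (x : G) = (c : G) * w * (c : G)⁻¹ * w⁻¹ := by rw [hx]; rfl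
    have hx4 : x ^ 2 = 1 := by
      apply Subtype.ext
      rw [Subgroup.coe_pow, hxv, hx3]; rfl
    have hx5 : orderOf x ∣ 2 := orderOf_dvd_of_pow_eq_one hx4
    have hx6 : orderOf x ∣ Nat.card (pPrimeCore 2 ↥H) := by
      rw [← hx] at hx1
      exact Subgroup.orderOf_dvd_natCard _ hx1
    have hx7 : orderOf x = 1 := by
      have h3 : orderOf x ∣ Nat.gcd (Nat.card (pPrimeCore 2 ↥H)) 2 := Nat.dvd_gcd hx6 hx5
      rw [hOc] at h3
      exact Nat.dvd_one.mp h3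
    have hx8 : x = 1 := orderOf_eq_one_iff.mp hx7
    have hx9 : (c : G) * w * (c : G)⁻¹ * w⁻¹ = 1 := by rw [← hxv, hx8]; rfl
    have h10 : (c : G) * w * (c : G)⁻¹ = w := by
      have := mul_inv_eq_one.mp hx9
      exact this
    exact mul_inv_eq_iff_eq_mul.mp h10
  -- `H` is transitive on `W \ {1}`
  have hHtrans : ∀ w ∈ W, ∀ w' ∈ W, w ≠ 1 → w' ≠ 1 → ∃ h ∈ H, h * w * h⁻¹ = w' := by
    intro w hw w' hw' hw1 hw'1
    obtain ⟨g, hg⟩ := hB.W_trans w hw w' hw' hw1 hw'1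
    obtain ⟨q, hq, hqg⟩ := hK.frat g
    refine ⟨q * g, hH ▸ hqg, ?_⟩
    have h1 : w' * q = q * w' := hB.W_central w' hw' q hq
    calc q * g * w * (q * g)⁻¹ = q * (g * w * g⁻¹) * q⁻¹ := by group
      _ = q * w' * q⁻¹ := by rw [hg]
      _ = w' := by rw [← h1, mul_inv_cancel_right]
  -- Frattini: `H = O(H) N_H(S)`
  have hSL : (S : Subgroup ↥H) ≤ pPrimePCore 2 ↥H :=
    Helper15.BGU.sylow_le_pPrimePCore_of_coprime 2 S (Nat.coprime_two_right.mpr hidx)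
  have hfr : pPrimeCore 2 ↥H ⊔ normalizer ((S : Subgroup ↥H) : Set ↥H) = ⊤ := by
    have h1 := Helper15.BGU.frattini_pPrimePCore 2 S
    rwa [inf_eq_left.mpr hSL] at h1
  have hNtrans : ∀ w ∈ W, ∀ w' ∈ W, w ≠ 1 → w' ≠ 1 → ∃ g ∈ N, g * w * g⁻¹ = w' := by
    intro w hw w' hw' hw1 hw'1
    obtain ⟨h, hhH, hh⟩ := hHtrans w hw w' hw' hw1 hw'1
    have hOn : (pPrimeCore 2 ↥H).Normal := (Helper55.pPrimeCore_mem 2).1
    have h1 : (⟨h, hhH⟩ : ↥H) ∈ pPrimeCore 2 ↥H ⊔ normalizer ((S : Subgroup ↥H) : Set ↥H) := by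
      rw [hfr]; exact mem_top _
    have h2 : (⟨h, hhH⟩ : ↥H) ∈ ((pPrimeCore 2 ↥H ⊔ normalizer ((S : Subgroup ↥H) : Set ↥H) :
        Subgroup ↥H) : Set ↥H) := h1
    rw [normal_mul] at h2
    obtain ⟨c, hc, n, hn, hcn⟩ := Set.mem_mul.mp h2
    refine ⟨(n : G), (hmemN _).mpr ⟨n.2, hn⟩, ?_⟩
    have h3 : h = (c : G) * (n : G) := by
      have := congrArg Subtype.val hcn
      exact this.symm
    have h4 := hOW c hc w' hw'
    have h5 : (c : G)⁻¹ * w' * (c : G) = w' := by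
      rw [mul_assoc, ← h4, ← mul_assoc, inv_mul_cancel, one_mul]
    calc (n : G) * w * (n : G)⁻¹ = (c : G)⁻¹ * (h * w * h⁻¹) * (c : G) := by rw [h3]; group
      _ = (c : G)⁻¹ * w' * (c : G) := by rw [hh]
      _ = w' := h5
  -- `T` centralizes `W`
  have hW1 : W ≠ ⊥ := by
    intro h
    have := hB.W_card
    rw [h, Subgroup.card_bot] at this
    omega
  have hTW : ∀ t ∈ T, ∀ w ∈ W, t * w = w * t := by
    have hT2' : IsPGroup 2 ↥T := hT2
    have hn : (W.subgroupOf T).Normal := inferInstance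
    have hne : W.subgroupOf T ≠ ⊥ := by
      intro h
      apply hW1
      rw [eq_bot_iff]
      intro w hw
      have h1 : (⟨w, hWT hw⟩ : ↥T) ∈ W.subgroupOf T := mem_subgroupOf.mpr hw
      rw [h, mem_bot] at h1
      have := congrArg Subtype.val h1
      exact this
    obtain ⟨z, hzW, hz1, hzc⟩ :=
      Helper53.exists_ne_one_mem_center_of_normal' hT2' (W.subgroupOf T) hne
    have hzW' : (z : G) ∈ W := mem_subgroupOf.mp hzW
    have hz1' : (z : G) ≠ 1 := fun h => hz1 (Subtype.ext h)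
    have hzc' : ∀ t ∈ T, t * (z : G) = (z : G) * t := by
      intro t ht
      have h1 := mem_center_iff.mp hzc ⟨t, ht⟩
      exact congrArg Subtype.val h1
    intro t ht w hw
    by_cases hw1 : w = 1
    · rw [hw1, mul_one, one_mul]
    obtain ⟨n, hn, hnz⟩ := hNtrans (z : G) hzW' w hw hz1' hw1
    have h1 : n⁻¹ * t * n ∈ T := by
      have := hNT n⁻¹ (N.inv_mem hn) t ht
      rwa [inv_inv] at this
    have h2 := hzc' _ h1
    calc t * w = n * ((n⁻¹ * t * n) * (z : G)) * n⁻¹ := by rw [← hnz]; group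
      _ = n * ((z : G) * (n⁻¹ * t * n)) * n⁻¹ := by rw [h2]
      _ = w * t := by rw [← hnz]; group
  -- `Q ⊓ H < T`
  have hlt : Q ⊓ H < T := by
    refine lt_of_le_of_ne hQ0T ?_
    intro heq
    apply hnot
    have h1 : Q.subgroupOf H = (S : Subgroup ↥H) := by
      ext x
      rw [mem_subgroupOf]
      constructor
      · intro hx
        have h2 : (x : G) ∈ T := heq ▸ (⟨hx, x.2⟩ : (x : G) ∈ Q ⊓ H)
        obtain ⟨_, h3⟩ := (hmemT _).mp h2
        exact h3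
      · intro hx
        have h2 : (x : G) ∈ T := (hmemT _).mpr ⟨x.2, hx⟩
        rw [← heq] at h2
        exact h2.1
    have h2 : H ⊔ Q = ⊤ := by
      rw [eq_top_iff]
      intro g _
      obtain ⟨q, hq, hqg⟩ := hK.frat g
      have e : g = (q * g) * (g⁻¹ * q⁻¹ * g) := by group
      rw [e]
      refine mul_mem (mem_sup_left (hH ▸ hqg)) (mem_sup_right ?_)
      have := hQn.conj_mem q⁻¹ (Q.inv_mem (hQ ▸ hq)) g⁻¹
      rwa [inv_inv] at this
    have h3 : Q.index = Q.relIndex H := by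
      rw [← relIndex_top_right, ← h2, relIndex_sup_right]
    rw [h3]
    show Odd (Q.subgroupOf H).index
    rw [h1]
    have h4 : ¬ 2 ∣ (S : Subgroup ↥H).index := S.not_dvd_index
    exact Nat.odd_iff.mpr (Nat.two_dvd_ne_zero.mp h4)
  -- `cent_T`
  have hcent : ∀ t ∈ T, (∀ k ∈ K, t * k = k * t) → t ∈ Q := by
    intro t ht htK
    have h1 : t ∈ pCore 2 G ⊔ K := by
      apply hK.centR
      intro k hk
      have : ⁅t, k⁆ = 1 := by
        rw [commutatorElement_def, htK k hk]; group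
      rw [this]; exact one_mem _
    rw [← hQ] at h1
    have h2 : t ∈ ((Q ⊔ K : Subgroup G) : Set G) := h1
    rw [normal_mul] at h2
    obtain ⟨q, hq, k, hk, hqk⟩ := Set.mem_mul.mp h2
    -- q = t * k⁻¹, commuting
    have hq' : q = t * k⁻¹ := by rw [← hqk]; group
    have hcomm : Commute t k⁻¹ := (show Commute t k from htK k hk).inv_right
    have hkm : k ^ Nat.card K = 1 := by
      have : orderOf k ∣ Nat.card K := Subgroup.orderOf_dvd_natCard K hk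
      exact orderOf_dvd_iff_pow_eq_one.mp this
    have h3 : t ^ Nat.card K ∈ Q := by
      have h4 : q ^ Nat.card K ∈ Q := Q.pow_mem hq _
      rw [hq', hcomm.mul_pow, inv_pow, hkm, inv_one, mul_one] at h4
      exact h4
    obtain ⟨a, ha⟩ := (IsPGroup.iff_orderOf.mp hT2) ⟨t, ht⟩
    have ha' : orderOf t = 2 ^ a := by rw [← ha, Subgroup.orderOf_mk]
    have hcop : (Nat.card K).Coprime (orderOf t) := by
      rw [ha']
      exact Nat.Coprime.pow_right a (Nat.coprime_two_right.mpr hK.K_odd)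
    obtain ⟨m, hm⟩ := exists_pow_eq_self_of_coprime hcop
    rw [← hm]
    exact Q.pow_mem h3 m
  refine ⟨T, N, ⟨hH ▸ hNH, hTN, hNT, hT2, hNtrans, hTW, ?_, ?_⟩⟩
  · rw [← hQ, ← hH]; exact hlt
  · intro t ht htK
    rw [← hQ]; exact hcent t ht htK

end Cfsg.Agent.Helper57.TH1
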