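import Mathlib
import Cfsg.Prelude.Def_Local
import Cfsg.Agent.Lib.Helper89.TH1Defs
import Cfsg.Agent.Lib.Helper52.Coprime
import Cfsg.Agent.Lib.Helper51.RuSylFrat
import Cfsg.Agent.Lib.Helper55.Cores
import Cfsg.Agent.Lib.Helper57.BG161G

/-!
# TH1 piece (YM2) `core_of_minimal` for helper89's server (S3797).
-/

set_option autoImplicit false

namespace Cfsg.Agent.Helper57.TH1

open Cfsg Subgroup Cfsg.Agent.Helper89.TH1
open scoped commutatorElement

universe u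

variable {G : Type u} [Group G] [Finite G]

omit [Finite G] in
theorem ym_nzes_le_normalizer {X Y : Subgroup G} (h : Nzes X Y) :
    X ≤ normalizer (Y : Set G) := by
  intro g hg
  rw [mem_normalizer_iff]
  intro y
  constructor
  · exact h g hg y
  · intro hy
    have h1 := h g⁻¹ (X.inv_mem hg) _ hy
    rw [inv_inv] at h1
    have e : g⁻¹ * (g * y * g⁻¹) * g = y := by group
    rwa [e] at h1

omit [Finite G] in
theorem ym_nzes_commutator {X A B : Subgroup G} (hA : Nzes X A) (hB : Nzes X B) :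
    Nzes X ⁅A, B⁆ := by
  intro g hg z hz
  have h1 : (⁅A, B⁆).map (MulAut.conj g).toMonoidHom ≤ ⁅A, B⁆ := by
    rw [map_commutator]
    apply commutator_mono
    · rintro _ ⟨a, ha, rfl⟩
      simpa using hA g hg a ha
    · rintro _ ⟨b, hb, rfl⟩
      simpa using hB g hg b hb
  have h2 : (MulAut.conj g).toMonoidHom z ∈ (⁅A, B⁆).map (MulAut.conj g).toMonoidHom :=
    mem_map_of_mem _ hz
  simpa using h1 h2

omit [Finite G] in
theorem ym_frattini_conj {Y : Subgroup G} {g : G} (h1 : ∀ y ∈ Y, g * y * g⁻¹ ∈ Y)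
    (h2 : ∀ y ∈ Y, g⁻¹ * y * g ∈ Y) {b : G} (hb : b ∈ (frattini ↥Y).map Y.subtype) :
    g * b * g⁻¹ ∈ (frattini ↥Y).map Y.subtype := by
  obtain ⟨b0, hb0, rfl⟩ := hb
  let φ : ↥Y ≃* ↥Y :=
    { toFun := fun y => ⟨g * y * g⁻¹, h1 y y.2⟩
      invFun := fun y => ⟨g⁻¹ * y * g, h2 y y.2⟩
      left_inv := fun y => Subtype.ext (by simp [mul_assoc])
      right_inv := fun y => Subtype.ext (by simp [mul_assoc])
      map_mul' := fun a b => Subtype.ext (by simp [mul_assoc]) }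
  have hc : (frattini ↥Y).map φ.toMonoidHom = frattini ↥Y :=
    characteristic_iff_map_eq.mp inferInstance φ
  have h3 : φ b0 ∈ frattini ↥Y := by
    rw [← hc]; exact mem_map_of_mem _ hb0
  exact ⟨φ b0, h3, rfl⟩

omit [Finite G] in
theorem ym_exists_invol {g : G} (hg : g ≠ 1) (h2 : ∃ m : ℕ, orderOf g = 2 ^ m) :
    ∃ j : ℕ, (g ^ j) ^ 2 = 1 ∧ g ^ j ≠ 1 := by
  obtain ⟨m, hm⟩ := h2
  have hm0 : m ≠ 0 := by
    rintro rfl
    rw [pow_zero, orderOf_eq_one_iff] at hm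
    exact hg hm
  obtain ⟨m', rfl⟩ := Nat.exists_eq_succ_of_ne_zero hm0
  refine ⟨2 ^ m', ?_, ?_⟩
  · rw [← pow_mul, ← pow_succ, ← hm]; exact pow_orderOf_eq_one g
  · apply pow_ne_one_of_lt_orderOf (by positivity)
    rw [hm]
    exact Nat.pow_lt_pow_right (by norm_num) (Nat.lt_succ_self m')

/-- `C_{Y/B}(K₁) = 1` when `Y/B` is abelian, `(|Y|,|K₁|) = 1` and `[Y,K₁] = Y`. -/
theorem ym_fpf_mod (Y B K₁ : Subgroup G) (hYB : Y ≤ normalizer (B : Set G))
    (hKB : K₁ ≤ normalizer (B : Set G)) (hKY : K₁ ≤ normalizer (Y : Set G))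
    (hcomm : ∀ a ∈ Y, ∀ b ∈ Y, ⁅a, b⁆ ∈ B)
    (hcop : (Nat.card Y).Coprime (Nat.card K₁)) (hYK : ⁅Y, K₁⁆ = Y)
    (y : G) (hy : y ∈ Y) (hyk : ∀ k ∈ K₁, ⁅y, k⁆ ∈ B) : y ∈ B := by
  obtain ⟨X, hX⟩ : ∃ X : Subgroup G, X = normalizer (B : Set G) := ⟨_, rfl⟩
  have hBn : (B.subgroupOf X).Normal := by rw [hX]; exact normal_in_normalizer
  have hYX : Y ≤ X := hX ▸ hYB
  have hKX : K₁ ≤ X := hX ▸ hKB
  obtain ⟨π, hπ⟩ : ∃ π : ↥X →* ↥X ⧸ B.subgroupOf X, π = QuotientGroup.mk' (B.subgroupOf X) :=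
    ⟨_, rfl⟩
  have hπ1 : ∀ x : ↥X, π x = 1 ↔ x ∈ B.subgroupOf X := by
    intro x; rw [hπ]; exact QuotientGroup.eq_one_iff x
  obtain ⟨Y', hY'⟩ : ∃ Y' : Subgroup ↥X, Y' = Y.subgroupOf X := ⟨_, rfl⟩
  obtain ⟨K', hK'⟩ : ∃ K' : Subgroup ↥X, K' = K₁.subgroupOf X := ⟨_, rfl⟩
  have hab : ∀ a ∈ Y'.map π, ∀ b ∈ Y'.map π, a * b = b * a := by
    rintro _ ⟨a, ha, rfl⟩ _ ⟨b, hb, rfl⟩
    rw [hY'] at ha hb
    have h1 : ⁅a, b⁆ ∈ B.subgroupOf X := by
      rw [mem_subgroupOf]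
      exact hcomm a (mem_subgroupOf.mp ha) b (mem_subgroupOf.mp hb)
    have h2 : π ⁅a, b⁆ = 1 := (hπ1 _).mpr h1
    rw [map_commutatorElement, commutatorElement_eq_one_iff_mul_comm] at h2
    exact h2
  have hKnY : K'.map π ≤ normalizer ((Y'.map π : Subgroup _) : Set _) := by
    have h1 : K' ≤ normalizer (Y' : Set ↥X) := by
      have h0 : K' ≤ (normalizer (Y : Set G)).subgroupOf X := by
        intro k hk
        rw [hK'] at hk
        exact mem_subgroupOf.mpr (hKY (mem_subgroupOf.mp hk))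
      rw [hY']
      exact h0.trans (le_normalizer_comap X.subtype)
    exact (map_mono h1).trans (le_normalizer_map π)
  have hcop' : (Nat.card (Y'.map π)).Coprime (Nat.card (K'.map π)) := by
    have h1 : Nat.card (Y'.map π) ∣ Nat.card Y := by
      refine (card_map_dvd _ π).trans ?_
      rw [hY', Nat.card_congr (subgroupOfEquivOfLe hYX).toEquiv]
    have h2 : Nat.card (K'.map π) ∣ Nat.card K₁ := by
      refine (card_map_dvd _ π).trans ?_
      rw [hK', Nat.card_congr (subgroupOfEquivOfLe hKX).toEquiv]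
    exact Nat.Coprime.coprime_dvd_left h1 (Nat.Coprime.coprime_dvd_right h2 hcop)
  have hYK' : ⁅Y', K'⁆ = Y' := by
    apply map_injective X.subtype_injective
    rw [map_commutator, hY', hK', subgroupOf_map_subtype, subgroupOf_map_subtype,
      inf_eq_left.mpr hYX, inf_eq_left.mpr hKX, hYK]
  have hYKb : ⁅Y'.map π, K'.map π⁆ = Y'.map π := by rw [← map_commutator, hYK']
  have hbot := Cfsg.Agent.Helper57.BG161.comm_inf_centralizer_eq_bot (Y'.map π) (K'.map π)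
    hKnY hab hcop'
  rw [hYKb] at hbot
  have hyX : y ∈ X := hYX hy
  have h1 : π ⟨y, hyX⟩ ∈ Y'.map π := mem_map_of_mem π (by rw [hY']; exact mem_subgroupOf.mpr hy)
  have h2 : π ⟨y, hyX⟩ ∈ centralizer ((K'.map π : Subgroup _) : Set _) := by
    rw [mem_centralizer_iff]
    rintro _ ⟨k, hk, rfl⟩
    rw [hK'] at hk
    have h3 : ⁅(⟨y, hyX⟩ : ↥X), k⁆ ∈ B.subgroupOf X := by
      rw [mem_subgroupOf]
      exact hyk k (mem_subgroupOf.mp hk)
    have h4 : π ⁅(⟨y, hyX⟩ : ↥X), k⁆ = 1 := (hπ1 _).mpr h3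
    rw [map_commutatorElement, commutatorElement_eq_one_iff_mul_comm] at h4
    exact h4.symm
  have h5 : π ⟨y, hyX⟩ ∈ Y'.map π ⊓ centralizer ((K'.map π : Subgroup _) : Set _) := ⟨h1, h2⟩
  rw [hbot, mem_bot] at h5
  have h6 : (⟨y, hyX⟩ : ↥X) ∈ B.subgroupOf X := (hπ1 _).mp h5
  exact mem_subgroupOf.mp h6

/-- (YM2) -/
theorem core_of_minimal {W K N E K₁ Q₀ Y : Subgroup G} (hB : Base G W) (hK : KData G K)
    (hKW : ∀ w ∈ W, ∀ k ∈ K, k * w = w * k) (hH : HData G W K N E K₁ Q₀)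
    (hYQ : Y ≤ pCore 2 G) (hNY : Nzes N Y) (hKY : Nzes K Y) (hYK : ⁅Y, K₁⁆ ≠ ⊥)
    (hmin : ∀ Z : Subgroup G, Z < Y → Nzes N Z → Nzes K Z → ⁅Z, K₁⁆ = ⊥) :
    Core G W Y K₁ E Q₀ N := by
  have hp2 : Fact (Nat.Prime 2) := ⟨Nat.prime_two⟩
  have hsolvG : Group.IsSolvable G := hB.solv
  have hY2 : IsPGroup 2 Y := Helper55.isPGroup_pCore.to_le hYQ
  have hK₁K : K₁ ≤ K := hH.K₁_le
  have hK₁odd : Odd (Nat.card K₁) := Odd.of_dvd_nat hK.K_odd (card_dvd_of_le hK₁K)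
  have hcop : (Nat.card K₁).Coprime (Nat.card Y) := by
    obtain ⟨j, hj⟩ := IsPGroup.iff_card.mp hY2
    rw [hj]
    exact Nat.Coprime.pow_right j (Nat.coprime_two_right.mpr hK₁odd)
  have hK₁Y : Nzes K₁ Y := fun k hk => hKY k (hK₁K hk)
  have hK₁nY : K₁ ≤ normalizer (Y : Set G) := ym_nzes_le_normalizer hK₁Y
  have hNK₁ : Nzes N K₁ := hH.N_K₁
  have hKK₁ : Nzes K K₁ := hH.K_K₁
  -- (b1)
  have hb1 : ⁅Y, K₁⁆ = Y := by
    have hle : ⁅Y, K₁⁆ ≤ Y := by
      rw [commutator_le]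
      intro y hy k hk
      have h1 := hK₁Y k hk y⁻¹ (Y.inv_mem hy)
      have e : ⁅y, k⁆ = y * (k * y⁻¹ * k⁻¹) := by rw [commutatorElement_def]; group
      rw [e]
      exact Y.mul_mem hy h1
    by_contra hne
    have hlt : ⁅Y, K₁⁆ < Y := lt_of_le_of_ne hle hne
    have h1 := hmin _ hlt (ym_nzes_commutator hNY hNK₁) (ym_nzes_commutator hKY hKK₁)
    have h2 := Helper52.commutator_commutator_eq Y K₁ hK₁nY hcop (Or.inl inferInstance)
    rw [h1] at h2
    exact hYK h2.symm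
  -- (b2)
  obtain ⟨B, hBdef⟩ : ∃ B : Subgroup G, B = (frattini ↥Y).map Y.subtype := ⟨_, rfl⟩
  have hBY : B ≤ Y := by rw [hBdef]; exact map_subtype_le _
  have hinvB : ∀ X : Subgroup G, Nzes X Y → Nzes X B := by
    intro X hX g hg b hb
    rw [hBdef] at hb ⊢
    refine ym_frattini_conj (hX g hg) (fun y hy => ?_) hb
    have h0 := hX g⁻¹ (X.inv_mem hg) y hy
    rwa [inv_inv] at h0
  have hYY : Nzes Y Y := fun g hg z hz => Y.mul_mem (Y.mul_mem hg hz) (Y.inv_mem hg)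
  have hY1 : Y ≠ ⊥ := by
    rintro rfl
    exact hYK (commutator_bot_left _)
  have hBlt : B < Y := by
    refine lt_of_le_of_ne hBY ?_
    intro h
    have hnt : Nontrivial ↥Y := (nontrivial_iff_ne_bot Y).mpr hY1
    obtain ⟨M, hM⟩ := (eq_top_or_exists_le_coatom (⊥ : Subgroup ↥Y)).resolve_left bot_ne_top
    have h1 : frattini ↥Y ≤ M := frattini_le_coatom hM.1
    have h2 : frattini ↥Y = ⊤ := by
      apply map_injective Y.subtype_injective
      rw [← hBdef, h, ← MonoidHom.range_eq_map, range_subtype]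
    rw [h2, top_le_iff] at h1
    exact hM.1.1 h1
  have hBK : ⁅B, K₁⁆ = ⊥ := hmin B hBlt (hinvB N hNY) (hinvB K hKY)
  have hsqB : ∀ y ∈ Y, y ^ 2 ∈ B := by
    intro y hy
    rw [hBdef]
    refine ⟨⟨y, hy⟩ * ⟨y, hy⟩, Helper51.RuSyl.sq_mem_frattini hY2 ⟨y, hy⟩, ?_⟩
    simp [pow_two]
  have hcommB : ∀ a ∈ Y, ∀ b ∈ Y, ⁅a, b⁆ ∈ B := by
    intro a ha b hb
    rw [hBdef]
    exact ⟨_, Helper51.RuSyl.comm_mem_frattini hY2 ⟨a, ha⟩ ⟨b, hb⟩, rfl⟩
  -- (b3)
  have hYnB : Y ≤ normalizer (B : Set G) := ym_nzes_le_normalizer (hinvB Y hYY)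
  have hKnB : K₁ ≤ normalizer (B : Set G) := ym_nzes_le_normalizer (hinvB K₁ hK₁Y)
  have hb3 : ∀ y ∈ Y, (∀ k ∈ K₁, ⁅y, k⁆ ∈ B) → y ∈ B := fun y hy hyk =>
    ym_fpf_mod Y B K₁ hYnB hKnB hK₁nY hcommB hcop.symm hb1 y hy hyk
  -- (b0)
  have hWY : W ≤ Y := by
    obtain ⟨⟨y, hy⟩, hy1⟩ := (ne_bot_iff_exists_ne_one).mp hY1
    have hy1' : y ≠ 1 := fun h => hy1 (Subtype.ext h)
    obtain ⟨m, hm⟩ := (IsPGroup.iff_orderOf.mp hY2) ⟨y, hy⟩
    rw [Subgroup.orderOf_mk] at hm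
    obtain ⟨j, hj2, hj1⟩ := ym_exists_invol hy1' ⟨m, hm⟩
    have hcY : y ^ j ∈ Y := Y.pow_mem hy j
    have hcW : y ^ j ∈ W := hB.inv_mem _ hj2
    intro w hw
    by_cases hw1 : w = 1
    · rw [hw1]; exact Y.one_mem
    obtain ⟨n, hn, hnw⟩ := hH.N_trans _ hcW w hw hj1 hw1
    rw [← hnw]
    exact hNY n hn _ hcY
  -- (b4)
  have hWB : W ≤ B := by
    intro w hw
    apply hb3 w (hWY hw)
    intro k hk
    have h1 : ⁅w, k⁆ = 1 := by
      rw [commutatorElement_eq_one_iff_mul_comm]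
      exact (hKW w hw k (hK₁K hk)).symm
    rw [h1]
    exact B.one_mem
  -- (b5)
  have hYBc : ⁅Y, B⁆ = ⊥ := by
    have h1 : ⁅⁅Y, B⁆, K₁⁆ = ⊥ := by
      rw [eq_bot_iff, ← hBK]
      apply commutator_mono _ le_rfl
      rw [commutator_le]
      intro y hy b hb
      rw [commutatorElement_def]
      exact B.mul_mem (hinvB Y hYY y hy b hb) (B.inv_mem hb)
    have h2 : ⁅⁅B, K₁⁆, Y⁆ = ⊥ := by rw [hBK, commutator_bot_left]
    have h3 := commutator_commutator_eq_bot_of_rotate (H₁ := K₁) (H₂ := Y) (H₃ := B) h1 h2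
    rwa [commutator_comm K₁ Y, hb1] at h3
  have hBc : ∀ b ∈ B, ∀ y ∈ Y, b * y = y * b := by
    intro b hb y hy
    have h1 := commutator_eq_bot_iff_le_centralizer.mp hYBc hy
    exact mem_centralizer_iff.mp h1 b hb
  have hKBc : ∀ k ∈ K₁, ∀ b ∈ B, k * b * k⁻¹ = b := by
    intro k hk b hb
    have h1 := commutator_eq_bot_iff_le_centralizer.mp hBK hb
    have h2 : k * b = b * k := mem_centralizer_iff.mp h1 k hk
    rw [h2, mul_inv_cancel_right]
  -- (b6)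
  have hcommW : ∀ x ∈ Y, ∀ y ∈ Y, ⁅x, y⁆ ∈ W := by
    intro x hx y hy
    apply hB.inv_mem
    obtain ⟨c, hc⟩ : ∃ c, c = ⁅x, y⁆ := ⟨_, rfl⟩
    have hcB : c ∈ B := hc ▸ hcommB x hx y hy
    have hcx : c * x = x * c := hBc c hcB x hx
    have hxy : x * y = c * y * x := by rw [hc, commutatorElement_def]; group
    have hx2 : (x * x) * y = y * (x * x) := by
      have h0 := hBc (x ^ 2) (hsqB x hx) y hy
      rwa [pow_two] at h0
    have h1 : x * x * y = c * c * (y * x * x) := by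
      calc x * x * y = x * (x * y) := mul_assoc _ _ _
        _ = x * (c * y * x) := by rw [hxy]
        _ = (x * c) * y * x := by group
        _ = (c * x) * y * x := by rw [hcx]
        _ = c * (x * y) * x := by group
        _ = c * (c * y * x) * x := by rw [hxy]
        _ = c * c * (y * x * x) := by group
    rw [hx2] at h1
    have h2 : c * c = 1 := by
      have h3 : c * c * (y * x * x) = 1 * (y * x * x) := by
        rw [one_mul, ← h1, mul_assoc]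
      exact mul_right_cancel h3
    rw [← hc, pow_two]
    exact h2
  -- class 2 formula
  have hcl2 : ∀ a ∈ Y, ∀ b ∈ Y, (a * b) ^ 2 = a ^ 2 * b ^ 2 * ⁅b, a⁆ := by
    intro a ha b hb
    obtain ⟨c, hc⟩ : ∃ c, c = ⁅b, a⁆ := ⟨_, rfl⟩
    have hcB : c ∈ B := hc ▸ hcommB b hb a ha
    have hca : Commute c a := hBc c hcB a ha
    have hcb : Commute c b := hBc c hcB b hb
    have hba : b * a = c * a * b := by rw [hc, commutatorElement_def]; group
    rw [← hc, pow_two, pow_two, pow_two]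
    calc a * b * (a * b) = a * (b * a) * b := by group
      _ = a * (c * a * b) * b := by rw [hba]
      _ = (a * c) * a * b * b := by group
      _ = (c * a) * a * b * b := by rw [hca.eq]
      _ = c * (a * a * (b * b)) := by group
      _ = a * a * (b * b) * c :=
          ((hca.mul_right hca).mul_right (hcb.mul_right hcb)).eq
  -- (b7)
  have hBexp : ∀ b ∈ B, b ^ 2 = 1 := by
    let B2 : Subgroup G :=
      { carrier := {x | ∃ b ∈ B, b ^ 2 = x}
        one_mem' := ⟨1, B.one_mem, one_pow 2⟩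
        mul_mem' := by
          rintro _ _ ⟨a, ha, rfl⟩ ⟨b, hb, rfl⟩
          refine ⟨a * b, B.mul_mem ha hb, ?_⟩
          have hab : Commute a b := hBc a ha b (hBY hb)
          exact hab.mul_pow 2
        inv_mem' := by
          rintro _ ⟨a, ha, rfl⟩
          exact ⟨a⁻¹, B.inv_mem ha, inv_pow a 2⟩ }
    have hB2mem : ∀ x, x ∈ B2 ↔ ∃ b ∈ B, b ^ 2 = x := fun x => Iff.rfl
    have hfact : ∀ x ∈ Y, x ^ 2 ∈ B2 → x ∈ B := by
      intro x hx hx2
      obtain ⟨b, hb, hbx⟩ := (hB2mem _).mp hx2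
      have hbx' : Commute b x := hBc b hb x hx
      have h1 : (x * b⁻¹) ^ 2 = 1 := by
        have hc : Commute x b⁻¹ := hbx'.symm.inv_right
        rw [hc.mul_pow, inv_pow, hbx, mul_inv_cancel]
      have h2 : x * b⁻¹ ∈ B := hWB (hB.inv_mem _ h1)
      have e : x = (x * b⁻¹) * b := by group
      rw [e]
      exact B.mul_mem h2 hb
    have hclaim : ¬ ∀ x ∈ Y, ∀ y ∈ Y, ⁅x, y⁆ ∈ B2 := by
      intro hall
      have hYB' : Y ≤ B := by
        intro x hx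
        apply hb3 x hx
        intro k hk
        obtain ⟨b', hb'⟩ : ∃ b', b' = k * x⁻¹ * k⁻¹ := ⟨_, rfl⟩
        have hb'Y : b' ∈ Y := hb' ▸ hK₁Y k hk x⁻¹ (Y.inv_mem hx)
        have e : ⁅x, k⁆ = x * b' := by rw [hb', commutatorElement_def]; group
        rw [e]
        apply hfact _ (Y.mul_mem hx hb'Y)
        rw [hcl2 x hx b' hb'Y]
        have h1 : b' ^ 2 = (x ^ 2)⁻¹ := by
          have h2 : k * (x ^ 2)⁻¹ * k⁻¹ = (x ^ 2)⁻¹ := hKBc k hk _ (B.inv_mem (hsqB x hx))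
          rw [← h2, hb']
          simp only [pow_two]
          group
        rw [h1, mul_inv_cancel, one_mul]
        exact hall b' hb'Y x hx
      exact absurd hYB' (not_le_of_gt hBlt)
    intro b hb
    by_contra hb2
    have hb2Y : b ^ 2 ∈ Y := Y.pow_mem (hBY hb) 2
    obtain ⟨m, hm⟩ := (IsPGroup.iff_orderOf.mp hY2) ⟨b ^ 2, hb2Y⟩
    rw [Subgroup.orderOf_mk] at hm
    obtain ⟨j, hj2, hj1⟩ := ym_exists_invol hb2 ⟨m, hm⟩
    have hc0B2 : (b ^ 2) ^ j ∈ B2 := B2.pow_mem ((hB2mem _).mpr ⟨b, hb, rfl⟩) j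
    have hc0W : (b ^ 2) ^ j ∈ W := hB.inv_mem _ hj2
    have hWB2 : W ≤ B2 := by
      intro w hw
      by_cases hw1 : w = 1
      · rw [hw1]; exact B2.one_mem
      obtain ⟨n, hn, hnw⟩ := hH.N_trans _ hc0W w hw hj1 hw1
      rw [← hnw]
      obtain ⟨b1, hb1B, hb1e⟩ := (hB2mem _).mp hc0B2
      refine (hB2mem _).mpr ⟨n * b1 * n⁻¹, hinvB N hNY n hn b1 hb1B, ?_⟩
      rw [← hb1e]
      simp only [pow_two]
      group
    exact hclaim (fun x hx y hy => hWB2 (hcommW x hx y hy))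
  have hBW : B = W := le_antisymm (fun b hb => hB.inv_mem b (hBexp b hb)) hWB
  rw [hBW] at hBlt hsqB hb3
  exact
    { inv_mem := hB.inv_mem
      W_exp := hB.W_exp
      W_card := hB.W_card
      W_lt_Y := hBlt
      Y_two := hY2
      W_central := fun w hw y hy => hB.W_central w hw y (hYQ hy)
      sq_mem := hsqB
      comm_mem := hcommW
      N_W := fun g _ w hw => hB.W_normal.conj_mem w hw g
      N_Y := hNY
      N_K := hH.N_K₁
      N_E := hH.N_E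
      N_trans := hH.N_trans
      K_odd := hK₁odd
      K_Y := hK₁Y
      K_W := fun k hk w hw => hKW w hw k (hK₁K hk)
      K_fpf := hb3
      E_two := hH.E_two
      E_le_N := hH.E_le_N
      E_W := hH.E_W
      K_comm := hH.K_comm
      Q₀_le := hH.Q₀_le
      Q₀_K := fun q hq k hk => hH.Q₀_K q hq k (hK₁K hk)
      E_sq := hH.E_sq
      E_comm := hH.E_comm }

end Cfsg.Agent.Helper57.TH1
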