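import Mathlib

set_option autoImplicit false

namespace Cfsg.Agent.Helper57
namespace TriMat

open Matrix

variable {ι : Type*} [DecidableEq ι] [Fintype ι] (W : ℕ) (pos : ι → ℕ)

/-- A coded matrix over the field with three elements: a "plus" plane and a "minus" plane. -/
abbrev Code : Type := ℕ × ℕ

/-- The value in `ZMod 3` of a pair of bits. -/
def bval (p m : Bool) : ZMod 3 := (if p then 1 else 0) - (if m then 1 else 0)

/-- Decode: entry `(a, b)` is read off bit number `W * pos a + pos b` of the two planes. -/
def dec (c : Code) : Matrix ι ι (ZMod 3) :=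
  Matrix.of fun a b => bval (c.1.testBit (W * pos a + pos b)) (c.2.testBit (W * pos a + pos b))

/-- `x &&& ¬ y`, bitwise. -/
def andNot (x y : ℕ) : ℕ := x ^^^ (x &&& y)

theorem testBit_andNot (x y i : ℕ) : (andNot x y).testBit i = (x.testBit i && !y.testBit i) := by
  unfold andNot
  rw [Nat.testBit_xor, Nat.testBit_and]
  cases x.testBit i <;> cases y.testBit i <;> rfl

/-- Addition of coded matrices (valid for all inputs, normalized output). -/
def add (c d : Code) : Code :=
  let ap := andNot c.1 c.2
  let bm := andNot c.2 c.1
  let cp := andNot d.1 d.2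
  let dm := andNot d.2 d.1
  (andNot (andNot ap cp) dm ||| andNot (andNot cp ap) bm ||| (bm &&& dm),
   andNot (andNot bm cp) dm ||| andNot (andNot dm ap) bm ||| (ap &&& cp))

theorem bval_add (a b c d : Bool) :
    bval ((((a && !b) && !(c && !d)) && !(d && !c)) || (((c && !d) && !(a && !b)) && !(b && !a)) ||
        ((b && !a) && (d && !c)))
      ((((b && !a) && !(c && !d)) && !(d && !c)) || (((d && !c) && !(a && !b)) && !(b && !a)) ||
        ((a && !b) && (c && !d))) = bval a b + bval c d := by
  cases a <;> cases b <;> cases c <;> cases d <;> decide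

omit [DecidableEq ι] [Fintype ι] in
theorem dec_add (c d : Code) : dec W pos (add c d) = dec W pos c + dec W pos d := by
  ext a b
  simp only [dec, add, Matrix.of_apply, Matrix.add_apply, Nat.testBit_or, Nat.testBit_and,
    testBit_andNot]
  exact bval_add _ _ _ _

/-- Negation of a coded matrix: swap the planes. -/
def neg (c : Code) : Code := (c.2, c.1)

theorem bval_swap (a b : Bool) : bval b a = - bval a b := by
  cases a <;> cases b <;> decide

omit [DecidableEq ι] [Fintype ι] in
theorem dec_neg (c : Code) : dec W pos (neg c) = - dec W pos c := by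
  ext a b
  simp only [dec, neg, Matrix.of_apply, Matrix.neg_apply]
  exact bval_swap _ _

omit [DecidableEq ι] [Fintype ι] in
theorem dec_zero : dec W pos (0, 0) = 0 := by
  ext a b
  simp [dec, bval]

/-- Row `k` of the coded plane `n`, moved to row `i` (all other rows zero). -/
def rowMove (i k : ℕ) (n : ℕ) : ℕ := ((n >>> (W * k)) &&& (2 ^ W - 1)) <<< (W * i)

omit [DecidableEq ι] [Fintype ι] in
theorem testBit_rowMove (hinj : Function.Injective pos) (hlt : ∀ b, pos b < W) (i k a b : ι)
    (n : ℕ) [Decidable (a = i)] :
    (rowMove W (pos i) (pos k) n).testBit (W * pos a + pos b) =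
      (decide (a = i) && n.testBit (W * pos k + pos b)) := by
  by_cases hai : a = i
  · subst hai
    simp only [rowMove, Nat.testBit_shiftLeft, Nat.testBit_and,
      Nat.testBit_shiftRight, Nat.testBit_two_pow_sub_one]
    have h1 : W * pos a + pos b ≥ W * pos a := Nat.le_add_right _ _
    have h2 : W * pos a + pos b - W * pos a = pos b := Nat.add_sub_cancel_left _ _
    have h3 : pos b < W := hlt b
    simp [h1, h2, h3]
  · have hne : pos a ≠ pos i := fun h => hai (hinj h)
    simp only [rowMove, Nat.testBit_shiftLeft, Nat.testBit_and,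
      Nat.testBit_shiftRight, Nat.testBit_two_pow_sub_one]
    have h3 : pos b < W := hlt b
    rcases Nat.lt_or_gt_of_ne hne with hlt' | hgt
    · have : ¬ (W * pos a + pos b ≥ W * pos i) := by
        have : W * pos a + pos b < W * (pos a + 1) := by rw [Nat.mul_succ]; omega
        have h4 : W * (pos a + 1) ≤ W * pos i := Nat.mul_le_mul_left _ hlt'
        omega
      simp [this, hai]
    · have : ¬ (W * pos a + pos b - W * pos i < W) := by
        have h4 : W * (pos i + 1) ≤ W * pos a := Nat.mul_le_mul_left _ hgt
        rw [Nat.mul_succ] at h4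
        omega
      simp [this, hai]

/-- Row move on both planes. -/
def rowMove2 (i k : ℕ) (c : Code) : Code := (rowMove W i k c.1, rowMove W i k c.2)

theorem dec_rowMove2 (hinj : Function.Injective pos) (hlt : ∀ b, pos b < W) (i k : ι) (c : Code) :
    dec W pos (rowMove2 W (pos i) (pos k) c) = Matrix.single i k (1 : ZMod 3) * dec W pos c := by
  ext a b
  simp only [dec, rowMove2, Matrix.of_apply]
  rw [testBit_rowMove W pos hinj hlt, testBit_rowMove W pos hinj hlt]
  by_cases hai : a = i
  · subst hai
    rw [Matrix.single_mul_apply_same, one_mul]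
    simp
  · rw [Matrix.single_mul_apply_of_ne (1 : ZMod 3) i k a b hai]
    simp [hai, bval]

/-- One signed row move. -/
def term (e : ℕ × ℕ × Bool) (c : Code) : Code :=
  if e.2.2 then neg (rowMove2 W e.1 e.2.1 c) else rowMove2 W e.1 e.2.1 c

/-- The code of `(1 + A) * M` where `A` has entries `±1` at the listed positions (`true` = `-1`),
and `M` is coded by `c`. -/
def mulCode (E : List (ℕ × ℕ × Bool)) (c : Code) : Code :=
  (E.map fun e => term W e c).foldr add c

/-- The matrix `1 + A`. -/
def matOf (E : List (ι × ι × Bool)) : Matrix ι ι (ZMod 3) :=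
  1 + (E.map fun e => Matrix.single e.1 e.2.1 (if e.2.2 then (-1 : ZMod 3) else 1)).sum

/-- Positions of a list of signed index pairs. -/
def posList (E : List (ι × ι × Bool)) : List (ℕ × ℕ × Bool) :=
  E.map fun e => (pos e.1, pos e.2.1, e.2.2)

theorem dec_mulCode (hinj : Function.Injective pos) (hlt : ∀ b, pos b < W)
    (E : List (ι × ι × Bool)) (c : Code) :
    dec W pos (mulCode W (posList pos E) c) = matOf E * dec W pos c := by
  have key : ∀ E : List (ι × ι × Bool),
      dec W pos (((posList pos E).map fun e => term W e c).foldr add c) =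
        dec W pos c + (E.map fun e =>
          Matrix.single e.1 e.2.1 (if e.2.2 then (-1 : ZMod 3) else 1)).sum * dec W pos c := by
    intro E
    induction E with
    | nil => simp [posList]
    | cons e E ih =>
      have h1 : ((posList pos (e :: E)).map fun e => term W e c).foldr add c =
          add (term W (pos e.1, pos e.2.1, e.2.2) c)
            (((posList pos E).map fun e => term W e c).foldr add c) := by
        simp [posList]
      rw [h1, dec_add, ih]
      have h2 : dec W pos (term W (pos e.1, pos e.2.1, e.2.2) c) =
          Matrix.single e.1 e.2.1 (if e.2.2 then (-1 : ZMod 3) else 1) * dec W pos c := by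
        unfold term
        by_cases hs : e.2.2
        · simp only [hs, if_true]
          rw [dec_neg, dec_rowMove2 W pos hinj hlt]
          rw [← Matrix.neg_mul]
          congr 1
          ext a b
          simp only [Matrix.single, Matrix.neg_apply, Matrix.of_apply]
          split_ifs <;> simp
        · simp only [hs, Bool.false_eq_true, if_false]
          exact dec_rowMove2 W pos hinj hlt _ _ _
      rw [h2]
      simp only [List.map_cons, List.sum_cons, add_mul]
      abel
  unfold mulCode matOf
  rw [key, add_mul, one_mul]

/-- A code is normalized when the planes are disjoint and fit in `W * W` bits. -/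
def Normalized (c : Code) : Prop := c.1 &&& c.2 = 0 ∧ c.1 < 2 ^ (W * W) ∧ c.2 < 2 ^ (W * W)

instance (c : Code) : Decidable (Normalized W c) := by
  unfold Normalized
  infer_instance

theorem bval_inj (p m p' m' : Bool) (h1 : (p && m) = false) (h2 : (p' && m') = false)
    (h : bval p m = bval p' m') : p = p' ∧ m = m' := by
  revert h1 h2 h
  cases p <;> cases m <;> cases p' <;> cases m' <;> decide

omit [DecidableEq ι] [Fintype ι] in
theorem dec_injOn (hsurj : ∀ j < W, ∃ a, pos a = j) (c d : Code)
    (hc : Normalized W c) (hd : Normalized W d) (h : dec W pos c = dec W pos d) : c = d := by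
  have key : ∀ i, c.1.testBit i = d.1.testBit i ∧ c.2.testBit i = d.2.testBit i := by
    intro i
    by_cases hi : i < W * W
    · have hW : 0 < W := by
        rcases Nat.eq_zero_or_pos W with h0 | h0
        · subst h0; simp at hi
        · exact h0
      have h1 : i / W < W := by
        rw [Nat.div_lt_iff_lt_mul hW]; exact hi
      have h2 : i % W < W := Nat.mod_lt _ hW
      obtain ⟨a, ha⟩ := hsurj _ h1
      obtain ⟨b, hb⟩ := hsurj _ h2
      have hidx : W * pos a + pos b = i := by rw [ha, hb]; exact Nat.div_add_mod i W
      have h3 := congrFun (congrFun h a) b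
      simp only [dec, Matrix.of_apply, hidx] at h3
      have hc0 : (c.1.testBit i && c.2.testBit i) = false := by
        rw [← Nat.testBit_and, hc.1]; simp
      have hd0 : (d.1.testBit i && d.2.testBit i) = false := by
        rw [← Nat.testBit_and, hd.1]; simp
      exact bval_inj _ _ _ _ hc0 hd0 h3
    · have hi' : W * W ≤ i := Nat.le_of_not_lt hi
      have hpow : 2 ^ (W * W) ≤ 2 ^ i := Nat.pow_le_pow_right (by norm_num) hi'
      rw [Nat.testBit_lt_two_pow (lt_of_lt_of_le hc.2.1 hpow),
        Nat.testBit_lt_two_pow (lt_of_lt_of_le hd.2.1 hpow),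
        Nat.testBit_lt_two_pow (lt_of_lt_of_le hc.2.2 hpow),
        Nat.testBit_lt_two_pow (lt_of_lt_of_le hd.2.2 hpow)]
      exact ⟨rfl, rfl⟩
  apply Prod.ext
  · exact Nat.eq_of_testBit_eq fun i => (key i).1
  · exact Nat.eq_of_testBit_eq fun i => (key i).2

end TriMat
end Cfsg.Agent.Helper57
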