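import Mathlib

set_option autoImplicit false

namespace Cfsg.Agent.Helper57

open Nat

/-- Variant of Mathlib's `centralBinom_le_of_no_bertrand_prime` allowing one prime in `(n, 2n]`. -/
theorem centralBinom_le_of_one_prime (n : ℕ) (n_large : 2 < n) (p0 : ℕ) (hp0 : p0.Prime)
    (h0 : n < p0) (h0' : p0 ≤ 2 * n)
    (hone : ∀ p : ℕ, p.Prime → n < p → p ≤ 2 * n → p = p0) :
    centralBinom n ≤ (2 * n) ^ sqrt (2 * n) * 4 ^ (2 * n / 3) := by
  have n_pos : 0 < n := (Nat.zero_le _).trans_lt n_large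
  have n2_pos : 1 ≤ 2 * n := mul_pos (zero_lt_two' ℕ) n_pos
  let f : ℕ → ℕ := fun x => x ^ n.centralBinom.factorization x
  let T := Finset.range (2 * n + 1)
  have hmem : p0 ∈ T := Finset.mem_range.mpr (by omega)
  have e1 : centralBinom n = f p0 * ∏ x ∈ T.erase p0, f x := by
    rw [Finset.mul_prod_erase T f hmem]
    exact (prod_pow_factorization_centralBinom n).symm
  let S := {p ∈ Finset.range (2 * n / 3 + 1) | Nat.Prime p}
  have hdiv : 2 * n / 3 ≤ n := by omega
  have e2 : ∏ x ∈ S, f x = ∏ x ∈ T.erase p0, f x := by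
    apply Finset.prod_subset
    · intro x hx
      obtain ⟨h1, _⟩ := Finset.mem_filter.1 hx
      rw [Finset.mem_range] at h1
      rw [Finset.mem_erase, Finset.mem_range]
      constructor
      · omega
      · omega
    · intro x hx hxS
      rw [Finset.mem_erase, Finset.mem_range] at hx
      obtain ⟨hne, hlt⟩ := hx
      show x ^ n.centralBinom.factorization x = 1
      by_cases hpr : x.Prime
      · have h3 : 2 * n < 3 * x := by
          by_contra hcon
          apply hxS
          rw [Finset.mem_filter, Finset.mem_range]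
          refine ⟨?_, hpr⟩
          omega
        by_cases hxn : x ≤ n
        · rw [factorization_centralBinom_of_two_mul_self_lt_three_mul n_large hxn h3, pow_zero]
        · exfalso
          exact hne (hone x hpr (by omega) (by omega))
      · rw [factorization_eq_zero_of_not_prime n.centralBinom hpr, pow_zero]
  have hfp0 : f p0 ≤ 2 * n := by
    have hle1 : n.centralBinom.factorization p0 ≤ 1 := by
      rw [Nat.centralBinom_eq_two_mul_choose]
      apply Nat.factorization_choose_le_one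
      nlinarith
    calc f p0 = p0 ^ n.centralBinom.factorization p0 := rfl
      _ ≤ p0 ^ 1 := pow_le_pow_right₀ hp0.one_lt.le hle1
      _ = p0 := pow_one p0
      _ ≤ 2 * n := h0'
  have hs_pos : 1 ≤ sqrt (2 * n) := Nat.sqrt_pos.mpr n2_pos
  have hS : ∏ x ∈ S, f x ≤ (2 * n) ^ (sqrt (2 * n) - 1) * 4 ^ (2 * n / 3) := by
    rw [← Finset.prod_filter_mul_prod_filter_not S (· ≤ sqrt (2 * n))]
    apply mul_le_mul'
    · refine (Finset.prod_le_prod' fun p _ => (?_ : f p ≤ 2 * n)).trans ?_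
      · exact pow_factorization_choose_le (mul_pos two_pos n_pos)
      have : (Finset.Icc 2 (sqrt (2 * n))).card = sqrt (2 * n) - 1 := by
        rw [card_Icc]; omega
      rw [Finset.prod_const]
      refine pow_right_mono₀ n2_pos ((Finset.card_le_card fun x hx => ?_).trans this.le)
      obtain ⟨h1, h2⟩ := Finset.mem_filter.1 hx
      exact Finset.mem_Icc.mpr ⟨(Finset.mem_filter.1 h1).2.two_le, h2⟩
    · refine le_trans ?_ (primorial_le_four_pow (2 * n / 3))
      refine (Finset.prod_le_prod' fun p hp => (?_ : f p ≤ p)).trans ?_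
      · obtain ⟨h1, h2⟩ := Finset.mem_filter.1 hp
        refine (pow_right_mono₀ (Finset.mem_filter.1 h1).2.one_lt.le ?_).trans (pow_one p).le
        exact Nat.factorization_choose_le_one (sqrt_lt'.mp <| not_le.1 h2)
      refine Finset.prod_le_prod_of_subset_of_one_le' (Finset.filter_subset _ _) ?_
      exact fun p hp _ => (Finset.mem_filter.1 hp).2.one_lt.le
  rw [e1, ← e2]
  calc f p0 * ∏ x ∈ S, f x ≤ (2 * n) * ((2 * n) ^ (sqrt (2 * n) - 1) * 4 ^ (2 * n / 3)) :=
        Nat.mul_le_mul hfp0 hS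
    _ = (2 * n) ^ sqrt (2 * n) * 4 ^ (2 * n / 3) := by
        rw [← mul_assoc, ← pow_succ']
        congr 2
        omega

theorem two_primes_large (n : ℕ) (n_large : 512 ≤ n) :
    ∃ p q : ℕ, p.Prime ∧ q.Prime ∧ q < p ∧ n < q ∧ p ≤ 2 * n := by
  obtain ⟨p0, hp0, h0, h0'⟩ := Nat.exists_prime_lt_and_le_two_mul n (by omega)
  by_contra hcon
  push Not at hcon
  have hone : ∀ p : ℕ, p.Prime → n < p → p ≤ 2 * n → p = p0 := by
    intro p hp h1 h2
    by_contra hne
    rcases lt_or_gt_of_ne hne with hlt | hgt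
    · exact absurd h0' (not_le.mpr (hcon p0 p hp0 hp hlt h1))
    · exact absurd h2 (not_le.mpr (hcon p p0 hp hp0 hgt h0))
  have h1 : 4 ^ n < n * n.centralBinom :=
    Nat.four_pow_lt_mul_centralBinom n (le_trans (by norm_num1) n_large)
  have h2 := centralBinom_le_of_one_prime n (by omega) p0 hp0 h0 h0' hone
  have h3 := bertrand_main_inequality n_large
  have : n * n.centralBinom ≤ 4 ^ n := by
    calc n * n.centralBinom ≤ n * ((2 * n) ^ sqrt (2 * n) * 4 ^ (2 * n / 3)) :=
          Nat.mul_le_mul_left n h2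
      _ = n * (2 * n) ^ sqrt (2 * n) * 4 ^ (2 * n / 3) := by ring
      _ ≤ 4 ^ n := h3
  omega

theorem two_primes_step (a b c m : ℕ) (hb : b.Prime) (hc : c.Prime) (hbc : b < c)
    (hc2 : c ≤ 2 * a) (h1 : a ≤ m) (h2 : m < b) :
    ∃ p q : ℕ, p.Prime ∧ q.Prime ∧ q < p ∧ m < q ∧ p ≤ 2 * m :=
  ⟨c, b, hc, hb, hbc, h2, by omega⟩

/-- For `m ≥ 6` there are two primes in `(m, 2m]`. -/
theorem two_primes_between (m : ℕ) (hm : 6 ≤ m) :
    ∃ p q : ℕ, p.Prime ∧ q.Prime ∧ q < p ∧ m < q ∧ p ≤ 2 * m := by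
  rcases le_or_gt 512 m with h | h
  · exact two_primes_large m h
  have hcases : (6 ≤ m ∧ m < 7) ∨ (7 ≤ m ∧ m < 11) ∨ (11 ≤ m ∧ m < 13) ∨ (13 ≤ m ∧ m < 19) ∨
      (19 ≤ m ∧ m < 23) ∨ (23 ≤ m ∧ m < 37) ∨ (37 ≤ m ∧ m < 43) ∨ (43 ≤ m ∧ m < 73) ∨
      (73 ≤ m ∧ m < 83) ∨ (83 ≤ m ∧ m < 139) ∨ (139 ≤ m ∧ m < 163) ∨ (163 ≤ m ∧ m < 277) ∨
      (277 ≤ m ∧ m < 317) ∨ (317 ≤ m ∧ m < 547) := by omega
  rcases hcases with ⟨h1, h2⟩ | ⟨h1, h2⟩ | ⟨h1, h2⟩ | ⟨h1, h2⟩ | ⟨h1, h2⟩ | ⟨h1, h2⟩ | ⟨h1, h2⟩ |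
    ⟨h1, h2⟩ | ⟨h1, h2⟩ | ⟨h1, h2⟩ | ⟨h1, h2⟩ | ⟨h1, h2⟩ | ⟨h1, h2⟩ | ⟨h1, h2⟩
  · exact two_primes_step 6 7 11 m (by norm_num) (by norm_num) (by norm_num) (by norm_num) h1 h2
  · exact two_primes_step 7 11 13 m (by norm_num) (by norm_num) (by norm_num) (by norm_num) h1 h2
  · exact two_primes_step 11 13 19 m (by norm_num) (by norm_num) (by norm_num) (by norm_num) h1 h2
  · exact two_primes_step 13 19 23 m (by norm_num) (by norm_num) (by norm_num) (by norm_num) h1 h2
  · exact two_primes_step 19 23 37 m (by norm_num) (by norm_num) (by norm_num) (by norm_num) h1 h2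
  · exact two_primes_step 23 37 43 m (by norm_num) (by norm_num) (by norm_num) (by norm_num) h1 h2
  · exact two_primes_step 37 43 73 m (by norm_num) (by norm_num) (by norm_num) (by norm_num) h1 h2
  · exact two_primes_step 43 73 83 m (by norm_num) (by norm_num) (by norm_num) (by norm_num) h1 h2
  · exact two_primes_step 73 83 139 m (by norm_num) (by norm_num) (by norm_num) (by norm_num) h1 h2
  · exact two_primes_step 83 139 163 m (by norm_num) (by norm_num) (by norm_num) (by norm_num) h1 h2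
  · exact two_primes_step 139 163 277 m (by norm_num) (by norm_num) (by norm_num) (by norm_num) h1 h2
  · exact two_primes_step 163 277 317 m (by norm_num) (by norm_num) (by norm_num) (by norm_num) h1 h2
  · exact two_primes_step 277 317 547 m (by norm_num) (by norm_num) (by norm_num) (by norm_num) h1 h2
  · exact two_primes_step 317 547 631 m (by norm_num) (by norm_num) (by norm_num) (by norm_num) h1 h2

/-- For `n ≥ 11` (and for `n ∈ {5, 7, 8, 9}`) there are two primes in `(n/2, n]`. -/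
theorem two_primes_half (n : ℕ) (hn : 5 ≤ n) (h6 : n ≠ 6) (h10 : n ≠ 10) :
    ∃ p q : ℕ, p.Prime ∧ q.Prime ∧ q < p ∧ p ≤ n ∧ n < 2 * q := by
  rcases lt_or_ge n 12 with h | h
  · have : n = 5 ∨ n = 7 ∨ n = 8 ∨ n = 9 ∨ n = 11 := by omega
    rcases this with rfl | rfl | rfl | rfl | rfl
    · exact ⟨5, 3, by norm_num, by norm_num, by norm_num, by norm_num, by norm_num⟩
    · exact ⟨7, 5, by norm_num, by norm_num, by norm_num, by norm_num, by norm_num⟩
    · exact ⟨7, 5, by norm_num, by norm_num, by norm_num, by norm_num, by norm_num⟩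
    · exact ⟨7, 5, by norm_num, by norm_num, by norm_num, by norm_num, by norm_num⟩
    · exact ⟨11, 7, by norm_num, by norm_num, by norm_num, by norm_num, by norm_num⟩
  · obtain ⟨p, q, hp, hq, hqp, hmq, hpm⟩ := two_primes_between (n / 2) (by omega)
    exact ⟨p, q, hp, hq, hqp, by omega, by omega⟩

end Cfsg.Agent.Helper57
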