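import Mathlib
import Cfsg.Agent.Lib.Helper69.HWMain

set_option autoImplicit false

/-!
# Yoshida's transfer theorem, part A: evaluating a transfer on fixed cosets (helper57)
-/

namespace Cfsg.Agent.Helper57.Yoshida

open MulAction Subgroup

/-- Evaluation of a transfer when the contribution of every cycle of length `n ≠ 1` is `c₀ ^ n`:
only the fixed cosets matter. -/
theorem transfer_eq_prod_fixed {Γ : Type*} [Group Γ] [Finite Γ] (H : Subgroup Γ) {A : Type*}
    [CommGroup A] (ϕ : H →* A) (ϕ' : Γ → A) (hϕ' : ∀ g (hg : g ∈ H), ϕ' g = ϕ ⟨g, hg⟩) (m : Γ)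
    (c₀ : A)
    (hterm : ∀ (k : Γ) (n : ℕ), n ≠ 1 → n ∣ orderOf m → k⁻¹ * m ^ n * k ∈ H →
      ϕ' (k⁻¹ * m ^ n * k) = c₀ ^ n) :
    ∃ Fx : Finset (Γ ⧸ H), (∀ c, c ∈ Fx ↔ m • c = c) ∧
      MonoidHom.transfer ϕ m = c₀ ^ H.index * ∏ c ∈ Fx, ϕ' (c.out⁻¹ * m * c.out) / c₀ := by
  classical
  haveI : Fintype (Quotient (orbitRel (zpowers m) (Γ ⧸ H))) := Fintype.ofFinite _
  haveI : Fintype (Γ ⧸ H) := Fintype.ofFinite _
  refine ⟨Finset.univ.filter (fun c => m • c = c), fun c => by simp, ?_⟩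
  have heval : MonoidHom.transfer ϕ m = ∏ q : Quotient (orbitRel (zpowers m) (Γ ⧸ H)),
      ϕ' (q.out.out⁻¹ * m ^ Function.minimalPeriod (m • ·) q.out * q.out.out) := by
    rw [MonoidHom.transfer_eq_prod_quotient_orbitRel_zpowers_quot ϕ m]
    refine Finset.prod_congr rfl (fun q _ => ?_)
    rw [hϕ']
  have hsum : ∑ q : Quotient (orbitRel (zpowers m) (Γ ⧸ H)),
      Function.minimalPeriod (m • ·) q.out = H.index := by
    rw [Subgroup.index_eq_card, Nat.card_eq_fintype_card,
      Fintype.card_congr (selfEquivSigmaOrbits (zpowers m) (Γ ⧸ H)), Fintype.card_sigma]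
    refine Finset.sum_congr rfl (fun q _ => ?_)
    rw [MulAction.minimalPeriod_eq_card]
    rfl
  set D : Quotient (orbitRel (zpowers m) (Γ ⧸ H)) → A := fun q =>
    if Function.minimalPeriod (m • ·) q.out = 1 then ϕ' (q.out.out⁻¹ * m * q.out.out) / c₀ else 1
    with hD
  have hfac : ∀ q : Quotient (orbitRel (zpowers m) (Γ ⧸ H)),
      ϕ' (q.out.out⁻¹ * m ^ Function.minimalPeriod (m • ·) q.out * q.out.out) =
        c₀ ^ Function.minimalPeriod (m • ·) q.out * D q := by
    intro q
    by_cases hq : Function.minimalPeriod (m • ·) q.out = 1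
    · simp only [hD, hq, if_true, pow_one]
      rw [mul_div_cancel]
    · simp only [hD, hq, if_false, mul_one]
      apply hterm _ _ hq
      · rw [← MulAction.pow_smul_eq_iff_minimalPeriod_dvd, pow_orderOf_eq_one, one_smul]
      · exact QuotientGroup.out_conj_pow_minimalPeriod_mem H m q.out
  have hout : ∀ c : Γ ⧸ H, m • c = c →
      (Quotient.mk'' c : Quotient (orbitRel (zpowers m) (Γ ⧸ H))).out = c := by
    intro c hc
    have h1 : orbitRel (zpowers m) (Γ ⧸ H)
        (Quotient.mk'' c : Quotient (orbitRel (zpowers m) (Γ ⧸ H))).out c :=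
      Quotient.exact (Quotient.out_eq' _)
    rw [orbitRel_apply, mem_orbit_iff] at h1
    obtain ⟨⟨k, hk⟩, hkc⟩ := h1
    have hk' : k ∈ stabilizer Γ c := by
      obtain ⟨i, rfl⟩ := Subgroup.mem_zpowers_iff.mp hk
      exact (stabilizer Γ c).zpow_mem (mem_stabilizer_iff.mpr hc) i
    rw [← hkc]
    exact mem_stabilizer_iff.mp hk'
  rw [heval, Finset.prod_congr rfl (fun q _ => hfac q), Finset.prod_mul_distrib,
    Finset.prod_pow_eq_pow_sum, hsum]
  congr 1
  rw [← Finset.prod_filter_of_ne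
    (p := fun q : Quotient (orbitRel (zpowers m) (Γ ⧸ H)) =>
      Function.minimalPeriod (m • ·) q.out = 1)
    (fun q _ hne => by
      by_contra hq
      apply hne
      simp only [hD, hq, if_false])]
  symm
  refine Finset.prod_bij
    (fun c _ => (Quotient.mk'' c : Quotient (orbitRel (zpowers m) (Γ ⧸ H)))) ?_ ?_ ?_ ?_
  · intro c hc
    rw [Finset.mem_filter] at hc
    rw [Finset.mem_filter]
    refine ⟨Finset.mem_univ _, ?_⟩
    rw [hout c hc.2, Function.minimalPeriod_eq_one_iff_isFixedPt]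
    exact hc.2
  · intro c hc c' hc' heq
    rw [Finset.mem_filter] at hc hc'
    rw [← hout c hc.2, ← hout c' hc'.2, heq]
  · intro q hq
    rw [Finset.mem_filter] at hq
    have hfix : m • q.out = q.out := Function.minimalPeriod_eq_one_iff_isFixedPt.mp hq.2
    refine ⟨q.out, ?_, Quotient.out_eq' q⟩
    rw [Finset.mem_filter]
    exact ⟨Finset.mem_univ _, hfix⟩
  · intro c hc
    rw [Finset.mem_filter] at hc
    have h1 : Function.minimalPeriod (m • ·)
        (Quotient.mk'' c : Quotient (orbitRel (zpowers m) (Γ ⧸ H))).out = 1 := by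
      rw [hout c hc.2, Function.minimalPeriod_eq_one_iff_isFixedPt]
      exact hc.2
    simp only [hD, h1, if_true]
    rw [hout c hc.2]

end Cfsg.Agent.Helper57.Yoshida
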