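import Mathlib
import Cfsg.Agent.Lib.Helper69.HWMain
import Cfsg.Agent.Lib.Helper57.YoshidaA

set_option autoImplicit false

/-!
# Yoshida's transfer theorem, part B: products of conjugates and iterated commutators (helper57)
-/

namespace Cfsg.Agent.Helper57.Yoshida

open MulAction Subgroup
open Cfsg.Agent.Helper69.HW

/-- The iterated commutator `[x, w; k]`. -/
def iterComm {G : Type*} [Group G] (x w : G) (k : ℕ) : G :=
  (fun y : G => y⁻¹ * w⁻¹ * y * w)^[k] x

theorem iterComm_zero {G : Type*} [Group G] (x w : G) : iterComm x w 0 = x := rfl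

theorem iterComm_succ {G : Type*} [Group G] (x w : G) (k : ℕ) :
    iterComm x w (k + 1) = (iterComm x w k)⁻¹ * w⁻¹ * iterComm x w k * w := by
  unfold iterComm
  rw [Function.iterate_succ_apply']

theorem iterComm_mem {G : Type*} [Group G] (S : Subgroup G) (x w : G) (hxS : x ∈ S)
    (hw : ∀ s ∈ S, w⁻¹ * s * w ∈ S) (k : ℕ) : iterComm x w k ∈ S := by
  induction k with
  | zero => exact hxS
  | succ k ih =>
    rw [iterComm_succ]
    have : (iterComm x w k)⁻¹ * w⁻¹ * iterComm x w k * w =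
        (iterComm x w k)⁻¹ * (w⁻¹ * iterComm x w k * w) := by group
    rw [this]
    exact S.mul_mem (S.inv_mem ih) (hw _ ih)

theorem conj_pow_mem {G : Type*} [Group G] (S : Subgroup G) (w : G)
    (hw : ∀ s ∈ S, w⁻¹ * s * w ∈ S) (j : ℕ) : ∀ s ∈ S, (w ^ j)⁻¹ * s * w ^ j ∈ S := by
  induction j with
  | zero => intro s hs; simpa using hs
  | succ j ih =>
    intro s hs
    have : (w ^ (j + 1))⁻¹ * s * w ^ (j + 1) = w⁻¹ * ((w ^ j)⁻¹ * s * w ^ j) * w := by
      rw [pow_succ]; group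
    rw [this]
    exact hw _ (ih s hs)

/-- The product of the `p` conjugates `w^{-j} x w^j` is sent, by a multiplicative map with values
of exponent `p`, to the image of the iterated commutator `[x, w; p-1]`. -/
theorem prod_conj_eq_iter {G : Type*} [Group G] {p : ℕ} [hp : Fact p.Prime] {A : Type*}
    [CommGroup A] (S : Subgroup G) (Λ : G → A)
    (Λ_mul : ∀ s t, s ∈ S → t ∈ S → Λ (s * t) = Λ s * Λ t) (hΛp : ∀ s ∈ S, Λ s ^ p = 1)
    (x w : G) (hxS : x ∈ S) (hw : ∀ s ∈ S, w⁻¹ * s * w ∈ S) :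
    ∏ j ∈ Finset.range p, Λ ((w ^ j)⁻¹ * x * w ^ j) = Λ (iterComm x w (p - 1)) := by
  have Λ_one : Λ 1 = 1 := by
    have := Λ_mul 1 1 S.one_mem S.one_mem
    rw [mul_one] at this
    exact left_eq_mul.mp this
  have Λ_inv : ∀ s, s ∈ S → Λ s⁻¹ = (Λ s)⁻¹ := by
    intro s hs
    have := Λ_mul s s⁻¹ hs (S.inv_mem hs)
    rw [mul_inv_cancel, Λ_one] at this
    exact (eq_inv_of_mul_eq_one_right this.symm)
  have huS : ∀ k, iterComm x w k ∈ S := iterComm_mem S x w hxS hw
  have hconj : ∀ (j : ℕ) (s : G), s ∈ S → (w ^ j)⁻¹ * s * w ^ j ∈ S := conj_pow_mem S w hw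
  set K : Subgroup A := (powMonoidHom p : A →* A).ker with hK
  have hmemK : ∀ a : A, a ∈ K ↔ a ^ p = 1 := by
    intro a
    rw [hK, MonoidHom.mem_ker]
    rfl
  set b : ℕ → ℕ → K := fun k j =>
    ⟨Λ ((w ^ j)⁻¹ * iterComm x w k * w ^ j), (hmemK _).mpr (hΛp _ (hconj j _ (huS k)))⟩ with hb
  have hKp : ∀ a : K, a ^ p = 1 := by
    intro a
    apply Subtype.ext
    rw [Subgroup.coe_pow]
    exact (hmemK _).mp a.2
  have hbrec : ∀ k j, b (k + 1) j = b k (j + 1) / b k j := by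
    intro k j
    apply Subtype.ext
    rw [Subgroup.coe_div]
    show Λ ((w ^ j)⁻¹ * iterComm x w (k + 1) * w ^ j) =
      Λ ((w ^ (j + 1))⁻¹ * iterComm x w k * w ^ (j + 1)) / Λ ((w ^ j)⁻¹ * iterComm x w k * w ^ j)
    have h1 : (w ^ j)⁻¹ * iterComm x w (k + 1) * w ^ j =
        ((w ^ j)⁻¹ * iterComm x w k * w ^ j)⁻¹ *
          ((w ^ (j + 1))⁻¹ * iterComm x w k * w ^ (j + 1)) := by
      rw [iterComm_succ, pow_succ]; group
    rw [h1, Λ_mul _ _ (S.inv_mem (hconj j _ (huS k))) (hconj (j + 1) _ (huS k)),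
      Λ_inv _ (hconj j _ (huS k)), div_eq_inv_mul]
  have key := prod_eq_iter p hKp b hbrec
  have key2 := congrArg Subtype.val key
  rw [Subgroup.val_finset_prod] at key2
  simp only [hb, pow_zero, inv_one, one_mul, mul_one] at key2
  rw [key2]
  refine Finset.prod_congr rfl (fun j _ => ?_)
  rw [iterComm_zero]

end Cfsg.Agent.Helper57.Yoshida
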