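import Mathlib
import Cfsg.Agent.Lib.Helper69.HWMain
import Cfsg.Agent.Lib.Helper57.YoshidaB

set_option autoImplicit false

/-!
# Yoshida's transfer theorem, part C: the orbit lemma (helper57)
-/

namespace Cfsg.Agent.Helper57.Yoshida

open MulAction Subgroup
open Cfsg.Agent.Helper69.HW

set_option maxHeartbeats 800000 in
/-- The orbit lemma: the product of the defects over the `x`-fixed cosets in one orbit of `Y`
is the value of a homomorphism `ν` on `Y₁` (a transfer) at the iterated commutator `[x, z; p-1]`. -/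
theorem orbit_prod {G : Type*} [Group G] [Finite G] {p : ℕ} [hp : Fact p.Prime] (P : Subgroup G)
    {A : Type*} [CommGroup A] (lam' : G → A)
    (lam'_mul : ∀ a b, a ∈ P → b ∈ P → lam' (a * b) = lam' a * lam' b)
    (hdef : ∀ g y, y ∈ P → g⁻¹ * y * g ∈ P → (lam' (g⁻¹ * y * g) / lam' y) ^ p = 1)
    (x : G) (hx : x ∈ P)
    (ih : ∀ g y, y ∈ P → g⁻¹ * y * g ∈ P → orderOf y < orderOf x → lam' (g⁻¹ * y * g) = lam' y)
    (Y Y₁ : Subgroup G) (hYP : Y ≤ P) (hY₁Y : Y₁ ≤ Y) (hxY₁ : x ∈ Y₁)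
    (z : G) (hzY : z ∈ Y)
    (hnorm : ∀ y ∈ Y, ∀ y₁ ∈ Y₁, y⁻¹ * y₁ * y ∈ Y₁)
    (hcos : ∀ y ∈ Y, ∃ i < p, (z ^ i)⁻¹ * y ∈ Y₁)
    (hzpow : ∀ i, 0 < i → i < p → z ^ i ∉ Y₁)
    (c : G ⧸ P) (hstab : ∀ y ∈ Y, y • c = c → y ∈ Y₁)
    (F : Finset (G ⧸ P)) (hF : ∀ c', c' ∈ F ↔ x • c' = c' ∧ ∃ y ∈ Y, y • c = c') :
    ∃ ν : Y₁ →* A, (∀ y, ν y ^ p = 1) ∧
      ∀ h : iterComm x z (p - 1) ∈ Y₁,
        ∏ c' ∈ F, lam' (c'.out⁻¹ * x * c'.out) / lam' x = ν ⟨iterComm x z (p - 1), h⟩ := by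
  classical
  have lam'_one : lam' 1 = 1 := by
    have := lam'_mul 1 1 P.one_mem P.one_mem
    rw [mul_one] at this
    exact left_eq_mul.mp this
  have lam'_inv : ∀ a, a ∈ P → lam' a⁻¹ = (lam' a)⁻¹ := by
    intro a ha
    have := lam'_mul a a⁻¹ ha (P.inv_mem ha)
    rw [mul_inv_cancel, lam'_one] at this
    exact (eq_inv_of_mul_eq_one_right this.symm)
  have lam'_conj : ∀ a u, a ∈ P → u ∈ P → lam' (u⁻¹ * a * u) = lam' a := by
    intro a u ha hu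
    rw [lam'_mul _ _ (P.mul_mem (P.inv_mem hu) ha) hu, lam'_mul _ _ (P.inv_mem hu) ha,
      lam'_inv _ hu]
    rw [mul_comm (lam' u)⁻¹, mul_assoc, inv_mul_cancel, mul_one]
  set g := c.out with hg
  have hfixP : ∀ y : G, y • c = c → g⁻¹ * y * g ∈ P :=
    fun y hy => (smul_eq_iff_out_conj_mem P y c).mp hy
  have hY₁P : Y₁ ≤ P := hY₁Y.trans hYP
  set H : Subgroup Y₁ := (stabilizer G c).subgroupOf Y₁ with hH
  have hmemH : ∀ y : Y₁, y ∈ H ↔ (y : G) • c = c := by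
    intro y
    rw [hH, Subgroup.mem_subgroupOf, mem_stabilizer_iff]
  -- the defect homomorphism on the stabilizer
  let ϕ : H →* A :=
    { toFun := fun h => lam' (g⁻¹ * ((h : Y₁) : G) * g) / lam' ((h : Y₁) : G)
      map_one' := by
        show lam' (g⁻¹ * (1 : G) * g) / lam' (1 : G) = 1
        rw [mul_one, inv_mul_cancel, lam'_one, div_one]
      map_mul' := by
        intro a b
        have ha : ((a : Y₁) : G) ∈ P := hY₁P (a : Y₁).2
        have hb : ((b : Y₁) : G) ∈ P := hY₁P (b : Y₁).2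
        have ha' : g⁻¹ * ((a : Y₁) : G) * g ∈ P := hfixP _ ((hmemH _).mp a.2)
        have hb' : g⁻¹ * ((b : Y₁) : G) * g ∈ P := hfixP _ ((hmemH _).mp b.2)
        show lam' (g⁻¹ * (((a : Y₁) : G) * ((b : Y₁) : G)) * g) /
            lam' (((a : Y₁) : G) * ((b : Y₁) : G)) = _
        have h1 : g⁻¹ * (((a : Y₁) : G) * ((b : Y₁) : G)) * g =
            (g⁻¹ * ((a : Y₁) : G) * g) * (g⁻¹ * ((b : Y₁) : G) * g) := by group
        rw [h1, lam'_mul _ _ ha' hb', lam'_mul _ _ ha hb, mul_div_mul_comm] }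
  have hϕ_apply : ∀ h : H, ϕ h = lam' (g⁻¹ * ((h : Y₁) : G) * g) / lam' ((h : Y₁) : G) :=
    fun h => rfl
  have hϕp : ∀ h : H, ϕ h ^ p = 1 := by
    intro h
    rw [hϕ_apply]
    exact hdef g _ (hY₁P (h : Y₁).2) (hfixP _ ((hmemH _).mp h.2))
  set ϕ' : Y₁ → A := fun y =>
    if (y : G) • c = c then lam' (g⁻¹ * (y : G) * g) / lam' (y : G) else 1 with hϕ'def
  have hϕ' : ∀ (y : Y₁) (hy : y ∈ H), ϕ' y = ϕ ⟨y, hy⟩ := by
    intro y hy
    simp only [hϕ'def, (hmemH y).mp hy, if_true]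
    rfl
  set ν : Y₁ →* A := MonoidHom.transfer ϕ with hν
  have hνp : ∀ y, ν y ^ p = 1 := by
    intro y
    haveI : Fintype (Quotient (orbitRel (zpowers y) (Y₁ ⧸ H))) := Fintype.ofFinite _
    rw [hν, MonoidHom.transfer_eq_prod_quotient_orbitRel_zpowers_quot ϕ y, ← Finset.prod_pow]
    exact Finset.prod_eq_one (fun q _ => hϕp _)
  refine ⟨ν, hνp, fun hmemu => ?_⟩
  have hzconj : ∀ s ∈ Y₁, z⁻¹ * s * z ∈ Y₁ := fun s hs => hnorm z hzY s hs
  have hmi : ∀ i : ℕ, (z ^ i)⁻¹ * x * z ^ i ∈ Y₁ := fun i => conj_pow_mem Y₁ z hzconj i x hxY₁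
  set m : ℕ → Y₁ := fun i => ⟨(z ^ i)⁻¹ * x * z ^ i, hmi i⟩ with hm
  have hm_coe : ∀ i, ((m i : Y₁) : G) = (z ^ i)⁻¹ * x * z ^ i := fun i => rfl
  have hordm : ∀ i, orderOf (m i) = orderOf x := by
    intro i
    rw [← Subgroup.orderOf_coe, hm_coe]
    have h1 : (z ^ i)⁻¹ * x * z ^ i = MulAut.conj (z ^ i)⁻¹ x := by
      rw [MulAut.conj_apply, inv_inv]
    rw [h1, MulEquiv.orderOf_eq]
  -- evaluation of ν on the conjugates of x
  have hTF : ∀ i : ℕ, ∃ Fx : Finset (Y₁ ⧸ H), (∀ q, q ∈ Fx ↔ (m i) • q = q) ∧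
      ν (m i) = ∏ q ∈ Fx, ϕ' (q.out⁻¹ * m i * q.out) := by
    intro i
    obtain ⟨Fx, hmem, heq⟩ := transfer_eq_prod_fixed H ϕ ϕ' hϕ' (m i) 1 (by
      intro k n hn1 hdvd hmemk
      rw [one_pow]
      have hfix : ((k⁻¹ * m i ^ n * k : Y₁) : G) • c = c := (hmemH _).mp hmemk
      simp only [hϕ'def, hfix, if_true]
      have hyP : ((k⁻¹ * m i ^ n * k : Y₁) : G) ∈ P := hY₁P (k⁻¹ * m i ^ n * k : Y₁).2
      have hxpos : 0 < orderOf (m i) := orderOf_pos _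
      have hn0 : n ≠ 0 := fun h0 => by rw [h0, zero_dvd_iff] at hdvd; omega
      have hord : orderOf ((k⁻¹ * m i ^ n * k : Y₁) : G) = orderOf (m i) / n := by
        rw [Subgroup.orderOf_coe]
        have h1 : k⁻¹ * m i ^ n * k = MulAut.conj k⁻¹ (m i ^ n) := by
          rw [MulAut.conj_apply, inv_inv]
        rw [h1, MulEquiv.orderOf_eq, orderOf_pow_of_dvd hn0 hdvd]
      have hlt : orderOf ((k⁻¹ * m i ^ n * k : Y₁) : G) < orderOf x := by
        rw [hord, ← hordm i]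
        exact Nat.div_lt_self hxpos (by omega)
      rw [ih g _ hyP (hfixP _ hfix) hlt, div_self'])
    refine ⟨Fx, hmem, ?_⟩
    rw [heq, one_pow, one_mul]
    simp only [div_one]
  choose Fxf hFxmem hFxeq using hTF
  -- the product of the ν (m i) is ν of the iterated commutator
  set ν' : G → A := fun s => if hs : s ∈ Y₁ then ν ⟨s, hs⟩ else 1 with hν'
  have ν'_eq : ∀ s (hs : s ∈ Y₁), ν' s = ν ⟨s, hs⟩ := fun s hs => dif_pos hs
  have hiter := prod_conj_eq_iter (p := p) Y₁ ν'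
    (by
      intro s t hs ht
      rw [ν'_eq _ (Y₁.mul_mem hs ht), ν'_eq _ hs, ν'_eq _ ht, ← map_mul]
      rfl)
    (by
      intro s hs
      rw [ν'_eq _ hs]
      exact hνp _)
    x z hxY₁ hzconj
  rw [ν'_eq _ hmemu] at hiter
  rw [← hiter]
  have h2 : ∏ j ∈ Finset.range p, ν' ((z ^ j)⁻¹ * x * z ^ j) = ∏ j ∈ Finset.range p, ν (m j) :=
    Finset.prod_congr rfl (fun j _ => ν'_eq _ (hmi j))
  rw [h2, Finset.prod_congr rfl (fun j _ => hFxeq j), Finset.prod_sigma']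
  symm
  -- auxiliary: conjugating x by an element of Y fixing the translated coset
  have hfixconj : ∀ w : G, x • (w • c) = w • c ↔ (w⁻¹ * x * w) • c = c := by
    intro w
    rw [mul_smul, mul_smul]
    constructor
    · intro h
      rw [h, inv_smul_smul]
    · intro h
      have := congrArg (fun t => w • t) h
      simpa using this
  have hqfix : ∀ (i : ℕ) (q : Y₁ ⧸ H), q ∈ Fxf i →
      ((z ^ i * ((q.out : Y₁) : G))⁻¹ * x * (z ^ i * ((q.out : Y₁) : G))) • c = c := by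
    intro i q hq
    have h1 := (smul_eq_iff_out_conj_mem H (m i) q).mp ((hFxmem i q).mp hq)
    have h2 := (hmemH _).mp h1
    have h3 : ((q.out⁻¹ * m i * q.out : Y₁) : G) =
        (z ^ i * ((q.out : Y₁) : G))⁻¹ * x * (z ^ i * ((q.out : Y₁) : G)) := by
      show ((q.out : Y₁) : G)⁻¹ * ((z ^ i)⁻¹ * x * z ^ i) * ((q.out : Y₁) : G) = _
      group
    rw [h3] at h2
    exact h2
  refine Finset.prod_bij
    (fun (s : Σ _ : ℕ, Y₁ ⧸ H) _ => ((z ^ s.1 * ((s.2.out : Y₁) : G)) • c : G ⧸ P)) ?_ ?_ ?_ ?_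
  · -- membership
    rintro ⟨i, q⟩ hs
    rw [Finset.mem_sigma] at hs
    obtain ⟨-, hq⟩ := hs
    rw [hF]
    refine ⟨(hfixconj _).mpr (hqfix i q hq), z ^ i * ((q.out : Y₁) : G), ?_, rfl⟩
    exact Y.mul_mem (Y.pow_mem hzY i) (hY₁Y (q.out : Y₁).2)
  · -- injectivity
    rintro ⟨i, q⟩ hs ⟨j, q'⟩ hs' heq
    rw [Finset.mem_sigma, Finset.mem_range] at hs hs'
    dsimp only at hs hs'
    obtain ⟨hi, hq⟩ := hs
    obtain ⟨hj, hq'⟩ := hs'
    simp only at heq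
    set k : G := ((q.out : Y₁) : G) with hk
    set k' : G := ((q'.out : Y₁) : G) with hk'
    have hkY : k ∈ Y₁ := (q.out : Y₁).2
    have hk'Y : k' ∈ Y₁ := (q'.out : Y₁).2
    have h1 : ((z ^ i * k)⁻¹ * (z ^ j * k')) • c = c := by
      rw [mul_smul, ← heq, inv_smul_smul]
    have h2 : (z ^ i * k)⁻¹ * (z ^ j * k') ∈ Y₁ := by
      apply hstab _ _ h1
      exact Y.mul_mem (Y.inv_mem (Y.mul_mem (Y.pow_mem hzY i) (hY₁Y hkY)))
        (Y.mul_mem (Y.pow_mem hzY j) (hY₁Y hk'Y))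
    have h3 : (z ^ i)⁻¹ * z ^ j ∈ Y₁ := by
      have : (z ^ i)⁻¹ * z ^ j = k * ((z ^ i * k)⁻¹ * (z ^ j * k')) * k'⁻¹ := by group
      rw [this]
      exact Y₁.mul_mem (Y₁.mul_mem hkY h2) (Y₁.inv_mem hk'Y)
    have hij : i = j := by
      by_contra hne
      rcases Nat.lt_or_gt_of_ne hne with hlt | hlt
      · apply hzpow (j - i) (by omega) (by omega)
        have : z ^ (j - i) = (z ^ i)⁻¹ * z ^ j := by
          rw [eq_inv_mul_iff_mul_eq, ← pow_add]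
          congr 1; omega
        rw [this]; exact h3
      · apply hzpow (i - j) (by omega) (by omega)
        have : z ^ (i - j) = ((z ^ i)⁻¹ * z ^ j)⁻¹ := by
          rw [mul_inv_rev, inv_inv, eq_inv_mul_iff_mul_eq, ← pow_add]
          congr 1; omega
        rw [this]; exact Y₁.inv_mem h3
    subst hij
    have h4 : (k⁻¹ * k') • c = c := by
      have : (z ^ i * k)⁻¹ * (z ^ i * k') = k⁻¹ * k' := by group
      rw [this] at h1
      exact h1
    have h5 : (q.out : Y₁)⁻¹ * (q'.out : Y₁) ∈ H := by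
      rw [hmemH]
      exact h4
    have h6 : (QuotientGroup.mk (q.out : Y₁) : Y₁ ⧸ H) = QuotientGroup.mk (q'.out : Y₁) :=
      QuotientGroup.eq.mpr h5
    rw [QuotientGroup.out_eq', QuotientGroup.out_eq'] at h6
    rw [h6]
  · -- surjectivity
    intro c' hc'
    rw [hF] at hc'
    obtain ⟨hxc', y, hyY, rfl⟩ := hc'
    obtain ⟨i, hip, hk₀⟩ := hcos y hyY
    set k₀ : Y₁ := ⟨(z ^ i)⁻¹ * y, hk₀⟩ with hk₀def
    set q : Y₁ ⧸ H := QuotientGroup.mk k₀ with hq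
    obtain ⟨h, hh⟩ := QuotientGroup.mk_out_eq_mul H k₀
    have hhfix : ((h : Y₁) : G) • c = c := (hmemH _).mp h.2
    have hout : ((q.out : Y₁) : G) = (z ^ i)⁻¹ * y * ((h : Y₁) : G) := by
      rw [hq, hh]
      rfl
    have himage : (z ^ i * ((q.out : Y₁) : G)) • c = y • c := by
      rw [hout]
      have : z ^ i * ((z ^ i)⁻¹ * y * ((h : Y₁) : G)) = y * ((h : Y₁) : G) := by group
      rw [this, mul_smul, hhfix]
    refine ⟨⟨i, q⟩, ?_, himage⟩
    rw [Finset.mem_sigma, Finset.mem_range]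
    refine ⟨hip, ?_⟩
    rw [hFxmem, smul_eq_iff_out_conj_mem, hmemH]
    have h3 : ((q.out⁻¹ * m i * q.out : Y₁) : G) =
        (z ^ i * ((q.out : Y₁) : G))⁻¹ * x * (z ^ i * ((q.out : Y₁) : G)) := by
      show ((q.out : Y₁) : G)⁻¹ * ((z ^ i)⁻¹ * x * z ^ i) * ((q.out : Y₁) : G) = _
      group
    rw [h3, ← hfixconj, himage]
    exact hxc'
  · -- values
    rintro ⟨i, q⟩ hs
    rw [Finset.mem_sigma] at hs
    obtain ⟨-, hq⟩ := hs
    set k : G := ((q.out : Y₁) : G) with hk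
    have hkY : k ∈ Y₁ := (q.out : Y₁).2
    have hwY : z ^ i * k ∈ Y := Y.mul_mem (Y.pow_mem hzY i) (hY₁Y hkY)
    have hwP : z ^ i * k ∈ P := hYP hwY
    have hfix := hqfix i q hq
    have hyP : (z ^ i * k)⁻¹ * x * (z ^ i * k) ∈ P :=
      P.mul_mem (P.mul_mem (P.inv_mem hwP) hx) hwP
    have h3 : ((q.out⁻¹ * m i * q.out : Y₁) : G) = (z ^ i * k)⁻¹ * x * (z ^ i * k) := by
      show k⁻¹ * ((z ^ i)⁻¹ * x * z ^ i) * k = _
      group
    have hlhs : ϕ' (q.out⁻¹ * m i * q.out) =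
        lam' (g⁻¹ * ((z ^ i * k)⁻¹ * x * (z ^ i * k)) * g) / lam' x := by
      simp only [hϕ'def]
      rw [h3, if_pos hfix, lam'_conj x _ hx hwP]
    rw [hlhs]
    show _ = lam' (((z ^ i * k) • c).out⁻¹ * x * ((z ^ i * k) • c).out) / lam' x
    obtain ⟨u, hu, hout'⟩ := exists_out_smul P (z ^ i * k) c
    rw [hout']
    have h1 : (z ^ i * k * c.out * u)⁻¹ * x * (z ^ i * k * c.out * u) =
        u⁻¹ * (g⁻¹ * ((z ^ i * k)⁻¹ * x * (z ^ i * k)) * g) * u := by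
      rw [hg]; group
    rw [h1, lam'_conj _ u (hfixP _ hfix) hu]

end Cfsg.Agent.Helper57.Yoshida
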