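import Mathlib
import Cfsg.Agent.Lib.Helper57.YoshidaC

set_option autoImplicit false

/-!
# Yoshida's transfer theorem, part D: maximal subgroups of `p`-groups and block products (helper57)
-/

namespace Cfsg.Agent.Helper57.Yoshida

open MulAction Subgroup

/-- In a finite `p`-group `Y`, a proper subgroup lies in a normal subgroup of index `p`,
and the cosets of that subgroup are represented by the powers of any element outside it. -/
theorem exists_max_normal {G : Type*} [Group G] [Finite G] {p : ℕ} [hp : Fact p.Prime]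
    (Y Yc : Subgroup G) (hY : IsPGroup p Y) (hle : Yc ≤ Y) (hne : Yc ≠ Y) :
    ∃ Y₁ : Subgroup G, Yc ≤ Y₁ ∧ Y₁ ≤ Y ∧ Y₁.relIndex Y = p ∧
      (∀ y ∈ Y, ∀ y₁ ∈ Y₁, y⁻¹ * y₁ * y ∈ Y₁) ∧
      (∀ w ∈ Y, w ∉ Y₁ → ∀ y ∈ Y, ∃ i < p, (w ^ i)⁻¹ * y ∈ Y₁) ∧
      (∀ w ∈ Y, w ∉ Y₁ → ∀ i, 0 < i → i < p → w ^ i ∉ Y₁) := by
  classical
  set K : Subgroup Y := Yc.subgroupOf Y with hK
  obtain ⟨n, hn⟩ := IsPGroup.iff_card.mp hY
  obtain ⟨k, hk⟩ := IsPGroup.iff_card.mp (hY.to_subgroup K)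
  have hKtop : K ≠ ⊤ := by
    intro htop
    apply hne
    apply le_antisymm hle
    intro y hy
    have : (⟨y, hy⟩ : Y) ∈ K := by rw [htop]; exact Subgroup.mem_top _
    exact Subgroup.mem_subgroupOf.mp this
  have hkn : k < n := by
    have h1 : Nat.card K ≤ Nat.card Y := Subgroup.card_le_card_group K
    have h2 : Nat.card K ≠ Nat.card Y := fun h => hKtop (Subgroup.eq_top_of_card_eq K h)
    have h3 : p ^ k < p ^ n := by
      rw [← hk, ← hn]; omega
    exact (Nat.pow_lt_pow_iff_right hp.out.one_lt).mp h3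
  obtain ⟨M, hMcard, hKM⟩ := Sylow.exists_subgroup_card_pow_prime_le p (n := k) (m := n - 1)
    (by rw [hn]; exact pow_dvd_pow p (Nat.sub_le n 1)) K hk (by omega)
  have hMidx : M.index = p := by
    have h1 := M.card_mul_index
    rw [hMcard, hn] at h1
    have h2 : p ^ n = p ^ (n - 1) * p := by
      rw [← pow_succ]; congr 1; omega
    rw [h2] at h1
    exact Nat.eq_of_mul_eq_mul_left (pow_pos hp.out.pos _) h1
  haveI hMn : M.Normal := Subgroup.normal_of_index_eq_minFac_card (by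
    rw [hMidx, hn, Nat.Prime.pow_minFac hp.out (by omega)])
  have hmemM : ∀ (g : G) (hg : g ∈ Y), g ∈ M.map Y.subtype ↔ (⟨g, hg⟩ : Y) ∈ M := by
    intro g hg
    constructor
    · rintro ⟨m, hm, rfl⟩
      exact hm
    · intro h
      exact ⟨⟨g, hg⟩, h, rfl⟩
  have hcardQ : Nat.card (Y ⧸ M) = p := by rw [← Subgroup.index_eq_card, hMidx]
  have hmk_ne : ∀ (w : G) (hw : w ∈ Y), w ∉ M.map Y.subtype →
      (QuotientGroup.mk (⟨w, hw⟩ : Y) : Y ⧸ M) ≠ 1 := by
    intro w hw hwM h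
    apply hwM
    rw [hmemM w hw]
    exact (QuotientGroup.eq_one_iff _).mp h
  refine ⟨M.map Y.subtype, ?_, Subgroup.map_subtype_le M, ?_, ?_, ?_, ?_⟩
  · intro g hg
    rw [hmemM g (hle hg)]
    exact hKM (Subgroup.mem_subgroupOf.mpr hg)
  · show ((M.map Y.subtype).subgroupOf Y).index = p
    have : (M.map Y.subtype).subgroupOf Y = M :=
      Subgroup.comap_map_eq_self_of_injective Y.subtype_injective M
    rw [this, hMidx]
  · intro y hy y₁ hy₁
    obtain ⟨m, hm, rfl⟩ := hy₁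
    have h1 := hMn.conj_mem m hm (⟨y, hy⟩ : Y)⁻¹
    rw [inv_inv] at h1
    exact ⟨_, h1, rfl⟩
  · intro w hw hwM y hy
    have hpow := mem_powers_of_prime_card hcardQ (hmk_ne w hw hwM)
      (g' := (QuotientGroup.mk (⟨y, hy⟩ : Y) : Y ⧸ M))
    obtain ⟨j, hj⟩ := hpow
    have hwp : (QuotientGroup.mk (⟨w, hw⟩ : Y) : Y ⧸ M) ^ p = 1 := by
      rw [← hcardQ]; exact pow_card_eq_one'
    refine ⟨j % p, Nat.mod_lt _ hp.out.pos, ?_⟩
    have hwY : (w ^ (j % p))⁻¹ * y ∈ Y := Y.mul_mem (Y.inv_mem (Y.pow_mem hw _)) hy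
    rw [hmemM _ hwY]
    rw [← QuotientGroup.eq_one_iff]
    have h2 : (⟨(w ^ (j % p))⁻¹ * y, hwY⟩ : Y) = ((⟨w, hw⟩ : Y) ^ (j % p))⁻¹ * ⟨y, hy⟩ :=
      Subtype.ext rfl
    have hj' : (QuotientGroup.mk (⟨w, hw⟩ : Y) : Y ⧸ M) ^ j =
        (QuotientGroup.mk (⟨y, hy⟩ : Y) : Y ⧸ M) := hj
    have hjmod : (QuotientGroup.mk (⟨w, hw⟩ : Y) : Y ⧸ M) ^ j =
        (QuotientGroup.mk (⟨w, hw⟩ : Y) : Y ⧸ M) ^ (j % p) := by
      conv_lhs => rw [← Nat.div_add_mod j p]
      rw [pow_add, pow_mul, hwp, one_pow, one_mul]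
    rw [h2, QuotientGroup.mk_mul, QuotientGroup.mk_inv, QuotientGroup.mk_pow, ← hj', hjmod,
      inv_mul_cancel]
  · intro w hw hwM i hi0 hip hmem
    rw [hmemM _ (Y.pow_mem hw i)] at hmem
    have hwp : (QuotientGroup.mk (⟨w, hw⟩ : Y) : Y ⧸ M) ^ p = 1 := by
      rw [← hcardQ]; exact pow_card_eq_one'
    have h1 : (QuotientGroup.mk (⟨w, hw⟩ : Y) : Y ⧸ M) ^ i = 1 := by
      rw [← QuotientGroup.mk_pow]
      exact (QuotientGroup.eq_one_iff _).mpr hmem
    have h2 : orderOf (QuotientGroup.mk (⟨w, hw⟩ : Y) : Y ⧸ M) ∣ i := orderOf_dvd_of_pow_eq_one h1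
    have h3 : orderOf (QuotientGroup.mk (⟨w, hw⟩ : Y) : Y ⧸ M) ∣ p := orderOf_dvd_of_pow_eq_one hwp
    rcases (Nat.dvd_prime hp.out).mp h3 with h4 | h4
    · exact hmk_ne w hw hwM (orderOf_eq_one_iff.mp h4)
    · rw [h4] at h2
      have := Nat.le_of_dvd hi0 h2
      omega

/-- A product over a finset which is a disjoint union of blocks with trivial block products. -/
theorem prod_eq_one_of_blocks {α A : Type*} [DecidableEq α] [CommMonoid A] (f : α → A)
    (blk : α → Finset α) :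
    ∀ (n : ℕ) (F : Finset α), F.card = n → (∀ a ∈ F, a ∈ blk a) → (∀ a ∈ F, blk a ⊆ F) →
      (∀ a ∈ F, ∀ b ∈ blk a, blk b = blk a) → (∀ a ∈ F, ∏ b ∈ blk a, f b = 1) →
      ∏ a ∈ F, f a = 1 := by
  intro n
  induction n using Nat.strong_induction_on with
  | _ n ih =>
    intro F hcard hself hsub hblk hprod
    rcases F.eq_empty_or_nonempty with hF | ⟨a, ha⟩
    · rw [hF, Finset.prod_empty]
    · have hOF : blk a ⊆ F := hsub a ha
      have hcard' : (F \ blk a).card < n := by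
        rw [← hcard]
        apply Finset.card_lt_card
        refine ⟨Finset.sdiff_subset, fun hs => ?_⟩
        have := hs ha
        rw [Finset.mem_sdiff] at this
        exact this.2 (hself a ha)
      have hdisj : ∀ b ∈ F \ blk a, blk b ⊆ F \ blk a := by
        intro b hb d hd
        rw [Finset.mem_sdiff] at hb ⊢
        refine ⟨hsub b hb.1 hd, fun hda => hb.2 ?_⟩
        have h1 : blk d = blk b := hblk b hb.1 d hd
        have h2 : blk d = blk a := hblk a ha d hda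
        rw [← h2, h1]
        exact hself b hb.1
      have h2 := ih (F \ blk a).card hcard' (F \ blk a) rfl
        (fun b hb => hself b (Finset.mem_sdiff.mp hb).1) hdisj
        (fun b hb => hblk b (Finset.mem_sdiff.mp hb).1)
        (fun b hb => hprod b (Finset.mem_sdiff.mp hb).1)
      rw [← Finset.prod_sdiff hOF, h2, hprod a ha, one_mul]

end Cfsg.Agent.Helper57.Yoshida
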