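import Mathlib
import Cfsg.Agent.Lib.Helper57.YoshidaD

set_option autoImplicit false

/-!
# Yoshida's transfer theorem, part E: the main induction (helper57)
-/

namespace Cfsg.Agent.Helper57.Yoshida

open MulAction Subgroup
open Cfsg.Agent.Helper69.HW

/-- "No singularity": every homomorphism of exponent `p` from a maximal subgroup `Y₁` of
`Q ⟨x⟩` containing `x` kills the iterated commutator `[x, z; p-1]`, `z ∈ Q \ Y₁`. -/
def NoSing {G : Type*} [Group G] (p : ℕ) (P Q : Subgroup G) (A : Type*) [CommGroup A] : Prop :=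
  ∀ x ∈ P, ∀ z ∈ Q, ∀ Y₁ : Subgroup G, Y₁ ≤ Q ⊔ zpowers x → x ∈ Y₁ → z ∉ Y₁ →
    Y₁.relIndex (Q ⊔ zpowers x) = p →
    (∀ y ∈ Q ⊔ zpowers x, ∀ y₁ ∈ Y₁, y⁻¹ * y₁ * y ∈ Y₁) →
    (∀ w ∈ Q ⊔ zpowers x, w ∉ Y₁ → ∀ y ∈ Q ⊔ zpowers x, ∃ i < p, (w ^ i)⁻¹ * y ∈ Y₁) →
    ∀ ν : Y₁ →* A, (∀ y, ν y ^ p = 1) →
      ∀ h : iterComm x z (p - 1) ∈ Y₁, ν ⟨iterComm x z (p - 1), h⟩ = 1

variable {G : Type*} [Group G]

set_option maxHeartbeats 800000 in
theorem stable_step [Finite G] {p : ℕ} [hp : Fact p.Prime] (P : Sylow p G) (Q : Subgroup G)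
    (hQP : Q ≤ (P : Subgroup G)) (hQn : (P : Subgroup G) ≤ normalizer (Q : Set G))
    (hwc : ∀ g : G, (∀ q ∈ Q, g⁻¹ * q * g ∈ (P : Subgroup G)) → g ∈ normalizer (Q : Set G))
    {A : Type*} [CommGroup A] (hNS : NoSing p (P : Subgroup G) Q A)
    (lam : (P : Subgroup G) →* A)
    (hstab : ∀ (x : G) (hx : x ∈ (P : Subgroup G)) (n : G), n ∈ normalizer (Q : Set G) →
      ∀ hx' : n⁻¹ * x * n ∈ (P : Subgroup G), lam ⟨n⁻¹ * x * n, hx'⟩ = lam ⟨x, hx⟩)
    (e : ℕ) (hexp : ∀ s, lam s ^ e = 1) (hcop : Nat.Coprime (P : Subgroup G).index e)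
    (hdef : ∀ (g y : G) (hy : y ∈ (P : Subgroup G)) (hy' : g⁻¹ * y * g ∈ (P : Subgroup G)),
      (lam ⟨g⁻¹ * y * g, hy'⟩ / lam ⟨y, hy⟩) ^ p = 1) :
    ∀ (m : ℕ) (x : G) (hx : x ∈ (P : Subgroup G)), orderOf x = m →
      ∀ (g : G) (hx' : g⁻¹ * x * g ∈ (P : Subgroup G)), lam ⟨g⁻¹ * x * g, hx'⟩ = lam ⟨x, hx⟩ := by
  classical
  set lam' : G → A := fun g => if hg : g ∈ (P : Subgroup G) then lam ⟨g, hg⟩ else 1 with hlam'
  have lam'_eq : ∀ g (hg : g ∈ (P : Subgroup G)), lam' g = lam ⟨g, hg⟩ := fun g hg => dif_pos hg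
  have lam'_mul : ∀ a b, a ∈ (P : Subgroup G) → b ∈ (P : Subgroup G) →
      lam' (a * b) = lam' a * lam' b := by
    intro a b ha hb
    rw [lam'_eq _ ((P : Subgroup G).mul_mem ha hb), lam'_eq _ ha, lam'_eq _ hb, ← map_mul]
    rfl
  have hdef' : ∀ g y, y ∈ (P : Subgroup G) → g⁻¹ * y * g ∈ (P : Subgroup G) →
      (lam' (g⁻¹ * y * g) / lam' y) ^ p = 1 := by
    intro g y hy hy'
    rw [lam'_eq _ hy, lam'_eq _ hy']
    exact hdef g y hy hy'
  intro m
  induction m using Nat.strong_induction_on with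
  | _ m ih =>
  have ih' : ∀ g y, y ∈ (P : Subgroup G) → g⁻¹ * y * g ∈ (P : Subgroup G) → orderOf y < m →
      lam' (g⁻¹ * y * g) = lam' y := by
    intro g y hy hy' hlt
    rw [lam'_eq _ hy, lam'_eq _ hy']
    exact ih _ hlt y hy rfl g hy'
  set τ : G →* A := MonoidHom.transfer lam with hτ
  have key : ∀ (x : G) (hx : x ∈ (P : Subgroup G)), orderOf x = m →
      τ x = lam' x ^ (P : Subgroup G).index := by
    intro x hx hxm
    obtain ⟨Fx, hmemFx, heq⟩ := transfer_eq_prod_fixed (P : Subgroup G) lam lam' lam'_eq x (lam' x)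
      (by
        intro k n hn1 hdvd hmem
        have hxpos : 0 < orderOf x := orderOf_pos x
        have hn0 : n ≠ 0 := fun h0 => by rw [h0, zero_dvd_iff] at hdvd; omega
        have hxn : x ^ n ∈ (P : Subgroup G) := (P : Subgroup G).pow_mem hx n
        have hlt : orderOf (x ^ n) < m := by
          rw [orderOf_pow_of_dvd hn0 hdvd, ← hxm]
          exact Nat.div_lt_self hxpos (by omega)
        rw [ih' k (x ^ n) hxn hmem hlt, lam'_eq _ hxn, lam'_eq _ hx, ← map_pow]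
        rfl)
    rw [hτ, heq]
    suffices h : ∏ c ∈ Fx, lam' (c.out⁻¹ * x * c.out) / lam' x = 1 by rw [h, mul_one]
    set f : G ⧸ (P : Subgroup G) → A := fun c => lam' (c.out⁻¹ * x * c.out) / lam' x with hf
    set FN : Finset (G ⧸ (P : Subgroup G)) := Fx.filter (fun c => Q ≤ stabilizer G c) with hFNdef
    set F' : Finset (G ⧸ (P : Subgroup G)) := Fx.filter (fun c => ¬ Q ≤ stabilizer G c)
      with hF'def
    have hmemF' : ∀ c, c ∈ F' ↔ x • c = c ∧ ¬ Q ≤ stabilizer G c := by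
      intro c; rw [hF'def, Finset.mem_filter, hmemFx]
    have hsplit : ∏ c ∈ Fx, f c = (∏ c ∈ FN, f c) * ∏ c ∈ F', f c :=
      (Finset.prod_filter_mul_prod_filter_not Fx _ f).symm
    have hFN : ∏ c ∈ FN, f c = 1 := by
      apply Finset.prod_eq_one
      intro c hc
      rw [hFNdef, Finset.mem_filter, hmemFx] at hc
      obtain ⟨hcx, hcQ⟩ := hc
      have hn : c.out ∈ normalizer (Q : Set G) :=
        hwc _ (fun q hq => (smul_eq_iff_out_conj_mem _ q c).mp (mem_stabilizer_iff.mp (hcQ hq)))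
      have hmem : c.out⁻¹ * x * c.out ∈ (P : Subgroup G) :=
        (smul_eq_iff_out_conj_mem _ x c).mp hcx
      show lam' _ / lam' x = 1
      rw [lam'_eq _ hmem, lam'_eq _ hx, hstab x hx c.out hn hmem, div_self']
    rw [hsplit, hFN, one_mul]
    -- the cosets outside N(Q), grouped by orbits of Y = Q ⟨x⟩
    set Y : Subgroup G := Q ⊔ zpowers x with hY
    have hYP : Y ≤ (P : Subgroup G) := sup_le hQP ((zpowers_le).mpr hx)
    have hxY : x ∈ Y := le_sup_right (a := Q) (b := zpowers x) (mem_zpowers x)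
    have hQY : Q ≤ Y := le_sup_left
    set blk : G ⧸ (P : Subgroup G) → Finset (G ⧸ (P : Subgroup G)) :=
      fun c => F'.filter (fun c' => ∃ y ∈ Y, y • c = c') with hblk
    apply prod_eq_one_of_blocks f blk F'.card F' rfl
    · intro c hc
      rw [hblk, Finset.mem_filter]
      exact ⟨hc, 1, Y.one_mem, one_smul _ _⟩
    · intro c _
      rw [hblk]
      exact Finset.filter_subset _ _
    · intro a _ b hb
      rw [hblk, Finset.mem_filter] at hb
      obtain ⟨-, y, hyY, rfl⟩ := hb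
      rw [hblk]
      ext d
      simp only [Finset.mem_filter]
      constructor
      · rintro ⟨hd, y', hy'Y, rfl⟩
        exact ⟨hd, y' * y, Y.mul_mem hy'Y hyY, mul_smul _ _ _⟩
      · rintro ⟨hd, y', hy'Y, rfl⟩
        refine ⟨hd, y' * y⁻¹, Y.mul_mem hy'Y (Y.inv_mem hyY), ?_⟩
        rw [mul_smul, inv_smul_smul]
    · intro c hc
      obtain ⟨hcx, hcQ⟩ := (hmemF' c).mp hc
      set Yc : Subgroup G := Y ⊓ stabilizer G c with hYc
      have hne : Yc ≠ Y := by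
        intro h
        apply hcQ
        intro q hq
        have : q ∈ Yc := by rw [h]; exact hQY hq
        exact this.2
      obtain ⟨Y₁, hYcY₁, hY₁Y, hrel, hnorm, hcos, hzpow⟩ :=
        exists_max_normal (p := p) Y Yc (P.2.to_le hYP) inf_le_left hne
      have hxY₁ : x ∈ Y₁ := hYcY₁ ⟨hxY, mem_stabilizer_iff.mpr hcx⟩
      have hexz : ∃ z ∈ Q, z ∉ Y₁ := by
        by_contra hcon
        push_neg at hcon
        have hYY₁ : Y ≤ Y₁ := sup_le hcon ((zpowers_le).mpr hxY₁)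
        have : Y₁ = Y := le_antisymm hY₁Y hYY₁
        rw [this, Subgroup.relIndex_self] at hrel
        exact hp.out.one_lt.ne hrel
      obtain ⟨z, hzQ, hzY₁⟩ := hexz
      have hzY : z ∈ Y := hQY hzQ
      have hF : ∀ c', c' ∈ blk c ↔ x • c' = c' ∧ ∃ y ∈ Y, y • c = c' := by
        intro c'
        rw [hblk, Finset.mem_filter, hmemF']
        constructor
        · rintro ⟨⟨h1, -⟩, h2⟩
          exact ⟨h1, h2⟩
        · rintro ⟨h1, y, hyY, rfl⟩
          refine ⟨⟨h1, fun hle => hcQ ?_⟩, y, hyY, rfl⟩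
          intro q hq
          have hyN : y ∈ normalizer (Q : Set G) := hQn (hYP hyY)
          have h3 : y * q * y⁻¹ ∈ Q := (Subgroup.mem_normalizer_iff.mp hyN q).mp hq
          have h4 := mem_stabilizer_iff.mp (hle h3)
          rw [mul_smul, mul_smul, inv_smul_smul] at h4
          exact mem_stabilizer_iff.mpr (smul_left_cancel y h4)
      obtain ⟨ν, hνp, hprodeq⟩ := orbit_prod (p := p) (P : Subgroup G) lam' lam'_mul hdef' x hx
        (fun g y hy hy' hlt => ih' g y hy hy' (hxm ▸ hlt)) Y Y₁ hYP hY₁Y hxY₁ z hzY hnorm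
        (hcos z hzY hzY₁) (hzpow z hzY hzY₁) c
        (fun y hy hfix => hYcY₁ ⟨hy, mem_stabilizer_iff.mpr hfix⟩) (blk c) hF
      have hmemu : iterComm x z (p - 1) ∈ Y₁ :=
        iterComm_mem Y₁ x z hxY₁ (fun s hs => hnorm z hzY s hs) (p - 1)
      rw [hprodeq hmemu]
      exact hNS x hx z hzQ Y₁ hY₁Y hxY₁ hzY₁ hrel hnorm hcos ν hνp hmemu
  intro x hx hxm g hx'
  have h1 := key x hx hxm
  have hord : orderOf (g⁻¹ * x * g) = m := by
    have h0 : g⁻¹ * x * g = MulAut.conj g⁻¹ x := by rw [MulAut.conj_apply, inv_inv]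
    rw [h0, MulEquiv.orderOf_eq, hxm]
  have h2 := key (g⁻¹ * x * g) hx' hord
  have h3 : τ (g⁻¹ * x * g) = τ x := by
    rw [map_mul, map_mul, map_inv, mul_comm, ← mul_assoc, mul_inv_cancel, one_mul]
  rw [h3, h1, lam'_eq _ hx, lam'_eq _ hx'] at h2
  set r : A := lam ⟨g⁻¹ * x * g, hx'⟩ / lam ⟨x, hx⟩ with hr
  have hr1 : r ^ (P : Subgroup G).index = 1 := by
    rw [hr, div_pow, ← h2, div_self']
  have hr2 : r ^ e = 1 := by
    rw [hr, div_pow, hexp, hexp, div_self']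
  have hg : r ^ Nat.gcd (P : Subgroup G).index e = 1 := pow_gcd_eq_one.mpr ⟨hr1, hr2⟩
  rw [hcop, pow_one] at hg
  exact div_eq_one.mp hg

end Cfsg.Agent.Helper57.Yoshida
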