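import Mathlib
import Cfsg.Prelude.Def_Transfer
import Cfsg.Agent.Lib.Helper57.YoshidaE

set_option autoImplicit false

/-!
# Yoshida's transfer theorem, part F: control of transfer (helper57)
-/

namespace Cfsg.Agent.Helper57.Yoshida

open MulAction Subgroup
open Cfsg.Agent.Helper69.HW
open scoped commutatorElement

variable {G : Type*} [Group G]

theorem stable_all [Finite G] {p : ℕ} [hp : Fact p.Prime] (P : Sylow p G) (Q : Subgroup G)
    (hQP : Q ≤ (P : Subgroup G)) (hQn : (P : Subgroup G) ≤ normalizer (Q : Set G))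
    (hwc : ∀ g : G, (∀ q ∈ Q, g⁻¹ * q * g ∈ (P : Subgroup G)) → g ∈ normalizer (Q : Set G))
    {A : Type*} [CommGroup A] (hNS : NoSing p (P : Subgroup G) Q A) :
    ∀ (a : ℕ) (lam : (P : Subgroup G) →* A),
      (∀ (x : G) (hx : x ∈ (P : Subgroup G)) (n : G), n ∈ normalizer (Q : Set G) →
        ∀ hx' : n⁻¹ * x * n ∈ (P : Subgroup G), lam ⟨n⁻¹ * x * n, hx'⟩ = lam ⟨x, hx⟩) →
      (∀ s, lam s ^ p ^ a = 1) →
      ∀ (x : G) (hx : x ∈ (P : Subgroup G)) (g : G) (hx' : g⁻¹ * x * g ∈ (P : Subgroup G)),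
        lam ⟨g⁻¹ * x * g, hx'⟩ = lam ⟨x, hx⟩ := by
  intro a
  induction a with
  | zero =>
    intro lam _ hexp x hx g hx'
    have h1 := hexp ⟨x, hx⟩
    have h2 := hexp ⟨g⁻¹ * x * g, hx'⟩
    rw [pow_zero, pow_one] at h1 h2
    rw [h1, h2]
  | succ a iha =>
    intro lam hstab hexp x hx g hx'
    set mu : (P : Subgroup G) →* A := (powMonoidHom p).comp lam with hmu
    have hmu_apply : ∀ s, mu s = lam s ^ p := fun s => rfl
    have hmu_stab : ∀ (x : G) (hx : x ∈ (P : Subgroup G)) (n : G), n ∈ normalizer (Q : Set G) →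
        ∀ hx' : n⁻¹ * x * n ∈ (P : Subgroup G), mu ⟨n⁻¹ * x * n, hx'⟩ = mu ⟨x, hx⟩ := by
      intro x hx n hn hx'
      rw [hmu_apply, hmu_apply, hstab x hx n hn hx']
    have hmu_exp : ∀ s, mu s ^ p ^ a = 1 := by
      intro s
      rw [hmu_apply, ← pow_mul, ← pow_succ']
      exact hexp s
    have hmuG := iha mu hmu_stab hmu_exp
    have hdef : ∀ (g y : G) (hy : y ∈ (P : Subgroup G)) (hy' : g⁻¹ * y * g ∈ (P : Subgroup G)),
        (lam ⟨g⁻¹ * y * g, hy'⟩ / lam ⟨y, hy⟩) ^ p = 1 := by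
      intro g y hy hy'
      rw [div_pow, div_eq_one, ← hmu_apply, ← hmu_apply]
      exact hmuG y hy g hy'
    have hcop : Nat.Coprime (P : Subgroup G).index (p ^ (a + 1)) := by
      apply Nat.Coprime.pow_right
      exact ((Nat.Prime.coprime_iff_not_dvd hp.out).mpr P.not_dvd_index).symm
    exact stable_step P Q hQP hQn hwc hNS lam hstab (p ^ (a + 1)) hexp hcop hdef (orderOf x) x hx
      rfl g hx'

/-- Control of transfer by the normalizer of a weakly closed subgroup, in the absence of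
singularities. -/
theorem focal_le_of_noSing.{u} {G : Type u} [Group G] [Finite G] {p : ℕ} [hp : Fact p.Prime]
    (P : Sylow p G) (Q : Subgroup G) (hQ : Cfsg.IsWeaklyClosed Q (P : Subgroup G))
    (hNS : ∀ (A : Type u) [CommGroup A], NoSing p (P : Subgroup G) Q A) :
    (P : Subgroup G) ⊓ commutator G ≤
      (P : Subgroup G) ⊓ ⁅normalizer (Q : Set G), normalizer (Q : Set G)⁆ := by
  classical
  obtain ⟨hQP, hQwc⟩ := hQ
  set N : Subgroup G := normalizer (Q : Set G) with hN
  have hmemN : ∀ g : G, Q.map (MulAut.conj g).toMonoidHom = Q → g ∈ N := by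
    intro g h
    rw [hN, Subgroup.mem_normalizer_iff]
    intro t
    constructor
    · intro ht
      rw [← h]
      exact ⟨t, ht, by simp [MulAut.conj_apply]⟩
    · intro ht
      rw [← h] at ht
      obtain ⟨q, hq, hqt⟩ := ht
      have : q = t := by
        have h1 : g * q * g⁻¹ = g * t * g⁻¹ := by simpa [MulAut.conj_apply] using hqt
        have h2 := mul_right_cancel h1
        exact mul_left_cancel h2
      rw [← this]; exact hq
  have hPN : (P : Subgroup G) ≤ N := by
    intro g hg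
    apply hmemN
    apply hQwc
    rintro _ ⟨q, hq, rfl⟩
    show g * q * g⁻¹ ∈ (P : Subgroup G)
    exact (P : Subgroup G).mul_mem ((P : Subgroup G).mul_mem hg (hQP hq))
      ((P : Subgroup G).inv_mem hg)
  have hwc : ∀ g : G, (∀ q ∈ Q, g⁻¹ * q * g ∈ (P : Subgroup G)) → g ∈ N := by
    intro g hg
    have h1 : g⁻¹ ∈ N := by
      apply hmemN
      apply hQwc
      rintro _ ⟨q, hq, rfl⟩
      show g⁻¹ * q * g⁻¹⁻¹ ∈ (P : Subgroup G)
      rw [inv_inv]
      exact hg q hq
    have := N.inv_mem h1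
    rwa [inv_inv] at this
  -- the abelian quotient
  set D : Subgroup G := ⁅N, N⁆ with hD
  set K : Subgroup (P : Subgroup G) := D.subgroupOf (P : Subgroup G) with hK
  have hcommD : ∀ a b : G, a ∈ N → b ∈ N → ⁅a, b⁆ ∈ D := fun a b ha hb =>
    Subgroup.commutator_mem_commutator ha hb
  haveI hKn : K.Normal := by
    constructor
    intro k hk g
    rw [hK, Subgroup.mem_subgroupOf] at hk ⊢
    have h1 : ((g * k * g⁻¹ : (P : Subgroup G)) : G) = ⁅(g : G), (k : G)⁆ * (k : G) := by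
      rw [commutatorElement_def]
      show (g : G) * (k : G) * (g : G)⁻¹ = _
      group
    rw [h1]
    have hkN : (k : G) ∈ N := hPN k.2
    exact D.mul_mem (hcommD _ _ (hPN g.2) hkN) hk
  letI : CommGroup ((P : Subgroup G) ⧸ K) :=
    { (inferInstance : Group ((P : Subgroup G) ⧸ K)) with
      mul_comm := by
        intro a b
        induction a using QuotientGroup.induction_on with
        | H a =>
        induction b using QuotientGroup.induction_on with
        | H b =>
        rw [← QuotientGroup.mk_mul, ← QuotientGroup.mk_mul, QuotientGroup.eq]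
        rw [hK, Subgroup.mem_subgroupOf]
        have : (((a * b)⁻¹ * (b * a) : (P : Subgroup G)) : G) = ⁅(b : G)⁻¹, (a : G)⁻¹⁆ := by
          rw [commutatorElement_def]
          show ((a : G) * (b : G))⁻¹ * ((b : G) * (a : G)) = _
          group
        rw [this]
        exact hcommD _ _ (N.inv_mem (hPN b.2)) (N.inv_mem (hPN a.2)) }
  set lam : (P : Subgroup G) →* (P : Subgroup G) ⧸ K := QuotientGroup.mk' K with hlam
  have hstab : ∀ (x : G) (hx : x ∈ (P : Subgroup G)) (n : G), n ∈ normalizer (Q : Set G) →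
      ∀ hx' : n⁻¹ * x * n ∈ (P : Subgroup G), lam ⟨n⁻¹ * x * n, hx'⟩ = lam ⟨x, hx⟩ := by
    intro x hx n hn hx'
    rw [hlam, QuotientGroup.mk'_apply, QuotientGroup.mk'_apply, QuotientGroup.eq, hK,
      Subgroup.mem_subgroupOf]
    have : (((⟨n⁻¹ * x * n, hx'⟩ : (P : Subgroup G))⁻¹ * ⟨x, hx⟩ : (P : Subgroup G)) : G) =
        ⁅n⁻¹, x⁻¹⁆ := by
      rw [commutatorElement_def]
      show (n⁻¹ * x * n)⁻¹ * x = _
      group
    rw [this]
    exact hcommD _ _ (N.inv_mem hn) (N.inv_mem (hPN hx))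
  obtain ⟨a, ha⟩ := IsPGroup.iff_card.mp P.2
  have hexp : ∀ s, lam s ^ p ^ a = 1 := by
    intro s
    rw [← map_pow, ← ha, pow_card_eq_one', map_one]
  have hG := stable_all P Q hQP hPN hwc (hNS _) a lam hstab hexp
  -- transfer
  rintro x ⟨hxP, hxc⟩
  refine ⟨hxP, ?_⟩
  set lam' : G → (P : Subgroup G) ⧸ K :=
    fun g => if hg : g ∈ (P : Subgroup G) then lam ⟨g, hg⟩ else 1 with hlam'
  have lam'_eq : ∀ g (hg : g ∈ (P : Subgroup G)), lam' g = lam ⟨g, hg⟩ := fun g hg => dif_pos hg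
  obtain ⟨Fx, hmemFx, heq⟩ := transfer_eq_prod_fixed (P : Subgroup G) lam lam' lam'_eq x (lam' x)
    (by
      intro k n _ _ hmem
      have hxn : x ^ n ∈ (P : Subgroup G) := (P : Subgroup G).pow_mem hxP n
      rw [lam'_eq _ hmem, hG (x ^ n) hxn k hmem, lam'_eq _ hxP, ← map_pow]
      rfl)
  have hprod : ∏ c ∈ Fx, lam' (c.out⁻¹ * x * c.out) / lam' x = 1 := by
    apply Finset.prod_eq_one
    intro c hc
    have hmem : c.out⁻¹ * x * c.out ∈ (P : Subgroup G) :=
      (smul_eq_iff_out_conj_mem _ x c).mp ((hmemFx c).mp hc)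
    rw [lam'_eq _ hmem, lam'_eq _ hxP, hG x hxP c.out hmem, div_self']
  rw [hprod, mul_one] at heq
  have hτ : MonoidHom.transfer lam x = 1 :=
    MonoidHom.mem_ker.mp (Abelianization.commutator_subset_ker (MonoidHom.transfer lam) hxc)
  rw [hτ, lam'_eq _ hxP] at heq
  have h2 : lam ⟨x, hxP⟩ ^ p ^ a = 1 := hexp _
  have hg : lam ⟨x, hxP⟩ ^ Nat.gcd (P : Subgroup G).index (p ^ a) = 1 :=
    pow_gcd_eq_one.mpr ⟨heq.symm, h2⟩
  have hcop : Nat.Coprime (P : Subgroup G).index (p ^ a) := by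
    apply Nat.Coprime.pow_right
    exact ((Nat.Prime.coprime_iff_not_dvd hp.out).mpr P.not_dvd_index).symm
  rw [hcop, pow_one, hlam, QuotientGroup.mk'_apply, QuotientGroup.eq_one_iff, hK,
    Subgroup.mem_subgroupOf] at hg
  exact hg

end Cfsg.Agent.Helper57.Yoshida
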