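import Mathlib
import Cfsg.Agent.Lib.Helper69.HWAux

set_option autoImplicit false

/-!
# Yoshida's transfer theorem, part G: a lower bound for a shift-invariant group of sequences
(helper57)
-/

namespace Cfsg.Agent.Helper57.Yoshida

open Subgroup
open Cfsg.Agent.Helper69.HW

theorem card_range_mul_card_ker {G H : Type*} [Group G] [Group H] [Finite G] (f : G →* H) :
    Nat.card f.range * Nat.card f.ker = Nat.card G := by
  rw [Subgroup.card_eq_card_quotient_mul_card_subgroup f.ker,
    Nat.card_congr (QuotientGroup.quotientKerEquivRange f).toEquiv]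

/-- The difference operator on sequences. -/
def diffOp (B : Type*) [CommGroup B] : (ℕ → B) →* (ℕ → B) where
  toFun v j := v (j + 1) / v j
  map_one' := by
    funext j
    simp
  map_mul' v w := by
    funext j
    simp only [Pi.mul_apply]
    rw [mul_div_mul_comm]

theorem diffOp_apply {B : Type*} [CommGroup B] (v : ℕ → B) (j : ℕ) :
    diffOp B v j = v (j + 1) / v j := rfl

theorem pow_le_card_range {M B : Type*} [Group M] [Finite M] [CommGroup B] {p : ℕ}
    [hp : Fact p.Prime] (hB : ∀ b : B, b ^ p = 1) (Ψ : M →* (ℕ → B)) (δ : M → M)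
    (hδ : ∀ m j, Ψ (δ m) j = Ψ m (j + 1) / Ψ m j)
    (hper : ∀ m j, Ψ m (j + p) = Ψ m j)
    (x : M) (hx : ∏ i ∈ Finset.range p, Ψ x i ≠ 1) :
    p ^ p ≤ Nat.card Ψ.range := by
  classical
  set N := diffOp B with hN
  set U : Subgroup (ℕ → B) := Ψ.range with hU
  have hNU : U.map N ≤ U := by
    rintro _ ⟨_, ⟨m, rfl⟩, rfl⟩
    refine ⟨δ m, ?_⟩
    funext j
    rw [hδ]
    rfl
  -- the descending chain
  set Uk : ℕ → Subgroup (ℕ → B) := fun k => Nat.rec U (fun _ W => W.map N) k with hUk
  have hUk0 : Uk 0 = U := rfl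
  have hUks : ∀ k, Uk (k + 1) = (Uk k).map N := fun k => rfl
  have hmono : ∀ k, Uk (k + 1) ≤ Uk k := by
    intro k
    induction k with
    | zero => rw [hUks, hUk0]; exact hNU
    | succ k ih => rw [hUks (k + 1), hUks k]; exact Subgroup.map_mono ih
  have hanti : ∀ k l, k ≤ l → Uk l ≤ Uk k := by
    intro k l hkl
    induction l with
    | zero =>
      have : k = 0 := by omega
      rw [this]
    | succ l ih =>
      rcases Nat.lt_or_ge k (l + 1) with h | h
      · exact (hmono l).trans (ih (by omega))
      · have : k = l + 1 := by omega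
        rw [this]
  have hUkU : ∀ k, Uk k ≤ U := fun k => hanti 0 k (Nat.zero_le k)
  haveI hfinU : Finite U := by
    rw [hU]
    exact Finite.of_surjective Ψ.rangeRestrict Ψ.rangeRestrict_surjective
  have hfin : ∀ k, Finite (Uk k) := fun k =>
    Finite.of_injective (Subgroup.inclusion (hUkU k)) (Subgroup.inclusion_injective _)
  -- the vectors N^k (Ψ x)
  set v : ℕ → (ℕ → B) := fun k => N^[k] (Ψ x) with hv
  have hv0 : v 0 = Ψ x := rfl
  have hvs : ∀ k, v (k + 1) = N (v k) := by
    intro k
    show N^[k + 1] (Ψ x) = N (N^[k] (Ψ x))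
    rw [Function.iterate_succ_apply']
  have hvmem : ∀ k, v k ∈ Uk k := by
    intro k
    induction k with
    | zero => exact ⟨x, rfl⟩
    | succ k ih => rw [hvs, hUks]; exact ⟨v k, ih, rfl⟩
  have hvper : ∀ k j, v k (j + p) = v k j := by
    intro k
    induction k with
    | zero => intro j; exact hper x j
    | succ k ih =>
      intro j
      rw [hvs, hN, diffOp_apply, diffOp_apply, ← ih j, ← ih (j + 1)]
      congr 2
      omega
  -- the constant vector c
  have hc_val : ∀ j, v (p - 1) j = ∏ i ∈ Finset.range p, Ψ x (j + i) := by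
    intro j
    have := prod_eq_iter p hB (fun k i => v k (j + i)) (by
      intro k i
      show v (k + 1) (j + i) = v k (j + (i + 1)) / v k (j + i)
      rw [hvs, hN, diffOp_apply]
      rfl)
    simp only [add_zero] at this
    rw [this]
    rfl
  have hc_const : ∀ j, v (p - 1) (j + 1) = v (p - 1) j := by
    intro j
    rw [hc_val, hc_val]
    have h1 := Finset.prod_range_succ (fun i => Ψ x (j + i)) p
    have h2 := Finset.prod_range_succ' (fun i => Ψ x (j + i)) p
    rw [h1] at h2
    simp only [add_zero] at h2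
    rw [hper x j] at h2
    have h3 : ∏ i ∈ Finset.range p, Ψ x (j + 1 + i) = ∏ i ∈ Finset.range p, Ψ x (j + (i + 1)) := by
      refine Finset.prod_congr rfl (fun i _ => ?_)
      have : j + 1 + i = j + (i + 1) := by omega
      rw [this]
    rw [h3]
    exact (mul_right_cancel h2).symm
  have hc_ne : v (p - 1) ≠ 1 := by
    intro h
    apply hx
    have := hc_val 0
    rw [h] at this
    simp only [zero_add, Pi.one_apply] at this
    exact this.symm
  have hc_ker : N (v (p - 1)) = 1 := by
    funext j
    rw [hN, diffOp_apply, hc_const j, div_self']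
    rfl
  have hexpV : ∀ w : ℕ → B, w ^ p = 1 := by
    intro w
    funext j
    simp [hB]
  -- the counting step
  have hstep : ∀ k, k ≤ p - 1 → p * Nat.card (Uk (k + 1)) ≤ Nat.card (Uk k) := by
    intro k hk
    haveI := hfin k
    set f : Uk k →* (ℕ → B) := N.comp (Uk k).subtype with hf
    have hrange : f.range = Uk (k + 1) := by
      rw [hUks, hf, MonoidHom.range_comp, Subgroup.range_subtype]
    have hcard := card_range_mul_card_ker f
    rw [hrange] at hcard
    have hcmem : v (p - 1) ∈ Uk k := hanti k (p - 1) hk (hvmem (p - 1))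
    set c : Uk k := ⟨v (p - 1), hcmem⟩ with hc
    have hcker : c ∈ f.ker := by
      rw [MonoidHom.mem_ker]
      exact hc_ker
    have hcne : (⟨c, hcker⟩ : f.ker) ≠ 1 := by
      intro h
      apply hc_ne
      have := congrArg (fun t : f.ker => ((t : Uk k) : ℕ → B)) h
      exact this
    have hord : orderOf (⟨c, hcker⟩ : f.ker) = p := by
      apply orderOf_eq_prime
      · apply Subtype.ext
        apply Subtype.ext
        exact hexpV _
      · exact hcne
    have hple : p ≤ Nat.card f.ker := by
      have h1 := orderOf_dvd_natCard (⟨c, hcker⟩ : f.ker)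
      rw [hord] at h1
      exact Nat.le_of_dvd Nat.card_pos h1
    calc p * Nat.card (Uk (k + 1)) = Nat.card (Uk (k + 1)) * p := mul_comm _ _
      _ ≤ Nat.card (Uk (k + 1)) * Nat.card f.ker := Nat.mul_le_mul_left _ hple
      _ = Nat.card (Uk k) := hcard
  have hall : ∀ k, k ≤ p → p ^ k * Nat.card (Uk k) ≤ Nat.card U := by
    intro k
    induction k with
    | zero => intro _; rw [pow_zero, one_mul, hUk0]
    | succ k ih =>
      intro hk
      have h1 := ih (by omega)
      have h2 := hstep k (by omega)
      calc p ^ (k + 1) * Nat.card (Uk (k + 1)) = p ^ k * (p * Nat.card (Uk (k + 1))) := by ring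
        _ ≤ p ^ k * Nat.card (Uk k) := Nat.mul_le_mul_left _ h2
        _ ≤ Nat.card U := h1
  have h1 := hall p le_rfl
  haveI := hfin p
  have h2 : 1 ≤ Nat.card (Uk p) := Nat.card_pos
  calc p ^ p = p ^ p * 1 := (mul_one _).symm
    _ ≤ p ^ p * Nat.card (Uk p) := Nat.mul_le_mul_left _ h2
    _ ≤ Nat.card U := h1

end Cfsg.Agent.Helper57.Yoshida
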