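import Mathlib
import Cfsg.Agent.Lib.Helper57.YoshidaB
import Cfsg.Agent.Lib.Helper57.YoshidaG
import Cfsg.Agent.Lib.Helper57.SymSylowC

set_option autoImplicit false

/-!
# Yoshida's transfer theorem, part H: the wreath product quotient (helper57)
-/

namespace Cfsg.Agent.Helper57.Yoshida

open Subgroup

theorem padicValNat_factorial_sq (p : ℕ) [hp : Fact p.Prime] :
    padicValNat p (p ^ 2).factorial = p + 1 := by
  have hlog : Nat.log p (p ^ 2) < 3 := by
    rw [Nat.log_pow hp.out.one_lt]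
    norm_num
  rw [padicValNat_factorial hlog]
  have hI : Finset.Ico 1 3 = {1, 2} := by decide
  rw [hI, Finset.sum_pair (by norm_num)]
  have hpos : 0 < p := hp.out.pos
  rw [pow_one, Nat.div_self (pow_pos hpos 2), sq, Nat.mul_div_cancel _ hpos]

set_option maxHeartbeats 800000 in
/-- A `p`-group with a "singularity" maps onto a Sylow `p`-subgroup of the symmetric group of
degree `p ^ 2`. -/
theorem exists_surj_sylow {T : Type*} [Group T] [Finite T] {p : ℕ} [hp : Fact p.Prime]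
    (hT : IsPGroup p T) (M : Subgroup T) [hMn : M.Normal] (hidx : M.index = p) (z : T)
    {B : Type*} [CommGroup B] (hB : Nat.card B = p) (θ : M →* B) (x : T) (hx : x ∈ M)
    (hu : ∃ h : iterComm x z (p - 1) ∈ M, θ ⟨iterComm x z (p - 1), h⟩ ≠ 1) :
    ∃ (P : Sylow p (Equiv.Perm (Fin (p ^ 2))))
      (f : T →* (P : Subgroup (Equiv.Perm (Fin (p ^ 2))))), Function.Surjective f := by
  classical
  haveI : Finite B := Nat.finite_of_card_ne_zero (by rw [hB]; exact hp.out.ne_zero)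
  have hBp : ∀ b : B, b ^ p = 1 := by
    intro b
    rw [← hB]
    exact pow_card_eq_one'
  have hconjmem : ∀ (t : T) (m : T), m ∈ M → t⁻¹ * m * t ∈ M := by
    intro t m hm
    have := hMn.conj_mem m hm t⁻¹
    rwa [inv_inv] at this
  -- extension of θ
  set θ' : T → B := fun t => if ht : t ∈ M then θ ⟨t, ht⟩ else 1 with hθ'
  have θ'_eq : ∀ t (ht : t ∈ M), θ' t = θ ⟨t, ht⟩ := fun t ht => dif_pos ht
  have θ'_mul : ∀ s t, s ∈ M → t ∈ M → θ' (s * t) = θ' s * θ' t := by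
    intro s t hs ht
    rw [θ'_eq _ (M.mul_mem hs ht), θ'_eq _ hs, θ'_eq _ ht, ← map_mul]
    rfl
  have θ'_one : θ' 1 = 1 := by
    rw [θ'_eq _ M.one_mem]
    exact map_one θ
  have θ'_inv : ∀ s, s ∈ M → θ' s⁻¹ = (θ' s)⁻¹ := by
    intro s hs
    rw [θ'_eq _ (M.inv_mem hs), θ'_eq _ hs, ← map_inv]
    rfl
  have θ'_conj : ∀ s w, s ∈ M → w ∈ M → θ' (w⁻¹ * s * w) = θ' s := by
    intro s w hs hw
    rw [θ'_mul _ _ (M.mul_mem (M.inv_mem hw) hs) hw, θ'_mul _ _ (M.inv_mem hw) hs, θ'_inv _ hw,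
      mul_comm (θ' w)⁻¹, mul_assoc, inv_mul_cancel, mul_one]
  -- z ^ p ∈ M
  have hzp : z ^ p ∈ M := by
    rw [← QuotientGroup.eq_one_iff, QuotientGroup.mk_pow]
    have : Nat.card (T ⧸ M) = p := by rw [← Subgroup.index_eq_card, hidx]
    rw [← this]
    exact pow_card_eq_one'
  -- the product form of the singularity
  have hprod : ∏ j ∈ Finset.range p, θ' ((z ^ j)⁻¹ * x * z ^ j) ≠ 1 := by
    rw [prod_conj_eq_iter (p := p) M θ' θ'_mul
      (fun s hs => by rw [θ'_eq _ hs]; exact hBp _) x z hx (fun s hs => hconjmem z s hs)]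
    obtain ⟨h, hne⟩ := hu
    rw [θ'_eq _ h]
    exact hne
  -- the homomorphism Ψ
  let Ψ : M →* (ℕ → B) :=
    { toFun := fun m j => θ' ((z ^ j)⁻¹ * (m : T) * z ^ j)
      map_one' := by
        funext j
        show θ' ((z ^ j)⁻¹ * (1 : T) * z ^ j) = 1
        rw [mul_one, inv_mul_cancel, θ'_one]
      map_mul' := by
        intro m m'
        funext j
        show θ' ((z ^ j)⁻¹ * ((m : T) * (m' : T)) * z ^ j) =
          θ' ((z ^ j)⁻¹ * (m : T) * z ^ j) * θ' ((z ^ j)⁻¹ * (m' : T) * z ^ j)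
        rw [← θ'_mul _ _ (hconjmem _ _ m.2) (hconjmem _ _ m'.2)]
        congr 1
        group }
  have hΨ_apply : ∀ (m : M) (j : ℕ), Ψ m j = θ' ((z ^ j)⁻¹ * (m : T) * z ^ j) := fun m j => rfl
  set δ : M → M := fun m => ⟨(m : T)⁻¹ * (z⁻¹ * (m : T) * z),
    M.mul_mem (M.inv_mem m.2) (hconjmem z _ m.2)⟩ with hδdef
  have hδ : ∀ m j, Ψ (δ m) j = Ψ m (j + 1) / Ψ m j := by
    intro m j
    rw [hΨ_apply, hΨ_apply, hΨ_apply]
    show θ' ((z ^ j)⁻¹ * ((m : T)⁻¹ * (z⁻¹ * (m : T) * z)) * z ^ j) = _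
    have h1 : (z ^ j)⁻¹ * ((m : T)⁻¹ * (z⁻¹ * (m : T) * z)) * z ^ j =
        ((z ^ j)⁻¹ * (m : T) * z ^ j)⁻¹ * ((z ^ (j + 1))⁻¹ * (m : T) * z ^ (j + 1)) := by
      rw [pow_succ]; group
    rw [h1, θ'_mul _ _ (M.inv_mem (hconjmem _ _ m.2)) (hconjmem _ _ m.2),
      θ'_inv _ (hconjmem _ _ m.2), div_eq_inv_mul]
  have hper : ∀ m j, Ψ m (j + p) = Ψ m j := by
    intro m j
    rw [hΨ_apply, hΨ_apply]
    have h1 : (z ^ (j + p))⁻¹ * (m : T) * z ^ (j + p) =
        ((z ^ j)⁻¹ * z ^ p * z ^ j)⁻¹ * ((z ^ j)⁻¹ * (m : T) * z ^ j) *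
          ((z ^ j)⁻¹ * z ^ p * z ^ j) := by
      rw [pow_add]; group
    rw [h1, θ'_conj _ _ (hconjmem _ _ m.2) (hconjmem _ _ hzp)]
  have hrange := pow_le_card_range (p := p) hBp Ψ δ hδ hper ⟨x, hx⟩ hprod
  -- θ is surjective
  have hθne : ∃ m : M, θ m ≠ 1 := by
    obtain ⟨h, hne⟩ := hu
    exact ⟨_, hne⟩
  have hθrange : Nat.card θ.range = p := by
    obtain ⟨m, hm⟩ := hθne
    have h1 : Nat.card θ.range ∣ p := by
      rw [← hB]
      exact Subgroup.card_subgroup_dvd_card θ.range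
    rcases (Nat.dvd_prime hp.out).mp h1 with h2 | h2
    · exfalso
      apply hm
      have hbot : θ.range = ⊥ := Subgroup.card_eq_one.mp h2
      have : θ m ∈ θ.range := ⟨m, rfl⟩
      rw [hbot, Subgroup.mem_bot] at this
      exact this
    · exact h2
  -- the points
  set K₀ : Subgroup T := θ.ker.map M.subtype with hK₀
  have hK₀M : K₀ ≤ M := Subgroup.map_subtype_le _
  have hK₀idx : K₀.index = p ^ 2 := by
    rw [hK₀, Subgroup.index_map_subtype, Subgroup.index_ker, hθrange, hidx, sq]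
  have hmemK₀ : ∀ (t : T) (ht : t ∈ M), t ∈ K₀ → θ ⟨t, ht⟩ = 1 := by
    rintro t ht ⟨m, hm, rfl⟩
    exact MonoidHom.mem_ker.mp hm
  have hcardpts : Nat.card (T ⧸ K₀) = p ^ 2 := by rw [← Subgroup.index_eq_card, hK₀idx]
  haveI : Finite (T ⧸ K₀) := Nat.finite_of_card_ne_zero (by
    rw [hcardpts]; exact pow_ne_zero _ hp.out.ne_zero)
  set e : (T ⧸ K₀) ≃ Fin (p ^ 2) := Finite.equivFinOfCardEq hcardpts with he
  set f₀ : T →* Equiv.Perm (T ⧸ K₀) := MulAction.toPermHom T (T ⧸ K₀) with hf₀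
  set f₁ : T →* Equiv.Perm (Fin (p ^ 2)) := (e.permCongrHom).toMonoidHom.comp f₀ with hf₁
  -- the kernel of f₁ lies in the kernel of Ψ
  have hkerle : ∀ t : T, t ∈ f₁.ker → ∃ ht : t ∈ M, (⟨t, ht⟩ : M) ∈ Ψ.ker := by
    intro t ht
    have h0 : f₀ t = 1 := by
      have h1 : (e.permCongrHom) (f₀ t) = 1 := MonoidHom.mem_ker.mp ht
      exact (MulEquiv.map_eq_one_iff _).mp h1
    have h1 : t ∈ K₀.normalCore := by
      rw [Subgroup.normalCore_eq_ker]
      exact MonoidHom.mem_ker.mpr h0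
    have h2 : ∀ b : T, b * t * b⁻¹ ∈ K₀ := h1
    have htM : t ∈ M := by
      have := h2 1
      simp only [one_mul, inv_one, mul_one] at this
      exact hK₀M this
    refine ⟨htM, ?_⟩
    rw [MonoidHom.mem_ker]
    funext j
    rw [hΨ_apply]
    have h3 := h2 (z ^ j)⁻¹
    rw [inv_inv] at h3
    rw [θ'_eq _ (hK₀M h3)]
    exact hmemK₀ _ _ h3
  have hcardker : Nat.card f₁.ker ≤ Nat.card Ψ.ker := by
    apply Nat.card_le_card_of_injective
      (fun t : f₁.ker => (⟨⟨(t : T), (hkerle t t.2).1⟩, (hkerle t t.2).2⟩ : Ψ.ker))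
    intro t t' h
    apply Subtype.ext
    have := congrArg (fun w : Ψ.ker => ((w : M) : T)) h
    exact this
  -- counting
  have hc1 := card_range_mul_card_ker f₁
  have hc2 := card_range_mul_card_ker Ψ
  have hc3 := M.card_mul_index
  rw [hidx] at hc3
  have hkerpos : 0 < Nat.card f₁.ker := Nat.card_pos
  have hbig : p ^ (p + 1) ≤ Nat.card f₁.range := by
    have h1 : p ^ (p + 1) * Nat.card f₁.ker ≤ Nat.card f₁.range * Nat.card f₁.ker := by
      rw [hc1, ← hc3, ← hc2]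
      calc p ^ (p + 1) * Nat.card f₁.ker = p ^ p * Nat.card f₁.ker * p := by ring
        _ ≤ Nat.card Ψ.range * Nat.card Ψ.ker * p :=
          Nat.mul_le_mul_right _ (Nat.mul_le_mul hrange hcardker)
    exact Nat.le_of_mul_le_mul_right h1 hkerpos
  -- the Sylow subgroup
  have hpg : IsPGroup p f₁.range := hT.of_surjective f₁.rangeRestrict f₁.rangeRestrict_surjective
  obtain ⟨P, hP⟩ := hpg.exists_le_sylow
  have hPcard : Nat.card (P : Subgroup (Equiv.Perm (Fin (p ^ 2)))) = p ^ (p + 1) := by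
    rw [P.card_eq_multiplicity, card_perm_factorization, padicValNat_factorial_sq]
  have heq : f₁.range = (P : Subgroup (Equiv.Perm (Fin (p ^ 2)))) :=
    Subgroup.eq_of_le_of_card_ge hP (by rw [hPcard]; exact hbig)
  refine ⟨P, f₁.codRestrict (P : Subgroup (Equiv.Perm (Fin (p ^ 2)))) (fun t => hP ⟨t, rfl⟩), ?_⟩
  rintro ⟨y, hy⟩
  rw [← heq] at hy
  obtain ⟨t, rfl⟩ := hy
  exact ⟨t, rfl⟩

end Cfsg.Agent.Helper57.Yoshida
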